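import Cfsg.Agent.Lib.Spor.Cos.Fi22Aut.Bound
import Cfsg.Agent.Lib.Spor.Cos.Fi22Inv.Search

/-!
The elements fixed by an outer automorphism: a chain of stabilisers with complete candidate lists.
-/

set_option autoImplicit false
set_option maxRecDepth 100000
set_option maxHeartbeats 1000000

namespace Cfsg.Agent.Spor.Cos.Fi22Outer

open Cfsg.Agent.Spor.Cos.Fi22 (actB homB piB baseB g g_gen g_sq)
open Cfsg.Agent.Fus.Transp Cfsg.Agent.Fus.Fi22Out Cfsg.Agent.Spor.Cos.Fi22Aut

/-- A level: a point, and by blocks of 64 the points of its orbit with the transpositions taking it there. -/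
structure CLev where
  /-- the point -/
  b : ℕ
  /-- the orbit -/
  ws : List (List (ℕ × List ℕ))

/-- The certificate of the elements fixed by an automorphism. -/
structure CData where
  /-- the automorphism -/
  tau : List ℕ
  /-- points with words from the base -/
  pts : List (ℕ × List ℕ)
  /-- the levels -/
  levs : List CLev
  /-- further points with their possible images -/
  tail : List (ℕ × List ℕ)
  /-- products for the outer ones -/
  outs : List (List ℕ)
  /-- relations for the impossible images -/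
  refs : List (List ℕ × ℕ × ℕ)

/-- The word of a point. -/
noncomputable def getP (pts : List (ℕ × List ℕ)) (p : ℕ) : List ℕ :=
  match pts.find? fun e => Nat.beq e.1 p with
  | some e => e.2
  | none => []

/-- The word of a transposition. -/
noncomputable def tWord (pts : List (ℕ × List ℕ)) (p : ℕ) : List ℕ := getP pts p ++ [0] ++ (getP pts p).reverse

/-- The check of a point. -/
noncomputable def chkP (pts : List (ℕ × List ℕ)) (p : ℕ) : Bool :=
  okX (getP pts p) && Nat.blt p 3510 && Nat.beq (actX.go (getP pts p) 0) p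

/-- The point of a number. -/
noncomputable def pf (p : ℕ) : Fin actX.N := ⟨p % 3510, Nat.mod_lt _ (by decide)⟩

theorem pf_val {p : ℕ} (h : p < 3510) : (pf p : ℕ) = p := Nat.mod_eq_of_lt h

theorem pf_self (p : Fin actX.N) : pf p = p := Fin.ext (pf_val p.2)

theorem conj_pf {pts : List (ℕ × List ℕ)} {p : ℕ} (h : chkP pts p = true) :
    MulAut.conj (TX (pf p)) = ev gX (tWord pts p) ∧ okX (tWord pts p) = true ∧ p < 3510 := by
  simp only [chkP, Bool.and_eq_true] at h
  obtain ⟨⟨hu, hlt⟩, hgo⟩ := h
  have hlt' : p < 3510 := Nat.le_of_ble_eq_true hlt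
  exact ⟨conj_TX_word p0 TX_p0 (by norm_num) hu ((Nat.eq_of_beq_eq_true hgo).trans (pf_val hlt').symm),
    okX_conjW hu (by norm_num), hlt'⟩

theorem piX_pf {pts : List (ℕ × List ℕ)} {p : ℕ} (h : chkP pts p = true) (r : Fin actX.N) :
    (piX (TX (pf p)) r : ℕ) = actX.go (tWord pts p) r := by
  obtain ⟨e, hok, -⟩ := conj_pf h
  show (pX (MulAut.conj (TX (pf p))) r : ℕ) = _
  rw [e, pX_ev hok]

/-- The pattern of a possible image, against points with given images. -/
noncomputable def cand (D : CData) (pairs : List (ℕ × ℕ)) (b x : ℕ) : Bool :=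
  (Nat.beq (actX.go D.tau x) x == Nat.beq (actX.go D.tau b) b) && pairs.all fun e =>
    (Nat.beq x e.2 == Nat.beq b e.1) &&
    (Nat.beq (actX.go (tWord D.pts e.2) x) x == Nat.beq (actX.go (tWord D.pts e.1) b) b) &&
    (force (actX.go D.tau x) fun x' => force (actX.go D.tau b) fun b' =>
      Nat.beq (actX.go (tWord D.pts e.2) x') x' == Nat.beq (actX.go (tWord D.pts e.1) b') b')

/-- The entry of a point in a level. -/
noncomputable def CLev.look (L : CLev) (x : ℕ) : Bool :=
  (L.ws.getD (x / 64) []).any fun e => Nat.beq e.1 x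

/-- The check of a completeness scan. -/
noncomputable def chkScan (D : CData) (pre : List ℕ) (L : CLev) (x : ℕ) : Bool :=
  !(cand D (pre.map fun c => (c, c)) L.b x) || L.look x

/-- The word of a product of transpositions. -/
noncomputable def prodW (pts : List (ℕ × List ℕ)) (l : List ℕ) : List ℕ := l.flatMap (tWord pts)

/-- The check of an element of a transversal. -/
noncomputable def chkEnt (D : CData) (pre : List ℕ) (b : ℕ) (e : ℕ × List ℕ) : Bool :=
  (e.2.all fun p => chkP D.pts p && Nat.beq (actX.go D.tau p) p) &&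
    Nat.beq (actX.go (prodW D.pts e.2) b) e.1 && pre.all fun c => Nat.beq (actX.go (prodW D.pts e.2) c) c

/-- The check of a level. -/
noncomputable def chkLev (D : CData) (pre : List ℕ) (L : CLev) : Bool :=
  Nat.blt L.b 3510 && chkP D.pts L.b && L.ws.flatten.all (chkEnt D pre L.b) &&
    decide ((L.ws.flatten.map Prod.fst).Pairwise (· < ·))

/-- The earlier points of a level. -/
noncomputable def CData.pre (D : CData) (i : ℕ) : List ℕ := (D.levs.map CLev.b).take i

/-- All points of the levels. -/
noncomputable def CData.bases (D : CData) : List ℕ := D.levs.map CLev.b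

/-- The possible images of a further point. -/
noncomputable def chkTailScan (D : CData) (e : ℕ × List ℕ) (x : ℕ) : Bool :=
  !(cand D (D.bases.map fun c => (c, c)) e.1 x) || e.2.any (Nat.beq x)

/-- The image of a point. -/
noncomputable def getI (pairs : List (ℕ × ℕ)) (p : ℕ) : ℕ :=
  match pairs.find? fun e => Nat.beq e.1 p with
  | some e => e.2
  | none => 9999

/-- The check of complete images of the generators. -/
noncomputable def chkLeaf (D : CData) (pairs : List (ℕ × ℕ)) : Bool :=
  (qs.all fun q => Nat.beq (getI pairs q) q) || (D.outs.any fun l => (l.all (chkP D.pts)) && qs.all fun q =>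
      Nat.beq (getI pairs q) (actX.go (D.tau ++ prodW D.pts l) q)) ||
    D.refs.any fun r =>
      (r.1.all fun s => Nat.blt s 9) && (pairs.any fun e => Nat.beq e.1 r.2.1) &&
      (pairs.any fun e => Nat.beq e.1 r.2.2) &&
      Nat.beq (actX.go r.1 r.2.1) r.2.2 &&
      !(Nat.beq (actX.go (r.1.flatMap fun s => tWord D.pts (getI pairs (qs.getD s 0))) (getI pairs r.2.1))
        (getI pairs r.2.2)) && qs.all fun q => chkP D.pts (getI pairs q) && pairs.any fun e => Nat.beq e.1 q

/-- The check of the further points. -/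
noncomputable def chkTail (D : CData) : List (ℕ × List ℕ) → List (ℕ × ℕ) → Bool
  | [], pairs => chkLeaf D pairs
  | (b, L) :: rest, pairs => chkP D.pts b && L.all fun x =>
      !(cand D pairs b x) || (chkP D.pts x && chkTail D rest (pairs ++ [(b, x)]))

/-- All checks. -/
structure CData.Ok (D : CData) : Prop where
  tau : okX D.tau = true
  outer : (D.tau.head? == some 9 && D.tau.tail.all fun s => Nat.blt s 9) = true
  lev : ((List.range D.levs.length).all fun i => chkLev D (D.pre i) (D.levs.getD i ⟨0, []⟩)) = true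
  scan : ∀ i < D.levs.length, ∀ x < 3510, chkScan D (D.pre i) (D.levs.getD i ⟨0, []⟩) x = true
  tailScan : ∀ i < D.tail.length, ∀ x < 3510, chkTailScan D (D.tail.getD i (0, [])) x = true
  tail : chkTail D D.tail (D.bases.map fun c => (c, c)) = true
  cover : (qs.all fun q => (D.bases ++ D.tail.map Prod.fst).any (Nat.beq q)) = true

/-- The automorphism. -/
noncomputable def CData.aut (D : CData) : MulAut Cfsg.Spor.Fi22 := ev gX D.tau

/-- The elements fixed by the automorphism. -/
noncomputable def fixC (D : CData) : Subgroup Cfsg.Spor.Fi22 :=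
  (Subgroup.centralizer {D.aut}).comap MulAut.conj

theorem mem_fixC {D : CData} {y : Cfsg.Spor.Fi22} : y ∈ fixC D ↔ D.aut y = y := by
  rw [fixC, Subgroup.mem_comap, Subgroup.mem_centralizer_singleton_iff]
  constructor
  · intro h
    refine conj_inj ?_
    rw [conj_aut, ← h, mul_inv_cancel_right]
  · intro h
    have := conj_aut D.aut y
    rw [h] at this
    conv_lhs => rw [this, inv_mul_cancel_right]

/-- The elements fixing some points. -/
noncomputable def fixL (D : CData) : List ℕ → Subgroup Cfsg.Spor.Fi22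
  | [] => fixC D
  | b :: l => fixL D l ⊓ stabP piX (pf b)

theorem mem_fixL {D : CData} : ∀ {l : List ℕ} {y : Cfsg.Spor.Fi22},
    y ∈ fixL D l ↔ y ∈ fixC D ∧ ∀ b ∈ l, piX y (pf b) = pf b
  | [], y => by simp [fixL]
  | b :: l, y => by
    rw [fixL, Subgroup.mem_inf, mem_fixL (l := l), mem_stabP]
    simp only [List.mem_cons, forall_eq_or_imp]
    tauto

/-- The points whose transpositions are used. -/
noncomputable def CData.gens (D : CData) : Subgroup Cfsg.Spor.Fi22 :=
  Subgroup.closure {t | ∃ p : Fin actX.N, pX D.aut p = p ∧ TX p = t}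

theorem piX_hom (y : Cfsg.Spor.Fi22) (p r : Fin actX.N) :
    piX y (piX (TX p) r) = piX (TX (piX y p)) (piX y r) := by
  rw [TX_piX, ← Equiv.Perm.mul_apply, ← map_mul, ← Equiv.Perm.mul_apply, ← map_mul, inv_mul_cancel_right]

variable {D : CData}

theorem gens_le : D.gens ≤ fixC D := (Subgroup.closure_le _).2 fun _ ⟨p, hp, e⟩ => by
  rw [← e, SetLike.mem_coe, mem_fixC, ← TX_pX, hp]

/-- The image of a product. -/
noncomputable def yOf (l : List ℕ) : Cfsg.Spor.Fi22 := (l.map fun p => TX (pf p)).prod

theorem conj_yOf {l : List ℕ} (h : ∀ p ∈ l, chkP D.pts p = true) :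
    MulAut.conj (yOf l) = ev gX (prodW D.pts l) ∧ okX (prodW D.pts l) = true := by
  induction l with
  | nil => exact ⟨map_one _, rfl⟩
  | cons p l ih =>
    obtain ⟨e, hok, -⟩ := conj_pf (h p (List.mem_cons_self ..))
    obtain ⟨e', hok'⟩ := ih fun t ht => h t (List.mem_cons_of_mem _ ht)
    constructor
    · show MulAut.conj (TX (pf p) * yOf l) = _
      rw [map_mul, e, e', ← ev_append]
      rfl
    · exact okX_append hok hok'

variable (hD : D.Ok)

include hD

theorem gens_of_fix {p : ℕ} (h : Nat.beq (actX.go D.tau p) p = true) (hp : p < 3510) : TX (pf p) ∈ D.gens := by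
  refine Subgroup.subset_closure ⟨pf p, Fin.ext ?_, rfl⟩
  rw [CData.aut, pX_ev hD.tau, pf_val hp]
  exact Nat.eq_of_beq_eq_true h

theorem ent_spec {pre : List ℕ} {b : ℕ} (hb : b < 3510) (hpre : ∀ c ∈ pre, c < 3510) {e : ℕ × List ℕ}
    (h : chkEnt D pre b e = true) :
    yOf e.2 ∈ D.gens ∧ yOf e.2 ∈ fixL D pre ∧ (piX (yOf e.2) (pf b) : ℕ) = e.1 := by
  simp only [chkEnt, Bool.and_eq_true, List.all_eq_true] at h
  obtain ⟨⟨hl, hgo⟩, hfix⟩ := h
  obtain ⟨hc, hok⟩ := conj_yOf (D := D) fun p hp => (hl p hp).1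
  have hg : yOf e.2 ∈ D.gens := list_prod_mem fun t ht => by
    obtain ⟨p, hp, rfl⟩ := List.mem_map.1 ht
    exact gens_of_fix hD (hl p hp).2 (conj_pf (hl p hp).1).2.2
  have hval : ∀ c, c < 3510 → (piX (yOf e.2) (pf c) : ℕ) = actX.go (prodW D.pts e.2) c := fun c hc' => by
    show (pX (MulAut.conj (yOf e.2)) (pf c) : ℕ) = _
    rw [hc, pX_ev hok, pf_val hc']
  refine ⟨hg, mem_fixL.2 ⟨gens_le hg, fun c hc' => Fin.ext ?_⟩, ?_⟩
  · rw [hval c (hpre c hc'), pf_val (hpre c hc')]
    exact Nat.eq_of_beq_eq_true (hfix c hc')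
  · rw [hval b hb]
    exact Nat.eq_of_beq_eq_true hgo

theorem beq_congr {a b a' b' : ℕ} (h : a = b ↔ a' = b') : (Nat.beq a b == Nat.beq a' b') = true := by
  by_cases hx : a = b
  · rw [hx, h.1 hx, Nat.beq_refl, Nat.beq_refl]; rfl
  · have hx' : a' ≠ b' := fun e => hx (h.2 e)
    rw [show Nat.beq a b = false from Bool.eq_false_iff.2 fun e => hx (Nat.eq_of_beq_eq_true e),
      show Nat.beq a' b' = false from Bool.eq_false_iff.2 fun e => hx' (Nat.eq_of_beq_eq_true e)]
    rfl

/-- An element fixed by the automorphism keeps the patterns. -/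
theorem cand_image {y : Cfsg.Spor.Fi22} (hy : y ∈ fixC D) {b : ℕ} (hb : b < 3510) {pairs : List (ℕ × ℕ)}
    (hp : ∀ e ∈ pairs, chkP D.pts e.1 = true ∧ chkP D.pts e.2 = true ∧ piX y (pf e.1) = pf e.2) :
    cand D pairs b (piX y (pf b)) = true := by
  set x := piX y (pf b) with hx
  have hcomm : ∀ r, pX D.aut (piX y r) = piX y (pX D.aut r) := fun r => by
    refine TX_inj ?_
    rw [TX_pX, TX_piX, TX_piX, map_mul, map_mul, map_inv, mem_fixC.1 hy, TX_pX]
  have htau : ∀ r : Fin actX.N, (pX D.aut r : ℕ) = actX.go D.tau r := fun r => pX_ev hD.tau r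
  have hhom : ∀ p r, piX y (piX (TX p) r) = piX (TX (piX y p)) (piX y r) := fun p r => by
    rw [TX_piX, ← Equiv.Perm.mul_apply, ← map_mul, ← Equiv.Perm.mul_apply, ← map_mul, inv_mul_cancel_right]
  have hbv : (pf b : ℕ) = b := pf_val hb
  simp only [cand, force_eq, Bool.and_eq_true, List.all_eq_true]
  refine ⟨beq_congr hD ?_, fun e he => ?_⟩
  · conv_rhs => rw [← hbv]
    rw [← htau, ← htau, ← Fin.ext_iff, ← Fin.ext_iff, hx, hcomm]
    exact (piX y).injective.eq_iff
  · obtain ⟨h1, h2, h3⟩ := hp e he
    have l1 : (pf e.1 : ℕ) = e.1 := pf_val (conj_pf h1).2.2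
    have l2 : (pf e.2 : ℕ) = e.2 := pf_val (conj_pf h2).2.2
    refine ⟨⟨beq_congr hD ?_, beq_congr hD ?_⟩, beq_congr hD ?_⟩
    · conv_lhs => rw [← l2]
      conv_rhs => rw [← hbv, ← l1]
      rw [← Fin.ext_iff, ← Fin.ext_iff, hx, ← h3]
      exact (piX y).injective.eq_iff
    · conv_rhs => rw [← hbv]
      rw [← piX_pf h1, ← piX_pf h2, ← Fin.ext_iff, ← Fin.ext_iff, hx, ← h3, ← hhom]
      exact (piX y).injective.eq_iff
    · conv_rhs => rw [← hbv]
      rw [← htau, ← htau, ← piX_pf h1, ← piX_pf h2, ← Fin.ext_iff, ← Fin.ext_iff, hx, hcomm, ← h3, ← hhom]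
      exact (piX y).injective.eq_iff

theorem aut_outer (c : Cfsg.Spor.Fi22) : D.aut ≠ MulAut.conj c := by
  intro h
  have h' := hD.outer
  rw [CData.aut] at h
  cases ht : D.tau with
  | nil => rw [ht] at h'; simp at h'
  | cons t v =>
    rw [ht] at h' h
    simp only [List.head?_cons, List.tail_cons, Bool.and_eq_true, beq_iff_eq, Option.some.injEq, List.all_eq_true] at h'
    obtain ⟨rfl, hv⟩ := h'
    have hv' : ∀ s ∈ v, s < 9 := fun s hs => Nat.le_of_ble_eq_true (hv s hs)
    rw [show ev gX (9 :: v) = psi * ev gX v from rfl, ev_gX hv'] at h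
    have h9 : psi = MulAut.conj (c * (ev g v)⁻¹) := by rw [map_mul, map_inv, ← h, mul_inv_cancel_right]
    refine no_inner (c * (ev g v)⁻¹) fun s hs => ?_
    show _ = g (sigL.getD s 0)
    rw [← psi_g s hs, h9, MulAut.conj_apply]

theorem lev_ok {i : ℕ} (hi : i < D.levs.length) : chkLev D (D.pre i) (D.levs.getD i ⟨0, []⟩) = true :=
  List.all_eq_true.1 hD.lev i (List.mem_range.2 hi)

theorem base_ok {c : ℕ} (hc : c ∈ D.bases) : chkP D.pts c = true ∧ c < 3510 := by
  obtain ⟨L, hL, rfl⟩ := List.mem_map.1 hc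
  obtain ⟨i, hi, rfl⟩ := List.getElem_of_mem hL
  have h := lev_ok hD hi
  rw [List.getD_eq_getElem _ _ hi] at h
  simp only [chkLev, Bool.and_eq_true] at h
  exact ⟨h.1.1.2, (conj_pf h.1.1.2).2.2⟩

theorem pre_ok {i c : ℕ} (hc : c ∈ D.pre i) : chkP D.pts c = true ∧ c < 3510 :=
  base_ok hD (List.mem_of_mem_take hc)

/-- An element fixing all the points is trivial. -/
theorem residual {y : Cfsg.Spor.Fi22} (hy : y ∈ fixC D) (hb : ∀ c ∈ D.bases, piX y (pf c) = pf c) : y = 1 := by
  have hleaf : ∀ pairs : List (ℕ × ℕ), chkLeaf D pairs = true →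
      (∀ e ∈ pairs, chkP D.pts e.1 = true ∧ chkP D.pts e.2 = true ∧ piX y (pf e.1) = pf e.2) →
      (∀ q ∈ qs, pairs.any fun e => Nat.beq e.1 q) → y = 1 := by
    intro pairs hl hp hall
    have himg' : ∀ q, (pairs.any fun e => Nat.beq e.1 q) = true →
        (piX y (pf q) : ℕ) = getI pairs q ∧ q < 3510 := by
      intro q hq
      obtain ⟨e, he, hee⟩ := List.any_eq_true.1 hq
      rw [getI]
      cases hf : pairs.find? fun e => Nat.beq e.1 q with
      | none => exact absurd hee (by simpa using List.find?_eq_none.1 hf e he)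
      | some f =>
        have hfq : f.1 = q := Nat.eq_of_beq_eq_true (by simpa using List.find?_some hf)
        obtain ⟨h1, h2, h3⟩ := hp f (List.mem_of_find?_eq_some hf)
        subst hfq
        exact ⟨(congrArg Fin.val h3).trans (pf_val (conj_pf h2).2.2), (conj_pf h1).2.2⟩
    have himg : ∀ q ∈ qs, (piX y (pf q) : ℕ) = getI pairs q ∧ q < 3510 := fun q hq => himg' q (hall q hq)
    have hagree : ∀ φ : MulAut Cfsg.Spor.Fi22, (∀ q ∈ qs, pX φ (pf q) = piX y (pf q)) → φ = MulAut.conj y := by
      intro φ h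
      refine ext_gen g_gen fun s hs => ?_
      have hs' : s < actB.n := hs
      have hlen : s < qs.length := setup.qlen.symm ▸ hs'
      have hmem : qs.getD s 0 ∈ qs := by
        rw [List.getD_eq_getElem _ _ hlen]
        exact List.getElem_mem hlen
      have e : pf (qs.getD s 0) = ⟨qs.getD s 0, setup.q_lt hs'⟩ := Fin.ext (pf_val (himg _ hmem).2)
      have := congrArg TX (h _ hmem)
      rw [show piX y (pf (qs.getD s 0)) = pX (MulAut.conj y) (pf (qs.getD s 0)) from rfl, TX_pX, TX_pX, e] at this
      rw [← setup.T_q hs']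
      exact this
    simp only [chkLeaf, Bool.or_eq_true, List.all_eq_true, List.any_eq_true] at hl
    rcases hl with (hl | ⟨l, -, hl⟩) | ⟨r, -, hr⟩
    · refine conj_inj ((hagree 1 fun q hq => Fin.ext ?_).symm.trans (map_one MulAut.conj).symm)
      rw [map_one, Equiv.Perm.one_apply, (himg q hq).1, Nat.eq_of_beq_eq_true (hl q hq), pf_val (himg q hq).2]
    · exfalso
      simp only [Bool.and_eq_true, List.all_eq_true] at hl
      obtain ⟨hlp, hlq⟩ := hl
      obtain ⟨hc, hok⟩ := conj_yOf (D := D) hlp
      have h9 : D.aut * MulAut.conj (yOf l) = MulAut.conj y := by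
        rw [CData.aut, hc, ← ev_append]
        refine hagree _ fun q hq => Fin.ext ?_
        rw [pX_ev (okX_append hD.tau hok), pf_val (himg q hq).2, (himg q hq).1]
        exact (Nat.eq_of_beq_eq_true (hlq q hq)).symm
      refine aut_outer hD (y * (yOf l)⁻¹) ?_
      rw [map_mul, map_inv, ← h9, mul_inv_cancel_right]
    · exfalso
      simp only [Bool.and_eq_true, List.all_eq_true, Bool.not_eq_true'] at hr
      obtain ⟨⟨⟨⟨⟨hw, hs0⟩, hs1⟩, hgo⟩, hne⟩, hpts⟩ := hr
      have hmem : ∀ s, s < 9 → qs.getD s 0 ∈ qs := fun s hs => by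
        have hlen : s < qs.length := setup.qlen.symm ▸ hs
        rw [List.getD_eq_getElem _ _ hlen]
        exact List.getElem_mem hlen
      have hw' : ∀ s ∈ r.1, s < 9 := fun s hs => Nat.le_of_ble_eq_true (hw s hs)
      have hstep : ∀ w : List ℕ, (∀ s ∈ w, s < 9) → ∀ z : Fin actX.N, (piX y (piX (ev g w) z) : ℕ) =
          actX.go (w.flatMap fun s => tWord D.pts (getI pairs (qs.getD s 0))) (piX y z) := by
        intro w
        induction w with
        | nil => intro _ z; simp [ev, actX.go_nil]
        | cons s w ih =>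
          intro hl z
          have hs : s < 9 := hl s List.mem_cons_self
          have hq := hmem s hs
          have eT : g s = TX (pf (qs.getD s 0)) := by
            rw [show pf (qs.getD s 0) = ⟨qs.getD s 0, setup.q_lt (show s < actB.n from hs)⟩ from
              Fin.ext (pf_val (himg _ hq).2)]
            exact (setup.T_q hs).symm
          have eI : piX y (pf (qs.getD s 0)) = pf (getI pairs (qs.getD s 0)) :=
            Fin.ext ((himg _ hq).1.trans (pf_val (conj_pf (hpts _ hq).1).2.2).symm)
          rw [show ev g (s :: w) = g s * ev g w from rfl, map_mul, Equiv.Perm.mul_apply, eT, piX_hom,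
            eI, piX_pf (hpts _ hq).1, ih fun t ht => hl t (List.mem_cons_of_mem _ ht), List.flatMap_cons,
            InvSearch.go_append]
      have q0 := himg' r.2.1 (by simpa only [List.any_eq_true] using hs0)
      have q1 := himg' r.2.2 (by simpa only [List.any_eq_true] using hs1)
      have h := hstep r.1 hw' (pf r.2.1)
      have e : piX (ev g r.1) (pf r.2.1) = pf r.2.2 := Fin.ext (by
        have hok : okX r.1 = true :=
          List.all_eq_true.2 fun s hs => Nat.ble_eq_true_of_le (Nat.le_succ_of_le (hw' s hs))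
        show (pX (MulAut.conj (ev g r.1)) _ : ℕ) = _
        rw [← ev_gX hw', pX_ev hok, pf_val q0.2, pf_val q1.2]
        exact Nat.eq_of_beq_eq_true hgo)
      rw [e, q0.1, q1.1] at h
      rw [← h, Nat.beq_refl] at hne
      exact Bool.noConfusion hne
  have hrec : ∀ (rest : List (ℕ × List ℕ)), (∀ e ∈ rest, e ∈ D.tail) → ∀ pairs,
      chkTail D rest pairs = true →
      (∀ e ∈ D.bases, (e, e) ∈ pairs) →
      (∀ e ∈ pairs, chkP D.pts e.1 = true ∧ chkP D.pts e.2 = true ∧ piX y (pf e.1) = pf e.2) →
      (∀ q ∈ qs, (pairs.any fun e => Nat.beq e.1 q) = true ∨ ∃ e ∈ rest, Nat.beq q e.1 = true) → y = 1 := by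
    intro rest
    induction rest with
    | nil =>
      intro _ pairs hl _ hp hc
      exact hleaf pairs hl hp fun q hq => (hc q hq).resolve_right fun ⟨e, he, _⟩ => by simp at he
    | cons e rest ih =>
      obtain ⟨b, L⟩ := e
      intro hsub pairs hl hbase hp hc
      simp only [chkTail, Bool.and_eq_true, List.all_eq_true, Bool.or_eq_true, Bool.not_eq_true'] at hl
      obtain ⟨hcb, hall⟩ := hl
      have hb' : b < 3510 := (conj_pf hcb).2.2
      obtain ⟨i, hi, hie⟩ := List.getElem_of_mem (hsub (b, L) (List.mem_cons_self ..))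
      have hs := hD.tailScan i hi _ (piX y (pf b)).2
      rw [List.getD_eq_getElem _ _ hi, hie] at hs
      simp only [chkTailScan, Bool.or_eq_true, Bool.not_eq_true', List.any_eq_true] at hs
      have hmem : (piX y (pf b) : ℕ) ∈ L := by
        rcases hs with hs | ⟨x, hx, hxe⟩
        · rw [cand_image hD hy hb' fun e he => by
            obtain ⟨c, hc', rfl⟩ := List.mem_map.1 he
            exact ⟨(base_ok hD hc').1, (base_ok hD hc').1, hb c hc'⟩] at hs
          exact Bool.noConfusion hs
        · exact (Nat.eq_of_beq_eq_true hxe).symm ▸ hx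
      rcases hall _ hmem with h | ⟨hcx, h⟩
      · rw [cand_image hD hy hb' hp] at h; exact Bool.noConfusion h
      refine ih (fun e he => hsub e (List.mem_cons_of_mem _ he)) _ h
        (fun e he => List.mem_append_left _ (hbase e he)) (fun e he => ?_) fun q hq => ?_
      · rcases List.mem_append.1 he with he | he
        · exact hp e he
        · rw [List.mem_singleton.1 he]
          exact ⟨hcb, hcx, (pf_self _).symm⟩
      · rcases hc q hq with h1 | ⟨e, he, hqe⟩
        · exact Or.inl (by rw [List.any_append, h1, Bool.true_or])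
        rcases List.mem_cons.1 he with rfl | he
        · left
          rw [List.any_append, Bool.or_eq_true]
          exact Or.inr (by simp [Nat.eq_of_beq_eq_true hqe])
        · exact Or.inr ⟨e, he, hqe⟩
  refine hrec D.tail (fun _ h => h) _ hD.tail (fun e he => List.mem_map.2 ⟨e, he, rfl⟩) (fun e he => ?_) fun q hq => ?_
  · obtain ⟨c, hc, rfl⟩ := List.mem_map.1 he
    exact ⟨(base_ok hD hc).1, (base_ok hD hc).1, hb c hc⟩
  · obtain ⟨e, he, hqe⟩ := List.any_eq_true.1 (List.all_eq_true.1 hD.cover q hq)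
    rcases List.mem_append.1 he with he | he
    · left
      exact List.any_eq_true.2 ⟨(e, e), List.mem_map.2 ⟨e, he, rfl⟩, by rw [Nat.eq_of_beq_eq_true hqe]; exact Nat.beq_refl _⟩
    · obtain ⟨f, hf, rfl⟩ := List.mem_map.1 he
      exact Or.inr ⟨f, hf, hqe⟩

/-- The number of the points from a level on. -/
theorem level_card : ∀ k i, i + k = D.levs.length →
    Nat.card (fixL D (D.pre i)) = (((D.levs.drop i).map fun L => L.ws.flatten.length).prod) ∧
      fixL D (D.pre i) ≤ D.gens := by
  have : Finite Cfsg.Spor.Fi22 := Fi22.finite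
  intro k
  induction k with
  | zero =>
    intro i hi
    have hb : fixL D (D.pre i) = ⊥ := by
      rw [Subgroup.eq_bot_iff_forall]
      intro y hy
      obtain ⟨h1, h2⟩ := mem_fixL.1 hy
      refine residual hD h1 fun c hc => h2 c ?_
      rw [CData.pre, List.take_of_length_le (by rw [List.length_map]; omega)]
      exact hc
    rw [hb, Subgroup.card_bot, List.drop_eq_nil_of_le (by omega)]
    exact ⟨rfl, bot_le⟩
  | succ k ih =>
    intro i hi
    have hi' : i < D.levs.length := by omega
    obtain ⟨ihc, ihg⟩ := ih (i + 1) (by omega)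
    set L := D.levs.getD i ⟨0, []⟩ with hL
    have hchk := lev_ok hD hi'
    rw [← hL] at hchk
    simp only [chkLev, Bool.and_eq_true, List.all_eq_true, decide_eq_true_eq] at hchk
    obtain ⟨⟨⟨hbl, hbp⟩, hent⟩, hsort⟩ := hchk
    have hbl' : L.b < 3510 := Nat.le_of_ble_eq_true hbl
    have hLget : D.levs[i] = L := by rw [hL, List.getD_eq_getElem _ _ hi']
    have hpre : D.pre (i + 1) = D.pre i ++ [L.b] := by
      rw [CData.pre, CData.pre, List.take_add_one, List.getElem?_eq_getElem (by simpa using hi'), List.getElem_map,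
        hLget]
      rfl
    have hnext : ∀ y, y ∈ fixL D (D.pre (i + 1)) ↔ y ∈ fixL D (D.pre i) ⊓ stabP piX (pf L.b) := fun y => by
      rw [Subgroup.mem_inf, mem_fixL, mem_fixL, mem_stabP, hpre]
      simp only [List.mem_append, List.mem_singleton, or_imp, forall_and, forall_eq]
      tauto
    have hK : fixL D (D.pre i) ⊓ stabP piX (pf L.b) = fixL D (D.pre (i + 1)) :=
      (Subgroup.ext hnext).symm
    have spec := fun e he => ent_spec hD hbl' (fun c hc => (pre_ok hD hc).2) (hent e he)
    have hcover : ∀ y ∈ fixL D (D.pre i), ∃ j : Fin L.ws.flatten.length,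
        (yOf (L.ws.flatten.get j).2)⁻¹ * y ∈ fixL D (D.pre (i + 1)) := by
      intro y hy
      obtain ⟨h1, h2⟩ := mem_fixL.1 hy
      have hs := hD.scan i hi' _ (piX y (pf L.b)).2
      rw [← hL] at hs
      simp only [chkScan, Bool.or_eq_true, Bool.not_eq_true'] at hs
      rw [cand_image hD h1 hbl' fun e he => by
        obtain ⟨c, hc, rfl⟩ := List.mem_map.1 he
        exact ⟨(pre_ok hD hc).1, (pre_ok hD hc).1, h2 c hc⟩] at hs
      simp only [Bool.true_eq_false, false_or, CLev.look, List.any_eq_true] at hs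
      obtain ⟨e, he, hee⟩ := hs
      have hmem : e ∈ L.ws.flatten := by
        by_cases hj : (piX y (pf L.b) : ℕ) / 64 < L.ws.length
        · rw [List.getD_eq_getElem _ _ hj] at he
          exact List.mem_flatten.2 ⟨_, List.getElem_mem hj, he⟩
        · rw [List.getD_eq_default _ _ (not_lt.1 hj)] at he
          simp at he
      obtain ⟨j, hj⟩ := List.mem_iff_get.1 hmem
      refine ⟨j, (hnext _).2 ⟨(fixL D (D.pre i)).mul_mem ((fixL D (D.pre i)).inv_mem ?_) hy, ?_⟩⟩
      · rw [hj]; exact (spec e hmem).2.1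
      · show piX _ (pf L.b) = pf L.b
        rw [map_mul, map_inv, Equiv.Perm.mul_apply, Equiv.Perm.inv_eq_iff_eq, hj]
        exact Fin.ext ((Nat.eq_of_beq_eq_true hee).symm.trans (spec e hmem).2.2.symm)
    refine ⟨?_, fun y hy => ?_⟩
    · rw [List.drop_eq_getElem_cons hi', List.map_cons, List.prod_cons, hLget, ← ihc]
      refine le_antisymm ?_ ?_
      · let f : Fin L.ws.flatten.length × fixL D (D.pre (i + 1)) → fixL D (D.pre i) := fun p =>
          ⟨yOf (L.ws.flatten.get p.1).2 * p.2.1,
            mul_mem (spec _ (List.get_mem _ _)).2.1 (hK.ge p.2.2).1⟩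
        have hf : Function.Surjective f := fun y => by
          obtain ⟨j, hj⟩ := hcover y.1 y.2
          exact ⟨(j, ⟨_, hj⟩), Subtype.ext (mul_inv_cancel_left _ _)⟩
        have := Nat.card_le_card_of_surjective f hf
        rwa [Nat.card_prod, Nat.card_fin] at this
      · have h := card_step piX (fixL D (D.pre i)) (pf L.b) (L.ws.flatten.map fun e => yOf e.2)
          (fun t ht => by
            obtain ⟨e, he, rfl⟩ := List.mem_map.1 ht
            exact (spec e he).2.1) (by
          refine List.Nodup.of_map Fin.val ?_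
          rw [List.map_map, List.map_map]
          have e : (L.ws.flatten.map fun e => (piX (yOf e.2) (pf L.b) : ℕ)) = L.ws.flatten.map Prod.fst :=
            List.map_congr_left fun e he => (spec e he).2.2
          show (L.ws.flatten.map fun e => (piX (yOf e.2) (pf L.b) : ℕ)).Nodup
          rw [e]
          exact hsort.imp fun hlt => ne_of_lt hlt)
        rwa [List.length_map, hK] at h
    · obtain ⟨j, hj⟩ := hcover y hy
      have := mul_mem (spec _ (List.get_mem L.ws.flatten j)).1 (ihg hj)
      rwa [mul_inv_cancel_left] at this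

/-- The fixed elements: their number and generators. -/
theorem fixC_facts : Nat.card (fixC D) = ((D.levs.map fun L => L.ws.flatten.length).prod) ∧ fixC D = D.gens := by
  obtain ⟨h1, h2⟩ := level_card hD D.levs.length 0 (by omega)
  rw [show D.pre 0 = [] from rfl] at h1 h2
  rw [List.drop_zero] at h1
  exact ⟨h1, le_antisymm h2 gens_le⟩

end Cfsg.Agent.Spor.Cos.Fi22Outer
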