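import Cfsg.Agent.Lib.Spor.Cos.Fi22Outer.ChainData

/-!
The checks of the two certificates.
-/

set_option autoImplicit false
set_option maxRecDepth 100000
set_option maxHeartbeats 4000000

namespace Cfsg.Agent.Spor.Cos.Fi22Outer

open Cfsg.Agent.Spor.Cos.Fi22Aut

theorem lev0 : ((List.range dat0.levs.length).all fun i => chkLev dat0 (dat0.pre i) (dat0.levs.getD i ⟨0, []⟩)) = true := by
  decide +kernel

theorem scan0 : ∀ i < dat0.levs.length, ∀ x < 3510, chkScan dat0 (dat0.pre i) (dat0.levs.getD i ⟨0, []⟩) x = true := by
  intro i hi
  refine of_blocks (size := 512) (b := 7) (by decide) (by decide) fun j hj => ?_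
  have hi' : i < 7 := hi
  interval_cases i <;> interval_cases j <;> decide +kernel

theorem tailScan0 : ∀ i < dat0.tail.length, ∀ x < 3510, chkTailScan dat0 (dat0.tail.getD i (0, [])) x = true := by
  intro i hi
  refine of_blocks (size := 512) (b := 7) (by decide) (by decide) fun j hj => ?_
  have hi' : i < 8 := hi
  interval_cases i <;> interval_cases j <;> decide +kernel

theorem tail0 : chkTail dat0 dat0.tail (dat0.bases.map fun c => (c, c)) = true := by decide +kernel

theorem ok0 : dat0.Ok :=
  ⟨by decide +kernel, by decide +kernel, lev0, scan0, tailScan0, tail0, by decide +kernel⟩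

theorem lev2 : ((List.range dat2.levs.length).all fun i => chkLev dat2 (dat2.pre i) (dat2.levs.getD i ⟨0, []⟩)) = true := by
  decide +kernel

theorem scan2 : ∀ i < dat2.levs.length, ∀ x < 3510, chkScan dat2 (dat2.pre i) (dat2.levs.getD i ⟨0, []⟩) x = true := by
  intro i hi
  refine of_blocks (size := 512) (b := 7) (by decide) (by decide) fun j hj => ?_
  have hi' : i < 6 := hi
  interval_cases i <;> interval_cases j <;> decide +kernel

theorem tailScan2 : ∀ i < dat2.tail.length, ∀ x < 3510, chkTailScan dat2 (dat2.tail.getD i (0, [])) x = true := by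
  intro i hi
  refine of_blocks (size := 512) (b := 7) (by decide) (by decide) fun j hj => ?_
  have hi' : i < 8 := hi
  interval_cases i <;> interval_cases j <;> decide +kernel

theorem tail2 : chkTail dat2 dat2.tail (dat2.bases.map fun c => (c, c)) = true := by decide +kernel

theorem ok2 : dat2.Ok :=
  ⟨by decide +kernel, by decide +kernel, lev2, scan2, tailScan2, tail2, by decide +kernel⟩

end Cfsg.Agent.Spor.Cos.Fi22Outer
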