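import Cfsg.Agent.Lib.Spor.Cos.Fi22Outer.Chain

/-! Certificates for the elements fixed by three outer automorphisms. -/

set_option autoImplicit false
set_option maxRecDepth 100000

namespace Cfsg.Agent.Spor.Cos.Fi22Outer

/-- The certificate of number 0. -/
def dat0 : CData where
  tau := [9]
  outs := [[]]
  pts := [
    (0, []),
    (7, [7, 4, 3, 1, 2, 0, 1]),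
    (9, [7, 2, 3, 1, 2, 0, 1]),
    (10, [2, 3, 1, 2, 0, 1]),
    (11, [3, 1, 2, 0, 1]),
    (12, [1, 2, 0, 1]),
    (14, [0, 1]),
    (25, [3, 7, 8, 7, 3, 4, 1, 2, 3, 7, 5, 4, 3, 2, 1]),
    (47, [4, 2, 3, 7, 8, 7, 3, 4, 1, 2, 3, 7, 5, 4, 3, 2, 1]),
    (64, [7, 5, 4, 3, 2, 0, 1]),
    (67, [4, 2, 3, 1, 2, 0, 1]),
    (68, [4, 3, 1, 2, 0, 1]),
    (71, [5, 4, 3, 2, 0, 1]),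
    (72, [6, 5, 4, 3, 2, 1]),
    (73, [7, 6, 5, 4, 3, 2, 1]),
    (74, [3, 7, 6, 5, 4, 3, 2, 1]),
    (82, [7, 4, 5, 2, 3, 4, 1, 2, 3, 7, 6, 5, 4, 3, 2, 1]),
    (92, [4, 3, 2, 0, 1]),
    (98, [3, 7, 4, 3, 1, 2, 0, 1]),
    (143, [5, 4, 3, 1, 2, 0, 1]),
    (144, [3, 7, 5, 4, 3, 2, 0, 1]),
    (146, [7, 3, 4, 2, 3, 7, 5, 4, 3, 2, 0, 1]),
    (147, [3, 4, 2, 3, 7, 5, 4, 3, 2, 0, 1]),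
    (150, [4, 2, 3, 7, 5, 4, 3, 2, 0, 1]),
    (154, [3, 4, 2, 3, 1, 2, 0, 1]),
    (156, [4, 2, 3, 7, 6, 5, 4, 3, 2, 1]),
    (157, [3, 4, 2, 3, 7, 6, 5, 4, 3, 2, 1]),
    (159, [7, 5, 3, 4, 1, 2, 3, 7, 6, 5, 4, 3, 2, 1]),
    (194, [5, 4, 1, 2, 3, 7, 6, 5, 4, 3, 2, 1]),
    (195, [5, 3, 4, 1, 2, 3, 7, 6, 5, 4, 3, 2, 1]),
    (200, [8, 7, 4, 3, 1, 2, 0, 1]),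
    (204, [8, 7, 5, 4, 3, 2, 0, 1]),
    (206, [8, 3, 7, 5, 4, 3, 2, 0, 1]),
    (209, [8, 3, 7, 4, 3, 1, 2, 0, 1]),
    (210, [7, 8, 3, 7, 4, 3, 1, 2, 0, 1]),
    (212, [7, 8, 3, 7, 5, 4, 3, 2, 0, 1]),
    (215, [4, 5, 3, 4, 2, 3, 1, 2, 0, 1]),
    (228, [4, 3, 7, 8, 2, 3, 7, 5, 4, 3, 2, 0, 1]),
    (229, [4, 3, 7, 8, 4, 2, 3, 7, 5, 4, 3, 2, 0, 1]),
    (232, [4, 2, 3, 7, 8, 7, 3, 4, 2, 3, 7, 5, 4, 3, 2, 0, 1]),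
    (235, [4, 2, 3, 7, 8, 3, 4, 2, 3, 7, 5, 4, 3, 2, 0, 1]),
    (236, [3, 4, 2, 3, 7, 8, 3, 4, 2, 3, 7, 5, 4, 3, 2, 0, 1]),
    (237, [3, 4, 2, 3, 7, 8, 7, 3, 4, 2, 3, 7, 5, 4, 3, 2, 0, 1]),
    (238, [3, 7, 8, 7, 3, 4, 2, 3, 7, 5, 4, 3, 2, 0, 1]),
    (239, [7, 8, 7, 3, 4, 2, 3, 7, 5, 4, 3, 2, 0, 1]),
    (240, [8, 7, 3, 4, 2, 3, 7, 5, 4, 3, 2, 0, 1]),
    (241, [8, 3, 4, 2, 3, 7, 5, 4, 3, 2, 0, 1]),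
    (242, [8, 4, 2, 3, 7, 5, 4, 3, 2, 0, 1]),
    (243, [3, 7, 2, 3, 1, 2, 0, 1]),
    (244, [8, 7, 2, 3, 1, 2, 0, 1]),
    (253, [8, 3, 7, 2, 3, 1, 2, 0, 1]),
    (256, [5, 6, 4, 5, 3, 4, 2, 3, 1, 2, 0, 1]),
    (258, [7, 8, 4, 3, 7, 5, 4, 3, 2, 0, 1]),
    (259, [3, 7, 8, 4, 3, 7, 5, 4, 3, 2, 0, 1]),
    (260, [7, 8, 4, 2, 3, 7, 5, 4, 3, 2, 0, 1]),
    (261, [3, 7, 8, 4, 2, 3, 7, 5, 4, 3, 2, 0, 1]),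
    (264, [5, 4, 1, 2, 3, 7, 8, 4, 2, 3, 7, 5, 4, 3, 2, 0, 1]),
    (269, [7, 8, 3, 4, 2, 3, 7, 5, 4, 3, 2, 0, 1]),
    (272, [4, 2, 3, 7, 8, 4, 2, 3, 7, 5, 4, 3, 2, 0, 1]),
    (273, [3, 7, 8, 2, 3, 7, 5, 4, 3, 2, 0, 1]),
    (280, [7, 8, 2, 3, 7, 5, 4, 3, 2, 0, 1]),
    (281, [3, 7, 8, 3, 4, 2, 3, 7, 5, 4, 3, 2, 0, 1]),
    (311, [8, 7, 6, 5, 4, 3, 2, 1]),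
    (321, [8, 3, 7, 6, 5, 4, 3, 2, 1]),
    (331, [7, 8, 4, 2, 3, 7, 6, 5, 4, 3, 2, 1]),
    (332, [3, 7, 8, 4, 2, 3, 7, 6, 5, 4, 3, 2, 1]),
    (370, [7, 8, 3, 7, 6, 5, 4, 3, 2, 1]),
    (378, [5, 4, 0, 1, 2, 3, 7, 8, 2, 3, 4, 1, 2, 3, 7, 5, 4, 3, 2, 1]),
    (388, [8, 4, 2, 3, 7, 6, 5, 4, 3, 2, 1]),
    (417, [3, 4, 2, 3, 7, 8, 5, 3, 4, 1, 2, 3, 7, 6, 5, 4, 3, 2, 1]),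
    (418, [4, 2, 3, 7, 8, 5, 3, 4, 1, 2, 3, 7, 6, 5, 4, 3, 2, 1]),
    (469, [3, 4, 5, 2, 3, 4, 1, 2, 3, 7, 8, 3, 4, 2, 3, 7, 6, 5, 4, 3, 2, 1]),
    (470, [4, 5, 2, 3, 4, 1, 2, 3, 7, 8, 3, 4, 2, 3, 7, 6, 5, 4, 3, 2, 1]),
    (490, [3, 4, 2, 3, 7, 8, 7, 5, 3, 4, 1, 2, 3, 7, 6, 5, 4, 3, 2, 1]),
    (498, [7, 3, 4, 5, 2, 3, 4, 1, 2, 3, 7, 8, 7, 4, 5, 2, 3, 4, 1, 2, 3, 7, 6, 5, 4, 3, 2, 1]),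
    (512, [8, 5, 4, 1, 2, 3, 7, 6, 5, 4, 3, 2, 1]),
    (528, [8, 7, 4, 5, 2, 3, 4, 1, 2, 3, 7, 6, 5, 4, 3, 2, 1]),
    (529, [7, 8, 7, 4, 5, 2, 3, 4, 1, 2, 3, 7, 6, 5, 4, 3, 2, 1]),
    (540, [6, 5, 4, 0, 1, 2, 3, 7, 8, 4, 2, 3, 7, 5, 4, 3, 2, 0, 1]),
    (549, [3, 7, 8, 5, 4, 1, 2, 3, 7, 6, 5, 4, 3, 2, 1]),
    (550, [7, 8, 5, 4, 1, 2, 3, 7, 6, 5, 4, 3, 2, 1]),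
    (551, [8, 3, 4, 2, 3, 7, 6, 5, 4, 3, 2, 1]),
    (553, [8, 5, 3, 4, 1, 2, 3, 7, 6, 5, 4, 3, 2, 1]),
    (574, [3, 7, 3, 4, 5, 2, 3, 4, 1, 2, 3, 7, 8, 7, 4, 5, 2, 3, 4, 1, 2, 3, 7, 6, 5, 4, 3, 2, 1]),
    (578, [3, 7, 4, 5, 2, 3, 4, 1, 2, 3, 7, 8, 5, 3, 4, 1, 2, 3, 7, 6, 5, 4, 3, 2, 1]),
    (579, [7, 4, 5, 2, 3, 4, 1, 2, 3, 7, 8, 5, 3, 4, 1, 2, 3, 7, 6, 5, 4, 3, 2, 1]),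
    (589, [7, 8, 5, 3, 4, 1, 2, 3, 7, 6, 5, 4, 3, 2, 1]),
    (590, [7, 8, 3, 4, 2, 3, 7, 6, 5, 4, 3, 2, 1]),
    (608, [5, 4, 1, 2, 3, 7, 8, 7, 5, 3, 4, 1, 2, 3, 7, 6, 5, 4, 3, 2, 1]),
    (628, [7, 8, 4, 5, 2, 3, 4, 1, 2, 3, 7, 6, 5, 4, 3, 2, 1]),
    (629, [8, 4, 5, 2, 3, 4, 1, 2, 3, 7, 6, 5, 4, 3, 2, 1]),
    (631, [7, 8, 7, 3, 4, 2, 3, 7, 6, 5, 4, 3, 2, 1]),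
    (634, [7, 8, 7, 5, 3, 4, 1, 2, 3, 7, 6, 5, 4, 3, 2, 1]),
    (662, [7, 3, 4, 2, 3, 7, 8, 7, 4, 5, 2, 3, 4, 1, 2, 3, 7, 6, 5, 4, 3, 2, 1]),
    (684, [8, 7, 5, 3, 4, 1, 2, 3, 7, 6, 5, 4, 3, 2, 1]),
    (685, [3, 7, 8, 7, 3, 4, 2, 3, 7, 6, 5, 4, 3, 2, 1]),
    (688, [3, 7, 8, 7, 5, 3, 4, 1, 2, 3, 7, 6, 5, 4, 3, 2, 1]),
    (690, [2, 3, 7, 8, 4, 2, 3, 7, 5, 4, 3, 2, 0, 1]),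
    (705, [5, 3, 4, 1, 2, 3, 7, 8, 5, 3, 4, 1, 2, 3, 7, 6, 5, 4, 3, 2, 1]),
    (721, [7, 6, 5, 3, 4, 0, 1, 2, 3, 7, 8, 5, 4, 1, 2, 3, 7, 6, 5, 4, 3, 2, 1]),
    (757, [6, 4, 5, 2, 3, 4, 0, 1, 2, 3, 7, 8, 4, 5, 2, 3, 4, 1, 2, 3, 7, 6, 5, 4, 3, 2, 1]),
    (759, [6, 5, 3, 4, 0, 1, 2, 3, 7, 8, 4, 5, 2, 3, 4, 1, 2, 3, 7, 6, 5, 4, 3, 2, 1]),
    (764, [4, 3, 7, 5, 2, 3, 4, 0, 1, 2, 3, 7, 8, 4, 5, 2, 3, 4, 1, 2, 3, 7, 6, 5, 4, 3, 2, 1]),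
    (773, [4, 2, 3, 7, 8, 7, 5, 3, 4, 1, 2, 3, 7, 6, 5, 4, 3, 2, 1]),
    (779, [8, 7, 3, 4, 2, 3, 7, 6, 5, 4, 3, 2, 1]),
    (788, [3, 4, 2, 3, 7, 8, 5, 4, 1, 2, 3, 7, 6, 5, 4, 3, 2, 1]),
    (789, [7, 3, 4, 2, 3, 7, 8, 5, 4, 1, 2, 3, 7, 6, 5, 4, 3, 2, 1]),
    (795, [6, 5, 4, 3, 7, 2, 3, 4, 1, 2, 3, 7, 8, 5, 4, 1, 2, 3, 7, 6, 5, 4, 3, 2, 1]),
    (796, [0, 1, 2, 3, 7, 4, 5, 3, 4, 2, 3, 7, 8, 4, 1, 2, 3, 7, 6, 5, 4, 3, 2, 1]),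
    (798, [0, 1, 2, 3, 7, 4, 5, 3, 4, 1, 2, 3, 7, 8, 3, 4, 1, 2, 3, 7, 6, 5, 4, 3, 2, 1]),
    (804, [4, 3, 7, 3, 4, 5, 2, 3, 4, 0, 1, 2, 3, 7, 8, 4, 5, 2, 3, 4, 1, 2, 3, 7, 6, 5, 4, 3, 2, 1]),
    (831, [6, 5, 4, 2, 3, 7, 4, 5, 2, 3, 4, 1, 2, 3, 7, 8, 5, 2, 3, 4, 1, 2, 3, 7, 6, 5, 4, 3, 2, 1]),
    (832, [5, 4, 1, 2, 3, 7, 4, 5, 2, 3, 4, 1, 2, 3, 7, 8, 5, 3, 4, 1, 2, 3, 7, 6, 5, 4, 3, 2, 1]),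
    (891, [7, 4, 5, 2, 3, 4, 1, 2, 3, 7, 8, 5, 4, 1, 2, 3, 7, 6, 5, 4, 3, 2, 1]),
    (896, [7, 3, 4, 0, 1, 2, 3, 7, 8, 4, 1, 2, 3, 7, 6, 5, 4, 3, 2, 1]),
    (900, [8, 7, 3, 4, 1, 2, 3, 7, 8, 4, 1, 2, 3, 7, 6, 5, 4, 3, 2, 1]),
    (907, [5, 4, 1, 2, 3, 7, 8, 3, 4, 2, 3, 7, 6, 5, 4, 3, 2, 1]),
    (908, [5, 3, 4, 1, 2, 3, 7, 8, 3, 4, 2, 3, 7, 6, 5, 4, 3, 2, 1]),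
    (920, [6, 5, 4, 3, 7, 5, 2, 3, 4, 1, 2, 3, 7, 8, 5, 3, 4, 1, 2, 3, 7, 6, 5, 4, 3, 2, 1]),
    (927, [4, 2, 3, 7, 4, 5, 2, 3, 4, 1, 2, 3, 7, 8, 7, 4, 5, 2, 3, 4, 1, 2, 3, 7, 6, 5, 4, 3, 2, 1]),
    (934, [4, 5, 2, 3, 4, 1, 2, 3, 7, 8, 5, 4, 1, 2, 3, 7, 6, 5, 4, 3, 2, 1]),
    (938, [7, 3, 4, 0, 1, 2, 3, 7, 8, 3, 4, 1, 2, 3, 7, 6, 5, 4, 3, 2, 1]),
    (942, [8, 7, 3, 4, 1, 2, 3, 7, 8, 3, 4, 1, 2, 3, 7, 6, 5, 4, 3, 2, 1]),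
    (959, [0, 1, 2, 3, 7, 4, 5, 3, 4, 2, 3, 7, 8, 1, 2, 3, 7, 6, 5, 4, 3, 2, 1]),
    (966, [4, 2, 3, 7, 4, 5, 2, 3, 4, 1, 2, 3, 7, 8, 7, 5, 3, 4, 1, 2, 3, 7, 6, 5, 4, 3, 2, 1]),
    (973, [4, 5, 2, 3, 4, 1, 2, 3, 7, 8, 5, 3, 4, 1, 2, 3, 7, 6, 5, 4, 3, 2, 1]),
    (993, [6, 5, 3, 4, 0, 1, 2, 3, 7, 8, 5, 3, 4, 1, 2, 3, 7, 6, 5, 4, 3, 2, 1]),
    (996, [7, 4, 5, 2, 3, 4, 1, 2, 3, 7, 8, 7, 4, 5, 2, 3, 4, 1, 2, 3, 7, 6, 5, 4, 3, 2, 1]),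
    (1008, [5, 4, 1, 2, 3, 7, 8, 7, 3, 4, 2, 3, 7, 6, 5, 4, 3, 2, 1]),
    (1017, [4, 2, 3, 7, 4, 5, 2, 3, 4, 1, 2, 3, 7, 8, 5, 3, 4, 1, 2, 3, 7, 6, 5, 4, 3, 2, 1]),
    (1027, [3, 7, 4, 5, 3, 4, 0, 1, 2, 3, 7, 8, 3, 4, 5, 2, 3, 4, 1, 2, 3, 7, 6, 5, 4, 3, 2, 1]),
    (1040, [4, 2, 3, 7, 8, 7, 3, 4, 2, 3, 7, 6, 5, 4, 3, 2, 1]),
    (1058, [4, 3, 7, 4, 5, 2, 3, 4, 0, 1, 2, 3, 7, 8, 7, 5, 2, 3, 4, 1, 2, 3, 7, 6, 5, 4, 3, 2, 1]),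
    (1064, [5, 3, 4, 1, 2, 3, 7, 8, 7, 5, 3, 4, 1, 2, 3, 7, 6, 5, 4, 3, 2, 1]),
    (1069, [5, 4, 1, 2, 3, 7, 8, 5, 4, 1, 2, 3, 7, 6, 5, 4, 3, 2, 1]),
    (1093, [3, 4, 2, 3, 7, 8, 7, 3, 4, 2, 3, 7, 6, 5, 4, 3, 2, 1]),
    (1094, [4, 2, 3, 7, 8, 3, 4, 2, 3, 7, 6, 5, 4, 3, 2, 1]),
    (1117, [3, 4, 2, 3, 7, 8, 3, 4, 2, 3, 7, 6, 5, 4, 3, 2, 1]),
    (1118, [2, 3, 7, 8, 4, 3, 7, 5, 4, 3, 2, 0, 1]),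
    (1129, [5, 4, 1, 2, 3, 7, 8, 5, 3, 4, 1, 2, 3, 7, 6, 5, 4, 3, 2, 1]),
    (1151, [5, 3, 4, 1, 2, 3, 7, 8, 7, 3, 4, 2, 3, 7, 6, 5, 4, 3, 2, 1]),
    (1158, [5, 3, 4, 1, 2, 3, 7, 8, 7, 4, 5, 2, 3, 4, 1, 2, 3, 7, 6, 5, 4, 3, 2, 1]),
    (1184, [3, 4, 5, 2, 3, 4, 1, 2, 3, 7, 8, 7, 4, 5, 2, 3, 4, 1, 2, 3, 7, 6, 5, 4, 3, 2, 1]),
    (1185, [2, 3, 7, 3, 4, 5, 2, 3, 4, 1, 2, 3, 7, 8, 3, 4, 1, 2, 3, 7, 6, 5, 4, 3, 2, 1]),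
    (1186, [3, 7, 3, 4, 5, 2, 3, 4, 1, 2, 3, 7, 8, 3, 4, 1, 2, 3, 7, 6, 5, 4, 3, 2, 1]),
    (1187, [7, 3, 4, 5, 2, 3, 4, 1, 2, 3, 7, 8, 3, 4, 1, 2, 3, 7, 6, 5, 4, 3, 2, 1]),
    (1188, [7, 3, 4, 5, 2, 3, 4, 1, 2, 3, 7, 8, 3, 4, 2, 3, 7, 6, 5, 4, 3, 2, 1]),
    (1201, [4, 2, 3, 7, 8, 4, 2, 3, 7, 6, 5, 4, 3, 2, 1]),
    (1209, [3, 7, 4, 5, 2, 3, 4, 1, 2, 3, 7, 8, 5, 4, 1, 2, 3, 7, 6, 5, 4, 3, 2, 1]),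
    (1249, [3, 7, 8, 3, 4, 2, 3, 7, 6, 5, 4, 3, 2, 1]),
    (1259, [0, 1, 2, 3, 7, 4, 5, 2, 3, 4, 1, 2, 3, 7, 8, 3, 4, 1, 2, 3, 7, 6, 5, 4, 3, 2, 1]),
    (1260, [0, 1, 2, 3, 7, 3, 4, 5, 2, 3, 4, 1, 2, 3, 7, 8, 3, 4, 1, 2, 3, 7, 6, 5, 4, 3, 2, 1]),
    (1271, [5, 4, 1, 2, 3, 7, 8, 4, 2, 3, 7, 6, 5, 4, 3, 2, 1]),
    (1282, [5, 4, 3, 7, 6, 5, 2, 3, 4, 1, 2, 3, 7, 8, 5, 2, 3, 4, 1, 2, 3, 7, 6, 5, 4, 3, 2, 1]),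
    (1297, [3, 7, 8, 7, 4, 5, 2, 3, 4, 1, 2, 3, 7, 6, 5, 4, 3, 2, 1]),
    (1306, [6, 5, 4, 0, 1, 2, 3, 7, 8, 4, 2, 3, 7, 6, 5, 4, 3, 2, 1]),
    (1331, [3, 7, 3, 4, 5, 2, 3, 4, 1, 2, 3, 7, 8, 5, 3, 4, 1, 2, 3, 7, 6, 5, 4, 3, 2, 1]),
    (1337, [4, 3, 7, 5, 2, 3, 4, 0, 1, 2, 3, 7, 8, 7, 5, 2, 3, 4, 1, 2, 3, 7, 6, 5, 4, 3, 2, 1]),
    (1352, [6, 5, 4, 0, 1, 2, 3, 7, 8, 5, 4, 1, 2, 3, 7, 6, 5, 4, 3, 2, 1]),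
    (1353, [6, 5, 3, 4, 0, 1, 2, 3, 7, 8, 5, 4, 1, 2, 3, 7, 6, 5, 4, 3, 2, 1]),
    (1366, [7, 3, 4, 2, 3, 7, 8, 3, 4, 5, 2, 3, 4, 1, 2, 3, 7, 6, 5, 4, 3, 2, 1]),
    (1367, [3, 4, 2, 3, 7, 8, 3, 4, 5, 2, 3, 4, 1, 2, 3, 7, 6, 5, 4, 3, 2, 1]),
    (1371, [4, 5, 3, 4, 0, 1, 2, 3, 7, 8, 3, 4, 5, 2, 3, 4, 1, 2, 3, 7, 6, 5, 4, 3, 2, 1]),
    (1372, [7, 4, 5, 3, 4, 0, 1, 2, 3, 7, 8, 3, 4, 5, 2, 3, 4, 1, 2, 3, 7, 6, 5, 4, 3, 2, 1]),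
    (1395, [6, 5, 4, 0, 1, 2, 3, 7, 8, 4, 5, 2, 3, 4, 1, 2, 3, 7, 6, 5, 4, 3, 2, 1]),
    (1400, [7, 5, 3, 4, 1, 2, 3, 7, 8, 3, 4, 5, 2, 3, 4, 1, 2, 3, 7, 6, 5, 4, 3, 2, 1]),
    (1401, [7, 5, 3, 4, 1, 2, 3, 7, 8, 4, 5, 2, 3, 4, 1, 2, 3, 7, 6, 5, 4, 3, 2, 1]),
    (1418, [6, 3, 4, 5, 2, 3, 4, 0, 1, 2, 3, 7, 8, 4, 5, 2, 3, 4, 1, 2, 3, 7, 6, 5, 4, 3, 2, 1]),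
    (1437, [4, 5, 2, 3, 4, 1, 2, 3, 7, 8, 7, 4, 5, 2, 3, 4, 1, 2, 3, 7, 6, 5, 4, 3, 2, 1]),
    (1459, [7, 5, 3, 4, 1, 2, 3, 7, 8, 7, 4, 5, 2, 3, 4, 1, 2, 3, 7, 6, 5, 4, 3, 2, 1]),
    (1489, [3, 7, 6, 4, 5, 2, 3, 4, 0, 1, 2, 3, 7, 8, 4, 5, 2, 3, 4, 1, 2, 3, 7, 6, 5, 4, 3, 2, 1]),
    (1507, [4, 2, 3, 7, 4, 5, 2, 3, 4, 1, 2, 3, 7, 8, 5, 4, 1, 2, 3, 7, 6, 5, 4, 3, 2, 1]),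
    (1563, [3, 7, 8, 4, 5, 2, 3, 4, 1, 2, 3, 7, 6, 5, 4, 3, 2, 1]),
    (1571, [1, 2, 3, 4, 0, 1, 2, 3, 7, 8, 3, 4, 5, 2, 3, 4, 1, 2, 3, 7, 6, 5, 4, 3, 2, 1]),
    (1572, [7, 1, 2, 3, 4, 0, 1, 2, 3, 7, 8, 3, 4, 5, 2, 3, 4, 1, 2, 3, 7, 6, 5, 4, 3, 2, 1]),
    (1584, [7, 3, 4, 2, 3, 7, 6, 5, 4, 3, 2, 1]),
    (1601, [0, 1, 2, 3, 7, 4, 5, 2, 3, 4, 1, 2, 3, 7, 8, 5, 3, 4, 1, 2, 3, 7, 6, 5, 4, 3, 2, 1]),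
    (1626, [8, 3, 7, 6, 4, 5, 2, 3, 4, 0, 1, 2, 3, 7, 8, 5, 4, 1, 2, 3, 7, 6, 5, 4, 3, 2, 1]),
    (1638, [5, 4, 1, 2, 3, 7, 8, 7, 4, 5, 2, 3, 4, 1, 2, 3, 7, 6, 5, 4, 3, 2, 1]),
    (1639, [8, 7, 5, 3, 4, 1, 2, 3, 7, 8, 7, 4, 5, 2, 3, 4, 1, 2, 3, 7, 6, 5, 4, 3, 2, 1]),
    (1652, [7, 8, 0, 1, 2, 3, 7, 3, 4, 5, 2, 3, 4, 1, 2, 3, 7, 8, 5, 3, 4, 1, 2, 3, 7, 6, 5, 4, 3, 2, 1]),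
    (1660, [8, 4, 2, 3, 7, 3, 4, 5, 2, 3, 4, 1, 2, 3, 7, 8, 5, 3, 4, 1, 2, 3, 7, 6, 5, 4, 3, 2, 1]),
    (1674, [8, 3, 4, 5, 2, 3, 4, 1, 2, 3, 7, 6, 5, 4, 3, 2, 1]),
    (1675, [7, 8, 3, 4, 5, 2, 3, 4, 1, 2, 3, 7, 6, 5, 4, 3, 2, 1]),
    (1676, [3, 7, 8, 3, 4, 5, 2, 3, 4, 1, 2, 3, 7, 6, 5, 4, 3, 2, 1]),
    (1680, [5, 4, 1, 2, 3, 7, 8, 3, 4, 5, 2, 3, 4, 1, 2, 3, 7, 6, 5, 4, 3, 2, 1]),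
    (1681, [5, 3, 4, 1, 2, 3, 7, 8, 3, 4, 5, 2, 3, 4, 1, 2, 3, 7, 6, 5, 4, 3, 2, 1]),
    (1682, [8, 7, 5, 3, 4, 1, 2, 3, 7, 8, 3, 4, 5, 2, 3, 4, 1, 2, 3, 7, 6, 5, 4, 3, 2, 1]),
    (1683, [8, 7, 5, 3, 4, 1, 2, 3, 7, 8, 4, 5, 2, 3, 4, 1, 2, 3, 7, 6, 5, 4, 3, 2, 1]),
    (1693, [2, 3, 7, 8, 5, 4, 3, 7, 3, 4, 5, 2, 3, 4, 1, 2, 3, 7, 8, 5, 2, 3, 4, 1, 2, 3, 7, 6, 5, 4, 3, 2, 1]),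
    (1705, [8, 3, 7, 3, 4, 5, 2, 3, 4, 1, 2, 3, 7, 8, 5, 3, 4, 1, 2, 3, 7, 6, 5, 4, 3, 2, 1]),
    (1720, [8, 7, 6, 4, 5, 3, 4, 2, 3, 7, 8, 4, 5, 3, 4, 1, 2, 3, 7, 6, 5, 4, 3, 2, 1]),
    (1728, [4, 3, 7, 4, 5, 2, 3, 4, 0, 1, 2, 3, 7, 8, 4, 5, 2, 3, 4, 1, 2, 3, 7, 6, 5, 4, 3, 2, 1]),
    (1740, [3, 4, 2, 3, 7, 8, 4, 5, 2, 3, 4, 1, 2, 3, 7, 6, 5, 4, 3, 2, 1]),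
    (1755, [3, 7, 5, 2, 3, 4, 0, 1, 2, 3, 7, 8, 3, 4, 5, 2, 3, 4, 1, 2, 3, 7, 6, 5, 4, 3, 2, 1]),
    (1765, [4, 5, 2, 3, 4, 1, 2, 3, 7, 6, 5, 4, 3, 2, 1]),
    (1766, [3, 4, 5, 2, 3, 4, 1, 2, 3, 7, 6, 5, 4, 3, 2, 1]),
    (1768, [5, 3, 4, 1, 2, 3, 7, 8, 5, 4, 1, 2, 3, 7, 6, 5, 4, 3, 2, 1]),
    (1769, [7, 5, 3, 4, 1, 2, 3, 7, 8, 5, 4, 1, 2, 3, 7, 6, 5, 4, 3, 2, 1]),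
    (1770, [8, 7, 5, 3, 4, 1, 2, 3, 7, 8, 5, 4, 1, 2, 3, 7, 6, 5, 4, 3, 2, 1]),
    (1771, [8, 7, 5, 3, 4, 1, 2, 3, 7, 8, 5, 3, 4, 1, 2, 3, 7, 6, 5, 4, 3, 2, 1]),
    (1783, [3, 7, 8, 4, 3, 7, 4, 5, 2, 3, 4, 0, 1, 2, 3, 7, 8, 7, 5, 2, 3, 4, 1, 2, 3, 7, 6, 5, 4, 3, 2, 1]),
    (1800, [7, 4, 5, 2, 3, 4, 1, 2, 3, 7, 8, 7, 5, 3, 4, 1, 2, 3, 7, 6, 5, 4, 3, 2, 1]),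
    (1807, [7, 5, 3, 4, 1, 2, 3, 7, 8, 7, 5, 3, 4, 1, 2, 3, 7, 6, 5, 4, 3, 2, 1]),
    (1808, [8, 7, 5, 3, 4, 1, 2, 3, 7, 8, 7, 5, 3, 4, 1, 2, 3, 7, 6, 5, 4, 3, 2, 1]),
    (1818, [7, 8, 3, 7, 4, 5, 2, 3, 4, 1, 2, 3, 7, 8, 7, 5, 3, 4, 1, 2, 3, 7, 6, 5, 4, 3, 2, 1]),
    (1836, [7, 8, 3, 7, 3, 4, 5, 2, 3, 4, 1, 2, 3, 7, 8, 5, 3, 4, 1, 2, 3, 7, 6, 5, 4, 3, 2, 1]),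
    (1840, [8, 2, 3, 7, 4, 5, 2, 3, 4, 1, 2, 3, 7, 8, 7, 5, 3, 4, 1, 2, 3, 7, 6, 5, 4, 3, 2, 1]),
    (1845, [7, 3, 4, 2, 3, 7, 8, 7, 5, 3, 4, 1, 2, 3, 7, 6, 5, 4, 3, 2, 1]),
    (1854, [8, 3, 7, 4, 5, 3, 4, 2, 3, 7, 8, 7, 4, 5, 2, 3, 4, 1, 2, 3, 7, 6, 5, 4, 3, 2, 1]),
    (1855, [8, 7, 4, 5, 3, 4, 2, 3, 7, 8, 7, 4, 5, 2, 3, 4, 1, 2, 3, 7, 6, 5, 4, 3, 2, 1]),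
    (1868, [8, 4, 2, 3, 7, 4, 5, 2, 3, 4, 1, 2, 3, 7, 8, 5, 3, 4, 1, 2, 3, 7, 6, 5, 4, 3, 2, 1]),
    (1873, [3, 7, 8, 2, 3, 7, 4, 5, 3, 4, 0, 1, 2, 3, 7, 8, 4, 5, 2, 3, 4, 1, 2, 3, 7, 6, 5, 4, 3, 2, 1]),
    (1882, [7, 3, 4, 2, 3, 7, 8, 5, 3, 4, 1, 2, 3, 7, 6, 5, 4, 3, 2, 1]),
    (1891, [8, 4, 3, 7, 4, 5, 2, 3, 4, 1, 2, 3, 7, 8, 7, 5, 3, 4, 1, 2, 3, 7, 6, 5, 4, 3, 2, 1]),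
    (1892, [8, 3, 7, 4, 5, 2, 3, 4, 1, 2, 3, 7, 8, 7, 5, 3, 4, 1, 2, 3, 7, 6, 5, 4, 3, 2, 1]),
    (1905, [3, 7, 8, 2, 3, 7, 4, 5, 2, 3, 4, 0, 1, 2, 3, 7, 8, 4, 5, 2, 3, 4, 1, 2, 3, 7, 6, 5, 4, 3, 2, 1]),
    (1917, [8, 7, 2, 3, 4, 0, 1, 2, 3, 7, 8, 5, 2, 3, 4, 1, 2, 3, 7, 6, 5, 4, 3, 2, 1]),
    (1922, [7, 4, 5, 2, 3, 4, 1, 2, 3, 7, 8, 4, 5, 2, 3, 4, 1, 2, 3, 7, 6, 5, 4, 3, 2, 1]),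
    (1926, [8, 7, 3, 4, 5, 2, 3, 4, 1, 2, 3, 7, 8, 5, 3, 4, 1, 2, 3, 7, 6, 5, 4, 3, 2, 1]),
    (1929, [8, 7, 3, 4, 5, 2, 3, 4, 0, 1, 2, 3, 7, 8, 4, 5, 2, 3, 4, 1, 2, 3, 7, 6, 5, 4, 3, 2, 1]),
    (1930, [2, 3, 7, 3, 4, 5, 2, 3, 4, 0, 1, 2, 3, 7, 8, 4, 5, 2, 3, 4, 1, 2, 3, 7, 6, 5, 4, 3, 2, 1]),
    (1960, [7, 3, 4, 2, 3, 7, 8, 4, 5, 2, 3, 4, 1, 2, 3, 7, 6, 5, 4, 3, 2, 1]),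
    (1961, [3, 4, 2, 3, 7, 8, 7, 4, 5, 2, 3, 4, 1, 2, 3, 7, 6, 5, 4, 3, 2, 1]),
    (1962, [4, 2, 3, 7, 8, 7, 4, 5, 2, 3, 4, 1, 2, 3, 7, 6, 5, 4, 3, 2, 1]),
    (1965, [7, 8, 3, 7, 2, 3, 1, 2, 0, 1]),
    (1993, [3, 7, 4, 5, 2, 3, 4, 1, 2, 3, 7, 8, 4, 5, 2, 3, 4, 1, 2, 3, 7, 6, 5, 4, 3, 2, 1]),
    (2013, [7, 6, 5, 3, 4, 0, 1, 2, 3, 7, 8, 5, 3, 4, 1, 2, 3, 7, 6, 5, 4, 3, 2, 1]),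
    (2022, [4, 2, 3, 7, 8, 3, 4, 5, 2, 3, 4, 1, 2, 3, 7, 6, 5, 4, 3, 2, 1]),
    (2056, [7, 3, 4, 5, 2, 3, 4, 1, 2, 3, 7, 8, 5, 3, 4, 1, 2, 3, 7, 6, 5, 4, 3, 2, 1]),
    (2057, [4, 3, 7, 3, 4, 5, 2, 3, 4, 1, 2, 3, 7, 8, 5, 3, 4, 1, 2, 3, 7, 6, 5, 4, 3, 2, 1]),
    (2059, [0, 1, 2, 3, 7, 3, 4, 5, 2, 3, 4, 1, 2, 3, 7, 8, 5, 3, 4, 1, 2, 3, 7, 6, 5, 4, 3, 2, 1]),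
    (2071, [5, 4, 1, 2, 3, 7, 4, 5, 2, 3, 4, 1, 2, 3, 7, 8, 5, 4, 1, 2, 3, 7, 6, 5, 4, 3, 2, 1]),
    (2092, [5, 4, 3, 7, 6, 4, 5, 2, 3, 4, 1, 2, 3, 7, 8, 5, 2, 3, 4, 1, 2, 3, 7, 6, 5, 4, 3, 2, 1]),
    (2094, [4, 5, 2, 3, 4, 1, 2, 3, 7, 8, 4, 5, 2, 3, 4, 1, 2, 3, 7, 6, 5, 4, 3, 2, 1]),
    (2107, [7, 3, 4, 5, 2, 3, 4, 1, 2, 3, 7, 8, 7, 5, 3, 4, 1, 2, 3, 7, 6, 5, 4, 3, 2, 1]),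
    (2108, [3, 7, 3, 4, 5, 2, 3, 4, 1, 2, 3, 7, 8, 7, 5, 3, 4, 1, 2, 3, 7, 6, 5, 4, 3, 2, 1]),
    (2116, [7, 5, 3, 4, 1, 2, 3, 7, 8, 5, 3, 4, 1, 2, 3, 7, 6, 5, 4, 3, 2, 1]),
    (2133, [3, 7, 6, 4, 5, 2, 3, 4, 0, 1, 2, 3, 7, 8, 5, 4, 1, 2, 3, 7, 6, 5, 4, 3, 2, 1]),
    (2136, [3, 4, 5, 2, 3, 4, 1, 2, 3, 7, 8, 5, 3, 4, 1, 2, 3, 7, 6, 5, 4, 3, 2, 1]),
    (2157, [7, 5, 2, 3, 4, 0, 1, 2, 3, 7, 8, 3, 4, 5, 2, 3, 4, 1, 2, 3, 7, 6, 5, 4, 3, 2, 1]),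
    (2165, [2, 3, 7, 4, 5, 2, 3, 4, 0, 1, 2, 3, 7, 8, 4, 5, 2, 3, 4, 1, 2, 3, 7, 6, 5, 4, 3, 2, 1]),
    (2187, [7, 6, 4, 5, 2, 3, 4, 0, 1, 2, 3, 7, 8, 5, 4, 1, 2, 3, 7, 6, 5, 4, 3, 2, 1]),
    (2222, [6, 5, 4, 0, 1, 2, 3, 7, 8, 5, 3, 4, 1, 2, 3, 7, 6, 5, 4, 3, 2, 1]),
    (2229, [3, 7, 8, 5, 3, 4, 1, 2, 3, 7, 6, 5, 4, 3, 2, 1]),
    (2234, [3, 7, 1, 2, 3, 4, 0, 1, 2, 3, 7, 8, 3, 4, 5, 2, 3, 4, 1, 2, 3, 7, 6, 5, 4, 3, 2, 1]),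
    (2252, [8, 4, 3, 7, 5, 2, 3, 4, 0, 1, 2, 3, 7, 8, 7, 5, 2, 3, 4, 1, 2, 3, 7, 6, 5, 4, 3, 2, 1]),
    (2262, [4, 2, 3, 7, 8, 5, 4, 1, 2, 3, 7, 6, 5, 4, 3, 2, 1]),
    (2264, [8, 7, 3, 4, 0, 1, 2, 3, 7, 8, 5, 3, 4, 1, 2, 3, 7, 6, 5, 4, 3, 2, 1]),
    (2265, [8, 7, 3, 4, 0, 1, 2, 3, 7, 8, 5, 4, 1, 2, 3, 7, 6, 5, 4, 3, 2, 1]),
    (2266, [8, 7, 2, 3, 4, 0, 1, 2, 3, 7, 8, 5, 4, 1, 2, 3, 7, 6, 5, 4, 3, 2, 1]),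
    (2269, [8, 7, 3, 4, 2, 3, 7, 8, 7, 4, 5, 2, 3, 4, 1, 2, 3, 7, 6, 5, 4, 3, 2, 1]),
    (2276, [8, 7, 4, 5, 2, 3, 4, 1, 2, 3, 7, 8, 5, 3, 4, 1, 2, 3, 7, 6, 5, 4, 3, 2, 1]),
    (2277, [8, 3, 7, 4, 5, 2, 3, 4, 1, 2, 3, 7, 8, 5, 3, 4, 1, 2, 3, 7, 6, 5, 4, 3, 2, 1]),
    (2286, [8, 4, 3, 7, 4, 5, 2, 3, 4, 0, 1, 2, 3, 7, 8, 7, 5, 2, 3, 4, 1, 2, 3, 7, 6, 5, 4, 3, 2, 1]),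
    (2291, [5, 4, 1, 2, 3, 7, 8, 4, 5, 2, 3, 4, 1, 2, 3, 7, 6, 5, 4, 3, 2, 1]),
    (2292, [5, 3, 4, 1, 2, 3, 7, 8, 4, 5, 2, 3, 4, 1, 2, 3, 7, 6, 5, 4, 3, 2, 1]),
    (2302, [2, 3, 7, 3, 4, 5, 2, 3, 4, 1, 2, 3, 7, 8, 5, 3, 4, 1, 2, 3, 7, 6, 5, 4, 3, 2, 1]),
    (2326, [8, 3, 7, 3, 4, 5, 2, 3, 4, 0, 1, 2, 3, 7, 8, 4, 5, 2, 3, 4, 1, 2, 3, 7, 6, 5, 4, 3, 2, 1]),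
    (2330, [8, 3, 7, 6, 3, 4, 5, 2, 3, 4, 0, 1, 2, 3, 7, 8, 4, 5, 2, 3, 4, 1, 2, 3, 7, 6, 5, 4, 3, 2, 1]),
    (2331, [8, 7, 6, 3, 4, 5, 2, 3, 4, 0, 1, 2, 3, 7, 8, 4, 5, 2, 3, 4, 1, 2, 3, 7, 6, 5, 4, 3, 2, 1]),
    (2344, [4, 2, 3, 7, 8, 4, 5, 2, 3, 4, 1, 2, 3, 7, 6, 5, 4, 3, 2, 1]),
    (2353, [7, 8, 2, 3, 7, 3, 4, 5, 2, 3, 4, 0, 1, 2, 3, 7, 8, 4, 5, 2, 3, 4, 1, 2, 3, 7, 6, 5, 4, 3, 2, 1]),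
    (2356, [3, 7, 8, 4, 2, 3, 7, 3, 4, 5, 2, 3, 4, 1, 2, 3, 7, 8, 5, 3, 4, 1, 2, 3, 7, 6, 5, 4, 3, 2, 1]),
    (2379, [8, 4, 2, 3, 7, 4, 5, 2, 3, 4, 1, 2, 3, 7, 8, 5, 4, 1, 2, 3, 7, 6, 5, 4, 3, 2, 1]),
    (2407, [7, 1, 2, 3, 4, 0, 1, 2, 3, 7, 8, 3, 7, 5, 2, 3, 4, 1, 2, 3, 7, 6, 5, 4, 3, 2, 1]),
    (2408, [1, 2, 3, 4, 0, 1, 2, 3, 7, 8, 3, 7, 5, 2, 3, 4, 1, 2, 3, 7, 6, 5, 4, 3, 2, 1]),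
    (2420, [8, 7, 5, 3, 4, 2, 3, 7, 8, 5, 3, 4, 2, 3, 7, 6, 5, 4, 3, 2, 1]),
    (2426, [7, 6, 5, 3, 4, 2, 3, 7, 8, 5, 4, 2, 3, 7, 6, 5, 4, 3, 2, 1]),
    (2433, [7, 3, 4, 5, 2, 3, 4, 1, 2, 3, 7, 8, 5, 3, 4, 2, 3, 7, 6, 5, 4, 3, 2, 1]),
    (2434, [3, 7, 3, 4, 5, 2, 3, 4, 1, 2, 3, 7, 8, 5, 3, 4, 2, 3, 7, 6, 5, 4, 3, 2, 1]),
    (2435, [4, 3, 7, 3, 4, 5, 2, 3, 4, 1, 2, 3, 7, 8, 5, 3, 4, 2, 3, 7, 6, 5, 4, 3, 2, 1]),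
    (2440, [4, 2, 3, 7, 3, 4, 5, 2, 3, 4, 1, 2, 3, 7, 8, 5, 3, 4, 1, 2, 3, 7, 6, 5, 4, 3, 2, 1]),
    (2450, [6, 4, 5, 2, 3, 4, 0, 1, 2, 3, 7, 8, 5, 4, 1, 2, 3, 7, 6, 5, 4, 3, 2, 1]),
    (2468, [8, 3, 7, 2, 3, 4, 0, 1, 2, 3, 7, 8, 5, 2, 3, 4, 1, 2, 3, 7, 6, 5, 4, 3, 2, 1]),
    (2469, [3, 7, 1, 2, 3, 4, 0, 1, 2, 3, 7, 8, 3, 7, 5, 2, 3, 4, 1, 2, 3, 7, 6, 5, 4, 3, 2, 1]),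
    (2472, [8, 7, 6, 4, 5, 2, 3, 4, 0, 1, 2, 3, 7, 8, 5, 4, 1, 2, 3, 7, 6, 5, 4, 3, 2, 1]),
    (2475, [8, 7, 5, 3, 4, 2, 3, 7, 8, 7, 5, 2, 3, 4, 1, 2, 3, 7, 6, 5, 4, 3, 2, 1]),
    (2476, [8, 7, 6, 4, 5, 3, 4, 2, 3, 7, 8, 5, 4, 1, 2, 3, 7, 6, 5, 4, 3, 2, 1]),
    (2500, [8, 2, 3, 7, 3, 4, 5, 2, 3, 4, 0, 1, 2, 3, 7, 8, 4, 5, 2, 3, 4, 1, 2, 3, 7, 6, 5, 4, 3, 2, 1]),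
    (2501, [8, 4, 2, 3, 7, 4, 5, 2, 3, 4, 0, 1, 2, 3, 7, 8, 5, 2, 3, 4, 1, 2, 3, 7, 6, 5, 4, 3, 2, 1]),
    (2504, [3, 7, 3, 4, 5, 2, 3, 4, 1, 2, 3, 7, 8, 4, 5, 2, 3, 4, 1, 2, 3, 7, 6, 5, 4, 3, 2, 1]),
    (2505, [7, 3, 4, 5, 2, 3, 4, 1, 2, 3, 7, 8, 4, 5, 2, 3, 4, 1, 2, 3, 7, 6, 5, 4, 3, 2, 1]),
    (2518, [8, 5, 4, 3, 7, 6, 4, 5, 2, 3, 4, 1, 2, 3, 7, 8, 5, 2, 3, 4, 1, 2, 3, 7, 6, 5, 4, 3, 2, 1]),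
    (2519, [8, 5, 4, 3, 7, 6, 5, 2, 3, 4, 1, 2, 3, 7, 8, 5, 2, 3, 4, 1, 2, 3, 7, 6, 5, 4, 3, 2, 1]),
    (2522, [2, 3, 7, 8, 4, 2, 3, 7, 4, 5, 2, 3, 4, 0, 1, 2, 3, 7, 8, 5, 2, 3, 4, 1, 2, 3, 7, 6, 5, 4, 3, 2, 1]),
    (2528, [8, 2, 3, 7, 4, 5, 3, 4, 0, 1, 2, 3, 7, 8, 4, 5, 2, 3, 4, 1, 2, 3, 7, 6, 5, 4, 3, 2, 1]),
    (2530, [8, 7, 3, 4, 2, 3, 7, 8, 4, 5, 2, 3, 4, 1, 2, 3, 7, 6, 5, 4, 3, 2, 1]),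
    (2531, [8, 7, 3, 4, 2, 3, 7, 8, 3, 4, 5, 2, 3, 4, 1, 2, 3, 7, 6, 5, 4, 3, 2, 1]),
    (2539, [7, 8, 3, 7, 4, 5, 3, 4, 0, 1, 2, 3, 7, 8, 4, 5, 2, 3, 4, 1, 2, 3, 7, 6, 5, 4, 3, 2, 1]),
    (2540, [7, 8, 2, 3, 7, 4, 5, 3, 4, 0, 1, 2, 3, 7, 8, 4, 5, 2, 3, 4, 1, 2, 3, 7, 6, 5, 4, 3, 2, 1]),
    (2541, [3, 7, 8, 4, 2, 3, 7, 4, 5, 2, 3, 4, 1, 2, 3, 7, 8, 5, 4, 1, 2, 3, 7, 6, 5, 4, 3, 2, 1]),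
    (2578, [4, 2, 3, 7, 8, 7, 5, 3, 4, 2, 3, 7, 6, 5, 4, 3, 2, 0, 1]),
    (2604, [3, 7, 8, 7, 5, 3, 4, 2, 3, 7, 6, 5, 4, 3, 2, 0, 1]),
    (2683, [6, 5, 4, 1, 2, 3, 7, 8, 4, 5, 3, 4, 2, 3, 7, 6, 5, 4, 3, 2, 0, 1]),
    (2715, [2, 3, 7, 4, 5, 3, 4, 0, 1, 2, 3, 7, 8, 4, 5, 2, 3, 4, 1, 2, 3, 7, 6, 5, 4, 3, 2, 1]),
    (2719, [7, 6, 4, 5, 2, 3, 4, 0, 1, 2, 3, 7, 8, 4, 5, 2, 3, 4, 1, 2, 3, 7, 6, 5, 4, 3, 2, 1]),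
    (2723, [7, 6, 5, 3, 4, 2, 3, 7, 8, 5, 3, 4, 2, 3, 7, 6, 5, 4, 3, 2, 1]),
    (2736, [6, 5, 4, 0, 1, 2, 3, 7, 8, 3, 4, 5, 2, 3, 4, 1, 2, 3, 7, 6, 5, 4, 3, 2, 1]),
    (2737, [6, 5, 3, 4, 0, 1, 2, 3, 7, 8, 3, 4, 5, 2, 3, 4, 1, 2, 3, 7, 6, 5, 4, 3, 2, 1]),
    (2742, [8, 7, 5, 3, 4, 2, 3, 7, 8, 5, 4, 2, 3, 7, 6, 5, 4, 3, 2, 1]),
    (2749, [7, 6, 3, 4, 5, 2, 3, 4, 0, 1, 2, 3, 7, 8, 4, 5, 2, 3, 4, 1, 2, 3, 7, 6, 5, 4, 3, 2, 1]),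
    (2751, [3, 4, 5, 2, 3, 4, 1, 2, 3, 7, 8, 7, 5, 3, 4, 1, 2, 3, 7, 6, 5, 4, 3, 2, 1]),
    (2765, [3, 7, 4, 5, 2, 3, 4, 1, 2, 3, 7, 8, 7, 4, 5, 2, 3, 4, 1, 2, 3, 7, 6, 5, 4, 3, 2, 1]),
    (2778, [3, 7, 6, 3, 4, 5, 2, 3, 4, 0, 1, 2, 3, 7, 8, 4, 5, 2, 3, 4, 1, 2, 3, 7, 6, 5, 4, 3, 2, 1]),
    (2790, [7, 6, 5, 3, 4, 0, 1, 2, 3, 7, 8, 4, 5, 2, 3, 4, 1, 2, 3, 7, 6, 5, 4, 3, 2, 1]),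
    (2791, [7, 6, 5, 3, 4, 0, 1, 2, 3, 7, 8, 3, 4, 5, 2, 3, 4, 1, 2, 3, 7, 6, 5, 4, 3, 2, 1]),
    (2805, [7, 8, 4, 3, 7, 4, 5, 2, 3, 4, 0, 1, 2, 3, 7, 8, 7, 5, 2, 3, 4, 1, 2, 3, 7, 6, 5, 4, 3, 2, 1]),
    (2809, [3, 7, 4, 5, 2, 3, 4, 1, 2, 3, 7, 8, 7, 5, 3, 4, 1, 2, 3, 7, 6, 5, 4, 3, 2, 1]),
    (2810, [4, 5, 2, 3, 4, 1, 2, 3, 7, 8, 7, 5, 3, 4, 1, 2, 3, 7, 6, 5, 4, 3, 2, 1]),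
    (2812, [8, 4, 3, 7, 5, 2, 3, 4, 0, 1, 2, 3, 7, 8, 4, 5, 2, 3, 4, 1, 2, 3, 7, 6, 5, 4, 3, 2, 1]),
    (2813, [8, 4, 3, 7, 4, 5, 2, 3, 4, 0, 1, 2, 3, 7, 8, 4, 5, 2, 3, 4, 1, 2, 3, 7, 6, 5, 4, 3, 2, 1]),
    (2840, [8, 7, 6, 4, 5, 2, 3, 4, 0, 1, 2, 3, 7, 8, 4, 5, 2, 3, 4, 1, 2, 3, 7, 6, 5, 4, 3, 2, 1]),
    (2848, [3, 7, 8, 4, 3, 7, 5, 2, 3, 4, 0, 1, 2, 3, 7, 8, 4, 5, 2, 3, 4, 1, 2, 3, 7, 6, 5, 4, 3, 2, 1]),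
    (2855, [8, 7, 4, 5, 2, 3, 4, 1, 2, 3, 7, 8, 7, 5, 3, 4, 1, 2, 3, 7, 6, 5, 4, 3, 2, 1]),
    (2870, [8, 7, 3, 4, 1, 2, 3, 7, 8, 7, 4, 5, 3, 4, 1, 2, 3, 7, 6, 5, 4, 3, 2, 1]),
    (2876, [8, 4, 2, 3, 7, 4, 5, 2, 3, 4, 1, 2, 3, 7, 8, 7, 4, 5, 2, 3, 4, 1, 2, 3, 7, 6, 5, 4, 3, 2, 1]),
    (2877, [2, 3, 7, 8, 4, 3, 7, 6, 4, 5, 2, 3, 4, 1, 2, 3, 7, 8, 5, 2, 3, 4, 1, 2, 3, 7, 6, 5, 4, 3, 2, 1]),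
    (2889, [7, 8, 4, 3, 7, 4, 5, 2, 3, 4, 0, 1, 2, 3, 7, 8, 4, 5, 2, 3, 4, 1, 2, 3, 7, 6, 5, 4, 3, 2, 1]),
    (2890, [3, 7, 8, 4, 3, 7, 4, 5, 2, 3, 4, 0, 1, 2, 3, 7, 8, 4, 5, 2, 3, 4, 1, 2, 3, 7, 6, 5, 4, 3, 2, 1]),
    (2891, [7, 8, 4, 3, 7, 5, 2, 3, 4, 0, 1, 2, 3, 7, 8, 4, 5, 2, 3, 4, 1, 2, 3, 7, 6, 5, 4, 3, 2, 1]),
    (2901, [3, 4, 5, 2, 3, 4, 1, 2, 3, 7, 8, 4, 5, 2, 3, 4, 1, 2, 3, 7, 6, 5, 4, 3, 2, 1]),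
    (2903, [8, 7, 4, 5, 2, 3, 4, 1, 2, 3, 7, 8, 7, 4, 5, 2, 3, 4, 1, 2, 3, 7, 6, 5, 4, 3, 2, 1]),
    (2904, [8, 3, 7, 4, 5, 2, 3, 4, 1, 2, 3, 7, 8, 7, 4, 5, 2, 3, 4, 1, 2, 3, 7, 6, 5, 4, 3, 2, 1]),
    (2907, [2, 3, 7, 8, 4, 3, 7, 5, 2, 3, 4, 0, 1, 2, 3, 7, 8, 5, 2, 3, 4, 1, 2, 3, 7, 6, 5, 4, 3, 2, 1]),
    (2920, [8, 3, 7, 6, 4, 5, 3, 4, 2, 3, 7, 8, 4, 5, 3, 4, 1, 2, 3, 7, 6, 5, 4, 3, 2, 1]),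
    (2926, [8, 0, 1, 2, 3, 7, 3, 4, 5, 2, 3, 4, 1, 2, 3, 7, 8, 5, 3, 4, 1, 2, 3, 7, 6, 5, 4, 3, 2, 1]),
    (2932, [7, 8, 3, 7, 6, 4, 5, 2, 3, 4, 0, 1, 2, 3, 7, 8, 5, 4, 1, 2, 3, 7, 6, 5, 4, 3, 2, 1]),
    (2940, [8, 2, 3, 7, 3, 4, 5, 2, 3, 4, 1, 2, 3, 7, 8, 4, 5, 2, 3, 4, 1, 2, 3, 7, 6, 5, 4, 3, 2, 1]),
    (2941, [8, 3, 7, 3, 4, 5, 2, 3, 4, 1, 2, 3, 7, 8, 4, 5, 2, 3, 4, 1, 2, 3, 7, 6, 5, 4, 3, 2, 1]),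
    (2942, [7, 8, 3, 7, 4, 5, 2, 3, 4, 1, 2, 3, 7, 8, 5, 3, 4, 1, 2, 3, 7, 6, 5, 4, 3, 2, 1]),
    (2953, [8, 7, 3, 4, 5, 2, 3, 4, 1, 2, 3, 7, 8, 3, 4, 2, 3, 7, 6, 5, 4, 3, 2, 1]),
    (2957, [3, 7, 8, 4, 2, 3, 7, 4, 5, 2, 3, 4, 1, 2, 3, 7, 8, 7, 5, 3, 4, 1, 2, 3, 7, 6, 5, 4, 3, 2, 1]),
    (2964, [8, 7, 2, 3, 4, 1, 2, 3, 7, 8, 7, 4, 5, 2, 3, 4, 1, 2, 3, 7, 6, 5, 4, 3, 2, 1]),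
    (2970, [8, 0, 1, 2, 3, 7, 3, 4, 5, 2, 3, 4, 1, 2, 3, 7, 8, 3, 4, 1, 2, 3, 7, 6, 5, 4, 3, 2, 1]),
    (2974, [8, 3, 7, 2, 3, 4, 1, 2, 3, 7, 8, 7, 4, 5, 2, 3, 4, 1, 2, 3, 7, 6, 5, 4, 3, 2, 1]),
    (2975, [8, 7, 6, 5, 3, 4, 2, 3, 7, 8, 5, 3, 4, 1, 2, 3, 7, 6, 5, 4, 3, 2, 1]),
    (2976, [8, 7, 6, 5, 3, 4, 2, 3, 7, 8, 5, 4, 1, 2, 3, 7, 6, 5, 4, 3, 2, 1]),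
    (2978, [8, 5, 4, 1, 2, 3, 7, 4, 5, 2, 3, 4, 1, 2, 3, 7, 8, 5, 4, 1, 2, 3, 7, 6, 5, 4, 3, 2, 1]),
    (2979, [8, 5, 4, 1, 2, 3, 7, 4, 5, 2, 3, 4, 1, 2, 3, 7, 8, 5, 3, 4, 1, 2, 3, 7, 6, 5, 4, 3, 2, 1]),
    (2981, [8, 3, 7, 6, 4, 5, 2, 3, 4, 0, 1, 2, 3, 7, 8, 4, 5, 2, 3, 4, 1, 2, 3, 7, 6, 5, 4, 3, 2, 1]),
    (2982, [8, 6, 5, 4, 3, 7, 5, 2, 3, 4, 1, 2, 3, 7, 8, 5, 3, 4, 1, 2, 3, 7, 6, 5, 4, 3, 2, 1]),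
    (2991, [8, 3, 7, 3, 4, 5, 2, 3, 4, 1, 2, 3, 7, 8, 7, 5, 3, 4, 1, 2, 3, 7, 6, 5, 4, 3, 2, 1]),
    (2992, [8, 7, 3, 4, 5, 2, 3, 4, 1, 2, 3, 7, 8, 7, 5, 3, 4, 1, 2, 3, 7, 6, 5, 4, 3, 2, 1]),
    (3012, [8, 7, 3, 4, 2, 3, 7, 8, 7, 5, 3, 4, 1, 2, 3, 7, 6, 5, 4, 3, 2, 1]),
    (3016, [8, 2, 3, 7, 4, 5, 2, 3, 4, 0, 1, 2, 3, 7, 8, 4, 5, 2, 3, 4, 1, 2, 3, 7, 6, 5, 4, 3, 2, 1]),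
    (3031, [1, 2, 3, 7, 8, 4, 3, 7, 5, 2, 3, 4, 1, 2, 3, 7, 8, 7, 4, 5, 2, 3, 4, 1, 2, 3, 7, 6, 5, 4, 3, 2, 1]),
    (3032, [3, 7, 8, 5, 4, 1, 2, 3, 7, 4, 5, 2, 3, 4, 1, 2, 3, 7, 8, 5, 3, 4, 1, 2, 3, 7, 6, 5, 4, 3, 2, 1]),
    (3049, [3, 7, 8, 4, 3, 7, 3, 4, 5, 2, 3, 4, 0, 1, 2, 3, 7, 8, 4, 5, 2, 3, 4, 1, 2, 3, 7, 6, 5, 4, 3, 2, 1]),
    (3050, [7, 8, 4, 3, 7, 3, 4, 5, 2, 3, 4, 0, 1, 2, 3, 7, 8, 4, 5, 2, 3, 4, 1, 2, 3, 7, 6, 5, 4, 3, 2, 1]),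
    (3052, [7, 8, 4, 2, 3, 7, 3, 4, 5, 2, 3, 4, 1, 2, 3, 7, 8, 5, 3, 4, 1, 2, 3, 7, 6, 5, 4, 3, 2, 1]),
    (3053, [3, 7, 8, 4, 3, 7, 5, 2, 3, 4, 0, 1, 2, 3, 7, 8, 7, 5, 2, 3, 4, 1, 2, 3, 7, 6, 5, 4, 3, 2, 1]),
    (3054, [7, 8, 4, 3, 7, 5, 2, 3, 4, 0, 1, 2, 3, 7, 8, 7, 5, 2, 3, 4, 1, 2, 3, 7, 6, 5, 4, 3, 2, 1]),
    (3069, [8, 7, 3, 4, 5, 2, 3, 4, 1, 2, 3, 7, 8, 4, 5, 2, 3, 4, 1, 2, 3, 7, 6, 5, 4, 3, 2, 1]),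
    (3070, [8, 4, 3, 7, 3, 4, 5, 2, 3, 4, 1, 2, 3, 7, 8, 4, 5, 2, 3, 4, 1, 2, 3, 7, 6, 5, 4, 3, 2, 1]),
    (3076, [8, 7, 6, 5, 3, 4, 0, 1, 2, 3, 7, 8, 5, 3, 4, 1, 2, 3, 7, 6, 5, 4, 3, 2, 1]),
    (3077, [8, 7, 6, 5, 3, 4, 0, 1, 2, 3, 7, 8, 5, 4, 1, 2, 3, 7, 6, 5, 4, 3, 2, 1]),
    (3092, [8, 6, 5, 4, 2, 3, 7, 4, 5, 2, 3, 4, 1, 2, 3, 7, 8, 5, 2, 3, 4, 1, 2, 3, 7, 6, 5, 4, 3, 2, 1]),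
    (3104, [1, 2, 3, 7, 8, 4, 3, 7, 3, 4, 5, 2, 3, 4, 1, 2, 3, 7, 8, 5, 2, 3, 4, 1, 2, 3, 7, 6, 5, 4, 3, 2, 1]),
    (3112, [5, 2, 3, 4, 0, 1, 2, 3, 7, 8, 3, 4, 5, 2, 3, 4, 1, 2, 3, 7, 6, 5, 4, 3, 2, 1]),
    (3132, [7, 8, 0, 1, 2, 3, 7, 4, 5, 2, 3, 4, 1, 2, 3, 7, 8, 5, 3, 4, 1, 2, 3, 7, 6, 5, 4, 3, 2, 1]),
    (3133, [7, 8, 3, 7, 6, 4, 5, 2, 3, 4, 0, 1, 2, 3, 7, 8, 4, 5, 2, 3, 4, 1, 2, 3, 7, 6, 5, 4, 3, 2, 1]),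
    (3135, [8, 7, 1, 2, 3, 4, 0, 1, 2, 3, 7, 8, 3, 7, 5, 2, 3, 4, 1, 2, 3, 7, 6, 5, 4, 3, 2, 1]),
    (3136, [8, 3, 7, 1, 2, 3, 4, 0, 1, 2, 3, 7, 8, 3, 7, 5, 2, 3, 4, 1, 2, 3, 7, 6, 5, 4, 3, 2, 1]),
    (3137, [7, 8, 3, 7, 1, 2, 3, 4, 0, 1, 2, 3, 7, 8, 3, 7, 5, 2, 3, 4, 1, 2, 3, 7, 6, 5, 4, 3, 2, 1]),
    (3148, [8, 0, 1, 2, 3, 7, 4, 5, 2, 3, 4, 1, 2, 3, 7, 8, 5, 3, 4, 1, 2, 3, 7, 6, 5, 4, 3, 2, 1]),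
    (3159, [8, 3, 7, 6, 3, 4, 5, 2, 3, 4, 1, 2, 3, 7, 8, 4, 5, 2, 3, 4, 1, 2, 3, 7, 6, 5, 4, 3, 2, 1]),
    (3160, [8, 7, 6, 3, 4, 5, 2, 3, 4, 1, 2, 3, 7, 8, 4, 5, 2, 3, 4, 1, 2, 3, 7, 6, 5, 4, 3, 2, 1]),
    (3187, [7, 8, 5, 4, 1, 2, 3, 7, 4, 5, 2, 3, 4, 1, 2, 3, 7, 8, 5, 4, 1, 2, 3, 7, 6, 5, 4, 3, 2, 1]),
    (3188, [3, 7, 8, 5, 4, 1, 2, 3, 7, 4, 5, 2, 3, 4, 1, 2, 3, 7, 8, 5, 4, 1, 2, 3, 7, 6, 5, 4, 3, 2, 1]),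
    (3190, [2, 3, 7, 8, 4, 3, 7, 6, 5, 2, 3, 4, 1, 2, 3, 7, 8, 5, 2, 3, 4, 1, 2, 3, 7, 6, 5, 4, 3, 2, 1]),
    (3191, [2, 3, 7, 8, 4, 3, 7, 4, 5, 2, 3, 4, 0, 1, 2, 3, 7, 8, 5, 2, 3, 4, 1, 2, 3, 7, 6, 5, 4, 3, 2, 1]),
    (3203, [8, 7, 4, 5, 2, 3, 4, 1, 2, 3, 7, 8, 4, 5, 2, 3, 4, 1, 2, 3, 7, 6, 5, 4, 3, 2, 1]),
    (3204, [8, 3, 7, 4, 5, 2, 3, 4, 1, 2, 3, 7, 8, 4, 5, 2, 3, 4, 1, 2, 3, 7, 6, 5, 4, 3, 2, 1]),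
    (3229, [3, 7, 8, 5, 4, 3, 7, 6, 5, 2, 3, 4, 1, 2, 3, 7, 8, 5, 2, 3, 4, 1, 2, 3, 7, 6, 5, 4, 3, 2, 1]),
    (3235, [7, 8, 3, 7, 3, 4, 5, 2, 3, 4, 1, 2, 3, 7, 8, 7, 5, 3, 4, 1, 2, 3, 7, 6, 5, 4, 3, 2, 1]),
    (3247, [8, 7, 6, 5, 3, 4, 0, 1, 2, 3, 7, 8, 3, 4, 5, 2, 3, 4, 1, 2, 3, 7, 6, 5, 4, 3, 2, 1]),
    (3248, [8, 7, 6, 5, 3, 4, 0, 1, 2, 3, 7, 8, 4, 5, 2, 3, 4, 1, 2, 3, 7, 6, 5, 4, 3, 2, 1]),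
    (3254, [8, 7, 3, 4, 2, 3, 7, 8, 5, 4, 1, 2, 3, 7, 6, 5, 4, 3, 2, 1]),
    (3255, [8, 7, 3, 4, 2, 3, 7, 8, 5, 3, 4, 1, 2, 3, 7, 6, 5, 4, 3, 2, 1]),
    (3274, [8, 3, 7, 4, 5, 3, 4, 0, 1, 2, 3, 7, 8, 3, 4, 5, 2, 3, 4, 1, 2, 3, 7, 6, 5, 4, 3, 2, 1]),
    (3275, [8, 7, 4, 5, 3, 4, 0, 1, 2, 3, 7, 8, 3, 4, 5, 2, 3, 4, 1, 2, 3, 7, 6, 5, 4, 3, 2, 1]),
    (3282, [3, 7, 8, 4, 2, 3, 7, 4, 5, 2, 3, 4, 1, 2, 3, 7, 8, 5, 3, 4, 1, 2, 3, 7, 6, 5, 4, 3, 2, 1]),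
    (3283, [7, 8, 4, 2, 3, 7, 4, 5, 2, 3, 4, 1, 2, 3, 7, 8, 5, 3, 4, 1, 2, 3, 7, 6, 5, 4, 3, 2, 1]),
    (3291, [7, 8, 5, 4, 3, 7, 6, 5, 2, 3, 4, 1, 2, 3, 7, 8, 5, 2, 3, 4, 1, 2, 3, 7, 6, 5, 4, 3, 2, 1]),
    (3292, [2, 3, 7, 8, 4, 1, 2, 3, 7, 4, 5, 2, 3, 4, 1, 2, 3, 7, 8, 5, 4, 1, 2, 3, 7, 6, 5, 4, 3, 2, 1]),
    (3293, [2, 3, 7, 8, 4, 1, 2, 3, 7, 4, 5, 2, 3, 4, 1, 2, 3, 7, 8, 5, 3, 4, 1, 2, 3, 7, 6, 5, 4, 3, 2, 1]),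
    (3294, [2, 3, 7, 8, 4, 1, 2, 3, 7, 3, 4, 5, 2, 3, 4, 1, 2, 3, 7, 8, 5, 3, 4, 1, 2, 3, 7, 6, 5, 4, 3, 2, 1]),
    (3295, [5, 4, 3, 7, 8, 2, 3, 7, 4, 5, 2, 3, 4, 1, 2, 3, 7, 8, 7, 4, 5, 2, 3, 4, 1, 2, 3, 7, 6, 5, 4, 3, 2, 1]),
    (3298, [7, 8, 3, 7, 4, 5, 2, 3, 4, 1, 2, 3, 7, 8, 4, 5, 2, 3, 4, 1, 2, 3, 7, 6, 5, 4, 3, 2, 1]),
    (3324, [4, 3, 7, 8, 5, 4, 2, 3, 7, 4, 5, 2, 3, 4, 1, 2, 3, 7, 8, 5, 2, 3, 4, 1, 2, 3, 7, 6, 5, 4, 3, 2, 1]),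
    (3325, [7, 8, 5, 4, 1, 2, 3, 7, 4, 5, 2, 3, 4, 1, 2, 3, 7, 8, 5, 3, 4, 1, 2, 3, 7, 6, 5, 4, 3, 2, 1]),
    (3326, [7, 8, 6, 5, 4, 2, 3, 7, 4, 5, 2, 3, 4, 1, 2, 3, 7, 8, 5, 2, 3, 4, 1, 2, 3, 7, 6, 5, 4, 3, 2, 1]),
    (3327, [3, 7, 8, 6, 5, 4, 2, 3, 7, 4, 5, 2, 3, 4, 1, 2, 3, 7, 8, 5, 2, 3, 4, 1, 2, 3, 7, 6, 5, 4, 3, 2, 1]),
    (3332, [8, 2, 3, 7, 3, 4, 5, 2, 3, 4, 0, 1, 2, 3, 7, 8, 4, 5, 3, 4, 1, 2, 3, 7, 6, 5, 4, 3, 2, 1]),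
    (3333, [7, 8, 2, 3, 7, 4, 5, 2, 3, 4, 0, 1, 2, 3, 7, 8, 4, 5, 2, 3, 4, 1, 2, 3, 7, 6, 5, 4, 3, 2, 1]),
    (3336, [7, 8, 3, 7, 6, 3, 4, 5, 2, 3, 4, 0, 1, 2, 3, 7, 8, 4, 5, 2, 3, 4, 1, 2, 3, 7, 6, 5, 4, 3, 2, 1]),
    (3339, [3, 7, 8, 4, 2, 3, 7, 4, 5, 2, 3, 4, 1, 2, 3, 7, 8, 7, 4, 5, 2, 3, 4, 1, 2, 3, 7, 6, 5, 4, 3, 2, 1]),
    (3340, [7, 8, 4, 2, 3, 7, 4, 5, 2, 3, 4, 1, 2, 3, 7, 8, 7, 4, 5, 2, 3, 4, 1, 2, 3, 7, 6, 5, 4, 3, 2, 1]),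
    (3346, [8, 4, 2, 3, 7, 4, 5, 2, 3, 4, 1, 2, 3, 7, 8, 7, 5, 3, 4, 1, 2, 3, 7, 6, 5, 4, 3, 2, 1]),
    (3371, [8, 3, 7, 1, 2, 3, 4, 0, 1, 2, 3, 7, 8, 3, 4, 5, 2, 3, 4, 1, 2, 3, 7, 6, 5, 4, 3, 2, 1]),
    (3392, [7, 8, 3, 7, 3, 4, 5, 2, 3, 4, 1, 2, 3, 7, 8, 4, 5, 2, 3, 4, 1, 2, 3, 7, 6, 5, 4, 3, 2, 1]),
    (3393, [7, 8, 3, 7, 3, 4, 5, 2, 3, 4, 1, 2, 3, 7, 8, 7, 4, 5, 2, 3, 4, 1, 2, 3, 7, 6, 5, 4, 3, 2, 1]),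
    (3394, [3, 7, 8, 2, 3, 7, 3, 4, 5, 2, 3, 4, 0, 1, 2, 3, 7, 8, 4, 5, 2, 3, 4, 1, 2, 3, 7, 6, 5, 4, 3, 2, 1]),
    (3399, [1, 2, 3, 7, 8, 4, 3, 7, 4, 5, 2, 3, 4, 1, 2, 3, 7, 8, 5, 2, 3, 4, 1, 2, 3, 7, 6, 5, 4, 3, 2, 1]),
    (3400, [7, 8, 3, 7, 4, 5, 2, 3, 4, 1, 2, 3, 7, 8, 5, 4, 1, 2, 3, 7, 6, 5, 4, 3, 2, 1]),
    (3404, [7, 8, 3, 7, 4, 5, 2, 3, 4, 1, 2, 3, 7, 8, 7, 4, 5, 2, 3, 4, 1, 2, 3, 7, 6, 5, 4, 3, 2, 1]),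
    (3411, [8, 7, 1, 2, 3, 4, 0, 1, 2, 3, 7, 8, 3, 4, 5, 2, 3, 4, 1, 2, 3, 7, 6, 5, 4, 3, 2, 1]),
    (3417, [3, 7, 8, 5, 4, 3, 7, 6, 4, 5, 2, 3, 4, 1, 2, 3, 7, 8, 5, 2, 3, 4, 1, 2, 3, 7, 6, 5, 4, 3, 2, 1]),
    (3427, [2, 3, 7, 8, 4, 3, 7, 3, 4, 5, 2, 3, 4, 0, 1, 2, 3, 7, 8, 5, 2, 3, 4, 1, 2, 3, 7, 6, 5, 4, 3, 2, 1]),
    (3440, [2, 3, 7, 8, 5, 4, 3, 7, 4, 5, 2, 3, 4, 1, 2, 3, 7, 8, 5, 2, 3, 4, 1, 2, 3, 7, 6, 5, 4, 3, 2, 1]),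
    (3441, [8, 7, 3, 4, 5, 2, 3, 4, 1, 2, 3, 7, 8, 7, 4, 5, 2, 3, 4, 1, 2, 3, 7, 6, 5, 4, 3, 2, 1]),
    (3442, [8, 3, 7, 4, 5, 2, 3, 4, 1, 2, 3, 7, 8, 5, 4, 1, 2, 3, 7, 6, 5, 4, 3, 2, 1]),
    (3443, [8, 7, 4, 5, 2, 3, 4, 1, 2, 3, 7, 8, 5, 4, 1, 2, 3, 7, 6, 5, 4, 3, 2, 1]),
    (3445, [1, 2, 3, 7, 8, 4, 3, 7, 5, 2, 3, 4, 1, 2, 3, 7, 8, 5, 2, 3, 4, 1, 2, 3, 7, 6, 5, 4, 3, 2, 1]),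
    (3446, [8, 3, 7, 3, 4, 5, 2, 3, 4, 1, 2, 3, 7, 8, 7, 4, 5, 2, 3, 4, 1, 2, 3, 7, 6, 5, 4, 3, 2, 1]),
    (3449, [7, 8, 5, 4, 3, 7, 6, 4, 5, 2, 3, 4, 1, 2, 3, 7, 8, 5, 2, 3, 4, 1, 2, 3, 7, 6, 5, 4, 3, 2, 1]),
    (3452, [8, 7, 5, 2, 3, 4, 0, 1, 2, 3, 7, 8, 3, 4, 5, 2, 3, 4, 1, 2, 3, 7, 6, 5, 4, 3, 2, 1]),
    (3458, [7, 8, 3, 7, 6, 5, 2, 3, 4, 1, 2, 3, 7, 8, 4, 5, 2, 3, 4, 1, 2, 3, 7, 6, 5, 4, 3, 2, 1]),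
    (3461, [8, 3, 7, 5, 2, 3, 4, 0, 1, 2, 3, 7, 8, 3, 4, 5, 2, 3, 4, 1, 2, 3, 7, 6, 5, 4, 3, 2, 1]),
    (3474, [8, 6, 5, 4, 3, 7, 2, 3, 4, 1, 2, 3, 7, 8, 5, 4, 1, 2, 3, 7, 6, 5, 4, 3, 2, 1]),
    (3481, [7, 8, 4, 2, 3, 7, 4, 5, 2, 3, 4, 1, 2, 3, 7, 8, 5, 4, 1, 2, 3, 7, 6, 5, 4, 3, 2, 1]),
    (3487, [7, 8, 4, 2, 3, 7, 4, 5, 2, 3, 4, 1, 2, 3, 7, 8, 7, 5, 3, 4, 1, 2, 3, 7, 6, 5, 4, 3, 2, 1]),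
    (3494, [8, 4, 3, 7, 3, 4, 5, 2, 3, 4, 0, 1, 2, 3, 7, 8, 4, 5, 2, 3, 4, 1, 2, 3, 7, 6, 5, 4, 3, 2, 1]),
    (3500, [7, 8, 3, 7, 5, 2, 3, 4, 0, 1, 2, 3, 7, 8, 3, 4, 5, 2, 3, 4, 1, 2, 3, 7, 6, 5, 4, 3, 2, 1]),
    (3503, [7, 8, 3, 7, 4, 5, 3, 4, 0, 1, 2, 3, 7, 8, 3, 4, 5, 2, 3, 4, 1, 2, 3, 7, 6, 5, 4, 3, 2, 1]),
    (3505, [2, 3, 7, 8, 5, 4, 3, 7, 5, 2, 3, 4, 1, 2, 3, 7, 8, 5, 2, 3, 4, 1, 2, 3, 7, 6, 5, 4, 3, 2, 1]),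
    (3509, [7, 8, 3, 7, 1, 2, 3, 4, 0, 1, 2, 3, 7, 8, 3, 4, 5, 2, 3, 4, 1, 2, 3, 7, 6, 5, 4, 3, 2, 1])]
  levs := [
  ⟨10, [
    [(7, [98]), (9, [243]), (10, [])],
    [(64, [144]), (68, [9, 7]), (71, [147, 7]), (72, [157, 7]), (73, [74]), (74, [73]), (82, [195, 7]), (98, [7])],
    [(144, [64]), (146, [64, 7]), (147, [150]), (150, [147]), (156, [157]), (157, [156]), (159, [1765, 7])],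
    [(194, [195]), (195, [194]), (200, [209]), (204, [206]), (206, [204]), (209, [200]), (210, [253, 7]), (212, [281, 7]), (232, [237]), (235, [236]), (236, [235]), (237, [232]), (238, [239]), (239, [238]), (240, [237, 7]), (241, [242]), (242, [241]), (243, [9]), (244, [253]), (253, [244])],
    [(260, [261]), (261, [260]), (264, [239, 7]), (269, [281]), (272, [242, 7]), (281, [269]), (311, [321])],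
    [(321, [311]), (331, [332]), (332, [331]), (370, [1249, 7])],
    [(388, [551]), (417, [418]), (418, [417])],
    [(469, [470]), (470, [469]), (490, [773]), (498, [574])],
    [(512, [553]), (528, [490, 7]), (529, [1297]), (540, [631, 7]), (549, [550]), (550, [549]), (551, [388]), (553, [512]), (574, [498])],
    [(578, [579]), (579, [578]), (589, [2229]), (590, [1249]), (608, [1064]), (628, [1563]), (629, [1674]), (631, [685]), (634, [688])],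
    [(662, [634, 7]), (684, [1961, 7]), (685, [631]), (688, [634])],
    [(705, [1129]), (721, [2013]), (757, [1418]), (759, [1395]), (764, [1728])],
    [(773, [490]), (779, [1093, 7]), (788, [2262]), (789, [1882]), (795, [2059, 7]), (796, [959]), (798, [1259]), (804, [1372, 7]), (831, [798, 7])],
    [(832, [2071]), (891, [1209])],
    [(907, [908]), (908, [907]), (920, [1601]), (927, [1437, 7]), (934, [2136, 7]), (959, [796])],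
    [(966, [2222, 7]), (973, [2136]), (993, [2222]), (996, [2765]), (1008, [1151]), (1017, [1507])],
    [(1027, [1372]), (1040, [1093]), (1058, [1337]), (1064, [608]), (1069, [1768])],
    [(1093, [1040]), (1094, [1117]), (1117, [1094]), (1129, [705]), (1151, [1008])],
    [(1158, [1638]), (1184, [1437]), (1188, [1769, 7]), (1201, [388, 7]), (1209, [891])],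
    [(1249, [590]), (1259, [798]), (1260, [2059]), (1271, [578, 7])],
    [(1282, [2092]), (1297, [529]), (1306, [2108, 7]), (1331, [2056]), (1337, [1058])],
    [(1352, [1353]), (1353, [1352]), (1366, [1960]), (1367, [2022]), (1371, [1728, 7]), (1372, [1027]), (1395, [759]), (1400, [1401]), (1401, [1400])],
    [(1418, [757]), (1437, [1184]), (1459, [574, 7])],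
    [(1489, [2719]), (1507, [1017])],
    [(1563, [628]), (1571, [2407, 7]), (1572, [2234]), (1584, [73, 7])],
    [(1601, [920]), (1626, [2472]), (1638, [1158]), (1639, [3132, 7]), (1652, [3336]), (1660, [2252, 7])],
    [(1674, [629]), (1675, [1676]), (1676, [1675]), (1680, [1681]), (1681, [1680]), (1682, [1683]), (1683, [1682]), (1693, [3399]), (1705, [1926])],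
    [(1728, [764]), (1740, [2344]), (1755, [2157]), (1765, [1766]), (1766, [1765]), (1768, [1069]), (1769, [2116]), (1770, [1771]), (1771, [1770]), (1783, [2805])],
    [(1800, [2809]), (1807, [721, 7]), (1808, [3282, 7]), (1818, [2942]), (1836, [3235]), (1845, [529, 7])],
    [(1868, [2379]), (1873, [2540]), (1882, [789]), (1892, [2855]), (1905, [3333])],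
    [(1922, [1993]), (1926, [1705]), (1930, [2157, 7]), (1960, [1366]), (1961, [1962]), (1962, [1961]), (1965, [209, 7])],
    [(1993, [1922]), (2013, [721]), (2022, [1367])],
    [(2056, [1331]), (2059, [1260]), (2071, [832]), (2092, [1282]), (2094, [2901]), (2107, [2108]), (2108, [2107])],
    [(2116, [1769]), (2133, [2187]), (2136, [973]), (2157, [1755]), (2165, [2715])],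
    [(2187, [2133]), (2222, [993]), (2229, [589]), (2234, [1572])],
    [(2252, [2286]), (2262, [788]), (2269, [3255, 7]), (2276, [2277]), (2277, [2276]), (2286, [2252]), (2291, [2292]), (2292, [2291])],
    [(2330, [2331]), (2331, [2330]), (2344, [1740]), (2353, [3394]), (2356, [3052])],
    [(2379, [1868]), (2407, [2469]), (2408, [1572, 7])],
    [(2440, [1129, 7]), (2450, [2810, 7]), (2469, [2407]), (2472, [1626])],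
    [(2500, [3399, 7]), (2504, [2505]), (2505, [2504]), (2518, [2519]), (2519, [2518]), (2522, [3191]), (2528, [3016]), (2530, [2531]), (2531, [2530]), (2540, [1873]), (2541, [3481])],
    [],
    [],
    [(2715, [2165]), (2719, [1489]), (2736, [2737]), (2737, [2736]), (2749, [2778]), (2751, [2810])],
    [(2765, [996]), (2778, [2749]), (2790, [2791]), (2791, [2790]), (2805, [1783]), (2809, [1800]), (2810, [2751]), (2812, [2813]), (2813, [2812])],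
    [(2840, [2981]), (2848, [2891]), (2855, [1892]), (2876, [2840, 7]), (2877, [3427])],
    [(2889, [2890]), (2890, [2889]), (2891, [2848]), (2901, [2094]), (2903, [2904]), (2904, [2903]), (2907, [2992, 7]), (2926, [2970]), (2932, [1836, 7]), (2941, [3069]), (2942, [1818])],
    [(2953, [1783, 7]), (2957, [3487]), (2970, [2926]), (2978, [2979]), (2979, [2978]), (2981, [2840]), (2982, [3148]), (2991, [2992]), (2992, [2991])],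
    [(3012, [2530, 7]), (3016, [2528]), (3031, [3050, 7]), (3032, [3325]), (3049, [3050]), (3050, [3049]), (3052, [2356]), (3053, [3054]), (3054, [3053]), (3069, [2941])],
    [(3076, [3077]), (3077, [3076]), (3092, [3203, 7]), (3104, [3440]), (3112, [2165, 7]), (3132, [3133]), (3133, [3132]), (3135, [3136])],
    [(3136, [3135]), (3137, [3371, 7]), (3148, [2982]), (3187, [3188]), (3188, [3187]), (3190, [2276, 7]), (3191, [2522])],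
    [(3203, [3204]), (3204, [3203]), (3229, [3291]), (3235, [1836]), (3247, [3248]), (3248, [3247]), (3254, [3255]), (3255, [3254])],
    [(3274, [3275]), (3275, [3274]), (3282, [3283]), (3283, [3282]), (3291, [3229]), (3292, [2812, 7]), (3293, [3324]), (3294, [3295]), (3295, [3294]), (3298, [3404]), (3324, [3293]), (3325, [3032]), (3326, [3327]), (3327, [3326])],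
    [(3333, [1905]), (3336, [1652]), (3339, [3340]), (3340, [3339]), (3346, [2379, 7]), (3371, [3411])],
    [(3392, [3393]), (3393, [3392]), (3394, [2353]), (3399, [1693]), (3400, [1818, 7]), (3404, [3298]), (3411, [3371]), (3417, [3449]), (3427, [2877]), (3440, [3104]), (3441, [3446]), (3442, [3443]), (3443, [3442]), (3445, [2353, 7]), (3446, [3441]), (3449, [3417]), (3452, [3461])],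
    [(3461, [3452]), (3474, [3404, 7]), (3481, [2541]), (3487, [2957]), (3494, [3295, 7]), (3500, [1905, 7]), (3503, [2890, 7]), (3505, [2528, 7]), (3509, [3136, 7])]]⟩,
  ⟨68, [
    [],
    [(68, []), (71, [934, 370]), (72, [2450, 212]), (82, [927, 212])],
    [(146, [2440, 370]), (159, [3500, 1639])],
    [(210, [2876, 795]), (212, [272]), (240, [1660, 370])],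
    [(264, [2907, 370]), (272, [212])],
    [(370, [1201])],
    [],
    [],
    [(528, [2876, 212]), (540, [3190, 212])],
    [],
    [(662, [3092, 212]), (684, [3503, 795])],
    [],
    [(779, [3346, 212]), (795, [831]), (804, [1808, 370]), (831, [795])],
    [],
    [(927, [1459]), (934, [1271])],
    [(966, [1807])],
    [],
    [],
    [(1188, [2440]), (1201, [370])],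
    [(1271, [934])],
    [(1306, [2450])],
    [(1371, [2932, 212])],
    [(1459, [927])],
    [],
    [(1571, [3500, 212]), (1584, [966, 212])],
    [(1639, [2876]), (1660, [2953])],
    [],
    [],
    [(1807, [966]), (1808, [3346]), (1845, [3500, 795])],
    [],
    [(1930, [2953, 212]), (1965, [3092, 795])],
    [],
    [],
    [],
    [],
    [(2269, [831, 212])],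
    [],
    [(2408, [3503, 212])],
    [(2440, [1188]), (2450, [1306])],
    [(2500, [1188, 212])],
    [],
    [],
    [],
    [],
    [(2876, [1639])],
    [(2907, [2932]), (2932, [2907])],
    [(2953, [1660])],
    [(3012, [966, 934]), (3031, [1271, 212])],
    [(3092, [3474]), (3112, [3400, 370])],
    [(3137, [370, 212]), (3190, [3400])],
    [],
    [(3292, [3503])],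
    [(3346, [1808])],
    [(3400, [3190]), (3445, [1306, 370])],
    [(3474, [3092]), (3494, [1807, 370]), (3500, [3505]), (3503, [3292]), (3505, [3500]), (3509, [2450, 934])]]⟩,
  ⟨212, [
    [],
    [],
    [],
    [(212, [])],
    [(272, [68])],
    [(370, [3137, 68])],
    [],
    [],
    [],
    [],
    [],
    [],
    [(795, [2269]), (831, [2269, 68])],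
    [],
    [(927, [82, 68]), (934, [3031])],
    [(966, [1584, 68])],
    [],
    [],
    [(1188, [2500, 68]), (1201, [3137])],
    [(1271, [3031, 68])],
    [(1306, [72])],
    [],
    [(1459, [82])],
    [],
    [],
    [(1639, [528]), (1660, [1930])],
    [],
    [],
    [(1807, [1584]), (1808, [779])],
    [],
    [],
    [],
    [],
    [],
    [],
    [],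
    [],
    [],
    [(2440, [2500]), (2450, [72, 68])],
    [],
    [],
    [],
    [],
    [],
    [(2876, [528, 68])],
    [(2907, [1371]), (2932, [1371, 68])],
    [(2953, [1930, 68])],
    [],
    [(3092, [662, 68])],
    [(3190, [540, 68])],
    [],
    [(3292, [2408])],
    [(3346, [779, 68])],
    [(3400, [540])],
    [(3474, [662]), (3500, [1571, 68]), (3503, [2408, 68]), (3505, [1571])]]⟩,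
  ⟨260, [
    [],
    [],
    [],
    [],
    [(260, []), (261, [10])],
    [(331, [3509, 10]), (332, [3509])],
    [],
    [],
    [],
    [],
    [],
    [],
    [],
    [],
    [(920, [3012])],
    [(996, [159])],
    [(1069, [3445, 10])],
    [],
    [],
    [],
    [(1331, [3494])],
    [],
    [],
    [],
    [],
    [(1601, [3012, 10])],
    [(1705, [804])],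
    [(1768, [3445])],
    [],
    [],
    [(1926, [804, 10])],
    [],
    [(2056, [3494, 10])],
    [],
    [],
    [],
    [],
    [],
    [],
    [],
    [],
    [],
    [],
    [(2765, [159, 10])],
    [],
    [(2903, [684]), (2904, [684, 10])],
    [(2982, [1845])],
    [(3053, [3112]), (3054, [3112, 10])],
    [],
    [(3148, [1845, 10])],
    [],
    [],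
    [],
    [],
    []]⟩,
  ⟨82, [
    [],
    [(82, [])],
    [],
    [],
    [],
    [],
    [],
    [],
    [(528, [1965])],
    [],
    [(662, [210])],
    [],
    [],
    [],
    [],
    [],
    [],
    [],
    [],
    [],
    [],
    [(1371, [240])],
    [],
    [],
    [],
    [],
    [],
    [],
    [],
    [],
    [(1930, [264])],
    [],
    [],
    [],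
    [],
    [(2269, [1965, 210])],
    [],
    [],
    [],
    [(2500, [1965, 264])],
    [],
    [],
    [],
    [],
    [],
    [],
    [],
    [(3031, [240, 210])],
    [],
    [(3137, [264, 240])],
    [],
    [],
    [],
    [],
    []]⟩,
  ⟨210, [
    [],
    [],
    [],
    [(210, []), (240, [2353, 3295, 1765, 7])],
    [(264, [71])],
    [],
    [],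
    [],
    [],
    [],
    [],
    [],
    [],
    [],
    [],
    [],
    [],
    [],
    [],
    [],
    [],
    [],
    [],
    [],
    [],
    [],
    [],
    [],
    [],
    [],
    [(1965, [3012, 3509, 159, 10])],
    [],
    [],
    [],
    [],
    [],
    [],
    [],
    [],
    [],
    [],
    [],
    [],
    [],
    [],
    [],
    [],
    [],
    [],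
    [],
    [],
    [],
    [],
    [],
    []]⟩,
  ⟨240, [
    [],
    [],
    [],
    [(240, [])],
    [],
    [],
    [],
    [],
    [],
    [],
    [],
    [],
    [],
    [],
    [],
    [],
    [],
    [],
    [],
    [],
    [],
    [],
    [],
    [],
    [],
    [],
    [],
    [],
    [],
    [],
    [(1965, [146])],
    [],
    [],
    [],
    [],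
    [],
    [],
    [],
    [],
    [],
    [],
    [],
    [],
    [],
    [],
    [],
    [],
    [],
    [],
    [],
    [],
    [],
    [],
    [],
    []]⟩]
  tail := [(1965, [1965]), (0, [0, 256, 2940, 3070]), (256, [0, 256, 2940, 3070]), (14, [14, 92, 143, 215, 2501, 3332]), (215, [14, 92, 143, 215, 2501, 3332]), (12, [11, 12, 25, 47, 67, 154, 228, 229, 258, 259, 273, 280, 378, 690, 896, 900, 938, 942, 1118, 1185, 1186, 1187, 1720, 1840, 1854, 1855, 1891, 1917, 1929, 2057, 2264, 2265, 2266, 2302, 2326, 2420, 2426, 2433, 2434, 2435, 2468, 2475, 2476, 2539, 2578, 2604, 2683, 2723, 2742, 2870, 2920, 2964, 2974, 2975, 2976, 3159, 3160, 3458]), (154, [11, 12, 25, 47, 67, 154, 228, 229, 258, 259, 273, 280, 378,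 690, 896, 900, 938, 942, 1118, 1185, 1186, 1187, 1720, 1840, 1854, 1855, 1891, 1917, 1929, 2057, 2264, 2265, 2266, 2302, 2326, 2420, 2426, 2433, 2434, 2435, 2468, 2475, 2476, 2539, 2578, 2604, 2683, 2723, 2742, 2870, 2920, 2964, 2974, 2975, 2976, 3159, 3160, 3458]), (243, [7, 9, 64, 73, 74, 98, 144, 147, 150, 156, 157, 194, 195, 200, 204, 206, 209, 232, 235, 236, 237, 238, 239, 241, 242, 243, 244, 253, 269, 281, 311, 321, 388, 417, 418, 469, 470, 490, 498, 512, 529, 551, 553, 574, 578, 579, 589, 590, 608, 628, 629, 631, 634, 685, 688, 705, 721, 757, 759, 764, 773, 789, 796, 798, 832, 891, 907, 908, 959, 973, 993, 1008, 1017, 1027, 1040, 1058, 1064, 1093, 1094, 1117, 1129, 1151, 1158, 1184, 1209, 1249, 1259, 1260,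 1282, 1297, 1337, 1366, 1372, 1395, 1400, 1401, 1418, 1437, 1489, 1507, 1563, 1572, 1626, 1638, 1652, 1674, 1682, 1683, 1693, 1728, 1740, 1755, 1765, 1766, 1769, 1770, 1771, 1783, 1818, 1836, 1868, 1882, 1905, 1922, 1960, 1961, 1962, 1993, 2013, 2059, 2071, 2092, 2094, 2107, 2108, 2116, 2133, 2136, 2157, 2165, 2187, 2222, 2229, 2234, 2252, 2276, 2277, 2286, 2291, 2292, 2344, 2353, 2356, 2379, 2407, 2469, 2472, 2518, 2519, 2522, 2528, 2530, 2531, 2715, 2719, 2751, 2790, 2791, 2805, 2810, 2812, 2813, 2840, 2877, 2889, 2890, 2901, 2926, 2942, 2957, 2970, 2978, 2979, 2981, 2991, 2992, 3016, 3032, 3049, 3050, 3052, 3076, 3077, 3104, 3132, 3133, 3135, 3136, 3191, 3203, 3204, 3235, 3247, 3248, 3254, 3255, 3274, 3275,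 3282, 3283, 3293, 3294, 3295, 3298, 3324, 3325, 3326, 3327, 3333, 3336, 3339, 3340, 3371, 3392, 3393, 3394, 3399, 3404, 3411, 3417, 3427, 3440, 3441, 3442, 3443, 3446, 3449, 3452, 3461, 3487])]
  refs := [([4, 2], 260, 212), ([7, 8, 3, 7, 3], 260, 240), ([5, 1], 210, 212)]

/-- The certificate of number 2. -/
def dat2 : CData where
  tau := [9, 3, 8]
  outs := [[]]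
  pts := [
    (0, []),
    (7, [7, 4, 3, 1, 2, 0, 1]),
    (10, [2, 3, 1, 2, 0, 1]),
    (11, [3, 1, 2, 0, 1]),
    (12, [1, 2, 0, 1]),
    (14, [0, 1]),
    (64, [7, 5, 4, 3, 2, 0, 1]),
    (67, [4, 2, 3, 1, 2, 0, 1]),
    (68, [4, 3, 1, 2, 0, 1]),
    (71, [5, 4, 3, 2, 0, 1]),
    (72, [6, 5, 4, 3, 2, 1]),
    (116, [5, 4, 1, 2, 3, 7, 8, 7, 3, 4, 1, 2, 3, 7, 5, 4, 3, 2, 1]),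
    (119, [7, 3, 4, 1, 2, 3, 7, 8, 2, 3, 4, 1, 2, 3, 7, 5, 4, 3, 2, 1]),
    (126, [5, 3, 4, 1, 2, 3, 7, 8, 3, 4, 1, 2, 3, 7, 5, 4, 3, 2, 1]),
    (150, [4, 2, 3, 7, 5, 4, 3, 2, 0, 1]),
    (154, [3, 4, 2, 3, 1, 2, 0, 1]),
    (158, [7, 5, 3, 4, 2, 3, 7, 6, 5, 4, 3, 2, 1]),
    (173, [5, 4, 1, 2, 3, 7, 8, 7, 3, 4, 2, 3, 7, 5, 4, 3, 2, 1]),
    (199, [7, 3, 4, 1, 2, 3, 7, 6, 5, 4, 3, 2, 1]),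
    (206, [8, 3, 7, 5, 4, 3, 2, 0, 1]),
    (209, [8, 3, 7, 4, 3, 1, 2, 0, 1]),
    (210, [7, 8, 3, 7, 4, 3, 1, 2, 0, 1]),
    (211, [7, 8, 3, 7, 4, 3, 2, 0, 1]),
    (212, [7, 8, 3, 7, 5, 4, 3, 2, 0, 1]),
    (215, [4, 5, 3, 4, 2, 3, 1, 2, 0, 1]),
    (228, [4, 3, 7, 8, 2, 3, 7, 5, 4, 3, 2, 0, 1]),
    (229, [4, 3, 7, 8, 4, 2, 3, 7, 5, 4, 3, 2, 0, 1]),
    (233, [4, 1, 2, 3, 7, 8, 7, 3, 4, 2, 3, 7, 5, 4, 3, 2, 0, 1]),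
    (234, [5, 4, 2, 3, 7, 8, 3, 4, 2, 3, 7, 5, 4, 3, 2, 0, 1]),
    (235, [4, 2, 3, 7, 8, 3, 4, 2, 3, 7, 5, 4, 3, 2, 0, 1]),
    (237, [3, 4, 2, 3, 7, 8, 7, 3, 4, 2, 3, 7, 5, 4, 3, 2, 0, 1]),
    (238, [3, 7, 8, 7, 3, 4, 2, 3, 7, 5, 4, 3, 2, 0, 1]),
    (241, [8, 3, 4, 2, 3, 7, 5, 4, 3, 2, 0, 1]),
    (243, [3, 7, 2, 3, 1, 2, 0, 1]),
    (244, [8, 7, 2, 3, 1, 2, 0, 1]),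
    (256, [5, 6, 4, 5, 3, 4, 2, 3, 1, 2, 0, 1]),
    (257, [7, 8, 3, 7, 5, 4, 3, 1, 2, 0, 1]),
    (258, [7, 8, 4, 3, 7, 5, 4, 3, 2, 0, 1]),
    (259, [3, 7, 8, 4, 3, 7, 5, 4, 3, 2, 0, 1]),
    (264, [5, 4, 1, 2, 3, 7, 8, 4, 2, 3, 7, 5, 4, 3, 2, 0, 1]),
    (266, [4, 1, 2, 3, 7, 8, 3, 4, 2, 3, 7, 5, 4, 3, 2, 0, 1]),
    (269, [7, 8, 3, 4, 2, 3, 7, 5, 4, 3, 2, 0, 1]),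
    (272, [4, 2, 3, 7, 8, 4, 2, 3, 7, 5, 4, 3, 2, 0, 1]),
    (273, [3, 7, 8, 2, 3, 7, 5, 4, 3, 2, 0, 1]),
    (277, [7, 3, 4, 2, 3, 7, 6, 5, 4, 3, 2, 0, 1]),
    (280, [7, 8, 2, 3, 7, 5, 4, 3, 2, 0, 1]),
    (295, [5, 3, 4, 2, 3, 7, 8, 4, 1, 2, 3, 7, 5, 4, 3, 2, 1]),
    (297, [4, 5, 3, 4, 1, 2, 3, 7, 8, 2, 3, 4, 1, 2, 3, 7, 5, 4, 3, 2, 1]),
    (303, [3, 4, 2, 3, 7, 8, 3, 4, 2, 3, 7, 5, 4, 3, 2, 1]),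
    (338, [6, 5, 4, 2, 3, 7, 8, 3, 4, 1, 2, 3, 7, 6, 5, 4, 3, 2, 1]),
    (363, [2, 3, 7, 8, 1, 2, 3, 7, 4, 3, 2, 1]),
    (370, [7, 8, 3, 7, 6, 5, 4, 3, 2, 1]),
    (371, [1, 2, 3, 7, 8, 4, 3, 7, 5, 4, 3, 2, 1]),
    (376, [3, 4, 0, 1, 2, 3, 7, 8, 2, 3, 4, 1, 2, 3, 7, 5, 4, 3, 2, 1]),
    (401, [3, 4, 0, 1, 2, 3, 7, 8, 7, 5, 2, 3, 4, 1, 2, 3, 7, 6, 5, 4, 3, 2, 1]),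
    (430, [5, 3, 4, 2, 3, 7, 8, 1, 2, 3, 7, 4, 3, 2, 1]),
    (433, [4, 1, 2, 3, 7, 8, 4, 1, 2, 3, 7, 5, 4, 3, 2, 1]),
    (434, [0, 1, 2, 3, 7, 8, 3, 4, 1, 2, 3, 7, 5, 4, 3, 2, 1]),
    (435, [0, 1, 2, 3, 7, 8, 7, 2, 3, 4, 1, 2, 3, 7, 5, 4, 3, 2, 1]),
    (437, [0, 1, 2, 3, 7, 8, 7, 3, 4, 2, 3, 7, 5, 4, 3, 2, 1]),
    (464, [3, 7, 2, 3, 4, 0, 1, 2, 3, 7, 8, 4, 5, 3, 4, 1, 2, 3, 7, 6, 5, 4, 3, 2, 1]),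
    (474, [1, 2, 3, 7, 8, 3, 4, 2, 3, 7, 6, 5, 4, 3, 2, 1]),
    (486, [4, 3, 7, 8, 3, 7, 5, 2, 3, 4, 1, 2, 3, 7, 6, 5, 4, 3, 2, 1]),
    (505, [7, 2, 3, 4, 1, 2, 3, 7, 8, 3, 4, 1, 2, 3, 7, 6, 5, 4, 3, 2, 1]),
    (518, [8, 7, 3, 4, 2, 3, 7, 5, 4, 3, 2, 1]),
    (540, [6, 5, 4, 0, 1, 2, 3, 7, 8, 4, 2, 3, 7, 5, 4, 3, 2, 0, 1]),
    (562, [4, 5, 3, 4, 2, 3, 7, 8, 1, 2, 3, 7, 6, 5, 4, 3, 2, 1]),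
    (574, [3, 7, 3, 4, 5, 2, 3, 4, 1, 2, 3, 7, 8, 7, 4, 5, 2, 3, 4, 1, 2, 3, 7, 6, 5, 4, 3, 2, 1]),
    (577, [2, 3, 7, 4, 5, 2, 3, 4, 1, 2, 3, 7, 8, 5, 3, 4, 1, 2, 3, 7, 6, 5, 4, 3, 2, 1]),
    (578, [3, 7, 4, 5, 2, 3, 4, 1, 2, 3, 7, 8, 5, 3, 4, 1, 2, 3, 7, 6, 5, 4, 3, 2, 1]),
    (602, [2, 3, 7, 8, 3, 7, 2, 3, 4, 1, 2, 3, 7, 6, 5, 4, 3, 2, 1]),
    (612, [5, 4, 3, 7, 8, 3, 7, 4, 5, 3, 4, 1, 2, 3, 7, 6, 5, 4, 3, 2, 1]),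
    (635, [8, 7, 3, 4, 1, 2, 3, 7, 6, 5, 4, 3, 2, 1]),
    (636, [5, 4, 2, 3, 7, 8, 7, 3, 4, 2, 3, 7, 5, 4, 3, 2, 0, 1]),
    (646, [8, 7, 3, 4, 2, 3, 7, 8, 7, 3, 4, 1, 2, 3, 7, 6, 5, 4, 3, 2, 1]),
    (667, [6, 5, 3, 4, 1, 2, 3, 7, 8, 7, 4, 5, 3, 4, 1, 2, 3, 7, 6, 5, 4, 3, 2, 1]),
    (690, [2, 3, 7, 8, 4, 2, 3, 7, 5, 4, 3, 2, 0, 1]),
    (692, [6, 5, 4, 2, 3, 7, 8, 7, 3, 4, 2, 3, 7, 5, 4, 3, 2, 1]),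
    (695, [2, 3, 4, 0, 1, 2, 3, 7, 8, 3, 4, 1, 2, 3, 7, 6, 5, 4, 3, 2, 1]),
    (696, [2, 3, 4, 0, 1, 2, 3, 7, 8, 2, 3, 4, 1, 2, 3, 7, 6, 5, 4, 3, 2, 1]),
    (697, [5, 2, 3, 4, 0, 1, 2, 3, 7, 8, 2, 3, 4, 1, 2, 3, 7, 6, 5, 4, 3, 2, 1]),
    (739, [5, 4, 3, 7, 8, 7, 3, 4, 2, 3, 7, 6, 5, 4, 3, 2, 1]),
    (755, [7, 6, 4, 5, 1, 2, 3, 4, 0, 1, 2, 3, 7, 8, 4, 5, 2, 3, 4, 1, 2, 3, 7, 6, 5, 4, 3, 2, 1]),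
    (756, [6, 4, 5, 1, 2, 3, 4, 0, 1, 2, 3, 7, 8, 4, 5, 2, 3, 4, 1, 2, 3, 7, 6, 5, 4, 3, 2, 1]),
    (759, [6, 5, 3, 4, 0, 1, 2, 3, 7, 8, 4, 5, 2, 3, 4, 1, 2, 3, 7, 6, 5, 4, 3, 2, 1]),
    (775, [1, 2, 3, 7, 8, 7, 3, 4, 2, 3, 7, 6, 5, 4, 3, 2, 1]),
    (780, [8, 7, 5, 3, 4, 2, 3, 7, 6, 5, 4, 3, 2, 1]),
    (788, [3, 4, 2, 3, 7, 8, 5, 4, 1, 2, 3, 7, 6, 5, 4, 3, 2, 1]),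
    (798, [0, 1, 2, 3, 7, 4, 5, 3, 4, 1, 2, 3, 7, 8, 3, 4, 1, 2, 3, 7, 6, 5, 4, 3, 2, 1]),
    (799, [0, 1, 2, 3, 7, 4, 5, 3, 4, 1, 2, 3, 7, 8, 2, 3, 4, 1, 2, 3, 7, 6, 5, 4, 3, 2, 1]),
    (804, [4, 3, 7, 3, 4, 5, 2, 3, 4, 0, 1, 2, 3, 7, 8, 4, 5, 2, 3, 4, 1, 2, 3, 7, 6, 5, 4, 3, 2, 1]),
    (831, [6, 5, 4, 2, 3, 7, 4, 5, 2, 3, 4, 1, 2, 3, 7, 8, 5, 2, 3, 4, 1, 2, 3, 7, 6, 5, 4, 3, 2, 1]),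
    (836, [5, 4, 3, 7, 2, 3, 4, 1, 2, 3, 7, 8, 5, 3, 4, 1, 2, 3, 7, 6, 5, 4, 3, 2, 1]),
    (852, [1, 2, 3, 7, 8, 3, 7, 5, 2, 3, 4, 1, 2, 3, 7, 6, 5, 4, 3, 2, 1]),
    (866, [4, 5, 2, 3, 4, 0, 1, 2, 3, 7, 8, 2, 3, 4, 1, 2, 3, 7, 6, 5, 4, 3, 2, 1]),
    (878, [6, 5, 4, 3, 7, 5, 2, 3, 4, 1, 2, 3, 7, 8, 5, 2, 3, 4, 1, 2, 3, 7, 6, 5, 4, 3, 2, 1]),
    (889, [3, 7, 5, 2, 3, 4, 1, 2, 3, 7, 8, 5, 4, 1, 2, 3, 7, 6, 5, 4, 3, 2, 1]),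
    (926, [2, 3, 7, 3, 4, 5, 2, 3, 4, 0, 1, 2, 3, 7, 8, 4, 5, 3, 4, 1, 2, 3, 7, 6, 5, 4, 3, 2, 1]),
    (934, [4, 5, 2, 3, 4, 1, 2, 3, 7, 8, 5, 4, 1, 2, 3, 7, 6, 5, 4, 3, 2, 1]),
    (940, [7, 3, 4, 1, 2, 3, 7, 8, 2, 3, 4, 1, 2, 3, 7, 6, 5, 4, 3, 2, 1]),
    (953, [7, 3, 4, 2, 3, 7, 8, 5, 4, 3, 7, 6, 5, 4, 3, 2, 1]),
    (954, [7, 3, 4, 1, 2, 3, 7, 8, 5, 4, 3, 7, 6, 5, 4, 3, 2, 1]),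
    (959, [0, 1, 2, 3, 7, 4, 5, 3, 4, 2, 3, 7, 8, 1, 2, 3, 7, 6, 5, 4, 3, 2, 1]),
    (964, [5, 4, 3, 7, 6, 4, 5, 2, 3, 4, 1, 2, 3, 7, 8, 5, 3, 4, 1, 2, 3, 7, 6, 5, 4, 3, 2, 1]),
    (987, [6, 5, 4, 3, 7, 8, 2, 3, 4, 1, 2, 3, 7, 6, 5, 4, 3, 2, 1]),
    (1006, [7, 3, 4, 1, 2, 3, 7, 8, 7, 3, 4, 1, 2, 3, 7, 6, 5, 4, 3, 2, 1]),
    (1007, [4, 1, 2, 3, 7, 8, 7, 3, 4, 2, 3, 7, 6, 5, 4, 3, 2, 1]),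
    (1009, [6, 5, 4, 1, 2, 3, 7, 8, 7, 3, 4, 2, 3, 7, 6, 5, 4, 3, 2, 1]),
    (1020, [5, 4, 3, 7, 4, 5, 2, 3, 4, 1, 2, 3, 7, 8, 5, 2, 3, 4, 1, 2, 3, 7, 6, 5, 4, 3, 2, 1]),
    (1026, [3, 7, 5, 2, 3, 4, 1, 2, 3, 7, 8, 3, 4, 5, 2, 3, 4, 1, 2, 3, 7, 6, 5, 4, 3, 2, 1]),
    (1032, [5, 6, 4, 5, 2, 3, 4, 1, 2, 3, 7, 8, 4, 5, 3, 4, 1, 2, 3, 7, 6, 5, 4, 3, 2, 1]),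
    (1035, [7, 5, 3, 4, 1, 2, 3, 7, 8, 7, 3, 4, 1, 2, 3, 7, 6, 5, 4, 3, 2, 1]),
    (1061, [7, 6, 5, 2, 3, 4, 1, 2, 3, 7, 8, 7, 4, 5, 3, 4, 1, 2, 3, 7, 6, 5, 4, 3, 2, 1]),
    (1084, [7, 5, 3, 4, 2, 3, 7, 8, 7, 5, 3, 4, 1, 2, 3, 7, 6, 5, 4, 3, 2, 1]),
    (1091, [4, 2, 3, 7, 8, 7, 3, 4, 2, 3, 7, 6, 5, 4, 3, 2, 0, 1]),
    (1099, [4, 3, 7, 8, 5, 4, 3, 7, 6, 5, 4, 3, 2, 1]),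
    (1101, [6, 5, 4, 2, 3, 7, 8, 3, 4, 2, 3, 7, 5, 4, 3, 2, 1]),
    (1114, [4, 0, 1, 2, 3, 7, 8, 3, 4, 2, 3, 7, 6, 5, 4, 3, 2, 0, 1]),
    (1118, [2, 3, 7, 8, 4, 3, 7, 5, 4, 3, 2, 0, 1]),
    (1124, [6, 5, 3, 4, 2, 3, 7, 8, 3, 4, 2, 3, 7, 5, 4, 3, 2, 1]),
    (1160, [1, 2, 3, 7, 4, 5, 3, 4, 2, 3, 7, 8, 5, 4, 1, 2, 3, 7, 6, 5, 4, 3, 2, 1]),
    (1168, [2, 3, 4, 1, 2, 3, 7, 8, 5, 4, 3, 7, 6, 5, 4, 3, 2, 1]),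
    (1176, [5, 3, 4, 2, 3, 7, 8, 3, 4, 2, 3, 7, 6, 5, 4, 3, 2, 1]),
    (1183, [3, 4, 5, 2, 3, 4, 1, 2, 3, 7, 8, 7, 4, 5, 3, 4, 1, 2, 3, 7, 6, 5, 4, 3, 2, 1]),
    (1197, [7, 5, 3, 4, 0, 1, 2, 3, 7, 8, 4, 5, 3, 4, 2, 3, 7, 6, 5, 4, 3, 2, 1]),
    (1198, [6, 4, 5, 3, 4, 2, 3, 7, 8, 4, 5, 3, 4, 2, 3, 7, 6, 5, 4, 3, 2, 1]),
    (1200, [5, 4, 0, 1, 2, 3, 7, 8, 7, 3, 4, 2, 3, 7, 6, 5, 4, 3, 2, 1]),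
    (1201, [4, 2, 3, 7, 8, 4, 2, 3, 7, 6, 5, 4, 3, 2, 1]),
    (1209, [3, 7, 4, 5, 2, 3, 4, 1, 2, 3, 7, 8, 5, 4, 1, 2, 3, 7, 6, 5, 4, 3, 2, 1]),
    (1211, [5, 4, 3, 7, 4, 5, 2, 3, 4, 1, 2, 3, 7, 8, 5, 4, 1, 2, 3, 7, 6, 5, 4, 3, 2, 1]),
    (1223, [6, 5, 4, 1, 2, 3, 7, 8, 3, 4, 2, 3, 7, 6, 5, 4, 3, 2, 1]),
    (1238, [5, 4, 3, 7, 4, 5, 2, 3, 4, 1, 2, 3, 7, 8, 4, 5, 3, 4, 1, 2, 3, 7, 6, 5, 4, 3, 2, 1]),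
    (1253, [7, 4, 5, 3, 4, 2, 3, 7, 8, 5, 3, 4, 2, 3, 7, 6, 5, 4, 3, 2, 1]),
    (1258, [5, 4, 3, 7, 4, 5, 2, 3, 4, 1, 2, 3, 7, 8, 5, 3, 4, 2, 3, 7, 6, 5, 4, 3, 2, 1]),
    (1261, [7, 5, 6, 4, 5, 2, 3, 4, 0, 1, 2, 3, 7, 8, 4, 5, 2, 3, 4, 1, 2, 3, 7, 6, 5, 4, 3, 2, 1]),
    (1271, [5, 4, 1, 2, 3, 7, 8, 4, 2, 3, 7, 6, 5, 4, 3, 2, 1]),
    (1279, [5, 4, 3, 7, 2, 3, 4, 1, 2, 3, 7, 8, 5, 4, 2, 3, 7, 6, 5, 4, 3, 2, 1]),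
    (1282, [5, 4, 3, 7, 6, 5, 2, 3, 4, 1, 2, 3, 7, 8, 5, 2, 3, 4, 1, 2, 3, 7, 6, 5, 4, 3, 2, 1]),
    (1283, [7, 5, 3, 4, 0, 1, 2, 3, 7, 8, 4, 5, 3, 4, 1, 2, 3, 7, 6, 5, 4, 3, 2, 1]),
    (1284, [7, 3, 4, 0, 1, 2, 3, 7, 8, 4, 5, 3, 4, 1, 2, 3, 7, 6, 5, 4, 3, 2, 1]),
    (1292, [5, 4, 0, 1, 2, 3, 7, 8, 3, 4, 2, 3, 7, 6, 5, 4, 3, 2, 1]),
    (1306, [6, 5, 4, 0, 1, 2, 3, 7, 8, 4, 2, 3, 7, 6, 5, 4, 3, 2, 1]),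
    (1316, [5, 4, 0, 1, 2, 3, 7, 8, 5, 2, 3, 4, 1, 2, 3, 7, 6, 5, 4, 3, 2, 1]),
    (1344, [7, 3, 4, 2, 3, 7, 8, 7, 3, 4, 1, 2, 3, 7, 6, 5, 4, 3, 2, 1]),
    (1350, [5, 4, 0, 1, 2, 3, 7, 8, 5, 3, 4, 2, 3, 7, 6, 5, 4, 3, 2, 0, 1]),
    (1363, [3, 7, 4, 5, 3, 4, 2, 3, 7, 8, 3, 4, 5, 2, 3, 4, 1, 2, 3, 7, 6, 5, 4, 3, 2, 1]),
    (1371, [4, 5, 3, 4, 0, 1, 2, 3, 7, 8, 3, 4, 5, 2, 3, 4, 1, 2, 3, 7, 6, 5, 4, 3, 2, 1]),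
    (1375, [7, 6, 4, 5, 3, 4, 1, 2, 3, 7, 8, 4, 5, 2, 3, 4, 1, 2, 3, 7, 6, 5, 4, 3, 2, 1]),
    (1380, [7, 5, 3, 4, 2, 3, 7, 8, 3, 4, 1, 2, 3, 7, 6, 5, 4, 3, 2, 1]),
    (1390, [7, 1, 2, 3, 4, 0, 1, 2, 3, 7, 8, 4, 5, 2, 3, 4, 1, 2, 3, 7, 6, 5, 4, 3, 2, 1]),
    (1405, [6, 4, 5, 3, 4, 2, 3, 7, 8, 5, 3, 4, 1, 2, 3, 7, 6, 5, 4, 3, 2, 1]),
    (1409, [7, 3, 4, 0, 1, 2, 3, 7, 8, 2, 3, 4, 1, 2, 3, 7, 6, 5, 4, 3, 2, 1]),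
    (1418, [6, 3, 4, 5, 2, 3, 4, 0, 1, 2, 3, 7, 8, 4, 5, 2, 3, 4, 1, 2, 3, 7, 6, 5, 4, 3, 2, 1]),
    (1427, [7, 3, 4, 2, 3, 7, 8, 1, 2, 3, 7, 6, 5, 4, 3, 2, 1]),
    (1460, [2, 3, 7, 4, 5, 3, 4, 2, 3, 7, 8, 4, 1, 2, 3, 7, 6, 5, 4, 3, 2, 1]),
    (1469, [8, 7, 3, 4, 2, 3, 7, 8, 7, 5, 3, 4, 2, 3, 7, 6, 5, 4, 3, 2, 1]),
    (1492, [3, 7, 5, 2, 3, 4, 1, 2, 3, 7, 8, 4, 5, 2, 3, 4, 1, 2, 3, 7, 6, 5, 4, 3, 2, 1]),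
    (1504, [3, 7, 5, 2, 3, 4, 0, 1, 2, 3, 7, 8, 5, 2, 3, 4, 1, 2, 3, 7, 6, 5, 4, 3, 2, 1]),
    (1517, [5, 4, 3, 7, 8, 3, 4, 2, 3, 7, 6, 5, 4, 3, 2, 1]),
    (1547, [7, 6, 5, 3, 4, 2, 3, 7, 8, 5, 2, 3, 4, 1, 2, 3, 7, 6, 5, 4, 3, 2, 1]),
    (1548, [7, 6, 5, 3, 4, 1, 2, 3, 7, 8, 5, 2, 3, 4, 1, 2, 3, 7, 6, 5, 4, 3, 2, 1]),
    (1550, [3, 7, 6, 5, 2, 3, 4, 1, 2, 3, 7, 8, 5, 2, 3, 4, 1, 2, 3, 7, 6, 5, 4, 3, 2, 1]),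
    (1567, [6, 5, 4, 3, 7, 8, 3, 4, 5, 2, 3, 4, 1, 2, 3, 7, 6, 5, 4, 3, 2, 1]),
    (1571, [1, 2, 3, 4, 0, 1, 2, 3, 7, 8, 3, 4, 5, 2, 3, 4, 1, 2, 3, 7, 6, 5, 4, 3, 2, 1]),
    (1572, [7, 1, 2, 3, 4, 0, 1, 2, 3, 7, 8, 3, 4, 5, 2, 3, 4, 1, 2, 3, 7, 6, 5, 4, 3, 2, 1]),
    (1602, [5, 6, 4, 5, 2, 3, 4, 0, 1, 2, 3, 7, 8, 4, 5, 2, 3, 4, 1, 2, 3, 7, 6, 5, 4, 3, 2, 1]),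
    (1603, [0, 1, 2, 3, 7, 4, 5, 3, 4, 0, 1, 2, 3, 7, 8, 3, 4, 1, 2, 3, 7, 6, 5, 4, 3, 2, 1]),
    (1615, [7, 5, 3, 4, 2, 3, 7, 8, 3, 7, 4, 5, 3, 4, 1, 2, 3, 7, 6, 5, 4, 3, 2, 1]),
    (1624, [8, 7, 6, 4, 5, 3, 4, 1, 2, 3, 7, 8, 7, 4, 5, 3, 4, 1, 2, 3, 7, 6, 5, 4, 3, 2, 1]),
    (1637, [4, 1, 2, 3, 7, 8, 7, 4, 5, 2, 3, 4, 1, 2, 3, 7, 6, 5, 4, 3, 2, 1]),
    (1653, [7, 8, 3, 7, 6, 4, 5, 1, 2, 3, 4, 0, 1, 2, 3, 7, 8, 4, 5, 2, 3, 4, 1, 2, 3, 7, 6, 5, 4, 3, 2, 1]),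
    (1654, [7, 8, 6, 5, 4, 3, 7, 4, 5, 2, 3, 4, 1, 2, 3, 7, 8, 4, 5, 3, 4, 1, 2, 3, 7, 6, 5, 4, 3, 2, 1]),
    (1666, [4, 3, 7, 4, 5, 2, 3, 4, 1, 2, 3, 7, 8, 7, 5, 3, 4, 1, 2, 3, 7, 6, 5, 4, 3, 2, 1]),
    (1667, [4, 3, 7, 5, 2, 3, 4, 1, 2, 3, 7, 8, 7, 5, 3, 4, 1, 2, 3, 7, 6, 5, 4, 3, 2, 1]),
    (1668, [3, 7, 5, 2, 3, 4, 1, 2, 3, 7, 8, 7, 5, 3, 4, 1, 2, 3, 7, 6, 5, 4, 3, 2, 1]),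
    (1677, [2, 3, 7, 8, 3, 4, 5, 2, 3, 4, 1, 2, 3, 7, 6, 5, 4, 3, 2, 1]),
    (1694, [2, 3, 7, 8, 4, 2, 3, 7, 4, 5, 2, 3, 4, 1, 2, 3, 7, 8, 5, 2, 3, 4, 1, 2, 3, 7, 6, 5, 4, 3, 2, 1]),
    (1695, [2, 3, 7, 8, 4, 3, 7, 4, 5, 2, 3, 4, 1, 2, 3, 7, 8, 5, 2, 3, 4, 1, 2, 3, 7, 6, 5, 4, 3, 2, 1]),
    (1721, [8, 7, 6, 4, 5, 3, 4, 1, 2, 3, 7, 8, 4, 5, 3, 4, 1, 2, 3, 7, 6, 5, 4, 3, 2, 1]),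
    (1723, [8, 1, 2, 3, 7, 4, 5, 3, 4, 2, 3, 7, 8, 7, 4, 5, 3, 4, 1, 2, 3, 7, 6, 5, 4, 3, 2, 1]),
    (1741, [5, 3, 4, 2, 3, 7, 8, 4, 5, 2, 3, 4, 1, 2, 3, 7, 6, 5, 4, 3, 2, 1]),
    (1746, [8, 7, 3, 4, 1, 2, 3, 7, 8, 3, 4, 5, 2, 3, 4, 1, 2, 3, 7, 6, 5, 4, 3, 2, 1]),
    (1758, [7, 6, 5, 3, 4, 2, 3, 7, 8, 3, 4, 5, 2, 3, 4, 1, 2, 3, 7, 6, 5, 4, 3, 2, 1]),
    (1763, [7, 5, 3, 4, 2, 3, 7, 8, 1, 2, 3, 7, 6, 5, 4, 3, 2, 1]),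
    (1788, [2, 3, 7, 6, 4, 5, 3, 4, 2, 3, 7, 8, 4, 5, 2, 3, 4, 1, 2, 3, 7, 6, 5, 4, 3, 2, 1]),
    (1797, [8, 3, 7, 4, 5, 3, 4, 1, 2, 3, 7, 8, 7, 5, 3, 4, 1, 2, 3, 7, 6, 5, 4, 3, 2, 1]),
    (1798, [3, 7, 4, 5, 3, 4, 1, 2, 3, 7, 8, 7, 5, 3, 4, 1, 2, 3, 7, 6, 5, 4, 3, 2, 1]),
    (1799, [7, 4, 5, 3, 4, 1, 2, 3, 7, 8, 7, 5, 3, 4, 1, 2, 3, 7, 6, 5, 4, 3, 2, 1]),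
    (1809, [8, 7, 5, 2, 3, 4, 1, 2, 3, 7, 8, 7, 5, 3, 4, 1, 2, 3, 7, 6, 5, 4, 3, 2, 1]),
    (1820, [7, 8, 3, 7, 4, 5, 2, 3, 4, 1, 2, 3, 7, 8, 4, 5, 3, 4, 1, 2, 3, 7, 6, 5, 4, 3, 2, 1]),
    (1839, [7, 8, 3, 7, 6, 4, 5, 2, 3, 4, 1, 2, 3, 7, 8, 7, 5, 3, 4, 1, 2, 3, 7, 6, 5, 4, 3, 2, 1]),
    (1840, [8, 2, 3, 7, 4, 5, 2, 3, 4, 1, 2, 3, 7, 8, 7, 5, 3, 4, 1, 2, 3, 7, 6, 5, 4, 3, 2, 1]),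
    (1841, [2, 3, 7, 4, 5, 2, 3, 4, 1, 2, 3, 7, 8, 7, 5, 3, 4, 1, 2, 3, 7, 6, 5, 4, 3, 2, 1]),
    (1842, [2, 3, 7, 4, 5, 3, 4, 1, 2, 3, 7, 8, 7, 5, 3, 4, 1, 2, 3, 7, 6, 5, 4, 3, 2, 1]),
    (1860, [1, 2, 3, 7, 4, 5, 3, 4, 2, 3, 7, 8, 4, 5, 2, 3, 4, 1, 2, 3, 7, 6, 5, 4, 3, 2, 1]),
    (1863, [8, 1, 2, 3, 7, 4, 5, 3, 4, 2, 3, 7, 8, 4, 5, 3, 4, 1, 2, 3, 7, 6, 5, 4, 3, 2, 1]),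
    (1879, [2, 3, 7, 4, 5, 2, 3, 4, 1, 2, 3, 7, 8, 5, 4, 1, 2, 3, 7, 6, 5, 4, 3, 2, 1]),
    (1890, [8, 4, 3, 7, 5, 2, 3, 4, 1, 2, 3, 7, 8, 7, 5, 3, 4, 1, 2, 3, 7, 6, 5, 4, 3, 2, 1]),
    (1891, [8, 4, 3, 7, 4, 5, 2, 3, 4, 1, 2, 3, 7, 8, 7, 5, 3, 4, 1, 2, 3, 7, 6, 5, 4, 3, 2, 1]),
    (1908, [7, 8, 3, 7, 5, 6, 4, 5, 2, 3, 4, 1, 2, 3, 7, 8, 5, 2, 3, 4, 1, 2, 3, 7, 6, 5, 4, 3, 2, 1]),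
    (1918, [8, 7, 1, 2, 3, 4, 0, 1, 2, 3, 7, 8, 5, 2, 3, 4, 1, 2, 3, 7, 6, 5, 4, 3, 2, 1]),
    (1931, [4, 2, 3, 7, 4, 5, 2, 3, 4, 0, 1, 2, 3, 7, 8, 5, 2, 3, 4, 1, 2, 3, 7, 6, 5, 4, 3, 2, 1]),
    (1932, [2, 3, 7, 4, 5, 2, 3, 4, 0, 1, 2, 3, 7, 8, 5, 2, 3, 4, 1, 2, 3, 7, 6, 5, 4, 3, 2, 1]),
    (1934, [6, 4, 5, 2, 3, 4, 0, 1, 2, 3, 7, 8, 5, 2, 3, 4, 1, 2, 3, 7, 6, 5, 4, 3, 2, 1]),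
    (1946, [4, 0, 1, 2, 3, 7, 8, 4, 5, 3, 4, 2, 3, 7, 6, 5, 4, 3, 2, 1]),
    (1955, [8, 6, 5, 4, 3, 7, 2, 3, 4, 1, 2, 3, 7, 8, 5, 2, 3, 4, 1, 2, 3, 7, 6, 5, 4, 3, 2, 1]),
    (1965, [7, 8, 3, 7, 2, 3, 1, 2, 0, 1]),
    (1981, [2, 3, 7, 8, 1, 2, 3, 7, 6, 5, 4, 3, 2, 1]),
    (1992, [2, 3, 7, 4, 5, 2, 3, 4, 1, 2, 3, 7, 8, 4, 5, 2, 3, 4, 1, 2, 3, 7, 6, 5, 4, 3, 2, 1]),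
    (1993, [3, 7, 4, 5, 2, 3, 4, 1, 2, 3, 7, 8, 4, 5, 2, 3, 4, 1, 2, 3, 7, 6, 5, 4, 3, 2, 1]),
    (2006, [7, 3, 4, 1, 2, 3, 7, 8, 7, 5, 3, 4, 1, 2, 3, 7, 6, 5, 4, 3, 2, 1]),
    (2008, [7, 5, 1, 2, 3, 4, 0, 1, 2, 3, 7, 8, 5, 2, 3, 4, 1, 2, 3, 7, 6, 5, 4, 3, 2, 1]),
    (2024, [6, 5, 4, 2, 3, 7, 8, 4, 5, 3, 4, 1, 2, 3, 7, 6, 5, 4, 3, 2, 1]),
    (2032, [2, 3, 7, 8, 3, 7, 4, 5, 3, 4, 1, 2, 3, 7, 6, 5, 4, 3, 2, 1]),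
    (2037, [7, 5, 3, 4, 1, 2, 3, 7, 8, 7, 5, 3, 4, 2, 3, 7, 6, 5, 4, 3, 2, 1]),
    (2046, [7, 3, 4, 2, 3, 7, 8, 7, 5, 3, 4, 2, 3, 7, 6, 5, 4, 3, 2, 1]),
    (2061, [3, 7, 5, 6, 4, 5, 2, 3, 4, 0, 1, 2, 3, 7, 8, 4, 5, 3, 4, 1, 2, 3, 7, 6, 5, 4, 3, 2, 1]),
    (2069, [4, 3, 7, 6, 5, 2, 3, 4, 0, 1, 2, 3, 7, 8, 5, 2, 3, 4, 1, 2, 3, 7, 6, 5, 4, 3, 2, 1]),
    (2072, [5, 4, 2, 3, 7, 4, 5, 2, 3, 4, 1, 2, 3, 7, 8, 5, 4, 1, 2, 3, 7, 6, 5, 4, 3, 2, 1]),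
    (2085, [4, 5, 1, 2, 3, 4, 0, 1, 2, 3, 7, 8, 4, 5, 3, 4, 1, 2, 3, 7, 6, 5, 4, 3, 2, 1]),
    (2087, [6, 4, 5, 2, 3, 4, 1, 2, 3, 7, 8, 4, 5, 2, 3, 4, 1, 2, 3, 7, 6, 5, 4, 3, 2, 1]),
    (2091, [6, 5, 4, 3, 7, 2, 3, 4, 1, 2, 3, 7, 8, 4, 5, 3, 4, 1, 2, 3, 7, 6, 5, 4, 3, 2, 1]),
    (2095, [4, 5, 2, 3, 4, 1, 2, 3, 7, 8, 5, 2, 3, 4, 1, 2, 3, 7, 6, 5, 4, 3, 2, 1]),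
    (2098, [0, 1, 2, 3, 7, 4, 5, 3, 4, 2, 3, 7, 8, 5, 3, 4, 1, 2, 3, 7, 6, 5, 4, 3, 2, 1]),
    (2101, [3, 7, 4, 5, 3, 4, 0, 1, 2, 3, 7, 8, 4, 5, 2, 3, 4, 1, 2, 3, 7, 6, 5, 4, 3, 2, 1]),
    (2103, [6, 4, 5, 2, 3, 4, 1, 2, 3, 7, 8, 5, 3, 4, 1, 2, 3, 7, 6, 5, 4, 3, 2, 1]),
    (2108, [3, 7, 3, 4, 5, 2, 3, 4, 1, 2, 3, 7, 8, 7, 5, 3, 4, 1, 2, 3, 7, 6, 5, 4, 3, 2, 1]),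
    (2113, [4, 5, 2, 3, 4, 0, 1, 2, 3, 7, 8, 7, 5, 3, 4, 1, 2, 3, 7, 6, 5, 4, 3, 2, 1]),
    (2125, [2, 3, 7, 4, 5, 3, 4, 2, 3, 7, 8, 5, 2, 3, 4, 1, 2, 3, 7, 6, 5, 4, 3, 2, 1]),
    (2133, [3, 7, 6, 4, 5, 2, 3, 4, 0, 1, 2, 3, 7, 8, 5, 4, 1, 2, 3, 7, 6, 5, 4, 3, 2, 1]),
    (2134, [3, 7, 5, 2, 3, 4, 0, 1, 2, 3, 7, 8, 7, 5, 2, 3, 4, 1, 2, 3, 7, 6, 5, 4, 3, 2, 1]),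
    (2149, [4, 3, 7, 8, 3, 4, 5, 2, 3, 4, 1, 2, 3, 7, 6, 5, 4, 3, 2, 1]),
    (2157, [7, 5, 2, 3, 4, 0, 1, 2, 3, 7, 8, 3, 4, 5, 2, 3, 4, 1, 2, 3, 7, 6, 5, 4, 3, 2, 1]),
    (2158, [7, 5, 3, 4, 0, 1, 2, 3, 7, 8, 3, 4, 5, 2, 3, 4, 1, 2, 3, 7, 6, 5, 4, 3, 2, 1]),
    (2175, [3, 4, 5, 1, 2, 3, 4, 0, 1, 2, 3, 7, 8, 5, 2, 3, 4, 1, 2, 3, 7, 6, 5, 4, 3, 2, 1]),
    (2179, [8, 7, 3, 4, 2, 3, 7, 8, 1, 2, 3, 7, 6, 5, 4, 3, 2, 1]),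
    (2194, [7, 5, 3, 4, 2, 3, 7, 8, 7, 5, 3, 4, 2, 3, 7, 6, 5, 4, 3, 2, 1]),
    (2199, [4, 3, 7, 8, 3, 7, 4, 5, 3, 4, 2, 3, 7, 6, 5, 4, 3, 2, 1]),
    (2211, [3, 7, 4, 5, 2, 3, 4, 0, 1, 2, 3, 7, 8, 7, 5, 2, 3, 4, 1, 2, 3, 7, 6, 5, 4, 3, 2, 1]),
    (2235, [3, 7, 2, 3, 4, 0, 1, 2, 3, 7, 8, 3, 4, 5, 2, 3, 4, 1, 2, 3, 7, 6, 5, 4, 3, 2, 1]),
    (2242, [8, 2, 3, 7, 4, 5, 3, 4, 1, 2, 3, 7, 8, 7, 5, 3, 4, 1, 2, 3, 7, 6, 5, 4, 3, 2, 1]),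
    (2262, [4, 2, 3, 7, 8, 5, 4, 1, 2, 3, 7, 6, 5, 4, 3, 2, 1]),
    (2272, [7, 5, 3, 4, 2, 3, 7, 8, 4, 5, 2, 3, 4, 1, 2, 3, 7, 6, 5, 4, 3, 2, 1]),
    (2276, [8, 7, 4, 5, 2, 3, 4, 1, 2, 3, 7, 8, 5, 3, 4, 1, 2, 3, 7, 6, 5, 4, 3, 2, 1]),
    (2289, [7, 5, 2, 3, 4, 1, 2, 3, 7, 8, 7, 5, 3, 4, 1, 2, 3, 7, 6, 5, 4, 3, 2, 1]),
    (2307, [8, 4, 3, 7, 5, 2, 3, 4, 0, 1, 2, 3, 7, 8, 4, 5, 3, 4, 1, 2, 3, 7, 6, 5, 4, 3, 2, 1]),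
    (2311, [8, 2, 3, 7, 6, 4, 5, 2, 3, 4, 0, 1, 2, 3, 7, 8, 4, 5, 3, 4, 1, 2, 3, 7, 6, 5, 4, 3, 2, 1]),
    (2317, [7, 8, 3, 7, 6, 4, 5, 2, 3, 4, 1, 2, 3, 7, 8, 5, 3, 4, 1, 2, 3, 7, 6, 5, 4, 3, 2, 1]),
    (2333, [7, 8, 3, 7, 5, 6, 4, 5, 2, 3, 4, 0, 1, 2, 3, 7, 8, 4, 5, 2, 3, 4, 1, 2, 3, 7, 6, 5, 4, 3, 2, 1]),
    (2334, [7, 8, 0, 1, 2, 3, 7, 4, 5, 2, 3, 4, 1, 2, 3, 7, 8, 5, 2, 3, 4, 1, 2, 3, 7, 6, 5, 4, 3, 2, 1]),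
    (2339, [3, 7, 8, 2, 3, 7, 4, 5, 2, 3, 4, 1, 2, 3, 7, 8, 7, 4, 5, 2, 3, 4, 1, 2, 3, 7, 6, 5, 4, 3, 2, 1]),
    (2349, [8, 4, 3, 7, 5, 2, 3, 4, 1, 2, 3, 7, 8, 5, 3, 4, 1, 2, 3, 7, 6, 5, 4, 3, 2, 1]),
    (2357, [3, 7, 8, 5, 4, 2, 3, 7, 3, 4, 5, 2, 3, 4, 1, 2, 3, 7, 8, 5, 3, 4, 1, 2, 3, 7, 6, 5, 4, 3, 2, 1]),
    (2365, [8, 3, 7, 5, 2, 3, 4, 1, 2, 3, 7, 8, 7, 5, 3, 4, 1, 2, 3, 7, 6, 5, 4, 3, 2, 1]),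
    (2368, [7, 8, 3, 7, 4, 5, 1, 2, 3, 4, 0, 1, 2, 3, 7, 8, 5, 2, 3, 4, 1, 2, 3, 7, 6, 5, 4, 3, 2, 1]),
    (2369, [7, 8, 3, 7, 3, 4, 5, 1, 2, 3, 4, 0, 1, 2, 3, 7, 8, 5, 2, 3, 4, 1, 2, 3, 7, 6, 5, 4, 3, 2, 1]),
    (2370, [7, 8, 3, 7, 5, 6, 4, 5, 2, 3, 4, 1, 2, 3, 7, 8, 4, 5, 3, 4, 1, 2, 3, 7, 6, 5, 4, 3, 2, 1]),
    (2377, [8, 4, 1, 2, 3, 7, 4, 5, 2, 3, 4, 1, 2, 3, 7, 8, 5, 3, 4, 1, 2, 3, 7, 6, 5, 4, 3, 2, 1]),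
    (2385, [4, 3, 7, 8, 5, 4, 3, 7, 6, 5, 4, 3, 1, 2, 0, 1]),
    (2390, [5, 3, 4, 2, 3, 7, 8, 5, 4, 2, 3, 7, 6, 5, 4, 3, 2, 0, 1]),
    (2393, [6, 5, 4, 2, 3, 7, 8, 7, 4, 5, 3, 4, 2, 3, 7, 6, 5, 4, 3, 2, 0, 1]),
    (2394, [6, 5, 4, 3, 7, 8, 7, 4, 5, 3, 4, 2, 3, 7, 6, 5, 4, 3, 2, 0, 1]),
    (2408, [1, 2, 3, 4, 0, 1, 2, 3, 7, 8, 3, 7, 5, 2, 3, 4, 1, 2, 3, 7, 6, 5, 4, 3, 2, 1]),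
    (2421, [4, 5, 1, 2, 3, 4, 0, 1, 2, 3, 7, 8, 7, 5, 2, 3, 4, 1, 2, 3, 7, 6, 5, 4, 3, 2, 1]),
    (2438, [5, 1, 2, 3, 4, 0, 1, 2, 3, 7, 8, 5, 3, 4, 1, 2, 3, 7, 6, 5, 4, 3, 2, 1]),
    (2450, [6, 4, 5, 2, 3, 4, 0, 1, 2, 3, 7, 8, 5, 4, 1, 2, 3, 7, 6, 5, 4, 3, 2, 1]),
    (2452, [6, 4, 5, 2, 3, 4, 1, 2, 3, 7, 8, 7, 5, 3, 4, 1, 2, 3, 7, 6, 5, 4, 3, 2, 1]),
    (2453, [4, 5, 2, 3, 4, 0, 1, 2, 3, 7, 8, 5, 3, 4, 1, 2, 3, 7, 6, 5, 4, 3, 2, 1]),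
    (2457, [2, 3, 7, 4, 5, 3, 4, 2, 3, 7, 8, 7, 4, 5, 3, 4, 1, 2, 3, 7, 6, 5, 4, 3, 2, 1]),
    (2469, [3, 7, 1, 2, 3, 4, 0, 1, 2, 3, 7, 8, 3, 7, 5, 2, 3, 4, 1, 2, 3, 7, 6, 5, 4, 3, 2, 1]),
    (2472, [8, 7, 6, 4, 5, 2, 3, 4, 0, 1, 2, 3, 7, 8, 5, 4, 1, 2, 3, 7, 6, 5, 4, 3, 2, 1]),
    (2477, [8, 7, 4, 5, 3, 4, 1, 2, 3, 7, 8, 7, 5, 3, 4, 1, 2, 3, 7, 6, 5, 4, 3, 2, 1]),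
    (2501, [8, 4, 2, 3, 7, 4, 5, 2, 3, 4, 0, 1, 2, 3, 7, 8, 5, 2, 3, 4, 1, 2, 3, 7, 6, 5, 4, 3, 2, 1]),
    (2504, [3, 7, 3, 4, 5, 2, 3, 4, 1, 2, 3, 7, 8, 4, 5, 2, 3, 4, 1, 2, 3, 7, 6, 5, 4, 3, 2, 1]),
    (2505, [7, 3, 4, 5, 2, 3, 4, 1, 2, 3, 7, 8, 4, 5, 2, 3, 4, 1, 2, 3, 7, 6, 5, 4, 3, 2, 1]),
    (2518, [8, 5, 4, 3, 7, 6, 4, 5, 2, 3, 4, 1, 2, 3, 7, 8, 5, 2, 3, 4, 1, 2, 3, 7, 6, 5, 4, 3, 2, 1]),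
    (2535, [8, 4, 3, 7, 5, 2, 3, 4, 1, 2, 3, 7, 8, 5, 4, 1, 2, 3, 7, 6, 5, 4, 3, 2, 1]),
    (2542, [8, 4, 3, 7, 2, 3, 4, 1, 2, 3, 7, 8, 4, 5, 2, 3, 4, 1, 2, 3, 7, 6, 5, 4, 3, 2, 1]),
    (2571, [5, 4, 3, 7, 8, 4, 2, 3, 7, 6, 5, 4, 3, 2, 0, 1]),
    (2573, [6, 5, 4, 3, 7, 8, 3, 4, 2, 3, 7, 6, 5, 4, 3, 2, 0, 1]),
    (2576, [5, 4, 1, 2, 3, 7, 8, 7, 5, 3, 4, 2, 3, 7, 6, 5, 4, 3, 2, 0, 1]),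
    (2591, [6, 5, 4, 3, 7, 8, 5, 3, 4, 2, 3, 7, 6, 5, 4, 3, 2, 0, 1]),
    (2624, [5, 2, 3, 4, 1, 2, 3, 7, 8, 4, 5, 3, 4, 2, 3, 7, 6, 5, 4, 3, 2, 0, 1]),
    (2626, [5, 3, 4, 1, 2, 3, 7, 8, 5, 3, 4, 2, 3, 7, 6, 5, 4, 3, 2, 0, 1]),
    (2632, [4, 1, 2, 3, 7, 8, 5, 4, 3, 7, 6, 5, 4, 3, 1, 2, 0, 1]),
    (2665, [6, 5, 4, 2, 3, 7, 8, 7, 3, 4, 2, 3, 7, 6, 5, 4, 3, 2, 0, 1]),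
    (2690, [7, 5, 3, 4, 2, 3, 7, 8, 4, 5, 3, 4, 2, 3, 7, 6, 5, 4, 3, 2, 0, 1]),
    (2694, [4, 1, 2, 3, 7, 8, 5, 4, 2, 3, 7, 6, 5, 4, 3, 2, 0, 1]),
    (2715, [2, 3, 7, 4, 5, 3, 4, 0, 1, 2, 3, 7, 8, 4, 5, 2, 3, 4, 1, 2, 3, 7, 6, 5, 4, 3, 2, 1]),
    (2718, [8, 7, 5, 3, 4, 2, 3, 7, 8, 4, 5, 3, 4, 2, 3, 7, 6, 5, 4, 3, 2, 1]),
    (2725, [3, 4, 0, 1, 2, 3, 7, 8, 7, 5, 3, 4, 2, 3, 7, 6, 5, 4, 3, 2, 1]),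
    (2726, [2, 3, 4, 0, 1, 2, 3, 7, 8, 7, 5, 3, 4, 2, 3, 7, 6, 5, 4, 3, 2, 1]),
    (2731, [8, 7, 3, 4, 2, 3, 7, 8, 5, 4, 3, 7, 6, 5, 4, 3, 2, 1]),
    (2732, [0, 1, 2, 3, 7, 8, 4, 5, 3, 4, 2, 3, 7, 6, 5, 4, 3, 2, 1]),
    (2735, [4, 0, 1, 2, 3, 7, 8, 4, 5, 2, 3, 4, 1, 2, 3, 7, 6, 5, 4, 3, 2, 1]),
    (2747, [7, 6, 5, 3, 4, 2, 3, 7, 8, 4, 5, 3, 4, 2, 3, 7, 6, 5, 4, 3, 2, 1]),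
    (2769, [0, 1, 2, 3, 7, 8, 3, 4, 5, 2, 3, 4, 1, 2, 3, 7, 6, 5, 4, 3, 2, 1]),
    (2781, [3, 7, 3, 4, 5, 2, 3, 4, 0, 1, 2, 3, 7, 8, 5, 2, 3, 4, 1, 2, 3, 7, 6, 5, 4, 3, 2, 1]),
    (2790, [7, 6, 5, 3, 4, 0, 1, 2, 3, 7, 8, 4, 5, 2, 3, 4, 1, 2, 3, 7, 6, 5, 4, 3, 2, 1]),
    (2793, [4, 5, 1, 2, 3, 4, 0, 1, 2, 3, 7, 8, 5, 2, 3, 4, 1, 2, 3, 7, 6, 5, 4, 3, 2, 1]),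
    (2799, [8, 7, 6, 4, 5, 1, 2, 3, 4, 0, 1, 2, 3, 7, 8, 5, 2, 3, 4, 1, 2, 3, 7, 6, 5, 4, 3, 2, 1]),
    (2817, [8, 7, 6, 5, 3, 4, 1, 2, 3, 7, 8, 4, 5, 2, 3, 4, 1, 2, 3, 7, 6, 5, 4, 3, 2, 1]),
    (2828, [7, 8, 6, 5, 4, 3, 7, 6, 5, 2, 3, 4, 1, 2, 3, 7, 8, 5, 2, 3, 4, 1, 2, 3, 7, 6, 5, 4, 3, 2, 1]),
    (2830, [8, 5, 4, 3, 7, 2, 3, 4, 1, 2, 3, 7, 8, 4, 5, 3, 4, 1, 2, 3, 7, 6, 5, 4, 3, 2, 1]),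
    (2831, [7, 8, 3, 7, 6, 4, 5, 2, 3, 4, 0, 1, 2, 3, 7, 8, 4, 5, 3, 4, 1, 2, 3, 7, 6, 5, 4, 3, 2, 1]),
    (2842, [8, 3, 7, 6, 4, 5, 1, 2, 3, 4, 0, 1, 2, 3, 7, 8, 4, 5, 2, 3, 4, 1, 2, 3, 7, 6, 5, 4, 3, 2, 1]),
    (2845, [8, 1, 2, 3, 7, 4, 5, 3, 4, 1, 2, 3, 7, 8, 4, 5, 3, 4, 1, 2, 3, 7, 6, 5, 4, 3, 2, 1]),
    (2879, [4, 3, 7, 8, 2, 3, 7, 3, 4, 5, 2, 3, 4, 1, 2, 3, 7, 8, 7, 4, 5, 2, 3, 4, 1, 2, 3, 7, 6, 5, 4, 3, 2, 1]),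
    (2888, [7, 8, 3, 7, 4, 5, 1, 2, 3, 4, 0, 1, 2, 3, 7, 8, 7, 5, 2, 3, 4, 1, 2, 3, 7, 6, 5, 4, 3, 2, 1]),
    (2892, [7, 8, 3, 7, 6, 4, 5, 3, 4, 1, 2, 3, 7, 8, 4, 5, 2, 3, 4, 1, 2, 3, 7, 6, 5, 4, 3, 2, 1]),
    (2897, [8, 3, 7, 5, 6, 4, 5, 3, 4, 2, 3, 7, 8, 4, 5, 2, 3, 4, 1, 2, 3, 7, 6, 5, 4, 3, 2, 1]),
    (2907, [2, 3, 7, 8, 4, 3, 7, 5, 2, 3, 4, 0, 1, 2, 3, 7, 8, 5, 2, 3, 4, 1, 2, 3, 7, 6, 5, 4, 3, 2, 1]),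
    (2932, [7, 8, 3, 7, 6, 4, 5, 2, 3, 4, 0, 1, 2, 3, 7, 8, 5, 4, 1, 2, 3, 7, 6, 5, 4, 3, 2, 1]),
    (2941, [8, 3, 7, 3, 4, 5, 2, 3, 4, 1, 2, 3, 7, 8, 4, 5, 2, 3, 4, 1, 2, 3, 7, 6, 5, 4, 3, 2, 1]),
    (2949, [7, 8, 3, 7, 3, 4, 5, 2, 3, 4, 1, 2, 3, 7, 8, 7, 5, 2, 3, 4, 1, 2, 3, 7, 6, 5, 4, 3, 2, 1]),
    (2980, [8, 3, 7, 5, 6, 4, 5, 2, 3, 4, 0, 1, 2, 3, 7, 8, 4, 5, 2, 3, 4, 1, 2, 3, 7, 6, 5, 4, 3, 2, 1]),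
    (2986, [8, 4, 3, 7, 5, 2, 3, 4, 1, 2, 3, 7, 8, 4, 5, 2, 3, 4, 1, 2, 3, 7, 6, 5, 4, 3, 2, 1]),
    (2990, [8, 1, 2, 3, 7, 4, 5, 3, 4, 1, 2, 3, 7, 8, 5, 4, 1, 2, 3, 7, 6, 5, 4, 3, 2, 1]),
    (2992, [8, 7, 3, 4, 5, 2, 3, 4, 1, 2, 3, 7, 8, 7, 5, 3, 4, 1, 2, 3, 7, 6, 5, 4, 3, 2, 1]),
    (2993, [8, 7, 6, 4, 5, 3, 4, 0, 1, 2, 3, 7, 8, 5, 3, 4, 1, 2, 3, 7, 6, 5, 4, 3, 2, 1]),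
    (2999, [5, 4, 3, 7, 2, 3, 4, 1, 2, 3, 7, 8, 4, 5, 2, 3, 4, 1, 2, 3, 7, 6, 5, 4, 3, 2, 1]),
    (3004, [8, 7, 6, 5, 2, 3, 4, 1, 2, 3, 7, 8, 4, 5, 2, 3, 4, 1, 2, 3, 7, 6, 5, 4, 3, 2, 1]),
    (3010, [8, 7, 3, 4, 5, 2, 3, 4, 0, 1, 2, 3, 7, 8, 4, 5, 3, 4, 1, 2, 3, 7, 6, 5, 4, 3, 2, 1]),
    (3013, [8, 7, 3, 4, 1, 2, 3, 7, 8, 7, 5, 3, 4, 1, 2, 3, 7, 6, 5, 4, 3, 2, 1]),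
    (3014, [8, 7, 3, 4, 1, 2, 3, 7, 8, 7, 5, 2, 3, 4, 1, 2, 3, 7, 6, 5, 4, 3, 2, 1]),
    (3016, [8, 2, 3, 7, 4, 5, 2, 3, 4, 0, 1, 2, 3, 7, 8, 4, 5, 2, 3, 4, 1, 2, 3, 7, 6, 5, 4, 3, 2, 1]),
    (3021, [8, 7, 4, 5, 3, 4, 1, 2, 3, 7, 8, 5, 4, 1, 2, 3, 7, 6, 5, 4, 3, 2, 1]),
    (3030, [1, 2, 3, 7, 8, 4, 3, 7, 5, 2, 3, 4, 1, 2, 3, 7, 8, 4, 5, 2, 3, 4, 1, 2, 3, 7, 6, 5, 4, 3, 2, 1]),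
    (3031, [1, 2, 3, 7, 8, 4, 3, 7, 5, 2, 3, 4, 1, 2, 3, 7, 8, 7, 4, 5, 2, 3, 4, 1, 2, 3, 7, 6, 5, 4, 3, 2, 1]),
    (3037, [7, 8, 4, 3, 7, 3, 4, 5, 2, 3, 4, 1, 2, 3, 7, 8, 4, 5, 2, 3, 4, 1, 2, 3, 7, 6, 5, 4, 3, 2, 1]),
    (3041, [8, 7, 6, 5, 3, 4, 1, 2, 3, 7, 8, 5, 2, 3, 4, 1, 2, 3, 7, 6, 5, 4, 3, 2, 1]),
    (3042, [8, 7, 3, 4, 0, 1, 2, 3, 7, 8, 4, 5, 3, 4, 1, 2, 3, 7, 6, 5, 4, 3, 2, 1]),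
    (3069, [8, 7, 3, 4, 5, 2, 3, 4, 1, 2, 3, 7, 8, 4, 5, 2, 3, 4, 1, 2, 3, 7, 6, 5, 4, 3, 2, 1]),
    (3079, [8, 7, 6, 4, 5, 3, 4, 2, 3, 7, 8, 5, 2, 3, 4, 1, 2, 3, 7, 6, 5, 4, 3, 2, 1]),
    (3087, [7, 8, 4, 3, 7, 2, 3, 4, 1, 2, 3, 7, 8, 3, 4, 5, 2, 3, 4, 1, 2, 3, 7, 6, 5, 4, 3, 2, 1]),
    (3092, [8, 6, 5, 4, 2, 3, 7, 4, 5, 2, 3, 4, 1, 2, 3, 7, 8, 5, 2, 3, 4, 1, 2, 3, 7, 6, 5, 4, 3, 2, 1]),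
    (3098, [8, 7, 6, 4, 5, 2, 3, 4, 1, 2, 3, 7, 8, 7, 4, 5, 3, 4, 1, 2, 3, 7, 6, 5, 4, 3, 2, 1]),
    (3105, [2, 3, 7, 8, 4, 3, 7, 3, 4, 5, 2, 3, 4, 1, 2, 3, 7, 8, 5, 2, 3, 4, 1, 2, 3, 7, 6, 5, 4, 3, 2, 1]),
    (3106, [4, 3, 7, 8, 2, 3, 7, 4, 5, 2, 3, 4, 1, 2, 3, 7, 8, 4, 5, 3, 4, 1, 2, 3, 7, 6, 5, 4, 3, 2, 1]),
    (3108, [3, 7, 8, 2, 3, 7, 4, 5, 2, 3, 4, 1, 2, 3, 7, 8, 4, 5, 2, 3, 4, 1, 2, 3, 7, 6, 5, 4, 3, 2, 1]),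
    (3112, [5, 2, 3, 4, 0, 1, 2, 3, 7, 8, 3, 4, 5, 2, 3, 4, 1, 2, 3, 7, 6, 5, 4, 3, 2, 1]),
    (3124, [6, 5, 4, 1, 2, 3, 7, 8, 4, 5, 2, 3, 4, 1, 2, 3, 7, 6, 5, 4, 3, 2, 1]),
    (3132, [7, 8, 0, 1, 2, 3, 7, 4, 5, 2, 3, 4, 1, 2, 3, 7, 8, 5, 3, 4, 1, 2, 3, 7, 6, 5, 4, 3, 2, 1]),
    (3135, [8, 7, 1, 2, 3, 4, 0, 1, 2, 3, 7, 8, 3, 7, 5, 2, 3, 4, 1, 2, 3, 7, 6, 5, 4, 3, 2, 1]),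
    (3137, [7, 8, 3, 7, 1, 2, 3, 4, 0, 1, 2, 3, 7, 8, 3, 7, 5, 2, 3, 4, 1, 2, 3, 7, 6, 5, 4, 3, 2, 1]),
    (3142, [7, 8, 5, 4, 3, 7, 2, 3, 4, 0, 1, 2, 3, 7, 8, 3, 4, 5, 2, 3, 4, 1, 2, 3, 7, 6, 5, 4, 3, 2, 1]),
    (3154, [8, 1, 2, 3, 7, 4, 5, 3, 4, 1, 2, 3, 7, 8, 5, 2, 3, 4, 1, 2, 3, 7, 6, 5, 4, 3, 2, 1]),
    (3158, [8, 7, 2, 3, 4, 1, 2, 3, 7, 8, 3, 4, 5, 2, 3, 4, 1, 2, 3, 7, 6, 5, 4, 3, 2, 1]),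
    (3161, [8, 1, 2, 3, 7, 4, 5, 3, 4, 0, 1, 2, 3, 7, 8, 5, 3, 4, 1, 2, 3, 7, 6, 5, 4, 3, 2, 1]),
    (3172, [3, 7, 8, 5, 4, 3, 7, 4, 5, 2, 3, 4, 1, 2, 3, 7, 8, 5, 2, 3, 4, 1, 2, 3, 7, 6, 5, 4, 3, 2, 1]),
    (3185, [8, 7, 5, 3, 4, 0, 1, 2, 3, 7, 8, 4, 5, 3, 4, 1, 2, 3, 7, 6, 5, 4, 3, 2, 1]),
    (3186, [8, 7, 4, 5, 3, 4, 0, 1, 2, 3, 7, 8, 4, 5, 3, 4, 1, 2, 3, 7, 6, 5, 4, 3, 2, 1]),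
    (3190, [2, 3, 7, 8, 4, 3, 7, 6, 5, 2, 3, 4, 1, 2, 3, 7, 8, 5, 2, 3, 4, 1, 2, 3, 7, 6, 5, 4, 3, 2, 1]),
    (3199, [7, 8, 3, 7, 4, 5, 2, 3, 4, 0, 1, 2, 3, 7, 8, 7, 5, 3, 4, 1, 2, 3, 7, 6, 5, 4, 3, 2, 1]),
    (3200, [7, 8, 3, 7, 4, 5, 2, 3, 4, 0, 1, 2, 3, 7, 8, 5, 3, 4, 1, 2, 3, 7, 6, 5, 4, 3, 2, 1]),
    (3203, [8, 7, 4, 5, 2, 3, 4, 1, 2, 3, 7, 8, 4, 5, 2, 3, 4, 1, 2, 3, 7, 6, 5, 4, 3, 2, 1]),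
    (3215, [3, 7, 8, 5, 4, 3, 7, 5, 2, 3, 4, 1, 2, 3, 7, 8, 7, 5, 2, 3, 4, 1, 2, 3, 7, 6, 5, 4, 3, 2, 1]),
    (3216, [7, 8, 3, 7, 4, 5, 2, 3, 4, 0, 1, 2, 3, 7, 8, 4, 5, 2, 3, 4, 1, 2, 3, 7, 6, 5, 4, 3, 2, 1]),
    (3246, [8, 7, 4, 5, 3, 4, 1, 2, 3, 7, 8, 3, 4, 5, 2, 3, 4, 1, 2, 3, 7, 6, 5, 4, 3, 2, 1]),
    (3247, [8, 7, 6, 5, 3, 4, 0, 1, 2, 3, 7, 8, 3, 4, 5, 2, 3, 4, 1, 2, 3, 7, 6, 5, 4, 3, 2, 1]),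
    (3250, [7, 8, 0, 1, 2, 3, 7, 4, 5, 3, 4, 2, 3, 7, 8, 4, 5, 2, 3, 4, 1, 2, 3, 7, 6, 5, 4, 3, 2, 1]),
    (3251, [7, 8, 0, 1, 2, 3, 7, 4, 5, 3, 4, 1, 2, 3, 7, 8, 4, 5, 2, 3, 4, 1, 2, 3, 7, 6, 5, 4, 3, 2, 1]),
    (3258, [7, 8, 1, 2, 3, 7, 3, 4, 5, 2, 3, 4, 1, 2, 3, 7, 8, 4, 5, 3, 4, 1, 2, 3, 7, 6, 5, 4, 3, 2, 1]),
    (3260, [3, 7, 8, 6, 5, 4, 3, 7, 5, 2, 3, 4, 1, 2, 3, 7, 8, 4, 5, 2, 3, 4, 1, 2, 3, 7, 6, 5, 4, 3, 2, 1]),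
    (3271, [7, 8, 5, 4, 3, 7, 2, 3, 4, 1, 2, 3, 7, 8, 5, 2, 3, 4, 1, 2, 3, 7, 6, 5, 4, 3, 2, 1]),
    (3272, [7, 8, 3, 7, 5, 2, 3, 4, 0, 1, 2, 3, 7, 8, 4, 5, 2, 3, 4, 1, 2, 3, 7, 6, 5, 4, 3, 2, 1]),
    (3273, [8, 3, 7, 5, 2, 3, 4, 0, 1, 2, 3, 7, 8, 4, 5, 2, 3, 4, 1, 2, 3, 7, 6, 5, 4, 3, 2, 1]),
    (3279, [8, 7, 4, 5, 3, 4, 1, 2, 3, 7, 8, 4, 5, 2, 3, 4, 1, 2, 3, 7, 6, 5, 4, 3, 2, 1]),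
    (3286, [8, 5, 4, 3, 7, 2, 3, 4, 1, 2, 3, 7, 8, 5, 4, 1, 2, 3, 7, 6, 5, 4, 3, 2, 1]),
    (3292, [2, 3, 7, 8, 4, 1, 2, 3, 7, 4, 5, 2, 3, 4, 1, 2, 3, 7, 8, 5, 4, 1, 2, 3, 7, 6, 5, 4, 3, 2, 1]),
    (3316, [7, 8, 1, 2, 3, 7, 3, 4, 5, 2, 3, 4, 1, 2, 3, 7, 8, 5, 3, 4, 1, 2, 3, 7, 6, 5, 4, 3, 2, 1]),
    (3322, [7, 8, 4, 3, 7, 3, 4, 5, 2, 3, 4, 1, 2, 3, 7, 8, 7, 4, 5, 2, 3, 4, 1, 2, 3, 7, 6, 5, 4, 3, 2, 1]),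
    (3332, [8, 2, 3, 7, 3, 4, 5, 2, 3, 4, 0, 1, 2, 3, 7, 8, 4, 5, 3, 4, 1, 2, 3, 7, 6, 5, 4, 3, 2, 1]),
    (3333, [7, 8, 2, 3, 7, 4, 5, 2, 3, 4, 0, 1, 2, 3, 7, 8, 4, 5, 2, 3, 4, 1, 2, 3, 7, 6, 5, 4, 3, 2, 1]),
    (3336, [7, 8, 3, 7, 6, 3, 4, 5, 2, 3, 4, 0, 1, 2, 3, 7, 8, 4, 5, 2, 3, 4, 1, 2, 3, 7, 6, 5, 4, 3, 2, 1]),
    (3339, [3, 7, 8, 4, 2, 3, 7, 4, 5, 2, 3, 4, 1, 2, 3, 7, 8, 7, 4, 5, 2, 3, 4, 1, 2, 3, 7, 6, 5, 4, 3, 2, 1]),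
    (3343, [8, 7, 3, 4, 0, 1, 2, 3, 7, 8, 4, 5, 2, 3, 4, 1, 2, 3, 7, 6, 5, 4, 3, 2, 1]),
    (3351, [8, 7, 5, 3, 4, 2, 3, 7, 8, 7, 5, 3, 4, 1, 2, 3, 7, 6, 5, 4, 3, 2, 1]),
    (3359, [8, 0, 1, 2, 3, 7, 4, 5, 3, 4, 2, 3, 7, 8, 4, 5, 2, 3, 4, 1, 2, 3, 7, 6, 5, 4, 3, 2, 1]),
    (3371, [8, 3, 7, 1, 2, 3, 4, 0, 1, 2, 3, 7, 8, 3, 4, 5, 2, 3, 4, 1, 2, 3, 7, 6, 5, 4, 3, 2, 1]),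
    (3372, [8, 0, 1, 2, 3, 7, 4, 5, 2, 3, 4, 1, 2, 3, 7, 8, 4, 5, 3, 4, 1, 2, 3, 7, 6, 5, 4, 3, 2, 1]),
    (3373, [7, 8, 1, 2, 3, 7, 4, 5, 3, 4, 1, 2, 3, 7, 8, 3, 4, 5, 2, 3, 4, 1, 2, 3, 7, 6, 5, 4, 3, 2, 1]),
    (3374, [7, 8, 1, 2, 3, 7, 4, 5, 3, 4, 2, 3, 7, 8, 3, 4, 5, 2, 3, 4, 1, 2, 3, 7, 6, 5, 4, 3, 2, 1]),
    (3376, [3, 7, 8, 2, 3, 7, 4, 5, 3, 4, 2, 3, 7, 8, 3, 4, 5, 2, 3, 4, 1, 2, 3, 7, 6, 5, 4, 3, 2, 1]),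
    (3387, [8, 7, 1, 2, 3, 4, 0, 1, 2, 3, 7, 8, 7, 5, 2, 3, 4, 1, 2, 3, 7, 6, 5, 4, 3, 2, 1]),
    (3388, [2, 3, 7, 8, 4, 2, 3, 7, 4, 5, 2, 3, 4, 1, 2, 3, 7, 8, 7, 4, 5, 2, 3, 4, 1, 2, 3, 7, 6, 5, 4, 3, 2, 1]),
    (3394, [3, 7, 8, 2, 3, 7, 3, 4, 5, 2, 3, 4, 0, 1, 2, 3, 7, 8, 4, 5, 2, 3, 4, 1, 2, 3, 7, 6, 5, 4, 3, 2, 1]),
    (3399, [1, 2, 3, 7, 8, 4, 3, 7, 4, 5, 2, 3, 4, 1, 2, 3, 7, 8, 5, 2, 3, 4, 1, 2, 3, 7, 6, 5, 4, 3, 2, 1]),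
    (3400, [7, 8, 3, 7, 4, 5, 2, 3, 4, 1, 2, 3, 7, 8, 5, 4, 1, 2, 3, 7, 6, 5, 4, 3, 2, 1]),
    (3422, [7, 8, 4, 1, 2, 3, 7, 4, 5, 2, 3, 4, 1, 2, 3, 7, 8, 5, 3, 4, 1, 2, 3, 7, 6, 5, 4, 3, 2, 1]),
    (3429, [7, 8, 1, 2, 3, 7, 4, 5, 3, 4, 1, 2, 3, 7, 8, 7, 4, 5, 3, 4, 1, 2, 3, 7, 6, 5, 4, 3, 2, 1]),
    (3440, [2, 3, 7, 8, 5, 4, 3, 7, 4, 5, 2, 3, 4, 1, 2, 3, 7, 8, 5, 2, 3, 4, 1, 2, 3, 7, 6, 5, 4, 3, 2, 1]),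
    (3441, [8, 7, 3, 4, 5, 2, 3, 4, 1, 2, 3, 7, 8, 7, 4, 5, 2, 3, 4, 1, 2, 3, 7, 6, 5, 4, 3, 2, 1]),
    (3443, [8, 7, 4, 5, 2, 3, 4, 1, 2, 3, 7, 8, 5, 4, 1, 2, 3, 7, 6, 5, 4, 3, 2, 1]),
    (3445, [1, 2, 3, 7, 8, 4, 3, 7, 5, 2, 3, 4, 1, 2, 3, 7, 8, 5, 2, 3, 4, 1, 2, 3, 7, 6, 5, 4, 3, 2, 1]),
    (3447, [3, 7, 8, 5, 4, 3, 7, 2, 3, 4, 1, 2, 3, 7, 8, 3, 4, 5, 2, 3, 4, 1, 2, 3, 7, 6, 5, 4, 3, 2, 1]),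
    (3449, [7, 8, 5, 4, 3, 7, 6, 4, 5, 2, 3, 4, 1, 2, 3, 7, 8, 5, 2, 3, 4, 1, 2, 3, 7, 6, 5, 4, 3, 2, 1]),
    (3453, [8, 7, 6, 4, 5, 3, 4, 2, 3, 7, 8, 3, 4, 5, 2, 3, 4, 1, 2, 3, 7, 6, 5, 4, 3, 2, 1]),
    (3461, [8, 3, 7, 5, 2, 3, 4, 0, 1, 2, 3, 7, 8, 3, 4, 5, 2, 3, 4, 1, 2, 3, 7, 6, 5, 4, 3, 2, 1]),
    (3462, [8, 1, 2, 3, 7, 4, 5, 3, 4, 2, 3, 7, 8, 5, 2, 3, 4, 1, 2, 3, 7, 6, 5, 4, 3, 2, 1]),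
    (3468, [2, 3, 7, 8, 5, 4, 3, 7, 2, 3, 4, 1, 2, 3, 7, 8, 3, 4, 5, 2, 3, 4, 1, 2, 3, 7, 6, 5, 4, 3, 2, 1]),
    (3472, [8, 7, 6, 5, 3, 4, 2, 3, 7, 8, 5, 2, 3, 4, 1, 2, 3, 7, 6, 5, 4, 3, 2, 1]),
    (3473, [7, 8, 3, 7, 2, 3, 4, 0, 1, 2, 3, 7, 8, 3, 4, 5, 2, 3, 4, 1, 2, 3, 7, 6, 5, 4, 3, 2, 1]),
    (3477, [7, 8, 2, 3, 7, 4, 5, 2, 3, 4, 1, 2, 3, 7, 8, 4, 5, 3, 4, 1, 2, 3, 7, 6, 5, 4, 3, 2, 1]),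
    (3490, [3, 7, 8, 4, 3, 7, 3, 4, 5, 2, 3, 4, 1, 2, 3, 7, 8, 5, 2, 3, 4, 1, 2, 3, 7, 6, 5, 4, 3, 2, 1]),
    (3491, [7, 8, 1, 2, 3, 7, 4, 5, 3, 4, 2, 3, 7, 8, 4, 5, 3, 4, 1, 2, 3, 7, 6, 5, 4, 3, 2, 1]),
    (3494, [8, 4, 3, 7, 3, 4, 5, 2, 3, 4, 0, 1, 2, 3, 7, 8, 4, 5, 2, 3, 4, 1, 2, 3, 7, 6, 5, 4, 3, 2, 1]),
    (3500, [7, 8, 3, 7, 5, 2, 3, 4, 0, 1, 2, 3, 7, 8, 3, 4, 5, 2, 3, 4, 1, 2, 3, 7, 6, 5, 4, 3, 2, 1]),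
    (3501, [7, 8, 3, 7, 6, 4, 5, 3, 4, 2, 3, 7, 8, 3, 4, 5, 2, 3, 4, 1, 2, 3, 7, 6, 5, 4, 3, 2, 1]),
    (3503, [7, 8, 3, 7, 4, 5, 3, 4, 0, 1, 2, 3, 7, 8, 3, 4, 5, 2, 3, 4, 1, 2, 3, 7, 6, 5, 4, 3, 2, 1]),
    (3505, [2, 3, 7, 8, 5, 4, 3, 7, 5, 2, 3, 4, 1, 2, 3, 7, 8, 5, 2, 3, 4, 1, 2, 3, 7, 6, 5, 4, 3, 2, 1]),
    (3509, [7, 8, 3, 7, 1, 2, 3, 4, 0, 1, 2, 3, 7, 8, 3, 4, 5, 2, 3, 4, 1, 2, 3, 7, 6, 5, 4, 3, 2, 1])]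
  levs := [
  ⟨10, [
    [(10, [])],
    [(68, [2453, 1009]), (71, [2793, 692]), (72, [1602, 233])],
    [],
    [(210, [1032, 756]), (212, [2368, 692]), (233, [234]), (234, [233])],
    [(264, [1603, 692]), (266, [636]), (272, [1654, 692])],
    [(370, [2333, 233])],
    [],
    [],
    [(540, [2175, 233])],
    [(636, [266])],
    [(692, [1114])],
    [(756, [799])],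
    [(799, [756])],
    [],
    [(934, [3105, 233])],
    [(1009, [1292])],
    [(1032, [2421])],
    [(1101, [1124]), (1114, [692]), (1124, [1101])],
    [(1200, [1223]), (1201, [2369, 233])],
    [(1223, [1200]), (1271, [3199, 233])],
    [(1292, [1009]), (1306, [2113, 233])],
    [(1371, [756, 233])],
    [],
    [],
    [(1571, [2103, 1009])],
    [(1602, [1603]), (1603, [1602]), (1653, [1654]), (1654, [1653])],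
    [(1694, [1695]), (1695, [1694])],
    [],
    [(1839, [2317])],
    [],
    [(1965, [636, 233])],
    [],
    [(2103, [2113])],
    [(2113, [2103]), (2175, [2793])],
    [],
    [],
    [(2317, [1839]), (2333, [2334]), (2334, [2333])],
    [(2368, [2888]), (2369, [2370]), (2370, [2369]), (2408, [692, 233]), (2421, [1032])],
    [(2450, [1200, 233]), (2452, [2453]), (2453, [2452])],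
    [],
    [],
    [],
    [],
    [(2793, [2175])],
    [],
    [(2888, [2368]), (2907, [2452, 233]), (2932, [1009, 233])],
    [],
    [(3031, [2421, 233])],
    [(3105, [3106]), (3106, [3105]), (3112, [1032, 692])],
    [(3137, [1124, 233]), (3190, [1839, 233]), (3199, [3200])],
    [(3200, [3199])],
    [(3292, [2888, 233])],
    [],
    [(3400, [1694, 233]), (3445, [799, 692])],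
    [(3500, [2370, 692]), (3503, [1653, 233]), (3505, [2334, 692]), (3509, [2793, 756])]]⟩,
  ⟨233, [
    [],
    [],
    [],
    [(233, []), (234, [10])],
    [(266, [1965])],
    [],
    [],
    [],
    [],
    [(636, [1965, 10])],
    [(692, [2408, 10])],
    [(756, [1371, 10])],
    [(799, [1371])],
    [],
    [],
    [(1009, [2932, 10])],
    [(1032, [3031])],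
    [(1101, [3137]), (1114, [2408]), (1124, [3137, 10])],
    [(1200, [2450, 10])],
    [(1223, [2450])],
    [(1292, [2932])],
    [],
    [],
    [],
    [],
    [(1602, [72, 10]), (1603, [72]), (1653, [3503, 10]), (1654, [3503])],
    [(1694, [3400, 10]), (1695, [3400])],
    [],
    [(1839, [3190, 10])],
    [],
    [],
    [],
    [(2103, [1306])],
    [(2113, [1306, 10]), (2175, [540, 10])],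
    [],
    [],
    [(2317, [3190]), (2333, [370, 10]), (2334, [370])],
    [(2368, [3292]), (2369, [1201, 10]), (2370, [1201]), (2421, [3031, 10])],
    [(2452, [2907, 10]), (2453, [2907])],
    [],
    [],
    [],
    [],
    [(2793, [540])],
    [],
    [(2888, [3292, 10])],
    [],
    [],
    [(3105, [934, 10]), (3106, [934])],
    [(3199, [1271, 10])],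
    [(3200, [1271])],
    [],
    [],
    [],
    []]⟩,
  ⟨68, [
    [],
    [(68, []), (71, [934, 1371, 370, 10])],
    [],
    [(210, [2932, 3137, 934, 10]), (212, [272])],
    [(264, [2907, 3031, 370, 10]), (272, [212])],
    [],
    [],
    [],
    [],
    [],
    [],
    [],
    [],
    [],
    [],
    [],
    [],
    [],
    [],
    [],
    [],
    [],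
    [],
    [],
    [(1571, [3500, 212])],
    [],
    [],
    [],
    [],
    [],
    [],
    [],
    [],
    [],
    [],
    [],
    [],
    [],
    [],
    [],
    [],
    [],
    [],
    [],
    [],
    [],
    [],
    [],
    [(3112, [370, 3400, 72, 10])],
    [],
    [],
    [],
    [],
    [(3445, [540, 1306, 370, 10])],
    [(3500, [3505]), (3505, [3500]), (3509, [2408, 2450, 934, 10])]]⟩,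
  ⟨370, [
    [],
    [],
    [],
    [],
    [],
    [(370, [])],
    [],
    [],
    [],
    [],
    [],
    [],
    [],
    [],
    [(934, [71, 68])],
    [],
    [],
    [],
    [(1201, [68])],
    [(1271, [71])],
    [(1306, [3445, 68])],
    [],
    [],
    [],
    [],
    [],
    [],
    [],
    [],
    [],
    [],
    [],
    [],
    [],
    [],
    [],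
    [],
    [],
    [(2450, [3445])],
    [],
    [],
    [],
    [],
    [],
    [],
    [(2907, [264, 68]), (2932, [264])],
    [],
    [],
    [],
    [(3190, [3112])],
    [],
    [(3292, [1571])],
    [],
    [(3400, [3112, 68])],
    [(3503, [1571, 68])]]⟩,
  ⟨210, [
    [],
    [],
    [],
    [(210, [])],
    [],
    [],
    [],
    [],
    [],
    [],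
    [],
    [],
    [],
    [],
    [],
    [],
    [],
    [],
    [],
    [],
    [],
    [],
    [],
    [],
    [],
    [],
    [],
    [],
    [],
    [],
    [],
    [],
    [],
    [],
    [],
    [],
    [],
    [],
    [],
    [],
    [],
    [],
    [],
    [],
    [],
    [],
    [],
    [],
    [],
    [],
    [],
    [],
    [],
    [],
    [(3509, [1371, 1965, 72, 10])]]⟩,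
  ⟨71, [
    [],
    [(71, [])],
    [],
    [],
    [(264, [210])],
    [],
    [],
    [],
    [],
    [],
    [],
    [],
    [],
    [],
    [],
    [],
    [],
    [],
    [],
    [],
    [],
    [],
    [],
    [],
    [],
    [],
    [],
    [],
    [],
    [],
    [],
    [],
    [],
    [],
    [],
    [],
    [],
    [],
    [],
    [],
    [],
    [],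
    [],
    [],
    [],
    [],
    [],
    [],
    [(3112, [3509, 210])],
    [],
    [],
    [],
    [],
    [(3445, [3509])],
    []]⟩]
  tail := [(1965, [1965]), (0, [0, 119, 256, 277, 297, 363, 486, 505, 518, 804, 940, 1253, 1409, 1677, 2032, 2149, 2385, 2624, 2690, 2718, 2747, 3494]), (12, [12, 67, 229, 259, 280, 1118, 1668, 1841, 1890, 2477, 2504, 3069, 3272, 3491]), (256, [0, 119, 256, 277, 297, 363, 486, 505, 518, 804, 940, 1253, 1409, 1677, 2032, 2149, 2385, 2624, 2690, 2718, 2747, 3494]), (14, [14, 158, 199, 211, 215, 257, 437, 474, 562, 602, 612, 635, 646, 696, 697, 739, 775, 780, 831, 852, 926, 953, 954, 987, 1006, 1035, 1084, 1099, 1160, 1168, 1197, 1198, 1283, 1284, 1344, 1427, 1469, 1517, 1547,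 1548, 1567, 1763, 1931, 1981, 2006, 2037, 2046, 2179, 2194, 2199, 2501, 2573, 2731, 2732, 2769, 3013, 3041, 3042, 3092, 3185, 3286, 3332, 3351, 3472, 3473, 3501]), (154, [11, 154, 228, 258, 273, 690, 788, 1666, 1667, 1797, 1798, 1799, 1809, 1840, 1842, 1891, 2242, 2262, 2289, 2365, 2505, 2892, 2941, 3271]), (215, [14, 158, 199, 211, 215, 257, 437, 474, 562, 602, 612, 635, 646, 696, 697, 739, 775, 780, 831, 852, 926, 953, 954, 987, 1006, 1035, 1084, 1099, 1160, 1168, 1197, 1198, 1283, 1284, 1344, 1427, 1469, 1517, 1547, 1548, 1567, 1763, 1931, 1981, 2006, 2037, 2046, 2179, 2194, 2199, 2501, 2573, 2731, 2732, 2769, 3013, 3041, 3042, 3092, 3185, 3286, 3332, 3351, 3472, 3473, 3501]), (243, [7, 64, 116, 126, 150,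 173, 206, 209, 235, 237, 238, 241, 243, 244, 269, 295, 303, 338, 371, 376, 401, 430, 433, 434, 435, 464, 574, 577, 578, 667, 695, 755, 759, 798, 836, 866, 878, 889, 959, 964, 1007, 1020, 1026, 1061, 1091, 1176, 1183, 1209, 1211, 1238, 1258, 1261, 1279, 1282, 1316, 1350, 1363, 1375, 1380, 1390, 1405, 1418, 1460, 1492, 1504, 1550, 1572, 1615, 1624, 1637, 1721, 1723, 1741, 1746, 1758, 1788, 1820, 1860, 1863, 1879, 1908, 1918, 1932, 1934, 1946, 1955, 1992, 1993, 2008, 2024, 2061, 2069, 2072, 2085, 2087, 2091, 2095, 2098, 2101, 2108, 2125, 2133, 2134, 2157, 2158, 2211, 2235, 2272, 2276, 2307, 2311, 2339, 2349, 2357, 2377, 2390, 2393, 2394, 2438, 2457, 2469, 2472, 2518, 2535, 2542, 2571, 2576, 2591, 2626, 2632, 2665,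 2694, 2715, 2725, 2726, 2735, 2781, 2790, 2799, 2817, 2828, 2830, 2831, 2842, 2845, 2879, 2897, 2949, 2980, 2986, 2990, 2992, 2993, 2999, 3004, 3010, 3014, 3016, 3021, 3030, 3037, 3079, 3087, 3098, 3108, 3124, 3132, 3135, 3142, 3154, 3158, 3161, 3172, 3186, 3203, 3215, 3216, 3246, 3247, 3250, 3251, 3258, 3260, 3273, 3279, 3316, 3322, 3333, 3336, 3339, 3343, 3359, 3371, 3372, 3373, 3374, 3376, 3387, 3388, 3394, 3399, 3422, 3429, 3440, 3441, 3443, 3447, 3449, 3453, 3461, 3462, 3468, 3477, 3490])]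
  refs := [([5, 1], 71, 68), ([6, 5, 0, 1], 210, 370)]

end Cfsg.Agent.Spor.Cos.Fi22Outer
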