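import Cfsg.Agent.Lib.Spor.Cos.Fi22Outer.Points
import Cfsg.Agent.Lib.Spor.Cos.Fi22Outer.ChainChk
import Cfsg.Agent.Lib.Classical.OmegaEightTwo.Two
import Cfsg.Agent.S0817
import Cfsg.Agent.Lib.Classical.QuadClass

/-!
The fixed group of the graph automorphism is the automorphism group of the orthogonal group of plus type.
-/

set_option autoImplicit false
set_option maxRecDepth 100000
set_option maxHeartbeats 1000000

namespace Cfsg.Agent.Spor.Cos.Fi22Outer

open Cfsg.Agent.Spor.Cos.Fi22 (actB homB piB baseB g g_gen g_sq)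
open Cfsg.Agent.Fus.Transp Cfsg.Agent.Fus.Fi22Out Cfsg.Agent.Spor.Cos.Fi22Aut
open Cfsg.Agent.Classical.OmegaEightTwo (G0 piA vec num nsV genP gT act_table rfv)
open scoped Matrix

/-- The fixed group. -/
noncomputable def C0 : Subgroup Cfsg.Spor.Fi22 := fixC dat0

theorem aut0 : dat0.aut = psi := mul_one _

theorem mem_C0 {y : Cfsg.Spor.Fi22} : y ∈ C0 ↔ psi y = y := by
  rw [C0, mem_fixC, aut0]

theorem card_C0 : Nat.card C0 = 1045094400 := by
  rw [C0, (fixC_facts ok0).1]
  decide +kernel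

theorem bases0 : dat0.bases = baseW.map Prod.fst := by decide +kernel

theorem TX_mem_C0 {p : Fin actX.N} (h : (p : ℕ) ∈ fixL0) : TX p ∈ C0 := by
  rw [mem_C0, ← TX_pX, (psi_fixed_mem p).2 h]

/-- A class of fixed points. -/
def clS (i : Fin 3) : Set (Fin actX.N) := {p | (p : ℕ) ∈ clL.getD i []}

theorem clL_sub (i : Fin 3) {p : ℕ} (h : p ∈ clL.getD i []) : p ∈ fixL0 := by
  refine List.mem_flatten.2 ⟨_, ?_, h⟩
  rw [List.getD_eq_getElem _ _ (show (i : ℕ) < clL.length from i.2)]
  exact List.getElem_mem _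

theorem cl_lists : ((List.range 3).all fun i => Nat.beq (clL.getD i []).length 120 &&
    decide (clL.getD i []).Nodup && (clL.getD i []).all fun p => (List.range 3).all fun j =>
      Nat.beq i j || !((clL.getD j []).contains p)) = true := by decide +kernel

theorem cl_spec (i : Fin 3) : (clL.getD i []).length = 120 ∧ (clL.getD i []).Nodup ∧
    ∀ p ∈ clL.getD i [], ∀ j : Fin 3, p ∈ clL.getD j [] → j = i := by
  have h := List.all_eq_true.1 cl_lists i (List.mem_range.2 i.2)
  simp only [Bool.and_eq_true, List.all_eq_true, Bool.or_eq_true, Bool.not_eq_true', decide_eq_true_eq,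
    List.contains_eq_mem, decide_eq_false_iff_not] at h
  refine ⟨Nat.eq_of_beq_eq_true h.1.1, h.1.2, fun p hp j hj => ?_⟩
  rcases h.2 p hp j (List.mem_range.2 j.2) with e | e
  · exact (Fin.ext (Nat.eq_of_beq_eq_true e)).symm
  · exact absurd hj e

theorem ncard_clS (i : Fin 3) : (clS i).ncard = 120 := by
  obtain ⟨hl, hn, -⟩ := cl_spec i
  rw [← Set.ncard_image_of_injective (clS i) Fin.val_injective,
    show Fin.val '' clS i = ((clL.getD i []).toFinset : Set ℕ) from Set.ext fun x => by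
      simp only [Set.mem_image, clS, Set.mem_setOf_eq, List.coe_toFinset]
      exact ⟨fun ⟨p, hp, e⟩ => e ▸ hp,
        fun hx => ⟨⟨x, (conj_pf (fixL0_ok (clL_sub i hx))).2.2⟩, hx, rfl⟩⟩,
    Set.ncard_coe_finset, List.toFinset_card_of_nodup hn, hl]

theorem clS_injective : Function.Injective clS := by
  intro i j h
  obtain ⟨p, hp⟩ : (clS i).Nonempty := Set.nonempty_of_ncard_ne_zero (by rw [ncard_clS]; norm_num)
  have hp' : p ∈ clS j := h ▸ hp
  exact ((cl_spec i).2.2 p hp j hp').symm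

theorem cl_cover {p : Fin actX.N} (h : (p : ℕ) ∈ fixL0) : ∃ i : Fin 3, p ∈ clS i := by
  obtain ⟨l, hl, hp⟩ := List.mem_flatten.1 h
  obtain ⟨i, hi, rfl⟩ := List.getElem_of_mem hl
  refine ⟨⟨i, hi⟩, ?_⟩
  show (p : ℕ) ∈ clL.getD i []
  rw [List.getD_eq_getElem _ _ hi]
  exact hp

/-- Points of different classes do not commute. -/
noncomputable def chkCross (i v : ℕ) : Bool :=
  (List.range 3).all fun j => !(Nat.blt i j) ||
    (clL.getD j []).all fun x => !(Nat.beq (actX.go (tWord ptW v) x) x)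

theorem cross0 : (clL.getD 0 []).all (chkCross 0) = true := by decide +kernel

theorem cross1 : (clL.getD 1 []).all (chkCross 1) = true := by decide +kernel

theorem comm_class {i j : Fin 3} {v x : Fin actX.N} (hv : v ∈ clS i) (hx : x ∈ clS j)
    (hc : piX (TX v) x = x) : i = j := by
  have key : ∀ {i j : Fin 3} {v x : Fin actX.N}, v ∈ clS i → x ∈ clS j → piX (TX v) x = x → ¬ i < j := by
    intro i j v x hv hx hc hlt
    have hlist : (clL.getD i []).all (chkCross i) = true := by
      obtain ⟨i, hi⟩ := i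
      interval_cases i
      · exact cross0
      · exact cross1
      · exact absurd hlt (by simp only [Fin.lt_def]; omega)
    have h := List.all_eq_true.1 hlist v hv
    simp only [chkCross, List.all_eq_true, Bool.or_eq_true, Bool.not_eq_true'] at h
    rcases h j (List.mem_range.2 j.2) with h | h
    · exact absurd (Nat.ble_eq_true_of_le hlt) (Bool.eq_false_iff.1 h)
    · have := h x hx
      rw [← go_TX (fixL0_ok (clL_sub i hv)), hc, Nat.beq_refl] at this
      exact Bool.noConfusion this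
  rcases lt_trichotomy i j with h | h | h
  · exact absurd h (key hv hx hc)
  · exact h
  · exact absurd h (key hx hv (comm_pts.1 hc))

/-- Every point of a class is joined to the first of it in two steps. -/
noncomputable def chkJoin (i : ℕ) : Bool :=
  (clL.getD i []).all fun x => (clL.getD i []).any fun v =>
    Nat.beq (actX.go (tWord ptW v) x) x &&
      Nat.beq (actX.go (tWord ptW v) ((clL.getD i []).getD 0 0)) ((clL.getD i []).getD 0 0)

theorem join_ok : (List.range 3).all chkJoin = true := by decide +kernel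

theorem C0_class {y : Cfsg.Spor.Fi22} (hy : y ∈ C0) (i : Fin 3) : ∃ k, piX y '' clS i = clS k := by
  have hfix : ∀ p : Fin actX.N, (p : ℕ) ∈ fixL0 → (piX y p : ℕ) ∈ fixL0 := fun p hp => by
    rw [← psi_fixed_mem]
    refine TX_inj ?_
    rw [TX_pX, TX_piX, map_mul, map_mul, map_inv, mem_C0.1 hy, ← TX_pX, (psi_fixed_mem p).2 hp]
  obtain ⟨hl, -, -⟩ := cl_spec i
  set r := (clL.getD i []).getD 0 0 with hr
  have hrm : r ∈ clL.getD i [] := by
    rw [hr, List.getD_eq_getElem _ _ (show 0 < (clL.getD i []).length by omega)]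
    exact List.getElem_mem _
  let rp : Fin actX.N := ⟨r, (conj_pf (fixL0_ok (clL_sub i hrm))).2.2⟩
  obtain ⟨k, hk⟩ := cl_cover (hfix rp (clL_sub i hrm))
  refine ⟨k, Set.eq_of_subset_of_ncard_le ?_
    (by rw [Set.ncard_image_of_injective _ (Equiv.injective _), ncard_clS, ncard_clS])⟩
  rintro _ ⟨x, hx, rfl⟩
  have h := List.all_eq_true.1 (List.all_eq_true.1 join_ok i (List.mem_range.2 i.2)) x hx
  simp only [List.any_eq_true, Bool.and_eq_true] at h
  obtain ⟨v, hv, h1, h2⟩ := h
  let vp : Fin actX.N := ⟨v, (conj_pf (fixL0_ok (clL_sub i hv))).2.2⟩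
  have hv' : okPt vp = true := fixL0_ok (clL_sub i hv)
  have e1 : piX (TX vp) x = x := Fin.ext ((go_TX hv' x).trans (Nat.eq_of_beq_eq_true h1))
  have e2 : piX (TX vp) rp = rp := Fin.ext ((go_TX hv' rp).trans (Nat.eq_of_beq_eq_true h2))
  obtain ⟨l, hlv⟩ := cl_cover (hfix vp (clL_sub i hv))
  obtain ⟨m, hmx⟩ := cl_cover (hfix x (clL_sub i hx))
  have c1 : piX (TX (piX y vp)) (piX y x) = piX y x := by rw [← piX_hom, e1]
  have c2 : piX (TX (piX y vp)) (piX y rp) = piX y rp := by rw [← piX_hom, e2]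
  rw [← comm_class hlv hk c2, comm_class hlv hmx c1]
  exact hmx

/-- The pairs of elements and permutations of the classes. -/
noncomputable def Rcl : Subgroup (Cfsg.Spor.Fi22 × Equiv.Perm (Fin 3)) :=
  rel piX (MonoidHom.id _) clS id ⊓ C0.comap (MonoidHom.fst _ _)

theorem exists_cl : ∃ f : C0 →* Equiv.Perm (Fin 3), ∀ (y : C0) i, piX y.1 '' clS i = clS (f y i) := by
  obtain ⟨f, hf, -, -⟩ := exists_hom Rcl C0 (by
    refine le_antisymm ?_ fun y hy => ?_
    · rintro _ ⟨p, hp, rfl⟩; exact hp.2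
    · choose σ hσ using C0_class hy
      have hinj : Function.Injective σ := fun a b h => clS_injective
        ((piX y).injective.image_injective ((hσ a).trans ((congrArg clS h).trans (hσ b).symm)))
      refine ⟨(y, Equiv.ofBijective σ (Finite.injective_iff_bijective.1 hinj)), ⟨⟨_, fun i => ⟨hσ i, rfl⟩⟩, hy⟩, rfl⟩)
    fun p hp h1 => Equiv.ext fun i => rel_fst_one clS_injective hp.1 h1 i
  refine ⟨f, fun y i => ?_⟩
  obtain ⟨σ, hσ⟩ := (hf y).1
  rw [(hσ i).1]
  exact congrArg clS (hσ i).2.symm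

/-- The action on the classes. -/
noncomputable def clHom : C0 →* Equiv.Perm (Fin 3) := exists_cl.choose

theorem clHom_spec (y : C0) (i : Fin 3) : piX y.1 '' clS i = clS (clHom y i) := exists_cl.choose_spec y i

theorem clHom_eq {y : C0} {p : Fin actX.N} {i k : Fin 3} (hp : p ∈ clS i) (h : piX y.1 p ∈ clS k) :
    clHom y i = k :=
  ((cl_spec (clHom y i)).2.2 _ ((clHom_spec y i).subset (Set.mem_image_of_mem _ hp)) k h).symm

/-- A pair of the four generators. -/
noncomputable def kA (s : Fin 4) : Fin actX.N := pf (kP.getD s (0, 0)).1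

/-- The second of a pair. -/
noncomputable def kB (s : Fin 4) : Fin actX.N := pf (kP.getD s (0, 0)).2

theorem kP_ok : (kP.all fun e => fixL0.contains e.1 && fixL0.contains e.2) = true := by decide +kernel

theorem kA_val (s : Fin 4) : (kA s : ℕ) = (kP.getD s (0, 0)).1 ∧ (kA s : ℕ) ∈ fixL0 ∧
    (kB s : ℕ) = (kP.getD s (0, 0)).2 ∧ (kB s : ℕ) ∈ fixL0 := by
  have h := List.all_eq_true.1 kP_ok (kP.getD s (0, 0)) (by
    rw [List.getD_eq_getElem _ _ (show (s : ℕ) < kP.length from s.2)]; exact List.getElem_mem _)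
  simp only [Bool.and_eq_true, List.contains_eq_mem, decide_eq_true_eq] at h
  have e1 : (kA s : ℕ) = (kP.getD s (0, 0)).1 := pf_val (conj_pf (fixL0_ok h.1)).2.2
  have e2 : (kB s : ℕ) = (kP.getD s (0, 0)).2 := pf_val (conj_pf (fixL0_ok h.2)).2.2
  exact ⟨e1, e1 ▸ h.1, e2, e2 ▸ h.2⟩

/-- A generator. -/
noncomputable def kGen (s : Fin 4) : Cfsg.Spor.Fi22 := TX (kA s) * TX (kB s)

theorem kGen_mem (s : Fin 4) : kGen s ∈ C0 :=
  mul_mem (TX_mem_C0 (kA_val s).2.1) (TX_mem_C0 (kA_val s).2.2.2)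

/-- The move of a point by a generator. -/
noncomputable def kGo (s p : ℕ) : ℕ :=
  actX.go (tWord ptW (kP.getD s (0, 0)).1) (actX.go (tWord ptW (kP.getD s (0, 0)).2) p)

theorem kGen_apply (s : Fin 4) (p : Fin actX.N) : (piX (kGen s) p : ℕ) = kGo s p := by
  obtain ⟨e1, m1, e2, m2⟩ := kA_val s
  rw [kGen, go_pair (fixL0_ok m1) (fixL0_ok m2), kGo, e1, e2]

theorem kcl_ok : ((List.range 4).all fun s => (List.range 3).all fun i =>
    (clL.getD i []).contains (kGo s ((clL.getD i []).getD 0 0))) = true := by decide +kernel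

theorem clHom_kGen (s : Fin 4) : clHom ⟨kGen s, kGen_mem s⟩ = 1 := by
  refine Equiv.ext fun i => ?_
  obtain ⟨hl, -, -⟩ := cl_spec i
  have hrm : (clL.getD i []).getD 0 0 ∈ clL.getD i [] := by
    rw [List.getD_eq_getElem _ _ (show 0 < (clL.getD i []).length by omega)]
    exact List.getElem_mem _
  let rp : Fin actX.N := ⟨_, (conj_pf (fixL0_ok (clL_sub i hrm))).2.2⟩
  refine clHom_eq (p := rp) hrm ?_
  show (piX (kGen s) rp : ℕ) ∈ clL.getD i []
  rw [kGen_apply]
  have := List.all_eq_true.1 (List.all_eq_true.1 kcl_ok s (List.mem_range.2 s.2)) i (List.mem_range.2 i.2)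
  simpa only [List.contains_eq_mem, decide_eq_true_eq] using this

/-- The point of a vector of value one. -/
noncomputable def embP (i : Fin 120) : Fin actX.N := pf (embL.getD i 0)

/-- The vector of value one. -/
noncomputable def nsP (i : Fin 120) : Fin Cfsg.Agent.Classical.OmegaEightTwo.actA.N :=
  ⟨nsV.getD i 0 % 256, Nat.mod_lt _ (by norm_num)⟩

theorem nsP_val : ∀ i : Fin 120, nsV.getD i 0 % 256 = nsV.getD i 0 := by decide +kernel

theorem nsP_inj : Function.Injective nsP := by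
  intro i j h
  have h' : nsV.getD i 0 % 256 = nsV.getD j 0 % 256 := congrArg Fin.val h
  rw [nsP_val, nsP_val] at h'
  have key : (List.range 120).all (fun i => (List.range 120).all fun j =>
      Nat.beq i j || !(Nat.beq (nsV.getD i 0) (nsV.getD j 0))) = true := by decide +kernel
  have hh := List.all_eq_true.1 (List.all_eq_true.1 key i (List.mem_range.2 i.2)) j (List.mem_range.2 j.2)
  rw [h', Nat.beq_refl, Bool.not_true, Bool.or_false] at hh
  exact Fin.ext (Nat.eq_of_beq_eq_true hh)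

theorem emb_ok : ((List.range 120).all fun i => (clL.getD 0 []).contains (embL.getD i 0) &&
    (List.range 120).all fun j => Nat.beq i j || !(Nat.beq (embL.getD i 0) (embL.getD j 0))) = true := by
  decide +kernel

theorem embP_spec (i : Fin 120) : (embP i : ℕ) = embL.getD i 0 ∧ embP i ∈ clS 0 := by
  have h := List.all_eq_true.1 emb_ok i (List.mem_range.2 i.2)
  simp only [Bool.and_eq_true, List.contains_eq_mem, decide_eq_true_eq] at h
  have e : (embP i : ℕ) = embL.getD i 0 := pf_val (conj_pf (fixL0_ok (clL_sub 0 h.1))).2.2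
  exact ⟨e, show (embP i : ℕ) ∈ clL.getD 0 [] from e.symm ▸ h.1⟩

theorem embP_inj : Function.Injective embP := by
  intro i j h
  have h' := List.all_eq_true.1 emb_ok i (List.mem_range.2 i.2)
  simp only [Bool.and_eq_true, List.all_eq_true] at h'
  have hh := h'.2 j (List.mem_range.2 j.2)
  rw [← (embP_spec i).1, ← (embP_spec j).1, h, Nat.beq_refl, Bool.not_true, Bool.or_false] at hh
  exact Fin.ext (Nat.eq_of_beq_eq_true hh)

theorem embP_surj {p : Fin actX.N} (hp : p ∈ clS 0) : ∃ i, embP i = p := by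
  have e : Set.range embP = clS 0 := Set.eq_of_subset_of_ncard_le (by rintro _ ⟨i, rfl⟩; exact (embP_spec i).2)
    (by rw [Set.ncard_range_of_injective embP_inj, Nat.card_fin, ncard_clS])
  rw [← e] at hp
  exact hp

/-- The relation between the two actions. -/
noncomputable def R8 : Subgroup (Cfsg.Spor.Fi22 × G0) := rel piX piA (fun i => ({embP i} : Set _)) nsP

/-- The check of a generator in both actions. -/
noncomputable def chkK (s : ℕ) : Bool :=
  (List.range 120).all fun i => (List.range 120).any fun j =>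
    Nat.beq (nsV.getD j 0) (Cfsg.Agent.Classical.OmegaEightTwo.actA.im (nsV.getD i 0) s) &&
      Nat.beq (embL.getD j 0) (kGo s (embL.getD i 0))

theorem k_ok : ∀ s < 4, chkK s = true := by decide +kernel

theorem kGen_rel (s : Fin 4) : (kGen s, gT s) ∈ R8 := by
  have h := k_ok s s.2
  simp only [chkK, List.all_eq_true, List.any_eq_true, Bool.and_eq_true, List.mem_range] at h
  choose σ hlt h1 h2 using fun i : Fin 120 => h i i.2
  let f : Fin 120 → Fin 120 := fun i => ⟨σ i, hlt i⟩
  have e1 : ∀ i, piX (kGen s) (embP i) = embP (f i) := fun i => Fin.ext (by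
    rw [kGen_apply, (embP_spec i).1, (embP_spec (f i)).1]
    exact (Nat.eq_of_beq_eq_true (h2 i)).symm)
  have e2 : ∀ i, piA (gT s) (nsP i) = nsP (f i) := fun i => Fin.ext (by
    rw [Cfsg.Agent.Classical.OmegaEightTwo.homA.2 s, Cfsg.Agent.Spor.Cos.Act.perm_apply _
      Cfsg.Agent.Classical.OmegaEightTwo.act_inv s.2]
    show Cfsg.Agent.Classical.OmegaEightTwo.actA.im (nsV.getD i 0 % 256) s = nsV.getD (f i) 0 % 256
    rw [nsP_val, nsP_val]
    exact (Nat.eq_of_beq_eq_true (h1 i)).symm)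
  have hf : Function.Injective f := fun a b h => embP_inj ((piX (kGen s)).injective (by rw [e1, e1, h]))
  refine ⟨Equiv.ofBijective f (Finite.injective_iff_bijective.1 hf), fun i => ⟨?_, e2 i⟩⟩
  rw [Set.image_singleton, e1]
  rfl

/-- The paired generators. -/
noncomputable def T8 : Subgroup (Cfsg.Spor.Fi22 × G0) := Subgroup.closure (Set.range fun s : Fin 4 => (kGen s, gT s))

theorem T8_le : T8 ≤ R8 := (Subgroup.closure_le _).2 (by rintro _ ⟨s, rfl⟩; exact kGen_rel s)

theorem T8_fst_mem {p : Cfsg.Spor.Fi22 × G0} (hp : p ∈ T8) : p.1 ∈ C0 := by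
  have h : T8 ≤ C0.comap (MonoidHom.fst _ _) := (Subgroup.closure_le _).2 (by rintro _ ⟨s, rfl⟩; exact kGen_mem s)
  exact h hp

theorem base_in : ((List.range baseW.length).all fun i => embL.contains (baseW.getD i (0, [])).1) = true := by
  decide +kernel

theorem eq_one_of_emb {y : Cfsg.Spor.Fi22} (hy : y ∈ C0) (h : ∀ i, piX y (embP i) = embP i) : y = 1 := by
  refine residual ok0 hy fun c hc => ?_
  rw [bases0] at hc
  obtain ⟨e, he, rfl⟩ := List.mem_map.1 hc
  obtain ⟨n, hn, rfl⟩ := List.getElem_of_mem he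
  have hb := List.all_eq_true.1 base_in n (List.mem_range.2 hn)
  rw [List.getD_eq_getElem _ _ hn, List.contains_eq_mem, decide_eq_true_eq] at hb
  obtain ⟨i, hi, hie⟩ := List.getElem_of_mem hb
  have hlen : embL.length = 120 := by decide +kernel
  have := h ⟨i, hlen ▸ hi⟩
  rwa [embP, List.getD_eq_getElem _ _ hi, hie] at this

theorem T8_snd_one {p : Cfsg.Spor.Fi22 × G0} (hp : p ∈ T8) (h : p.2 = 1) : p.1 = 1 :=
  eq_one_of_emb (T8_fst_mem hp) fun i => by
    have := rel_snd_one nsP_inj (T8_le hp) h i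
    rwa [Set.image_singleton, Set.singleton_eq_singleton_iff] at this

/-- Each basis vector is the sum of two vectors of value one. -/
noncomputable def chkSpan (b : ℕ) : Bool :=
  (List.range 120).any fun i => (List.range 120).any fun j =>
    decide (vec (nsV.getD i 0) + vec (nsV.getD j 0) = vec b)

theorem span_ok : [1, 2, 4, 8, 16, 32, 64, 128].all chkSpan = true := by decide +kernel

theorem eq_one_of_ns {h : G0} (hh : ∀ i, piA h (nsP i) = nsP i) : h = 1 := by
  have hfix : ∀ i : Fin 120, Cfsg.Agent.Classical.OrthAut.ogVal h.1 *ᵥ vec (nsV.getD i 0) = vec (nsV.getD i 0) := by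
    intro i
    have e : num (Cfsg.Agent.Classical.OrthAut.ogVal h.1 *ᵥ vec (nsV.getD i 0 % 256)) = nsV.getD i 0 % 256 :=
      congrArg Fin.val (hh i)
    rw [nsP_val] at e
    have := congrArg vec e
    rwa [Cfsg.Agent.Classical.OmegaEightTwo.vec_num] at this
  refine Cfsg.Agent.Classical.OmegaEightTwo.det h fun q hq => Fin.ext ?_
  have hs := List.all_eq_true.1 span_ok q hq
  simp only [chkSpan, List.any_eq_true, decide_eq_true_eq, List.mem_range] at hs
  obtain ⟨i, hi, j, hj, e⟩ := hs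
  show num (Cfsg.Agent.Classical.OrthAut.ogVal h.1 *ᵥ vec q.1) = q.1
  rw [← e, Matrix.mulVec_add, hfix ⟨i, hi⟩, hfix ⟨j, hj⟩, e]
  exact Cfsg.Agent.Classical.OmegaEightTwo.num_vec q.1 q.2

theorem T8_fst_one {p : Cfsg.Spor.Fi22 × G0} (hp : p ∈ T8) (h : p.1 = 1) : p.2 = 1 :=
  eq_one_of_ns fun i => rel_fst_one (fun a b e => embP_inj (Set.singleton_eq_singleton_iff.1 e)) (T8_le hp) h i

/-- The subgroup isomorphic to the orthogonal group. -/
noncomputable def K0 : Subgroup Cfsg.Spor.Fi22 := T8.map (MonoidHom.fst _ _)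

theorem K0_le : K0 ≤ C0 := by rintro _ ⟨p, hp, rfl⟩; exact T8_fst_mem hp

theorem exists_iso8 : ∃ f : K0 ≃* G0, ∀ y : K0, ((y : Cfsg.Spor.Fi22), f y) ∈ T8 := by
  obtain ⟨f, hf, -, hrange⟩ := exists_hom T8 K0 rfl fun p hp => T8_fst_one hp
  have hsurj : f.range = ⊤ := by
    rw [hrange, T8, MonoidHom.map_closure, eq_top_iff, ← Cfsg.Agent.Classical.OmegaEightTwo.gen]
    refine Subgroup.closure_mono ?_
    rintro _ ⟨s, hs, rfl⟩
    exact ⟨_, ⟨⟨s, hs⟩, rfl⟩, rfl⟩
  have hinj : Function.Injective f := (injective_iff_map_eq_one f).2 fun y hy =>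
    Subtype.ext (T8_snd_one (hf y) hy)
  exact ⟨MulEquiv.ofBijective f ⟨hinj, MonoidHom.range_eq_top.1 hsurj⟩, hf⟩

theorem card_K0 : Nat.card K0 = 174182400 := by
  obtain ⟨f, -⟩ := exists_iso8
  rw [Nat.card_congr f.toEquiv, Cfsg.Agent.Classical.OmegaEightTwo.card_G0]

/-- Two fixed points of the first and second class. -/
noncomputable def swapP (i : ℕ) : ℕ := (clL.getD i []).getD 0 0

theorem swap_ok : ((clL.getD 2 []).contains (actX.go (tWord ptW (swapP 0)) (swapP 1)) &&
    (clL.getD 2 []).contains (actX.go (tWord ptW (swapP 1)) (swapP 0))) = true := by decide +kernel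

theorem range_clHom : clHom.range = ⊤ := by
  have hm : ∀ i : Fin 3, swapP i ∈ clL.getD i [] := fun i => by
    obtain ⟨hl, -, -⟩ := cl_spec i
    rw [swapP, List.getD_eq_getElem _ _ (show 0 < (clL.getD i []).length by omega)]
    exact List.getElem_mem _
  let P : Fin 3 → Fin actX.N := fun i => ⟨swapP i, (conj_pf (fixL0_ok (clL_sub i (hm i)))).2.2⟩
  have hP : ∀ i, P i ∈ clS i := hm
  let t : Fin 3 → C0 := fun i => ⟨TX (P i), TX_mem_C0 (clL_sub i (hP i))⟩
  have hs := swap_ok
  simp only [Bool.and_eq_true, List.contains_eq_mem, decide_eq_true_eq] at hs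
  have hval : ∀ i r, (piX (t i).1 r : ℕ) = actX.go (tWord ptW (swapP i)) r := fun i r =>
    go_TX (fixL0_ok (clL_sub i (hP i))) r
  have h00 : clHom (t 0) 0 = 0 := clHom_eq (hP 0) (by
    show piX (TX (P 0)) (P 0) ∈ clS 0
    rw [(comm_TX _ _).1 rfl]; exact hP 0)
  have h01 : clHom (t 0) 1 = 2 := clHom_eq (hP 1) (show (piX (t 0).1 (P 1) : ℕ) ∈ clL.getD 2 [] by rw [hval]; exact hs.1)
  have h11 : clHom (t 1) 1 = 1 := clHom_eq (hP 1) (by
    show piX (TX (P 1)) (P 1) ∈ clS 1
    rw [(comm_TX _ _).1 rfl]; exact hP 1)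
  have h10 : clHom (t 1) 0 = 2 := clHom_eq (hP 0) (show (piX (t 1).1 (P 0) : ℕ) ∈ clL.getD 2 [] by rw [hval]; exact hs.2)
  have e0 : clHom (t 0) = Equiv.swap 1 2 := by
    generalize clHom (t 0) = σ at h00 h01
    revert h00 h01; revert σ; decide
  have e1 : clHom (t 1) = Equiv.swap 0 2 := by
    generalize clHom (t 1) = σ at h11 h10
    revert h11 h10; revert σ; decide
  have m0 : Equiv.swap (1 : Fin 3) 2 ∈ clHom.range := ⟨_, e0⟩
  have m1 : Equiv.swap (0 : Fin 3) 2 ∈ clHom.range := ⟨_, e1⟩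
  rw [eq_top_iff]
  intro σ _
  have key : ∀ σ : Equiv.Perm (Fin 3), σ = 1 ∨ σ = Equiv.swap 1 2 ∨ σ = Equiv.swap 0 2 ∨
      σ = Equiv.swap 1 2 * Equiv.swap 0 2 ∨ σ = Equiv.swap 0 2 * Equiv.swap 1 2 ∨
      σ = Equiv.swap 1 2 * Equiv.swap 0 2 * Equiv.swap 1 2 := by decide
  rcases key σ with rfl | rfl | rfl | rfl | rfl | rfl
  exacts [one_mem _, m0, m1, mul_mem m0 m1, mul_mem m1 m0, mul_mem (mul_mem m0 m1) m0]

theorem ker_clHom : clHom.ker = K0.subgroupOf C0 := by
  have := Fi22.finite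
  have hle : K0 ≤ clHom.ker.map C0.subtype := by
    rw [K0, T8, MonoidHom.map_closure, Subgroup.closure_le]
    rintro _ ⟨_, ⟨s, rfl⟩, rfl⟩
    exact ⟨⟨kGen s, kGen_mem s⟩, clHom_kGen s, rfl⟩
  refine (Subgroup.eq_of_le_of_card_ge ?_ ?_).symm
  · intro x hx
    obtain ⟨z, hz, e⟩ := hle (Subgroup.mem_subgroupOf.1 hx)
    exact Subtype.ext e ▸ hz
  · rw [Nat.card_congr (Subgroup.subgroupOfEquivOfLe K0_le).toEquiv, card_K0]
    have h := clHom.ker.card_mul_index
    rw [Subgroup.index_ker, range_clHom, Subgroup.card_top, card_C0, Nat.card_perm, Nat.card_fin] at h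
    rw [show Nat.factorial 3 = 6 from rfl] at h
    omega

theorem K0_normal {y x : Cfsg.Spor.Fi22} (hy : y ∈ C0) (hx : x ∈ K0) : y * x * y⁻¹ ∈ K0 := by
  have : (K0.subgroupOf C0).Normal := ker_clHom ▸ inferInstance
  exact this.conj_mem ⟨x, K0_le hx⟩ hx ⟨y, hy⟩

theorem C0_normalizes : C0 ≤ Subgroup.normalizer (K0 : Set Cfsg.Spor.Fi22) := fun y hy =>
  Subgroup.mem_normalizer_iff.2 fun x => ⟨fun hx => K0_normal hy hx, fun hx => by
    have := K0_normal (inv_mem hy) hx
    simpa [mul_assoc] using this⟩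

/-- A word in the generators. -/
noncomputable def kProd (w : List ℕ) : Cfsg.Spor.Fi22 := (w.map fun s => kGen (Fin.ofNat 4 s)).prod

/-- The move of a point by a word. -/
noncomputable def kWGo : List ℕ → ℕ → ℕ
  | [], p => p
  | s :: w, p => kGo (s % 4) (kWGo w p)

theorem kProd_apply : ∀ (w : List ℕ) (p : Fin actX.N), (piX (kProd w) p : ℕ) = kWGo w p
  | [], p => by simp [kProd, kWGo]
  | s :: w, p => by
    rw [kProd, List.map_cons, List.prod_cons, map_mul, Equiv.Perm.mul_apply, kGen_apply]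
    show kGo _ (piX (kProd w) p : ℕ) = _
    rw [kProd_apply w p]
    rfl

theorem kProd_mem : ∀ w : List ℕ, kProd w ∈ K0
  | [] => one_mem _
  | s :: w => by
    rw [kProd, List.map_cons, List.prod_cons]
    exact mul_mem ⟨_, Subgroup.subset_closure ⟨Fin.ofNat 4 s, rfl⟩, rfl⟩ (kProd_mem w)

theorem stab_ok : (fixL0.all fun x => Nat.beq x 10 || stabW.any fun w => !(Nat.beq (kWGo w x) x)) = true ∧
    (stabW.all fun w => Nat.beq (kWGo w 10) 10) = true ∧
    (baseW.all fun e => Nat.beq (kWGo e.2 10) e.1) = true ∧ fixL0.contains 10 = true := by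
  refine ⟨?_, ?_, ?_, ?_⟩ <;> decide +kernel

theorem eq_one_of_centralizes {y : Cfsg.Spor.Fi22} (hy : y ∈ C0) (h : ∀ k ∈ K0, y * k = k * y) : y = 1 := by
  obtain ⟨hs, hf, hb, h10⟩ := stab_ok
  simp only [List.contains_eq_mem, decide_eq_true_eq] at h10
  have hv10 : (pf 10 : ℕ) = 10 := pf_val (by norm_num)
  have hcm : ∀ (w : List ℕ) p, piX y (piX (kProd w) p) = piX (kProd w) (piX y p) := fun w p => by
    rw [← Equiv.Perm.mul_apply, ← map_mul, h _ (kProd_mem w), map_mul, Equiv.Perm.mul_apply]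
  have hy10 : piX y (pf 10) = pf 10 := by
    have hmem : (piX y (pf 10) : ℕ) ∈ fixL0 := by
      rw [← psi_fixed_mem]
      refine TX_inj ?_
      rw [TX_pX, TX_piX, map_mul, map_mul, map_inv, mem_C0.1 hy, ← TX_pX,
        (psi_fixed_mem _).2 (hv10.symm ▸ h10)]
    have h1 := List.all_eq_true.1 hs _ hmem
    simp only [Bool.or_eq_true, List.any_eq_true, Bool.not_eq_true'] at h1
    rcases h1 with h1 | ⟨w, hw, h1⟩
    · exact Fin.ext ((Nat.eq_of_beq_eq_true h1).trans hv10.symm)
    · exfalso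
      have e : piX (kProd w) (pf 10) = pf 10 := Fin.ext (by
        rw [kProd_apply, hv10]; exact Nat.eq_of_beq_eq_true (List.all_eq_true.1 hf w hw))
      have := hcm w (pf 10)
      rw [e] at this
      rw [← kProd_apply, ← this, Nat.beq_refl] at h1
      exact Bool.noConfusion h1
  refine residual ok0 hy fun c hc => ?_
  rw [bases0] at hc
  obtain ⟨e, he, rfl⟩ := List.mem_map.1 hc
  have e1 : piX (kProd e.2) (pf 10) = pf e.1 := by
    refine (pf_self _).symm.trans (congrArg pf ?_)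
    rw [kProd_apply, hv10]
    exact Nat.eq_of_beq_eq_true (List.all_eq_true.1 hb e he)
  rw [← e1, hcm, hy10]

theorem card_aut_G0 : Nat.card (MulAut G0) = 1045094400 := by
  have h := Cfsg.Agent.S0817.result (F := ZMod 2) 2 1 le_rfl (by rw [ZMod.card]; norm_num) 4 le_rfl
  rw [← Cfsg.Agent.Classical.coe_qfPlus] at h
  let e : Cfsg.POmega (ZMod 2) ⇑Cfsg.Agent.Classical.OmegaEightTwo.QQ ≃* G0 :=
    (QuotientGroup.quotientMulEquivOfEq Cfsg.Agent.Classical.OmegaEightTwo.center_eq_bot).trans QuotientGroup.quotientBot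
  rw [← Nat.card_congr (MulAut.congr e).toEquiv]
  refine h.trans ?_
  rw [Nat.card_congr e.toEquiv, Cfsg.Agent.Classical.OmegaEightTwo.card_G0]
  norm_num

/-- The fixed group is the automorphism group. -/
theorem C0_iso : Nonempty (C0 ≃* MulAut G0) := by
  have := Fi22.finite
  obtain ⟨f, -⟩ := exists_iso8
  let φ : C0 →* MulAut K0 := K0.normalizerMonoidHom.comp (Subgroup.inclusion C0_normalizes)
  have hinj : Function.Injective φ := (injective_iff_map_eq_one _).2 fun y hy => by
    refine Subtype.ext (eq_one_of_centralizes y.2 fun k hk => ?_)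
    have : (y : Cfsg.Spor.Fi22) * k * (y : Cfsg.Spor.Fi22)⁻¹ = k :=
      congrArg (fun σ : MulAut K0 => ((σ ⟨k, hk⟩ : K0) : Cfsg.Spor.Fi22)) hy
    exact mul_inv_eq_iff_eq_mul.1 this
  have hcard : Nat.card C0 = Nat.card (MulAut K0) := by
    rw [card_C0, Nat.card_congr (MulAut.congr f).toEquiv, card_aut_G0]
  haveI : Finite (MulAut K0) := Nat.finite_of_card_ne_zero (by rw [← hcard, card_C0]; norm_num)
  exact ⟨(MulEquiv.ofBijective φ ((Nat.bijective_iff_injective_and_card φ).2 ⟨hinj, hcard⟩)).trans (MulAut.congr f)⟩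

end Cfsg.Agent.Spor.Cos.Fi22Outer
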