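import Cfsg.Agent.Lib.Spor.Cos.Fi22Aut.Bound

/-!
Pairs of elements moving labelled sets of points and labelled vectors in the same way, and homomorphisms from them.
-/

set_option autoImplicit false
set_option maxRecDepth 100000
set_option maxHeartbeats 1000000

namespace Cfsg.Agent.Spor.Cos.Fi22Outer

section Rel

variable {G H X V ι : Type*} [Group G] [Group H] (π : G →* Equiv.Perm X) (ρ : H →* Equiv.Perm V) (S : ι → Set X)
  (v : ι → V)

/-- A pair moves the sets and the vectors in the same way. -/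
def rel : Subgroup (G × H) where
  carrier := {p | ∃ σ : Equiv.Perm ι, ∀ i, π p.1 '' S i = S (σ i) ∧ ρ p.2 (v i) = v (σ i)}
  one_mem' := ⟨1, fun i => ⟨by simp, by simp⟩⟩
  mul_mem' := fun {x y} ⟨σ, hσ⟩ ⟨τ, hτ⟩ => ⟨σ * τ, fun i => ⟨by
    rw [Prod.fst_mul, map_mul, Equiv.Perm.coe_mul, Set.image_comp, (hτ i).1, (hσ _).1, Equiv.Perm.mul_apply], by
    rw [Prod.snd_mul, map_mul, Equiv.Perm.mul_apply, (hτ i).2, (hσ _).2, Equiv.Perm.mul_apply]⟩⟩
  inv_mem' := fun {x} ⟨σ, hσ⟩ => ⟨σ⁻¹, fun i => ⟨by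
    have h := (hσ (σ⁻¹ i)).1
    rw [← Equiv.Perm.mul_apply, mul_inv_cancel, Equiv.Perm.one_apply] at h
    rw [Prod.fst_inv, ← h, ← Set.image_comp, ← Equiv.Perm.coe_mul, ← map_mul, inv_mul_cancel, map_one,
      Equiv.Perm.coe_one, Set.image_id], by
    have h := (hσ (σ⁻¹ i)).2
    rw [← Equiv.Perm.mul_apply σ, mul_inv_cancel, Equiv.Perm.one_apply] at h
    rw [Prod.snd_inv, map_inv, Equiv.Perm.inv_eq_iff_eq, h]⟩⟩

variable {π ρ S v}

theorem rel_snd_one (hv : Function.Injective v) {p : G × H} (hp : p ∈ rel π ρ S v) (h : p.2 = 1) (i : ι) :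
    π p.1 '' S i = S i := by
  obtain ⟨σ, hσ⟩ := hp
  have e := (hσ i).2
  rw [h, map_one, Equiv.Perm.one_apply] at e
  rw [(hσ i).1, ← hv e]

theorem rel_fst_one (hS : Function.Injective S) {p : G × H} (hp : p ∈ rel π ρ S v) (h : p.1 = 1) (i : ι) :
    ρ p.2 (v i) = v i := by
  obtain ⟨σ, hσ⟩ := hp
  have e := (hσ i).1
  rw [h, map_one, Equiv.Perm.coe_one, Set.image_id] at e
  rw [(hσ i).2, ← hS e]

end Rel

/-- The homomorphism of a subgroup of pairs. -/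
theorem exists_hom {G H : Type*} [Group G] [Group H] (R : Subgroup (G × H)) (K : Subgroup G)
    (hK : R.map (MonoidHom.fst G H) = K) (inj : ∀ p ∈ R, p.1 = 1 → p.2 = 1) :
    ∃ f : K →* H, (∀ y : K, ((y : G), f y) ∈ R) ∧
      (∀ p ∈ R, ∀ y : K, (y : G) = p.1 → f y = p.2) ∧ f.range = R.map (MonoidHom.snd G H) := by
  have hex : ∀ y : K, ∃ h, ((y : G), h) ∈ R := fun y => by
    obtain ⟨⟨a, b⟩, hp, e⟩ := hK.ge y.2
    exact ⟨b, by rw [← e]; exact hp⟩
  choose f hf using hex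
  have huniq : ∀ (y : K) (h : H), ((y : G), h) ∈ R → f y = h := fun y h hh => by
    have := inj _ (R.mul_mem (R.inv_mem (hf y)) hh) (inv_mul_cancel _)
    exact inv_mul_eq_one.1 this
  refine ⟨{ toFun := f
            map_one' := huniq 1 1 R.one_mem
            map_mul' := fun x y => huniq _ _ (R.mul_mem (hf x) (hf y)) }, hf, fun p hp y e => ?_, ?_⟩
  · exact huniq y p.2 (by rw [e]; exact hp)
  · ext h
    constructor
    · rintro ⟨y, rfl⟩
      exact ⟨_, hf y, rfl⟩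
    · rintro ⟨⟨a, b⟩, hp, rfl⟩
      exact ⟨⟨a, hK.le ⟨_, hp, rfl⟩⟩, huniq _ _ hp⟩

end Cfsg.Agent.Spor.Cos.Fi22Outer
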