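import Cfsg.Agent.Lib.Spor.Cos.Fi22Outer.Points
import Cfsg.Agent.Lib.Spor.Cos.Fi22Outer.ChainChk
import Cfsg.Agent.Lib.Classical.OrthPOmegaCard
import Cfsg.Agent.Lib.Classical.OrthGenModels
import Cfsg.Agent.S0288
import Cfsg.Prelude.Def_Solvable
import Cfsg.Prelude.Def_Transfer

/-!
The elements fixed by the product of the graph automorphism with two commuting transpositions.
-/

set_option autoImplicit false
set_option maxRecDepth 100000
set_option maxHeartbeats 1000000

open Matrix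

namespace Cfsg.Agent.Spor.Cos.Fi22Outer

open Cfsg.Agent.Spor.Cos.Fi22 (actB homB piB baseB g g_gen g_sq)
open Cfsg.Agent.Fus.Transp Cfsg.Agent.Fus.Fi22Out Cfsg.Agent.Spor.Cos.Fi22Aut
open Cfsg.Agent.Classical Cfsg.Agent.Classical.OrthAut

/-- Vectors. -/
abbrev V6 : Type := (Fin 2 ⊕ Fin 2) ⊕ Fin 2 → ZMod 2

/-- The form. -/
noncomputable abbrev QM : QuadraticForm (ZMod 2) V6 := qfMinus 2 (ZMod 2) 1 1

/-- Its isometries. -/
abbrev OM : Type := Cfsg.isometryGroup (ZMod 2) ⇑QM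

/-- The bit of a coordinate. -/
def pos6 : (Fin 2 ⊕ Fin 2) ⊕ Fin 2 → ℕ := Sum.elim (Sum.elim (fun i => i.1) fun i => 2 + i.1) fun i => 4 + i.1

/-- The vector of a number. -/
def vec6 (n : ℕ) : V6 := fun i => if n.testBit (pos6 i) then 1 else 0

/-- The number of a vector. -/
def num6 (v : V6) : ℕ :=
  (v (.inl (.inl 0))).val + 2 * (v (.inl (.inl 1))).val + 4 * (v (.inl (.inr 0))).val +
    8 * (v (.inl (.inr 1))).val + 16 * (v (.inr 0)).val + 32 * (v (.inr 1)).val

theorem num6_lt (v : V6) : num6 v < 64 := by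
  have h : ∀ a : ZMod 2, a.val < 2 := fun a => ZMod.val_lt a
  have := h (v (.inl (.inl 0))); have := h (v (.inl (.inl 1))); have := h (v (.inl (.inr 0)))
  have := h (v (.inl (.inr 1))); have := h (v (.inr 0)); have := h (v (.inr 1))
  unfold num6; omega

theorem num6_vec6 : ∀ n < 64, num6 (vec6 n) = n := by decide +kernel

theorem vec6_num6 (v : V6) : vec6 (num6 v) = v := by
  revert v
  decide +kernel

/-- The value of the form, in plain terms. -/
def qM (v : V6) : ZMod 2 :=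
  v (.inl (.inl 0)) * v (.inl (.inr 0)) + v (.inl (.inl 1)) * v (.inl (.inr 1)) +
    (v (.inr 0) * v (.inr 0) + v (.inr 0) * v (.inr 1) + v (.inr 1) * v (.inr 1))

theorem QM_apply (v : V6) : QM v = qM v := by
  rw [coe_qfMinus, Cfsg.quadFormMinus, Fin.sum_univ_two, qM]
  ring

/-- The reflection in a vector, by the form. -/
def rfM (a : ℕ) (x : V6) : V6 := x - (qM (vec6 a + x) - qM (vec6 a) - qM x) • vec6 a

/-- The number has value one. -/
def isN6 (a : ℕ) : Bool := decide (qM (vec6 a) = 1)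

theorem zmod2_cases : ∀ c : ZMod 2, c = 0 ∨ c = 1 := by decide

theorem isN6_iff {a : ℕ} : isN6 a = true ↔ QM (vec6 a) ≠ 0 := by
  rw [isN6, decide_eq_true_iff, QM_apply]
  rcases zmod2_cases (qM (vec6 a)) with e | e <;> simp [e]

/-- The reflection of a number. -/
noncomputable def rM (a : ℕ) : OM := if h : isN6 a = true then refl (isN6_iff.1 h) else 1

theorem rM_apply {a : ℕ} (h : isN6 a = true) (x : V6) : ogVal (rM a) *ᵥ x = rfM a x := by
  have h1 : qM (vec6 a) = 1 := by simpa [isN6] using h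
  rw [rM, dif_pos h, refl_apply, QuadraticMap.polar, QM_apply, QM_apply, QM_apply, rfM, h1, inv_one, one_mul]

/-- The action on the numbers. -/
noncomputable def piM : OM →* Equiv.Perm (Fin 64) where
  toFun g :=
    { toFun := fun p => ⟨num6 (ogVal g *ᵥ vec6 p.1), num6_lt _⟩
      invFun := fun p => ⟨num6 (ogVal g⁻¹ *ᵥ vec6 p.1), num6_lt _⟩
      left_inv := fun p => Fin.ext (by
        show num6 (_ *ᵥ vec6 (num6 _)) = p.1
        rw [vec6_num6, ogVal_inv_cancel]
        exact num6_vec6 p.1 p.2)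
      right_inv := fun p => Fin.ext (by
        show num6 (_ *ᵥ vec6 (num6 _)) = p.1
        rw [vec6_num6, ogVal_cancel_inv]
        exact num6_vec6 p.1 p.2) }
  map_one' := Equiv.ext fun p => Fin.ext (by
    show num6 (_ *ᵥ vec6 p.1) = p.1
    rw [ogVal_one, Matrix.one_mulVec]
    exact num6_vec6 p.1 p.2)
  map_mul' g h := Equiv.ext fun p => Fin.ext (by
    show num6 (_ *ᵥ vec6 p.1) = num6 (_ *ᵥ vec6 (num6 _))
    rw [vec6_num6, Matrix.mulVec_mulVec, ← ogVal_mul])

theorem detM {h : OM} (hh : ∀ n : Fin 36, ogVal h *ᵥ vec6 (blkV.getD n 0) = vec6 (blkV.getD n 0)) : h = 1 := by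
  have key : ∀ j : (Fin 2 ⊕ Fin 2) ⊕ Fin 2, ∃ a b : Fin 36,
      Pi.single j 1 = vec6 (blkV.getD a 0) + vec6 (blkV.getD b 0) := by decide +kernel
  refine ogVal_ext (Matrix.ext_of_mulVec_single fun i => ?_)
  obtain ⟨a, b, e⟩ := key i
  rw [ogVal_one, Matrix.one_mulVec, e, Matrix.mulVec_add, hh a, hh b]

theorem blkV_ok : ((List.range 36).all fun i => Nat.blt (blkV.getD i 0) 64 && isN6 (blkV.getD i 0)) = true ∧
    (∀ n < 64, isN6 n = true → ∃ i < 36, blkV.getD i 0 = n) ∧
    (∀ i < 36, ∀ j < 36, blkV.getD i 0 = blkV.getD j 0 → i = j) := by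
  refine ⟨?_, ?_, ?_⟩ <;> decide +kernel

/-- The vector of a pair. -/
noncomputable def vP (i : Fin 36) : Fin 64 := ⟨blkV.getD i 0 % 64, Nat.mod_lt _ (by norm_num)⟩

theorem vP_val (i : Fin 36) : (vP i : ℕ) = blkV.getD i 0 ∧ isN6 (blkV.getD i 0) = true := by
  have h := List.all_eq_true.1 blkV_ok.1 i (List.mem_range.2 i.2)
  rw [Bool.and_eq_true] at h
  exact ⟨Nat.mod_eq_of_lt (Nat.le_of_ble_eq_true h.1), h.2⟩

theorem vP_inj : Function.Injective vP := fun i j h => by
  have h' := congrArg Fin.val h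
  rw [(vP_val i).1, (vP_val j).1] at h'
  exact Fin.ext (blkV_ok.2.2 i i.2 j j.2 h')

/-- The first point of a pair. -/
noncomputable def bA (i : Fin 36) : Fin actX.N := pf (blkL.getD i (0, 0)).1

/-- The second point of a pair. -/
noncomputable def bB (i : Fin 36) : Fin actX.N := pf (blkL.getD i (0, 0)).2

/-- The sets of the pairs. -/
def bS (i : Fin 36) : Set (Fin actX.N) := {bA i, bB i}

theorem blk_ok : (blkL.all fun e => okPt e.1 && okPt e.2 && Nat.beq (actX.go [9, 3, 8] e.1) e.1 &&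
      Nat.beq (actX.go [9, 3, 8] e.2) e.2) = true ∧ blkL.length = 36 ∧
    (blkL.flatMap fun e => [e.1, e.2]).Nodup := by
  refine ⟨?_, ?_, ?_⟩ <;> decide +kernel

theorem bA_spec (i : Fin 36) : ((bA i : ℕ) = (blkL.getD i (0, 0)).1 ∧ okPt (bA i) = true) ∧
    ((bB i : ℕ) = (blkL.getD i (0, 0)).2 ∧ okPt (bB i) = true) ∧
    pX dat2.aut (bA i) = bA i ∧ pX dat2.aut (bB i) = bB i := by
  have h := List.all_eq_true.1 blk_ok.1 (blkL.getD i (0, 0)) (by
    rw [List.getD_eq_getElem _ _ (blk_ok.2.1.symm ▸ i.2)]; exact List.getElem_mem _)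
  simp only [Bool.and_eq_true] at h
  obtain ⟨⟨⟨h1, h2⟩, h3⟩, h4⟩ := h
  have e1 : (bA i : ℕ) = (blkL.getD i (0, 0)).1 := pf_val (conj_pf h1).2.2
  have e2 : (bB i : ℕ) = (blkL.getD i (0, 0)).2 := pf_val (conj_pf h2).2.2
  have htau : dat2.tau = [9, 3, 8] := by decide +kernel
  refine ⟨⟨e1, e1 ▸ h1⟩, ⟨e2, e2 ▸ h2⟩, Fin.ext ?_, Fin.ext ?_⟩
  · rw [CData.aut, htau, pX_ev (by decide), e1]; exact Nat.eq_of_beq_eq_true h3
  · rw [CData.aut, htau, pX_ev (by decide), e2]; exact Nat.eq_of_beq_eq_true h4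

theorem blk_cover : ∀ x < 3510, (!(Nat.beq (actX.go [9, 3, 8] x) x) ||
    blkL.any fun e => Nat.beq x e.1 || Nat.beq x e.2) = true := by
  refine of_blocks (size := 512) (b := 7) (by decide) (by decide) fun j hj => ?_
  interval_cases j <;> decide +kernel

theorem fixed_blk {p : Fin actX.N} (h : pX dat2.aut p = p) : ∃ i, p = bA i ∨ p = bB i := by
  have htau : dat2.tau = [9, 3, 8] := by decide +kernel
  have hs := blk_cover p p.2
  have h' := congrArg Fin.val h
  rw [CData.aut, htau, pX_ev (by decide)] at h'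
  simp only [h', Nat.beq_refl, Bool.not_true, Bool.false_or, List.any_eq_true, Bool.or_eq_true] at hs
  obtain ⟨e, he, hx⟩ := hs
  obtain ⟨n, hn, rfl⟩ := List.getElem_of_mem he
  refine ⟨⟨n, blk_ok.2.1 ▸ hn⟩, hx.imp (fun hx => Fin.ext ?_) fun hx => Fin.ext ?_⟩
  · rw [(bA_spec _).1.1, List.getD_eq_getElem _ _ hn]; exact Nat.eq_of_beq_eq_true hx
  · rw [(bA_spec _).2.1.1, List.getD_eq_getElem _ _ hn]; exact Nat.eq_of_beq_eq_true hx

theorem blk_disj : ((List.range 36).all fun i => (List.range 36).all fun j => Nat.beq i j ||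
    (!(Nat.beq (blkL.getD i (0, 0)).1 (blkL.getD j (0, 0)).1) && !(Nat.beq (blkL.getD i (0, 0)).1 (blkL.getD j (0, 0)).2)))
      = true := by decide +kernel

theorem bS_inj : Function.Injective bS := by
  intro i j h
  by_contra hne
  have hd := List.all_eq_true.1 (List.all_eq_true.1 blk_disj i (List.mem_range.2 i.2)) j (List.mem_range.2 j.2)
  simp only [Bool.or_eq_true, Bool.and_eq_true, Bool.not_eq_true'] at hd
  rcases hd with hd | ⟨h1, h2⟩
  · exact hne (Fin.ext (Nat.eq_of_beq_eq_true hd))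
  · have hm : bA i ∈ bS j := h ▸ Set.mem_insert _ _
    rcases hm with hm | hm
    · rw [← (bA_spec i).1.1, ← (bA_spec j).1.1, hm, Nat.beq_refl] at h1; exact Bool.noConfusion h1
    · rw [Set.mem_singleton_iff] at hm
      rw [← (bA_spec i).1.1, ← (bA_spec j).2.1.1, hm, Nat.beq_refl] at h2; exact Bool.noConfusion h2

/-- The relation. -/
noncomputable def RM : Subgroup (Cfsg.Spor.Fi22 × OM) := rel piX piM bS vP

/-- Both points of a pair move the pairs as the reflection does. -/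
noncomputable def chkBlk (p v : ℕ) : Bool :=
  (List.range 36).all fun i => (List.range 36).any fun j =>
    decide (vec6 (blkV.getD j 0) = rfM v (vec6 (blkV.getD i 0))) &&
      ((Nat.beq (actX.go (tWord ptW p) (blkL.getD i (0, 0)).1) (blkL.getD j (0, 0)).1 &&
          Nat.beq (actX.go (tWord ptW p) (blkL.getD i (0, 0)).2) (blkL.getD j (0, 0)).2) ||
        (Nat.beq (actX.go (tWord ptW p) (blkL.getD i (0, 0)).1) (blkL.getD j (0, 0)).2 &&
          Nat.beq (actX.go (tWord ptW p) (blkL.getD i (0, 0)).2) (blkL.getD j (0, 0)).1))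

theorem blk_moves : ∀ k < 36, (chkBlk (blkL.getD k (0, 0)).1 (blkV.getD k 0) &&
    chkBlk (blkL.getD k (0, 0)).2 (blkV.getD k 0)) = true := by
  intro k hk
  interval_cases k <;> decide +kernel

theorem pair_rel (k : Fin 36) (p : Fin actX.N) (hp : okPt p = true) (h : chkBlk p (blkV.getD k 0) = true) :
    (TX p, rM (blkV.getD k 0)) ∈ RM := by
  simp only [chkBlk, List.all_eq_true, List.any_eq_true, Bool.and_eq_true, Bool.or_eq_true, decide_eq_true_eq,
    List.mem_range] at h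
  choose σ hlt hv hm using fun i : Fin 36 => h i i.2
  let f : Fin 36 → Fin 36 := fun i => ⟨σ i, hlt i⟩
  have e2 : ∀ i, piM (rM (blkV.getD k 0)) (vP i) = vP (f i) := fun i => Fin.ext (by
    show num6 (ogVal (rM _) *ᵥ vec6 (vP i).1) = _
    rw [(vP_val i).1, rM_apply (vP_val k).2, ← hv i, (vP_val (f i)).1]
    exact num6_vec6 _ ((vP_val (f i)).1 ▸ (vP (f i)).2))
  have hf : Function.Injective f := fun a b hab => vP_inj ((piM (rM (blkV.getD k 0))).injective (by rw [e2, e2, hab]))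
  refine ⟨Equiv.ofBijective f (Finite.injective_iff_bijective.1 hf), fun i => ⟨?_, e2 i⟩⟩
  show piX (TX p) '' {bA i, bB i} = {bA (f i), bB (f i)}
  rw [Set.image_pair]
  have val : ∀ r, (piX (TX p) r : ℕ) = actX.go (tWord ptW p) r := go_TX hp
  rcases hm i with ⟨h1, h2⟩ | ⟨h1, h2⟩
  · rw [show piX (TX p) (bA i) = bA (f i) from Fin.ext (by
        rw [val, (bA_spec i).1.1, (bA_spec (f i)).1.1]; exact Nat.eq_of_beq_eq_true h1),
      show piX (TX p) (bB i) = bB (f i) from Fin.ext (by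
        rw [val, (bA_spec i).2.1.1, (bA_spec (f i)).2.1.1]; exact Nat.eq_of_beq_eq_true h2)]
  · rw [show piX (TX p) (bA i) = bB (f i) from Fin.ext (by
        rw [val, (bA_spec i).1.1, (bA_spec (f i)).2.1.1]; exact Nat.eq_of_beq_eq_true h1),
      show piX (TX p) (bB i) = bA (f i) from Fin.ext (by
        rw [val, (bA_spec i).2.1.1, (bA_spec (f i)).1.1]; exact Nat.eq_of_beq_eq_true h2), Set.pair_comm]

/-- The generating pairs. -/
noncomputable def TM : Subgroup (Cfsg.Spor.Fi22 × OM) :=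
  Subgroup.closure {x | ∃ k, x = (TX (bA k), rM (blkV.getD k 0)) ∨ x = (TX (bB k), rM (blkV.getD k 0))}

theorem TM_le : TM ≤ RM := (Subgroup.closure_le _).2 (by
  rintro x ⟨k, hx⟩
  have h := blk_moves k k.2
  rw [Bool.and_eq_true] at h
  rcases hx with rfl | rfl
  · exact pair_rel k _ (bA_spec k).1.2 (by rw [(bA_spec k).1.1]; exact h.1)
  · exact pair_rel k _ (bA_spec k).2.1.2 (by rw [(bA_spec k).2.1.1]; exact h.2))

theorem TM_fst_one {p : Cfsg.Spor.Fi22 × OM} (hp : p ∈ TM) (h : p.1 = 1) : p.2 = 1 := by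
  refine detM fun n => ?_
  have := congrArg (fun q : Fin 64 => vec6 q.1) (rel_fst_one bS_inj (TM_le hp) h n)
  change vec6 (num6 _) = _ at this
  rwa [vec6_num6, (vP_val n).1] at this

/-- The fixed group. -/
noncomputable def C2 : Subgroup Cfsg.Spor.Fi22 := fixC dat2

theorem card_C2 : Nat.card C2 = 3317760 := by
  rw [C2, (fixC_facts ok2).1]
  decide +kernel

theorem C2_gens : TM.map (MonoidHom.fst _ _) = C2 := by
  rw [C2, (fixC_facts ok2).2, TM, MonoidHom.map_closure, CData.gens]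
  congr 1
  ext t
  constructor
  · rintro ⟨x, ⟨k, hx⟩, rfl⟩
    rcases hx with rfl | rfl
    exacts [⟨_, (bA_spec k).2.2.1, rfl⟩, ⟨_, (bA_spec k).2.2.2, rfl⟩]
  · rintro ⟨p, hp, rfl⟩
    obtain ⟨i, rfl | rfl⟩ := fixed_blk hp
    exacts [⟨_, ⟨i, Or.inl rfl⟩, rfl⟩, ⟨_, ⟨i, Or.inr rfl⟩, rfl⟩]

theorem hab11 : ∀ z₁ z₂ : ZMod 2, z₁ ^ 2 + 1 * z₁ * z₂ + 1 * z₂ ^ 2 = 0 → z₁ = 0 ∧ z₂ = 0 := by decide

theorem card_OM : Nat.card OM = 51840 := by
  have h := Cfsg.Agent.S0288.result (F := ZMod 2) (ZMod.card 2) 3 (by norm_num) 1 1 hab11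
  rw [show (3 : ℕ) - 1 = 2 from rfl, ← coe_qfMinus] at h
  refine h.trans ?_
  norm_num [Finset.prod_range_succ]

theorem exists_toOM : ∃ f : C2 →* OM, (∀ y : C2, ((y : Cfsg.Spor.Fi22), f y) ∈ TM) ∧
    (∀ p ∈ TM, ∀ y : C2, (y : Cfsg.Spor.Fi22) = p.1 → f y = p.2) ∧ Function.Surjective f := by
  obtain ⟨f, hf, hu, hrange⟩ := exists_hom TM C2 C2_gens fun p hp => TM_fst_one hp
  refine ⟨f, hf, hu, ?_⟩
  rw [← MonoidHom.range_eq_top, hrange, eq_top_iff]
  intro x _
  have hx : x ∈ reflGroup QM := by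
    rw [reflGroup_eq_top_gen (nondegenerate_qfMinus 2 hab11) (genQ_of_card (Or.inr (by simp)))]; trivial
  refine (Subgroup.closure_le _).2 ?_ hx
  rintro x ⟨v, hv, rfl⟩
  have hns : isN6 (num6 v) = true := isN6_iff.2 (by rw [vec6_num6]; exact hv)
  obtain ⟨i, hi, he⟩ := blkV_ok.2.1 (num6 v) (num6_lt v) hns
  refine ⟨_, Subgroup.subset_closure ⟨⟨i, hi⟩, Or.inl rfl⟩, ?_⟩
  show rM (blkV.getD i 0) = refl hv
  rw [he, rM, dif_pos hns]
  exact refl_congr _ _ (c := 1) (by rw [one_smul, vec6_num6])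

/-- The homomorphism. -/
noncomputable def toOM : C2 →* OM := exists_toOM.choose

theorem toOM_mem (y : C2) : ((y : Cfsg.Spor.Fi22), toOM y) ∈ TM := exists_toOM.choose_spec.1 y

theorem toOM_eq {p : Cfsg.Spor.Fi22 × OM} (hp : p ∈ TM) (y : C2) (h : (y : Cfsg.Spor.Fi22) = p.1) :
    toOM y = p.2 := exists_toOM.choose_spec.2.1 p hp y h

theorem toOM_surj : Function.Surjective toOM := exists_toOM.choose_spec.2.2

theorem card_ker : Nat.card toOM.ker = 64 := by
  have h := toOM.ker.card_mul_index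
  rw [Subgroup.index_ker, MonoidHom.range_eq_top.2 toOM_surj, Subgroup.card_top, card_OM, card_C2] at h
  exact Nat.eq_of_mul_eq_mul_right (show 0 < 51840 by norm_num) (h.trans (by norm_num))

/-- The points of the generators of the kernel of a number. -/
def oPts (n : ℕ) : List ℕ :=
  ((List.range 6).filter fun j => n.testBit j).flatMap fun j => [(oGen.getD j (0, 0)).1, (oGen.getD j (0, 0)).2]

/-- The images of the points of the pairs. -/
noncomputable def oImg (n : ℕ) : List ℕ := blkL.map fun e => actX.go (prodW dat2.pts (oPts n)) e.1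

theorem oPts_ok : ((List.range 64).all fun n => (oPts n).all fun p => chkP dat2.pts p) = true := by decide +kernel

theorem oImg_distinct : ∀ n < 64, ∀ m < n, oImg n ≠ oImg m := by
  intro n hn
  interval_cases n <;> decide +kernel

theorem oGen_in : oGen.all (fun e => blkL.contains e) = true ∧ oGen.length = 6 := by
  constructor <;> decide +kernel

/-- A generator of the kernel. -/
noncomputable def oEl (j : Fin 6) : Cfsg.Spor.Fi22 := TX (pf (oGen.getD j (0, 0)).1) * TX (pf (oGen.getD j (0, 0)).2)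

/-- The group of the six generators. -/
noncomputable def O6 : Subgroup Cfsg.Spor.Fi22 := Subgroup.closure (Set.range oEl)

theorem oEl_blk (j : Fin 6) : ∃ i, oEl j = TX (bA i) * TX (bB i) := by
  have h := List.all_eq_true.1 oGen_in.1 (oGen.getD j (0, 0)) (by
    rw [List.getD_eq_getElem _ _ (oGen_in.2.symm ▸ j.2)]; exact List.getElem_mem _)
  rw [List.contains_eq_mem, decide_eq_true_eq] at h
  obtain ⟨n, hn, e⟩ := List.getElem_of_mem h
  refine ⟨⟨n, blk_ok.2.1 ▸ hn⟩, ?_⟩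
  rw [oEl, bA, bB, List.getD_eq_getElem _ _ hn, e]

theorem oEl_ker (j : Fin 6) : ∃ h : oEl j ∈ C2, toOM ⟨oEl j, h⟩ = 1 := by
  obtain ⟨i, e⟩ := oEl_blk j
  rw [e]
  have hA : (TX (bA i), rM (blkV.getD i 0)) ∈ TM := Subgroup.subset_closure ⟨i, Or.inl rfl⟩
  have hB : (TX (bB i), rM (blkV.getD i 0)) ∈ TM := Subgroup.subset_closure ⟨i, Or.inr rfl⟩
  have hc : TX (bA i) * TX (bB i) ∈ C2 := C2_gens ▸ ⟨_, mul_mem hA hB, rfl⟩
  refine ⟨hc, (toOM_eq (mul_mem hA hB) ⟨_, hc⟩ rfl).trans ?_⟩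
  show rM _ * rM _ = 1
  rw [rM, dif_pos (vP_val i).2]
  exact refl_mul_self _

theorem O6_le : O6 ≤ toOM.ker.map C2.subtype := (Subgroup.closure_le _).2 (by
  rintro _ ⟨j, rfl⟩
  obtain ⟨h, hk⟩ := oEl_ker j
  exact ⟨⟨_, h⟩, hk, rfl⟩)

theorem O6_eq : O6 = toOM.ker.map C2.subtype := by
  have := Fi22.finite
  refine Subgroup.eq_of_le_of_card_ge O6_le ?_
  rw [Subgroup.card_map_of_injective C2.subtype_injective, card_ker]
  have hmem : ∀ n : Fin 64, yOf (oPts n) ∈ O6 := by
    intro n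
    rw [yOf, oPts, List.map_flatMap]
    induction ((List.range 6).filter fun j => (n : ℕ).testBit j) with
    | nil => exact one_mem _
    | cons a l ih =>
      rw [List.flatMap_cons, List.prod_append]
      refine mul_mem ?_ ih
      by_cases ha : a < 6
      · refine Subgroup.subset_closure ⟨⟨a, ha⟩, ?_⟩
        simp [oEl]
      · have : oGen.getD a (0, 0) = (0, 0) := List.getD_eq_default _ _ (by rw [oGen_in.2]; omega)
        rw [this]
        simp [TX_sq]
  refine le_trans (Nat.card_fin 64).ge (Nat.card_le_card_of_injective (fun n : Fin 64 => (⟨_, hmem n⟩ : O6)) ?_)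
  have himg : ∀ n : Fin 64, blkL.map (fun e => (piX (yOf (oPts n)) (pf e.1) : ℕ)) = oImg n := by
    intro n
    refine List.map_congr_left fun e he => ?_
    obtain ⟨hc, hok⟩ := conj_yOf (D := dat2) fun p hp =>
      List.all_eq_true.1 (List.all_eq_true.1 oPts_ok n (List.mem_range.2 n.2)) p hp
    show (pX (MulAut.conj (yOf (oPts n))) (pf e.1) : ℕ) = _
    have h := List.all_eq_true.1 blk_ok.1 e he
    simp only [Bool.and_eq_true] at h
    rw [hc, pX_ev hok, pf_val (conj_pf h.1.1.1).2.2]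
  intro n m h
  have h' : oImg n = oImg m := by rw [← himg, ← himg, show yOf (oPts n) = yOf (oPts m) from congrArg Subtype.val h]
  rcases lt_trichotomy (n : ℕ) m with hlt | heq | hgt
  · exact absurd h'.symm (oImg_distinct m m.2 n hlt)
  · exact Fin.ext heq
  · exact absurd h' (oImg_distinct n n.2 m hgt)

theorem o_comm_ok : ((List.range 6).all fun i => (List.range 6).all fun j =>
    let a := oGen.getD i (0, 0); let b := oGen.getD j (0, 0)
    Nat.beq (actX.go (tWord ptW a.1) a.2) a.2 &&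
    ((Nat.beq (actX.go (tWord ptW a.1) (actX.go (tWord ptW a.2) b.1)) b.1 &&
      Nat.beq (actX.go (tWord ptW a.1) (actX.go (tWord ptW a.2) b.2)) b.2) ||
     (Nat.beq (actX.go (tWord ptW a.1) (actX.go (tWord ptW a.2) b.1)) b.2 &&
      Nat.beq (actX.go (tWord ptW a.1) (actX.go (tWord ptW a.2) b.2)) b.1))) = true := by decide +kernel

theorem oEl_rel (i j : Fin 6) : oEl i * oEl j = oEl j * oEl i ∧ oEl i * oEl i = 1 := by
  have h := List.all_eq_true.1 (List.all_eq_true.1 o_comm_ok i (List.mem_range.2 i.2)) j (List.mem_range.2 j.2)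
  simp only [Bool.and_eq_true, Bool.or_eq_true] at h
  obtain ⟨h0, h⟩ := h
  obtain ⟨a, ea⟩ := oEl_blk i
  obtain ⟨b, eb⟩ := oEl_blk j
  set A1 := pf (oGen.getD i (0, 0)).1
  set A2 := pf (oGen.getD i (0, 0)).2
  set B1 := pf (oGen.getD j (0, 0)).1
  set B2 := pf (oGen.getD j (0, 0)).2
  have ok : ∀ k : Fin 6, okPt (oGen.getD k (0, 0)).1 = true ∧ okPt (oGen.getD k (0, 0)).2 = true := by
    intro k
    have h := List.all_eq_true.1 oGen_in.1 (oGen.getD k (0, 0)) (by
      rw [List.getD_eq_getElem _ _ (oGen_in.2.symm ▸ k.2)]; exact List.getElem_mem _)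
    rw [List.contains_eq_mem, decide_eq_true_eq] at h
    have h' := List.all_eq_true.1 blk_ok.1 _ h
    simp only [Bool.and_eq_true] at h'
    exact ⟨h'.1.1.1, h'.1.1.2⟩
  have v : ∀ {p : ℕ}, okPt p = true → (pf p : ℕ) = p := fun hp => pf_val (conj_pf hp).2.2
  have okA : okPt A1 = true ∧ okPt A2 = true := by rw [v (ok i).1, v (ok i).2]; exact ok i
  have hA : TX A1 * TX A2 = TX A2 * TX A1 := (comm_TX _ _).2 (Fin.ext (by
    rw [go_TX okA.1, v (ok i).1, v (ok i).2]; exact Nat.eq_of_beq_eq_true h0))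
  refine ⟨?_, ?_⟩
  · have key : oEl i * oEl j * (oEl i)⁻¹ = oEl j := by
      show oEl i * (TX B1 * TX B2) * _ = _
      rw [← MulAut.conj_apply, map_mul, MulAut.conj_apply, MulAut.conj_apply, ← TX_piX, ← TX_piX]
      have val : ∀ r, (piX (oEl i) r : ℕ) = actX.go (tWord ptW A1) (actX.go (tWord ptW A2) r) := go_pair okA.1 okA.2
      rcases h with ⟨h1, h2⟩ | ⟨h1, h2⟩
      · rw [show piX (oEl i) B1 = B1 from Fin.ext (by
            rw [val, v (ok i).1, v (ok i).2, v (ok j).1]; exact Nat.eq_of_beq_eq_true h1),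
          show piX (oEl i) B2 = B2 from Fin.ext (by
            rw [val, v (ok i).1, v (ok i).2, v (ok j).2]; exact Nat.eq_of_beq_eq_true h2)]
        rfl
      · have hj0 := List.all_eq_true.1 (List.all_eq_true.1 o_comm_ok j
          (List.mem_range.2 j.2)) j (List.mem_range.2 j.2)
        simp only [Bool.and_eq_true] at hj0
        have okB : okPt B1 = true := by rw [v (ok j).1]; exact (ok j).1
        have hB : TX B1 * TX B2 = TX B2 * TX B1 := (comm_TX _ _).2 (Fin.ext (by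
          rw [go_TX okB, v (ok j).1, v (ok j).2]; exact Nat.eq_of_beq_eq_true hj0.1))
        rw [show piX (oEl i) B1 = B2 from Fin.ext (by
            rw [val, v (ok i).1, v (ok i).2, v (ok j).1, v (ok j).2]; exact Nat.eq_of_beq_eq_true h1),
          show piX (oEl i) B2 = B1 from Fin.ext (by
            rw [val, v (ok i).1, v (ok i).2, v (ok j).1, v (ok j).2]; exact Nat.eq_of_beq_eq_true h2), ← hB]
        rfl
    exact mul_inv_eq_iff_eq_mul.1 key
  · show TX A1 * TX A2 * (TX A1 * TX A2) = 1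
    rw [mul_assoc (TX A1), ← mul_assoc (TX A2), ← hA, mul_assoc (TX A1), TX_sq, mul_one, TX_sq]

theorem O6_comm : ∀ x ∈ O6, ∀ y ∈ O6, x * y = y * x := by
  intro x hx y hy
  have h1 : O6 ≤ Subgroup.centralizer (Set.range oEl) := (Subgroup.closure_le _).2 (by
    rintro _ ⟨i, rfl⟩
    exact Subgroup.mem_centralizer_iff.2 (by rintro _ ⟨j, rfl⟩; exact (oEl_rel j i).1))
  have h2 : O6 ≤ Subgroup.centralizer (O6 : Set Cfsg.Spor.Fi22) := (Subgroup.closure_le _).2 (by
    rintro _ ⟨i, rfl⟩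
    exact Subgroup.mem_centralizer_iff.2 fun z hz =>
      (Subgroup.mem_centralizer_iff.1 (h1 hz) _ ⟨i, rfl⟩).symm)
  exact Subgroup.mem_centralizer_iff.1 (h2 hy) x hx

theorem O6_sq : ∀ x ∈ O6, x * x = 1 := by
  intro x hx
  induction hx using Subgroup.closure_induction with
  | mem x hx => obtain ⟨i, rfl⟩ := hx; exact (oEl_rel i i).2
  | one => exact one_mul 1
  | mul a b ha hb ia ib => rw [mul_assoc, ← mul_assoc b, O6_comm b hb a ha, mul_assoc, ib, mul_one, ia]
  | inv a _ ia => rw [← _root_.mul_inv_rev, ia, inv_one]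

/-- Two points give an element of order three. -/
noncomputable def bad3 (a b : ℕ) : Bool :=
  okPt a && okPt b && !(Nat.beq (actX.go (tWord ptW a) b) b) &&
    Nat.beq (actX.go (tWord ptW a) b) (actX.go (tWord ptW b) a)

/-- No product of two points of different pairs lies in a normal subgroup of even prime power order. -/
noncomputable def chkBad (p w : ℕ) : Bool :=
  bad3 p w || blkL.any fun e => [e.1, e.2].any fun x =>
    Nat.beq (actX.go (tWord ptW x) p) p && force (actX.go (tWord ptW x) w) fun w' => bad3 w w'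

theorem bad_ok : ∀ i < 36, ((List.range 36).all fun k => Nat.beq i k ||
    (chkBad (blkL.getD i (0, 0)).1 (blkL.getD k (0, 0)).1 && chkBad (blkL.getD i (0, 0)).1 (blkL.getD k (0, 0)).2))
      = true := by
  intro i hi
  interval_cases i <;> decide +kernel

theorem braid_absurd {H : Subgroup Cfsg.Spor.Fi22} (hH : IsPGroup 2 H) {a b : Fin actX.N}
    (h : bad3 a b = true) (hm : TX a * TX b ∈ H) : False := by
  simp only [bad3, Bool.and_eq_true, Bool.not_eq_true'] at h
  obtain ⟨⟨⟨ha, hb⟩, hne⟩, he⟩ := h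
  have e : piX (TX a) b = piX (TX b) a := Fin.ext (by
    rw [go_TX ha, go_TX hb]; exact Nat.eq_of_beq_eq_true he)
  have e' := congrArg TX e
  rw [TX_piX, TX_piX, TX_inv, TX_inv] at e'
  have h3 : (TX a * TX b) ^ 3 = 1 := by
    rw [pow_succ, pow_two, show TX a * TX b * (TX a * TX b) * (TX a * TX b)
      = (TX a * TX b * TX a) * (TX b * TX a * TX b) by group, e',
      show TX b * TX a * TX b * (TX b * TX a * TX b) = TX b * (TX a * (TX b * TX b) * TX a) * TX b by group,
      TX_sq, mul_one, TX_sq, mul_one, TX_sq]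
  have h1 : TX a * TX b ≠ 1 := fun h1 => by
    have hab : a = b := TX_inj (by rw [mul_eq_one_iff_eq_inv.1 h1, TX_inv])
    subst hab
    rw [← go_TX ha, (comm_TX _ _).1 rfl, Nat.beq_refl] at hne
    exact Bool.noConfusion hne
  obtain ⟨k, hk⟩ := hH ⟨_, hm⟩
  have hk' : (TX a * TX b) ^ (2 ^ k) = 1 := congrArg Subtype.val hk
  have hcop : Nat.Coprime 3 (2 ^ k) := Nat.Coprime.pow_right k (by norm_num)
  exact h1 (orderOf_eq_one_iff.1 (Nat.eq_one_of_dvd_coprimes hcop (orderOf_dvd_of_pow_eq_one h3)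
    (orderOf_dvd_of_pow_eq_one hk')))

theorem pCore_C2 : Cfsg.pCore 2 C2 = toOM.ker := by
  have := Fi22.finite
  refine le_antisymm (sSup_le ?_) (le_sSup ⟨inferInstance, IsPGroup.of_card (n := 6) (by rw [card_ker]; norm_num)⟩)
  rintro N ⟨hN, hp⟩ y hy
  by_contra hne
  rw [MonoidHom.mem_ker] at hne
  obtain ⟨σ, hσ⟩ := TM_le (toOM_mem y)
  obtain ⟨i, hi⟩ : ∃ i, σ i ≠ i := by
    by_contra hall
    refine hne (detM fun n => ?_)
    have := congrArg (fun q : Fin 64 => vec6 q.1) ((hσ n).2.trans (congrArg vP (not_not.1 fun h => hall ⟨n, h⟩)))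
    change vec6 (num6 _) = _ at this
    rwa [vec6_num6, (vP_val n).1] at this
  set p := bA i with hpd
  set w := piX y.1 p with hwd
  have hTp : ∀ {q : Fin actX.N}, pX dat2.aut q = q → TX q ∈ C2 := fun hq => by
    rw [C2, mem_fixC, ← TX_pX, hq]
  have hwm : w ∈ bS (σ i) := (hσ i).1.subset (Set.mem_image_of_mem _ (Set.mem_insert _ _))
  have hpm : TX p * TX w ∈ N.map C2.subtype := by
    refine ⟨⟨TX p, hTp (bA_spec i).2.2.1⟩ * y * ⟨TX p, hTp (bA_spec i).2.2.1⟩⁻¹ * y⁻¹,
      N.mul_mem (hN.conj_mem y hy _) (N.inv_mem hy), ?_⟩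
    show TX p * y.1 * (TX p)⁻¹ * (y.1)⁻¹ = _
    rw [hwd, TX_piX, TX_inv, mul_assoc, mul_assoc, mul_assoc]
  have hPH : IsPGroup 2 (N.map C2.subtype) := hp.map _
  have h := List.all_eq_true.1 (bad_ok i i.2) (σ i) (List.mem_range.2 (σ i).2)
  simp only [Bool.or_eq_true, Bool.and_eq_true] at h
  rcases h with h | ⟨h1, h2⟩
  · exact hi (Fin.ext (Nat.eq_of_beq_eq_true h).symm)
  have hbad : chkBad p w = true := by
    rw [hpd, (bA_spec i).1.1]
    rcases hwm with e | e
    · rw [e, (bA_spec _).1.1]; exact h1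
    · rw [Set.mem_singleton_iff.1 e, (bA_spec _).2.1.1]; exact h2
  simp only [chkBad, force_eq, Bool.or_eq_true, List.any_eq_true, Bool.and_eq_true] at hbad
  rcases hbad with hbad | ⟨e, he, x, hx, hxp, hxw⟩
  · exact braid_absurd hPH hbad hpm
  obtain ⟨n, hn, rfl⟩ := List.getElem_of_mem he
  obtain ⟨q, hq, hqv, hqok⟩ : ∃ q : Fin actX.N, pX dat2.aut q = q ∧ (q : ℕ) = x ∧ okPt q = true := by
    have hsp := bA_spec ⟨n, blk_ok.2.1 ▸ hn⟩
    simp only [List.getD_eq_getElem _ _ hn] at hsp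
    rcases List.mem_cons.1 hx with rfl | hx
    · exact ⟨_, hsp.2.2.1, hsp.1.1, hsp.1.2⟩
    · obtain rfl := List.mem_singleton.1 hx
      exact ⟨_, hsp.2.2.2, hsp.2.1.1, hsp.2.1.2⟩
  subst hqv
  have e1 : piX (TX q) p = p := Fin.ext ((go_TX hqok p).trans (Nat.eq_of_beq_eq_true hxp))
  set w' := piX (TX q) w with hw'
  have hw'v : (w' : ℕ) = actX.go (tWord ptW q) w := go_TX hqok w
  rw [← hw'v] at hxw
  have hpm' : TX p * TX w' ∈ N.map C2.subtype := by
    obtain ⟨n', hn', en⟩ := hpm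
    refine ⟨⟨TX q, hTp hq⟩ * n' * ⟨TX q, hTp hq⟩⁻¹, hN.conj_mem n' hn' _, ?_⟩
    show TX q * n'.1 * (TX q)⁻¹ = _
    rw [show n'.1 = TX p * TX w from en, ← MulAut.conj_apply, map_mul, MulAut.conj_apply, MulAut.conj_apply,
      ← TX_piX, ← TX_piX, e1]
  refine braid_absurd hPH hxw ?_
  have := mul_mem (inv_mem hpm) hpm'
  rwa [_root_.mul_inv_rev, TX_inv, TX_inv, mul_assoc, ← mul_assoc (TX p) (TX p), TX_sq, one_mul] at this

/-- The fixed group is an extension of an elementary group of order 64 by the orthogonal group. -/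
theorem C2_structure : ∃ O : Subgroup Cfsg.Spor.Fi22, O = (Cfsg.pCore 2 C2).map C2.subtype ∧
    Cfsg.IsElementaryAbelian 2 O ∧ Nat.card O = 64 ∧ ∃ _ : (O.subgroupOf C2).Normal,
      Nonempty (C2 ⧸ O.subgroupOf C2 ≃* OM) := by
  refine ⟨O6, by rw [pCore_C2, O6_eq], ⟨⟨⟨fun a b => Subtype.ext (O6_comm a.1 a.2 b.1 b.2)⟩⟩,
    fun a ha => by rw [pow_two]; exact O6_sq a ha⟩, ?_, ?_⟩
  · rw [O6_eq, Subgroup.card_map_of_injective C2.subtype_injective, card_ker]
  have e : O6.subgroupOf C2 = toOM.ker := by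
    rw [O6_eq, Subgroup.subgroupOf, Subgroup.comap_map_eq_self_of_injective C2.subtype_injective]
  have hn : (O6.subgroupOf C2).Normal := by rw [e]; infer_instance
  exact ⟨hn, ⟨(QuotientGroup.quotientMulEquivOfEq e).trans
    (QuotientGroup.quotientKerEquivOfSurjective toOM toOM_surj)⟩⟩

end Cfsg.Agent.Spor.Cos.Fi22Outer
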