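import Cfsg.Agent.Lib.Spor.Cos.Fi22Outer.OuterCheck

/-! Checks of the tree. -/

set_option autoImplicit false
set_option maxRecDepth 100000
set_option maxHeartbeats 4000000
set_option Elab.async false

namespace Cfsg.Agent.Spor.Cos.Fi22Outer.Tree

theorem chunk0 : chkChunk 0 = true := by decide +kernel

theorem chunk1 : chkChunk 1 = true := by decide +kernel

theorem chunk2 : chkChunk 2 = true := by decide +kernel

theorem chunk3 : chkChunk 3 = true := by decide +kernel

end Cfsg.Agent.Spor.Cos.Fi22Outer.Tree
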