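import Cfsg.Agent.Lib.Spor.Cos.Fi22Outer.OuterCheck

/-! Checks of the tree. -/

set_option autoImplicit false
set_option maxRecDepth 100000
set_option maxHeartbeats 4000000
set_option Elab.async false

namespace Cfsg.Agent.Spor.Cos.Fi22Outer.Tree

theorem chunk4 : chkChunk 4 = true := by decide +kernel

theorem chunk5 : chkChunk 5 = true := by decide +kernel

theorem chunk6 : chkChunk 6 = true := by decide +kernel

theorem chunk7 : chkChunk 7 = true := by decide +kernel

theorem chunk8 : chkChunk 8 = true := by decide +kernel

theorem chunk9 : chkChunk 9 = true := by decide +kernel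

end Cfsg.Agent.Spor.Cos.Fi22Outer.Tree
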