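import Cfsg.Agent.Lib.Spor.Cos.Fi22Outer.OuterCheck

/-! Checks of the tree. -/

set_option autoImplicit false
set_option maxRecDepth 100000
set_option maxHeartbeats 4000000
set_option Elab.async false

namespace Cfsg.Agent.Spor.Cos.Fi22Outer.Tree

theorem chunk10 : chkChunk 10 = true := by decide +kernel

theorem chunk11 : chkChunk 11 = true := by decide +kernel

theorem chunk12 : chkChunk 12 = true := by decide +kernel

theorem chunk13 : chkChunk 13 = true := by decide +kernel

theorem chunk14 : chkChunk 14 = true := by decide +kernel

theorem chunk15 : chkChunk 15 = true := by decide +kernel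

theorem chunk16 : chkChunk 16 = true := by decide +kernel

theorem chunk17 : chkChunk 17 = true := by decide +kernel

theorem chunk18 : chkChunk 18 = true := by decide +kernel

end Cfsg.Agent.Spor.Cos.Fi22Outer.Tree
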