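import Cfsg.Agent.Lib.Spor.Cos.Fi22Outer.OuterCheck

/-! Checks of the tree. -/

set_option autoImplicit false
set_option maxRecDepth 100000
set_option maxHeartbeats 4000000
set_option Elab.async false

namespace Cfsg.Agent.Spor.Cos.Fi22Outer.Tree

theorem chunk19 : chkChunk 19 = true := by decide +kernel

theorem chunk20 : chkChunk 20 = true := by decide +kernel

theorem chunk21 : chkChunk 21 = true := by decide +kernel

theorem chunk22 : chkChunk 22 = true := by decide +kernel

theorem chunk23 : chkChunk 23 = true := by decide +kernel

theorem chunk24 : chkChunk 24 = true := by decide +kernel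

theorem chunk25 : chkChunk 25 = true := by decide +kernel

theorem chunk26 : chkChunk 26 = true := by decide +kernel

theorem chunk27 : chkChunk 27 = true := by decide +kernel

theorem chunk28 : chkChunk 28 = true := by decide +kernel

end Cfsg.Agent.Spor.Cos.Fi22Outer.Tree
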