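import Cfsg.Agent.Lib.Spor.Cos.Fi22Outer.OuterRoot
import Cfsg.Agent.Lib.Spor.Cos.Fi22Outer.OuterChk0
import Cfsg.Agent.Lib.Spor.Cos.Fi22Outer.OuterChk1
import Cfsg.Agent.Lib.Spor.Cos.Fi22Outer.OuterChk2
import Cfsg.Agent.Lib.Spor.Cos.Fi22Outer.OuterChk3

/-! Every involution fixing the tenth point is inner or conjugate to a representative. -/

set_option autoImplicit false
set_option maxRecDepth 100000
set_option maxHeartbeats 4000000

namespace Cfsg.Agent.Spor.Cos.Fi22Outer.Tree

open Cfsg.Agent.Fus.Transp Cfsg.Agent.Fus.Fi22Out Cfsg.Agent.Spor.Cos.Fi22Aut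

theorem chunks_ok : ∀ c < 29, chkChunk c = true := by
  intro c hc
  interval_cases c
  exacts [chunk0, chunk1, chunk2, chunk3, chunk4, chunk5, chunk6, chunk7, chunk8, chunk9, chunk10, chunk11, chunk12, chunk13, chunk14, chunk15, chunk16, chunk17, chunk18, chunk19, chunk20, chunk21, chunk22, chunk23, chunk24, chunk25, chunk26, chunk27, chunk28]

theorem size_le : size ≤ 29 * 128 := by decide

theorem node_ok {i : ℕ} (hi : i < size) : chkNode getN LT i = true ∧ childLt i = true := by
  have hc : i / 128 < 29 := by have := size_le; omega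
  have h := List.all_eq_true.1 (chunks_ok _ hc) (i % 128) (List.mem_range.2 (Nat.mod_lt _ (by norm_num)))
  rw [show i / 128 * 128 + i % 128 = i by omega] at h
  simp only [Bool.or_eq_true, Bool.not_eq_true', Bool.and_eq_true] at h
  rcases h with (h | h) | h
  · rw [Nat.eq_of_beq_eq_true h]; exact node_zero
  · exact absurd (Nat.ble_eq_true_of_le hi) (Bool.eq_false_iff.1 h)
  · exact h

theorem root_pairs : (getN 0).pairs.map (fun e => (e.1.p, e.2.p)) = [(10, 10)] ∧ (getN 0).li = 0 ∧ 0 < size := by
  refine ⟨?_, ?_, ?_⟩ <;> decide +kernel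

/-- An automorphism of order two fixing the tenth point is inner or conjugate to a representative. -/
theorem classify_ten {φ : MulAut Cfsg.Spor.Fi22} (hφ : φ * φ = 1) (h10 : pX φ (pf 10) = pf 10) : Concl φ := by
  obtain ⟨hp, hli, hpos⟩ := root_pairs
  refine node_closed size (fun i hi => (node_ok hi).1) (fun i hi j nli kids hk k hkm => ?_) size 0 hpos
    (by omega) ?_ φ hφ ?_
  · have h := (node_ok hi).2
    simp only [childLt, hk, List.all_eq_true] at h
    exact Nat.le_of_ble_eq_true (h k hkm)
  · intro χ _ _ k _ _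
    rw [hli]
    exact List.mem_range.2 (pX χ (pf (qs.getD k 0))).2
  · intro e he
    have hm : (e.1.p, e.2.p) ∈ [((10 : ℕ), (10 : ℕ))] := hp ▸ List.mem_map_of_mem he
    simp only [List.mem_singleton, Prod.mk.injEq] at hm
    rw [hm.1, hm.2, h10]

end Cfsg.Agent.Spor.Cos.Fi22Outer.Tree
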