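import Cfsg.Agent.Lib.Spor.Cos.Fi22Outer.Fixed
import Cfsg.Agent.Lib.Classical.SpSix.Two

/-!
The elements fixed by the product of the graph automorphism with one fixed transposition.
-/

set_option autoImplicit false
set_option maxRecDepth 100000
set_option maxHeartbeats 1000000

namespace Cfsg.Agent.Spor.Cos.Fi22Outer

open Cfsg.Agent.Spor.Cos.Fi22 (actB homB piB baseB g g_gen g_sq)
open Cfsg.Agent.Fus.Transp Cfsg.Agent.Fus.Fi22Out Cfsg.Agent.Spor.Cos.Fi22Aut

/-- The first automorphism composed with conjugation by the chosen transposition. -/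
noncomputable def aut1 : MulAut Cfsg.Spor.Fi22 := psi * MulAut.conj (g 3)

theorem aut1_ev : ev gX [9, 3] = aut1 := by
  show psi * (gX 3 * 1) = _
  rw [mul_one, gX_lo (by norm_num)]
  rfl

theorem g3_TX : g 3 = TX (pf 10) := by
  have e : pf 10 = ⟨qs.getD 3 0, setup.q_lt (s := 3) (by decide)⟩ := by
    refine Fin.ext ((pf_val (by norm_num)).trans ?_)
    decide +kernel
  rw [e]
  exact (setup.T_q (s := 3) (by decide)).symm

theorem ten_fixed : (10 : ℕ) ∈ fixL0 := by
  have := stab_ok.2.2.2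
  simpa only [List.contains_eq_mem, decide_eq_true_eq] using this

theorem psi_g3 : psi (g 3) = g 3 := psi_g 3 (by norm_num)

/-- The fixed points of the second automorphism, as a test. -/
noncomputable def fix1 (x : ℕ) : Bool := Nat.beq (actX.go [9, 3] x) x

/-- Every fixed point but the first fails to commute with a fixed point. -/
noncomputable def chkTen (x : ℕ) : Bool :=
  !(fix1 x) || (okPt x && (Nat.beq x 10 || sixL.any fun w => fix1 w && !(Nat.beq (actX.go (tWord ptW x) w) w)))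

theorem ten_only : ∀ x < 3510, chkTen x = true := by
  refine of_blocks (size := 512) (b := 7) (by decide) (by decide) fun j hj => ?_
  interval_cases j <;> decide +kernel

theorem ten_comm : ∀ x < 3510, (!(fix1 x) || Nat.beq (actX.go (tWord ptW 10) x) x) = true := by
  refine of_blocks (size := 512) (b := 7) (by decide) (by decide) fun j hj => ?_
  interval_cases j <;> decide +kernel

theorem fix1_iff (p : Fin actX.N) : pX aut1 p = p ↔ fix1 p = true := by
  rw [← aut1_ev, Fin.ext_iff, pX_ev (by decide) p, fix1]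
  exact ⟨fun h => by rw [h, Nat.beq_refl], Nat.eq_of_beq_eq_true⟩

theorem ten_ok : okPt 10 = true := fixL0_ok ten_fixed

theorem ten_val : (pf 10 : ℕ) = 10 := pf_val (by norm_num)

/-- An element fixed by the second automorphism commutes with the transposition. -/
theorem comm_of_fixed {y : Cfsg.Spor.Fi22} (hy : aut1 y = y) : piX y (pf 10) = pf 10 := by
  have hperm : ∀ p, pX aut1 p = p → pX aut1 (piX y p) = piX y p := fun p hp => TX_inj (by
    rw [TX_pX, TX_piX, map_mul, map_mul, map_inv, hy, ← TX_pX, hp])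
  have h10 : pX aut1 (pf 10) = pf 10 := TX_inj (by
    rw [TX_pX, ← g3_TX, aut1, MulAut.mul_apply, MulAut.conj_apply, mul_inv_cancel_right, psi_g3])
  have hq := hperm _ h10
  set q := piX y (pf 10) with hqd
  have h := ten_only q q.2
  simp only [chkTen, (fix1_iff q).1 hq, Bool.not_true, Bool.false_or, Bool.and_eq_true, Bool.or_eq_true,
    List.any_eq_true, Bool.not_eq_true'] at h
  obtain ⟨hok, h | ⟨w, hw, hwf, hne⟩⟩ := h
  · exact Fin.ext ((Nat.eq_of_beq_eq_true h).trans ten_val.symm)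
  · exfalso
    have hw' : okPt w = true := by
      have := listed_ok
      simp only [Bool.and_eq_true, List.all_eq_true] at this
      exact this.1.1.2 w hw
    have hwv : (pf w : ℕ) = w := pf_val (conj_pf hw').2.2
    have hwfix : pX aut1 (pf w) = pf w := (fix1_iff _).2 (by rw [hwv]; exact hwf)
    set z := (piX y).symm (pf w) with hz
    have hyz : piX y z = pf w := (piX y).apply_symm_apply _
    have hzfix : pX aut1 z = z := (piX y).injective (TX_inj (by
      rw [TX_piX, TX_pX, ← hy, ← map_inv, ← map_mul, ← map_mul, hy, ← TX_piX, hyz, ← TX_pX, hwfix]))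
    have hc : piX (TX (pf 10)) z = z := Fin.ext (by
      have := ten_comm z z.2
      simp only [(fix1_iff z).1 hzfix, Bool.not_true, Bool.false_or] at this
      rw [go_TX (ten_val.symm ▸ ten_ok), ten_val]
      exact Nat.eq_of_beq_eq_true this)
    have := congrArg (piX y) hc
    rw [piX_hom, ← hqd, hyz] at this
    have := congrArg Fin.val this
    rw [go_TX hok, hwv] at this
    rw [this, Nat.beq_refl] at hne
    exact Bool.noConfusion hne

theorem aut1_fixed_iff (y : Cfsg.Spor.Fi22) :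
    aut1 y = y ↔ y ∈ C0 ⊓ Subgroup.centralizer ({g 3} : Set Cfsg.Spor.Fi22) := by
  have hc : y * g 3 = g 3 * y ↔ piX y (pf 10) = pf 10 := by rw [g3_TX, comm_TX]
  rw [Subgroup.mem_inf, mem_C0, Subgroup.mem_centralizer_singleton_iff, hc]
  have key : piX y (pf 10) = pf 10 → aut1 y = psi y := fun h => by
    rw [aut1, MulAut.mul_apply, MulAut.conj_apply, ← hc.2 h, mul_inv_cancel_right]
  constructor
  · intro h
    exact ⟨(key (comm_of_fixed h)).symm.trans h, comm_of_fixed h⟩
  · rintro ⟨h1, h2⟩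
    rw [key h2, h1]

/-- The fixed group. -/
noncomputable def C1 : Subgroup Cfsg.Spor.Fi22 := C0 ⊓ Subgroup.centralizer ({g 3} : Set Cfsg.Spor.Fi22)

theorem card_C1 : Nat.card C1 = 2903040 := by
  have e : C1 = fixL dat0 (dat0.pre 1) := by
    ext y
    rw [mem_fixL, show dat0.pre 1 = [10] from by decide +kernel, C1, Subgroup.mem_inf,
      Subgroup.mem_centralizer_singleton_iff, g3_TX, comm_TX]
    simp only [List.mem_singleton, forall_eq]
    rfl
  rw [e, (level_card ok0 6 1 (by decide +kernel)).1]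
  decide +kernel

/-- The point of a generator. -/
noncomputable def sP (s : Fin 7) : Fin actX.N := pf (sixL.getD (Cfsg.Agent.Classical.SpSix.genV.getD s 0 - 1) 0)

theorem sP_ok : ((List.range 7).all fun s =>
    let p := sixL.getD (Cfsg.Agent.Classical.SpSix.genV.getD s 0 - 1) 0
    (clL.getD 0 []).contains p && Nat.beq (actX.go (tWord ptW 10) p) p &&
      (clL.getD 2 []).contains (actX.go (tWord ptW p) (swapP 1))) = true ∧
    swapP 0 = 10 := by
  constructor <;> decide +kernel

theorem sP_spec (s : Fin 7) : sP s ∈ clS 0 ∧ piX (TX (pf 10)) (sP s) = sP s ∧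
    (clL.getD 2 []).contains (actX.go (tWord ptW (sP s)) (swapP 1)) = true ∧ okPt (sP s) = true := by
  have h := List.all_eq_true.1 sP_ok.1 s (List.mem_range.2 s.2)
  simp only [Bool.and_eq_true, List.contains_eq_mem, decide_eq_true_eq] at h
  obtain ⟨⟨h1, h2⟩, h3⟩ := h
  have hok := fixL0_ok (clL_sub 0 h1)
  have hv : (sP s : ℕ) = sixL.getD (Cfsg.Agent.Classical.SpSix.genV.getD s 0 - 1) 0 := pf_val (conj_pf hok).2.2
  refine ⟨show (sP s : ℕ) ∈ _ from hv.symm ▸ h1, Fin.ext ?_, ?_, hv.symm ▸ hok⟩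
  · rw [go_TX (ten_val.symm ▸ ten_ok), ten_val, hv]
    exact Nat.eq_of_beq_eq_true h2
  · rw [hv, List.contains_eq_mem, decide_eq_true_eq]
    exact h3

theorem clHom_first {p : Fin actX.N} (hp : p ∈ clS 0)
    (h : (clL.getD 2 []).contains (actX.go (tWord ptW p) (swapP 1)) = true) :
    clHom ⟨TX p, TX_mem_C0 (clL_sub 0 hp)⟩ = Equiv.swap 1 2 := by
  have hm : swapP 1 ∈ clL.getD 1 [] := by
    obtain ⟨hl, -, -⟩ := cl_spec 1
    rw [swapP, List.getD_eq_getElem _ _ (show 0 < (clL.getD 1 []).length by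
      have : (clL.getD 1 []).length = 120 := hl
      omega)]
    exact List.getElem_mem _
  set σ := clHom ⟨TX p, TX_mem_C0 (clL_sub 0 hp)⟩ with hσ
  have h00 : σ 0 = 0 := clHom_eq hp (by
    show piX (TX p) p ∈ clS 0
    rw [(comm_TX _ _).1 rfl]; exact hp)
  have h01 : σ 1 = 2 := clHom_eq (p := ⟨swapP 1, (conj_pf (fixL0_ok (clL_sub 1 hm))).2.2⟩) hm (by
    show (piX (TX p) _ : ℕ) ∈ clL.getD 2 []
    rw [go_TX (fixL0_ok (clL_sub 0 hp))]
    simpa only [List.contains_eq_mem, decide_eq_true_eq] using h)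
  clear hσ
  clear_value σ
  revert h00 h01; revert σ; decide

/-- The elements of the kernel in the fixed group. -/
noncomputable def M1 : Subgroup Cfsg.Spor.Fi22 := K0 ⊓ Subgroup.centralizer ({g 3} : Set Cfsg.Spor.Fi22)

theorem g3_C0 : g 3 ∈ C0 := by rw [mem_C0, psi_g3]

theorem mem_K0_of {y : Cfsg.Spor.Fi22} (hy : y ∈ C0) (h : clHom ⟨y, hy⟩ = 1) : y ∈ K0 := by
  have : (⟨y, hy⟩ : C0) ∈ clHom.ker := h
  rwa [ker_clHom] at this

theorem g3_cl : clHom ⟨g 3, g3_C0⟩ = Equiv.swap 1 2 := by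
  have hs : (clL.getD 2 []).contains (actX.go (tWord ptW (pf 10)) (swapP 1)) = true := by
    have := swap_ok
    simp only [Bool.and_eq_true] at this
    rw [ten_val, ← sP_ok.2]
    exact this.1
  have h10 : pf 10 ∈ clS 0 := by
    show (pf 10 : ℕ) ∈ clL.getD 0 []
    rw [ten_val]
    have : (clL.getD 0 []).contains 10 = true := by decide +kernel
    simpa only [List.contains_eq_mem, decide_eq_true_eq] using this
  rw [← clHom_first h10 hs]
  exact congrArg clHom (Subtype.ext g3_TX)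

theorem g3_not_K0 : g 3 ∉ K0 := by
  intro h
  have h' : (⟨g 3, g3_C0⟩ : C0) ∈ clHom.ker := by rw [ker_clHom]; exact h
  rw [MonoidHom.mem_ker, g3_cl] at h'
  exact absurd h' (by decide)

/-- A generator. -/
noncomputable def sGen (s : Fin 7) : Cfsg.Spor.Fi22 := TX (sP s) * g 3

theorem sP_g3 (s : Fin 7) : g 3 * TX (sP s) = TX (sP s) * g 3 := by
  rw [g3_TX]; exact (comm_TX _ _).2 (sP_spec s).2.1

theorem sGen_mem (s : Fin 7) : sGen s ∈ M1 := by
  obtain ⟨h1, -, h3, -⟩ := sP_spec s
  refine ⟨mem_K0_of (mul_mem (TX_mem_C0 (clL_sub 0 h1)) g3_C0) ?_, ?_⟩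
  · rw [show (⟨sGen s, _⟩ : C0) = ⟨TX (sP s), TX_mem_C0 (clL_sub 0 h1)⟩ * ⟨g 3, g3_C0⟩ from rfl, map_mul,
      clHom_first h1 h3, g3_cl, Equiv.swap_mul_self]
  · show sGen s ∈ Subgroup.centralizer _
    rw [Subgroup.mem_centralizer_singleton_iff, sGen, ← mul_assoc (g 3), sP_g3]

/-- The point of a vector. -/
noncomputable def sixP (i : Fin 63) : Fin actX.N := pf (sixL.getD i 0)

/-- The number of a vector. -/
def sixV (i : Fin 63) : Fin Cfsg.Agent.Classical.SpSix.actA.N :=
  ⟨i.1 + 1, show i.1 + 1 < 64 by omega⟩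

theorem sixP_val (i : Fin 63) : (sixP i : ℕ) = sixL.getD i 0 := by
  have : (sixL.all fun p => Nat.blt p 3510) = true ∧ sixL.length = 63 := by constructor <;> decide +kernel
  refine pf_val (Nat.le_of_ble_eq_true (List.all_eq_true.1 this.1 _ ?_))
  rw [List.getD_eq_getElem _ _ (this.2.symm ▸ i.2)]
  exact List.getElem_mem _

theorem six_nodup : sixL.Nodup ∧ sixL.length = 63 := by constructor <;> decide +kernel

theorem sixP_inj : Function.Injective sixP := fun i j h => by
  have h' := congrArg Fin.val h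
  rw [sixP_val, sixP_val, List.getD_eq_getElem _ _ (six_nodup.2.symm ▸ i.2),
    List.getD_eq_getElem _ _ (six_nodup.2.symm ▸ j.2)] at h'
  exact Fin.ext ((six_nodup.1.getElem_inj_iff).1 h')

/-- The check of a generator in both actions. -/
noncomputable def chkS (s : ℕ) : Bool :=
  (List.range 63).all fun i => (List.range 63).any fun j =>
    Nat.beq (j + 1) (Cfsg.Agent.Classical.SpSix.actA.im (i + 1) s) &&
      Nat.beq (sixL.getD j 0) (actX.go (tWord ptW (sixL.getD (Cfsg.Agent.Classical.SpSix.genV.getD s 0 - 1) 0))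
        (actX.go (tWord ptW 10) (sixL.getD i 0)))

theorem s_ok : ∀ s < 7, chkS s = true := by decide +kernel

/-- The relation. -/
noncomputable def R6 : Subgroup (Cfsg.Spor.Fi22 × Cfsg.Agent.Classical.SpSix.G0) :=
  rel piX Cfsg.Agent.Classical.SpSix.piA (fun i => ({sixP i} : Set _)) sixV

theorem sGen_rel (s : Fin 7) : (sGen s, Cfsg.Agent.Classical.SpSix.gT s) ∈ R6 := by
  have h := s_ok s s.2
  simp only [chkS, List.all_eq_true, List.any_eq_true, Bool.and_eq_true, List.mem_range] at h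
  choose σ hlt h1 h2 using fun i : Fin 63 => h i i.2
  let f : Fin 63 → Fin 63 := fun i => ⟨σ i, hlt i⟩
  have e1 : ∀ i, piX (sGen s) (sixP i) = sixP (f i) := fun i => Fin.ext (by
    rw [sGen, g3_TX, go_pair (sP_spec s).2.2.2 (ten_val.symm ▸ ten_ok), sixP_val, sixP_val, ten_val,
      show (sP s : ℕ) = sixL.getD (Cfsg.Agent.Classical.SpSix.genV.getD s 0 - 1) 0 from ?_]
    · exact (Nat.eq_of_beq_eq_true (h2 i)).symm
    · have h := List.all_eq_true.1 sP_ok.1 s (List.mem_range.2 s.2)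
      simp only [Bool.and_eq_true, List.contains_eq_mem, decide_eq_true_eq] at h
      exact pf_val (conj_pf (fixL0_ok (clL_sub 0 h.1.1))).2.2)
  have e2 : ∀ i, Cfsg.Agent.Classical.SpSix.piA (Cfsg.Agent.Classical.SpSix.gT s) (sixV i) = sixV (f i) :=
    fun i => Fin.ext (by
      rw [Cfsg.Agent.Classical.SpSix.homA.2 s, Cfsg.Agent.Spor.Cos.Act.perm_apply _
        Cfsg.Agent.Classical.SpSix.act_inv s.2]
      exact (Nat.eq_of_beq_eq_true (h1 i)).symm)
  have hf : Function.Injective f := fun a b h => sixP_inj ((piX (sGen s)).injective (by rw [e1, e1, h]))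
  refine ⟨Equiv.ofBijective f (Finite.injective_iff_bijective.1 hf), fun i => ⟨?_, e2 i⟩⟩
  rw [Set.image_singleton, e1]
  rfl

/-- The paired generators. -/
noncomputable def T6 : Subgroup (Cfsg.Spor.Fi22 × Cfsg.Agent.Classical.SpSix.G0) :=
  Subgroup.closure (Set.range fun s : Fin 7 => (sGen s, Cfsg.Agent.Classical.SpSix.gT s))

theorem T6_le : T6 ≤ R6 := (Subgroup.closure_le _).2 (by rintro _ ⟨s, rfl⟩; exact sGen_rel s)

theorem T6_fst_one {p : Cfsg.Spor.Fi22 × Cfsg.Agent.Classical.SpSix.G0} (hp : p ∈ T6) (h : p.1 = 1) : p.2 = 1 := by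
  refine Cfsg.Agent.Classical.SpSix.det _ fun q hq => ?_
  have hq' : 1 ≤ (q : ℕ) ∧ (q : ℕ) < 64 := ⟨by simp at hq; omega, q.2⟩
  have := rel_fst_one (fun a b e => sixP_inj (Set.singleton_eq_singleton_iff.1 e)) (T6_le hp) h
    ⟨(q : ℕ) - 1, by omega⟩
  rwa [show sixV ⟨(q : ℕ) - 1, _⟩ = q from Fin.ext (show (q : ℕ) - 1 + 1 = q by omega)] at this

theorem M1_iso : Nonempty (M1 ≃* Cfsg.Agent.Classical.SpSix.G0) ∧
    Nonempty (C1 ≃* Multiplicative (ZMod 2) × Cfsg.Agent.Classical.SpSix.G0) := by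
  classical
  have := Fi22.finite
  set K := T6.map (MonoidHom.fst Cfsg.Spor.Fi22 Cfsg.Agent.Classical.SpSix.G0) with hK
  obtain ⟨f, hf, -, hrange⟩ := exists_hom T6 K hK.symm fun p hp => T6_fst_one hp
  have hle : K ≤ M1 := by
    rw [hK, T6, MonoidHom.map_closure, Subgroup.closure_le]
    rintro _ ⟨_, ⟨s, rfl⟩, rfl⟩
    exact sGen_mem s
  have hsurj : Function.Surjective f := by
    rw [← MonoidHom.range_eq_top, hrange, T6, MonoidHom.map_closure, eq_top_iff, ← Cfsg.Agent.Classical.SpSix.gen]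
    refine Subgroup.closure_mono ?_
    rintro _ ⟨s, hs, rfl⟩
    exact ⟨_, ⟨⟨s, hs⟩, rfl⟩, rfl⟩
  let a : Cfsg.Spor.Fi22 := g 3
  have ha : a * a = 1 := g_sq 3
  have hcent : ∀ m ∈ M1, a * m = m * a := fun m hm => (Subgroup.mem_centralizer_singleton_iff.1 hm.2).symm
  have haC : a ∈ C1 := ⟨g3_C0, Subgroup.mem_centralizer_singleton_iff.2 rfl⟩
  have hMC : M1 ≤ C1 := fun m hm => ⟨K0_le hm.1, hm.2⟩
  have hpow : ∀ c d : ZMod 2, (if c + d = 0 then (1 : Cfsg.Spor.Fi22) else a) =
      (if c = 0 then 1 else a) * (if d = 0 then 1 else a) := by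
    intro c d
    rcases (show ∀ c : ZMod 2, c = 0 ∨ c = 1 by decide) c with rfl | rfl <;>
      rcases (show ∀ c : ZMod 2, c = 0 ∨ c = 1 by decide) d with rfl | rfl <;>
      simp [show (1 : ZMod 2) + 1 = 0 by decide, ha]
  let φ : Multiplicative (ZMod 2) × M1 →* C1 :=
    { toFun := fun p => ⟨(if p.1.toAdd = 0 then 1 else a) * p.2.1,
        mul_mem (by split_ifs; exacts [one_mem _, haC]) (hMC p.2.2)⟩
      map_one' := Subtype.ext (by simp)
      map_mul' := fun p q => Subtype.ext (by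
        show (if p.1.toAdd + q.1.toAdd = 0 then 1 else a) * (p.2.1 * q.2.1) = _ * p.2.1 * (_ * q.2.1)
        rw [hpow]
        have : (if q.1.toAdd = 0 then 1 else a) * p.2.1 = p.2.1 * (if q.1.toAdd = 0 then 1 else a) := by
          split_ifs
          · rw [one_mul, mul_one]
          · exact hcent _ p.2.2
        simp only [mul_assoc]
        rw [← mul_assoc (if q.1.toAdd = 0 then 1 else a) p.2.1, this, mul_assoc]) }
  have hinj : Function.Injective φ := (injective_iff_map_eq_one φ).2 fun p hp => by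
    obtain ⟨c, m⟩ := p
    have hp' : (if c.toAdd = 0 then 1 else a) * m.1 = 1 := congrArg Subtype.val hp
    split_ifs at hp' with hc
    · refine Prod.ext (toAdd_eq_zero.1 hc) (Subtype.ext ?_)
      rwa [one_mul] at hp'
    · refine absurd ?_ g3_not_K0
      rw [show g 3 = (m.1)⁻¹ from eq_inv_of_mul_eq_one_left hp']
      exact inv_mem m.2.1
  have h2 : Nat.card (Multiplicative (ZMod 2)) = 2 :=
    (Nat.card_congr Multiplicative.toAdd).trans (Nat.card_zmod 2)
  have hM : Nat.card M1 ≤ 1451520 := by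
    have := Nat.card_le_card_of_injective φ hinj
    rw [Nat.card_prod, h2, card_C1] at this
    omega
  have hKge : Nat.card Cfsg.Agent.Classical.SpSix.G0 ≤ Nat.card K := Nat.card_le_card_of_surjective f hsurj
  rw [Cfsg.Agent.Classical.SpSix.card_G0] at hKge
  have hKM : K = M1 := Subgroup.eq_of_le_of_card_ge hle (hM.trans hKge)
  have hKc : Nat.card K = 1451520 := le_antisymm ((Subgroup.card_le_of_le hle).trans hM) hKge
  have hbij : Function.Bijective f := (Nat.bijective_iff_surjective_and_card f).2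
    ⟨hsurj, by rw [hKc, Cfsg.Agent.Classical.SpSix.card_G0]⟩
  let e : M1 ≃* Cfsg.Agent.Classical.SpSix.G0 :=
    (MulEquiv.subgroupCongr hKM).symm.trans (MulEquiv.ofBijective f hbij)
  refine ⟨⟨e⟩, ⟨((MulEquiv.ofBijective φ ((Nat.bijective_iff_injective_and_card φ).2 ⟨hinj, ?_⟩)).symm).trans
    ((MulEquiv.refl _).prodCongr e)⟩⟩
  rw [Nat.card_prod, h2, card_C1, ← hKM, hKc]

theorem C1_iso : Nonempty (C1 ≃* Multiplicative (ZMod 2) × Cfsg.PSp 3 (ZMod 2)) := by
  obtain ⟨-, ⟨e⟩⟩ := M1_iso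
  let q : Cfsg.PSp 3 (ZMod 2) ≃* Cfsg.Agent.Classical.SpSix.G0 :=
    (QuotientGroup.quotientMulEquivOfEq Cfsg.Agent.Classical.SpSix.center_eq_bot).trans QuotientGroup.quotientBot
  exact ⟨e.trans ((MulEquiv.refl _).prodCongr q.symm)⟩

end Cfsg.Agent.Spor.Cos.Fi22Outer
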