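import Cfsg.Agent.Lib.Spor.Cos.Fi22Outer.Fixed
import Cfsg.Agent.Lib.Spor.Cos.Fi22Outer.Six
import Cfsg.Agent.Lib.Spor.Cos.Fi22Outer.Minus
import Cfsg.Agent.Lib.Spor.Cos.Fi22Outer.OuterTen
import Cfsg.Agent.Lib.Spor.Cos.Fi22Inv.Main
import Cfsg.Agent.Lib.Spor.Cos.Fi22Aut.Main

/-!
The three classes of outer automorphisms of order two of a group of type M(22).
-/

set_option autoImplicit false
set_option maxRecDepth 100000
set_option maxHeartbeats 1000000

namespace Cfsg.Agent.Spor.Cos.Fi22Outer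

open Cfsg.Agent.Spor.Cos.Fi22 (actB homB piB baseB g g_gen g_sq)
open Cfsg.Agent.Fus.Transp Cfsg.Agent.Fus.Fi22Out Cfsg.Agent.Spor.Cos.Fi22Aut

/-- The automorphism of the third class. -/
noncomputable def aut2 : MulAut Cfsg.Spor.Fi22 := psi * MulAut.conj (g 3 * g 8)

theorem aut2_eq : dat2.aut = aut2 := by
  rw [CData.aut, show dat2.tau = [9, 3, 8] from by decide +kernel]
  show psi * (gX 3 * (gX 8 * 1)) = _
  rw [mul_one, gX_lo (by norm_num), gX_lo (by norm_num), ← map_mul]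
  rfl

theorem not_inner (c : Cfsg.Spor.Fi22) : psi ≠ MulAut.conj c := by
  rw [← aut0]; exact aut_outer ok0 c

theorem orderOf_psi : orderOf psi = 2 := orderOf_eq_prime (by rw [pow_two]; exact psi_sq) fun h =>
  not_inner 1 (by rw [h, map_one])

theorem psi_g8 : psi (g 8) = g 8 := psi_g 8 (by norm_num)

theorem g8_TX : g 8 = TX (pf 1965) := by
  have e : pf 1965 = ⟨qs.getD 8 0, setup.q_lt (s := 8) (by decide)⟩ := by
    refine Fin.ext ((pf_val (by norm_num)).trans ?_)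
    decide +kernel
  rw [e]
  exact (setup.T_q (s := 8) (by decide)).symm

theorem g38_ne : g 3 ≠ g 8 := by
  intro h
  rw [g3_TX, g8_TX] at h
  have := congrArg Fin.val (TX_inj h)
  rw [pf_val (by norm_num), pf_val (by norm_num)] at this
  exact absurd this (by norm_num)

theorem g38_comm : g 3 * g 8 = g 8 * g 3 := by
  rw [g8_TX]
  refine (comm_TX _ _).2 (Fin.ext ?_)
  show (pX (MulAut.conj (g 3)) _ : ℕ) = _
  rw [show MulAut.conj (g 3) = ev gX [3] by rw [show ev gX [3] = gX 3 * 1 from rfl, mul_one, gX_lo (by norm_num)],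
    pX_ev (by decide)]
  rw [pf_val (by norm_num)]
  decide +kernel

theorem mem_C2 {y : Cfsg.Spor.Fi22} : y ∈ C2 ↔ aut2 y = y := by rw [C2, mem_fixC, aut2_eq]

theorem card_conj {φ χ : MulAut Cfsg.Spor.Fi22} (h : IsConj φ χ) {P R : Subgroup Cfsg.Spor.Fi22}
    (hP : ∀ y, φ y = y ↔ y ∈ P) (hR : ∀ y, χ y = y ↔ y ∈ R) : Nat.card P = Nat.card R := by
  obtain ⟨a, ha⟩ := isConj_iff.1 h
  refine Nat.card_congr (a.toEquiv.subtypeEquiv fun y => ?_)
  show y ∈ P ↔ a y ∈ R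
  rw [← hR, ← hP, ← ha, MulAut.mul_apply, MulAut.mul_apply]
  show _ ↔ a (φ (a.symm (a y))) = a y
  rw [a.symm_apply_apply, a.injective.eq_iff]

theorem classify {φ : MulAut Cfsg.Spor.Fi22} (hφ : φ * φ = 1) (hout : ∀ c, φ ≠ MulAut.conj c) :
    IsConj φ psi ∨ IsConj φ aut1 ∨ IsConj φ aut2 := by
  obtain ⟨p, hp⟩ := Cfsg.Agent.Spor.Cos.Fi22Inv.exists_fixed φ hφ
  obtain ⟨y₁, hy₁⟩ := setup.tr p
  obtain ⟨y₂, hy₂⟩ := setup.tr (pf 10)
  set y := y₁ * y₂⁻¹ with hy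
  have hp' : φ (TX p) = TX p := hp
  have e : piX y (pf 10) = p := by
    rw [piX_conj, hy, map_mul, map_inv]
    show piB y₁ ((piB y₂)⁻¹ (pf 10)) = p
    exact (congrArg (piB y₁) (Equiv.Perm.inv_eq_iff_eq.2 hy₂.symm)).trans hy₁
  have e' : TX p = y * TX (pf 10) * y⁻¹ := by rw [← TX_piX, e]
  set a := MulAut.conj y with ha
  set χ := a⁻¹ * φ * a with hχ
  have hsq : χ * χ = 1 := by
    rw [hχ, show a⁻¹ * φ * a * (a⁻¹ * φ * a) = a⁻¹ * (φ * φ) * a by group, hφ, mul_one, inv_mul_cancel]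
  have h10 : pX χ (pf 10) = pf 10 := TX_inj (by
    rw [TX_pX, hχ, MulAut.mul_apply, MulAut.mul_apply,
      show a (TX (pf 10)) = TX p by rw [ha, MulAut.conj_apply, e'], hp']
    rw [ha, ← map_inv, MulAut.conj_apply, e']
    group)
  have hconj : IsConj φ χ := isConj_iff.2 ⟨a⁻¹, by rw [hχ, inv_inv]⟩
  rcases Tree.classify_ten hsq h10 with ⟨c, hc⟩ | ⟨c, k, hk, hc⟩
  · exact absurd (show φ = MulAut.conj (y * c * y⁻¹) by
      rw [map_mul, map_mul, map_inv, ← ha, ← hc, hχ]; group) (hout _)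
  · have h' : IsConj φ (ev gX (tauL.getD k [])) := hconj.trans (isConj_iff.2
      ⟨(MulAut.conj c)⁻¹, by rw [hc]; group⟩)
    interval_cases k
    · left; rw [← psi_aut]; exact h'
    · right; left; rw [← aut1_ev]; exact h'
    · right; right
      rw [← aut2_eq, CData.aut, show dat2.tau = [9, 3, 8] from by decide +kernel]
      exact h'

theorem not_conj : ¬ IsConj psi aut1 ∧ ¬ IsConj psi aut2 ∧ ¬ IsConj aut1 aut2 := by
  have h0 : ∀ y, psi y = y ↔ y ∈ C0 := fun y => mem_C0.symm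
  have h1 : ∀ y, aut1 y = y ↔ y ∈ C1 := aut1_fixed_iff
  have h2 : ∀ y, aut2 y = y ↔ y ∈ C2 := fun y => mem_C2.symm
  refine ⟨fun h => ?_, fun h => ?_, fun h => ?_⟩
  · have := card_conj h h0 h1; rw [card_C0, card_C1] at this; norm_num at this
  · have := card_conj h h0 h2; rw [card_C0, card_C2] at this; norm_num at this
  · have := card_conj h h1 h2; rw [card_C1, card_C2] at this; norm_num at this

theorem pCore_map_le {A B : Type*} [Group A] [Group B] (p : ℕ) (e : A ≃* B) :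
    (Cfsg.pCore p A).map e.toMonoidHom ≤ Cfsg.pCore p B := by
  rw [Subgroup.map_le_iff_le_comap]
  refine sSup_le fun N hN => Subgroup.map_le_iff_le_comap.1 (le_sSup ⟨hN.1.map _ e.surjective, hN.2.map _⟩)

theorem pCore_map {A B : Type*} [Group A] [Group B] (p : ℕ) (e : A ≃* B) :
    (Cfsg.pCore p A).map e.toMonoidHom = Cfsg.pCore p B := by
  refine le_antisymm (pCore_map_le p e) fun x hx => ⟨e.symm x, pCore_map_le p e.symm ⟨x, hx, rfl⟩, ?_⟩
  exact e.apply_symm_apply x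

theorem conclusion {G : Type*} [Group G] [Finite G] {D : Set G} (hD : Cfsg.IsThreeTranspositionGroup D)
    (hprim : Cfsg.IsPrimitiveUnderConj D) (h22 : Cfsg.IsOfTypeM22 G D) :
    ∃ (s : MulAut G) (a b : G) (Cs : Subgroup G), orderOf s = 2 ∧ s ∉ (MulAut.conj : G →* MulAut G).range ∧ (∀ g : G, g ∈ Cs ↔ s g = g) ∧ Nonempty (↥Cs ≃* MulAut (Cfsg.Omega (ZMod 2) (Cfsg.quadFormPlus 4 (ZMod 2)))) ∧ a ∈ D ∧ b ∈ D ∧ a ≠ b ∧ Commute a b ∧ s a = a ∧ s b = b ∧ (∀ t : MulAut G, orderOf t = 2 → t ∉ (MulAut.conj : G →* MulAut G).range → (IsConj t s ∨ IsConj t (s * MulAut.conj a) ∨ IsConj t (s * MulAut.conj (a * b)))) ∧ ¬ IsConj s (s * MulAut.conj a) ∧ ¬ IsConj s (s * MulAut.conj (a * b)) ∧ ¬ IsConj (s * MulAut.conj a) (s * MulAut.conj (a * b)) ∧ (∀ g : G, (s * MulAut.conj a) g = g ↔ g ∈ Cs ⊓ Subgroup.centralizer ({a} : Set G)) ∧ Nonempty (↥(Cs ⊓ Subgroup.centralizer ({a} : Set G)) ≃* Multiplicative (ZMod 2) × Cfsg.PSp 3 (ZMod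 2)) ∧ ∃ Csab O : Subgroup G, (∀ g : G, g ∈ Csab ↔ (s * MulAut.conj (a * b)) g = g) ∧ O = (Cfsg.pCore 2 ↥Csab).map Csab.subtype ∧ Cfsg.IsElementaryAbelian 2 O ∧ Nat.card O = 64 ∧ ∃ _ : (O.subgroupOf Csab).Normal, Nonempty (↥Csab ⧸ O.subgroupOf Csab ≃* Cfsg.isometryGroup (ZMod 2) (Cfsg.quadFormMinus 2 (ZMod 2) 1 1)) := by
  obtain ⟨e, he⟩ := Cfsg.Agent.Fus.M22U.exists_model hD hprim h22
  let E : MulAut Cfsg.Spor.Fi22 ≃* MulAut G := MulAut.congr e
  have hE : ∀ (φ : MulAut Cfsg.Spor.Fi22) (x : G), E φ x = e (φ (e.symm x)) := fun φ x => rfl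
  have hcong : ∀ x, E (MulAut.conj x) = MulAut.conj (e x) := congr_conj e
  have hfix : ∀ (φ : MulAut Cfsg.Spor.Fi22) (P : Subgroup Cfsg.Spor.Fi22), (∀ y, φ y = y ↔ y ∈ P) →
      ∀ x : G, E φ x = x ↔ x ∈ P.map e.toMonoidHom := fun φ P hP x => by
    rw [hE, Subgroup.mem_map_equiv, ← hP]
    exact ⟨fun h => e.injective (h.trans (e.apply_symm_apply x).symm), fun h => by rw [h, e.apply_symm_apply]⟩
  have hinner : ∀ φ : MulAut Cfsg.Spor.Fi22, E φ ∈ (MulAut.conj : G →* MulAut G).range → ∃ c, φ = MulAut.conj c := by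
    rintro φ ⟨x, hx⟩
    refine ⟨e.symm x, E.injective ?_⟩
    rw [hcong, e.apply_symm_apply, hx]
  have hconj : ∀ φ χ : MulAut Cfsg.Spor.Fi22, IsConj (E φ) (E χ) ↔ IsConj φ χ := by
    refine fun φ χ => ⟨fun h => ?_, fun h => E.toMonoidHom.map_isConj h⟩
    have h' := E.symm.toMonoidHom.map_isConj h
    simp only [MulEquiv.coe_toMonoidHom, MulEquiv.symm_apply_apply] at h'
    exact h'
  have ea1 : E aut1 = E psi * MulAut.conj (e (g 3)) := by rw [aut1, map_mul, hcong]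
  have ea2 : E aut2 = E psi * MulAut.conj (e (g 3) * e (g 8)) := by rw [aut2, map_mul, hcong, map_mul e]
  have hC1 : C0.map e.toMonoidHom ⊓ Subgroup.centralizer ({e (g 3)} : Set G) = C1.map e.toMonoidHom := by
    ext x
    obtain ⟨y, rfl⟩ := e.surjective x
    rw [Subgroup.mem_inf, Subgroup.mem_map_equiv, Subgroup.mem_map_equiv, e.symm_apply_apply,
      Subgroup.mem_centralizer_singleton_iff, ← map_mul, ← map_mul, e.injective.eq_iff, C1, Subgroup.mem_inf,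
      Subgroup.mem_centralizer_singleton_iff]
  obtain ⟨n1, n2, n3⟩ := not_conj
  obtain ⟨O, hO, hel, hcard, hn, ⟨q⟩⟩ := C2_structure
  refine ⟨E psi, e (g 3), e (g 8), C0.map e.toMonoidHom, ?_, fun h => ?_, fun x => ?_, ?_, ?_, ?_, ?_, ?_, ?_, ?_,
    ?_, ?_, ?_, ?_, ?_, ?_, C2.map e.toMonoidHom, O.map e.toMonoidHom, fun x => ?_, ?_, ?_, ?_, ?_⟩
  · rw [MulEquiv.orderOf_eq E]; exact orderOf_psi
  · obtain ⟨c, hc⟩ := hinner _ h; exact not_inner c hc
  · exact (hfix psi C0 (fun y => mem_C0.symm) x).symm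
  · obtain ⟨f⟩ := C0_iso
    rw [← Cfsg.Agent.Classical.coe_qfPlus]
    exact ⟨(C0.equivMapOfInjective e.toMonoidHom e.injective).symm.trans f⟩
  · exact (he _).2 (Cfsg.Agent.Fus.M22U.g_mem_classD 3 (by norm_num))
  · exact (he _).2 (Cfsg.Agent.Fus.M22U.g_mem_classD 8 (by norm_num))
  · exact fun h => g38_ne (e.injective h)
  · show e (g 3) * e (g 8) = e (g 8) * e (g 3)
    rw [← map_mul, g38_comm, map_mul]
  · rw [hE, e.symm_apply_apply, psi_g3]
  · rw [hE, e.symm_apply_apply, psi_g8]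
  · intro t ht hout
    obtain ⟨φ, rfl⟩ := E.surjective t
    have hsq : φ * φ = 1 := E.injective (by rw [map_mul, map_one, ← pow_two, ← ht, pow_orderOf_eq_one])
    rw [← ea1, ← ea2, hconj, hconj, hconj]
    exact classify hsq fun c hc => hout ⟨e c, by rw [hc, hcong]⟩
  · rw [← ea1, hconj]; exact n1
  · rw [← ea2, hconj]; exact n2
  · rw [← ea1, ← ea2, hconj]; exact n3
  · intro x
    rw [← ea1, hC1]
    exact hfix aut1 C1 aut1_fixed_iff x
  · rw [hC1]
    obtain ⟨f⟩ := C1_iso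
    exact ⟨(C1.equivMapOfInjective e.toMonoidHom e.injective).symm.trans f⟩
  · rw [← ea2]
    exact (hfix aut2 C2 (fun y => mem_C2.symm) x).symm
  · rw [hO, ← pCore_map 2 (C2.equivMapOfInjective e.toMonoidHom e.injective), Subgroup.map_map, Subgroup.map_map]
    rfl
  · refine ⟨⟨⟨fun x y => Subtype.ext ?_⟩⟩, ?_⟩
    · obtain ⟨x', hx, hx'⟩ := x.2
      obtain ⟨y', hy, hy'⟩ := y.2
      show x.1 * y.1 = y.1 * x.1
      rw [← hx', ← hy', ← map_mul, ← map_mul]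
      exact congrArg _ (congrArg Subtype.val (hel.1.is_comm.comm ⟨x', hx⟩ ⟨y', hy⟩))
    · rintro _ ⟨x', hx, rfl⟩
      rw [← map_pow, hel.2 x' hx, map_one]
  · rw [Subgroup.card_map_of_injective e.injective]; exact hcard
  · have := hn
    set ι := C2.equivMapOfInjective e.toMonoidHom e.injective with hι
    have hsub : (O.subgroupOf C2).map ι.toMonoidHom = (O.map e.toMonoidHom).subgroupOf (C2.map e.toMonoidHom) := by
      ext x
      rw [Subgroup.mem_map_equiv, Subgroup.mem_subgroupOf, Subgroup.mem_subgroupOf, Subgroup.mem_map_equiv]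
      have : ((ι.symm x : C2) : Cfsg.Spor.Fi22) = e.symm (x : G) := e.injective (by
        rw [e.apply_symm_apply]; exact congrArg Subtype.val (ι.apply_symm_apply x))
      rw [this]
    have hn' : ((O.map e.toMonoidHom).subgroupOf (C2.map e.toMonoidHom)).Normal :=
      hsub ▸ hn.map _ ι.surjective
    rw [← Cfsg.Agent.Classical.coe_qfMinus]
    exact ⟨hn', ⟨(QuotientGroup.congr _ _ ι hsub).symm.trans q⟩⟩

end Cfsg.Agent.Spor.Cos.Fi22Outer
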