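import Cfsg.Agent.Lib.Spor.Cos.Fi22Outer.OuterTable

/-! The check of a chunk of the tree. -/

set_option autoImplicit false
set_option maxRecDepth 100000
set_option maxHeartbeats 4000000

namespace Cfsg.Agent.Spor.Cos.Fi22Outer.Tree

/-- The children have numbers in the table. -/
noncomputable def childLt (i : ℕ) : Bool :=
  match (getN i).kind with
  | .node _ _ kids => kids.all fun k => Nat.blt k.child size
  | _ => true

/-- The check of a chunk. -/
noncomputable def chkChunk (c : ℕ) : Bool :=
  (List.range 128).all fun r => Nat.beq (c * 128 + r) 0 || !(Nat.blt (c * 128 + r) size) || (chkNode getN LT (c * 128 + r) && childLt (c * 128 + r))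

end Cfsg.Agent.Spor.Cos.Fi22Outer.Tree
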