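import Cfsg.Agent.Lib.Spor.Cos.Fi22Outer.OuterPts

/-! Nodes of the tree. -/

set_option autoImplicit false
set_option maxRecDepth 100000
set_option maxHeartbeats 4000000

namespace Cfsg.Agent.Spor.Cos.Fi22Outer.Tree

/-- Nodes. -/
def nd0 : List ONode := [
  ⟨[(o10, o10)], 0, .node 0 1 [⟨o0, [(0, [])], 1⟩,
      ⟨o1, [(1, []), (4, [o68]), (14, [o0]), (15, [o143]), (19, [o0, o20]), (60, [o0, o286]), (61, [o0, o90]), (63, [o69]), (70, [o0, o69]), (71, [o0, o143]), (72, [o254]), (75, [o275]), (76, [o274]), (79, [o0, o196]), (92, [o0, o68]), (94, [o96]), (95, [o0, o96]), (100, [o90]), (101, [o89]), (102, [o0, o89]), (104, [o222]), (106, [o257]), (118, [o0, o385]), (119, [o0, o595]), (138, [o0, o137]), (145, [o0, o148]), (146, [o148]), (158, [o0, o159]), (171, [o89, o318]), (172, [o934, o1477, o3225]), (175, [o90, o385]), (192, [o213]), (193, [o0, o165]), (202,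 [o0, o222]), (205, [o20]), (211, [o0, o210]), (212, [o0, o257]), (214, [o0, o213]), (216, [o0, o254]), (225, [o318]), (226, [o428]), (230, [o137]), (231, [o555]), (240, [o312]), (246, [o165]), (249, [o0, o274]), (250, [o0, o275]), (263, [o20, o96]), (264, [o69, o134]), (265, [o69, o133]), (267, [o113]), (268, [o286]), (270, [o20, o210]), (271, [o68, o134]), (272, [o90, o213]), (277, [o199]), (278, [o159]), (282, [o114]), (283, [o89, o210]), (297, [o0, o133]), (305, [o20, o318]), (310, [o210]), (319, [o0, o318]), (324, [o89, o134]), (329, [o1963]), (336, [o0, o337]), (355, [o96, o1677]), (356, [o68, o711]), (368, [o0, o367]), (370, [o2549]), (372, [o69, o114]), (373, [o519, o777, o264]), (413, [o0, o2427]), (414, [o0, o2762]), (422, [o0, o421]), (426, [o367]), (431, [o0, o113]), (437, [o0, o934, o1477, o3225]), (438, [o89, o114]), (439, [o20, o148]), (461,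 [o0, o460]), (473, [o68, o114]), (474, [o68, o643]), (494, [o0, o493]), (504, [o1499]), (505, [o2104]), (506, [o133]), (508, [o0, o509]), (514, [o595]), (515, [o0, o114]), (516, [o0, o555]), (518, [o0, o312]), (519, [o0, o428]), (520, [o0, o521]), (536, [o0, o535]), (539, [o20, o2026]), (540, [o0, o1590, o1885, o1293]), (541, [o90, o113]), (542, [o134]), (547, [o0, o548]), (556, [o90, o312]), (557, [o421]), (594, [o0, o134]), (596, [o385]), (597, [o0, o1445]), (613, [o0, o612]), (616, [o133, o2195]), (617, [o68, o2549]), (618, [o20, o555]), (620, [o646]), (637, [o68, o385]), (640, [o0, o519, o777, o264]), (641, [o517]), (642, [o0, o643]), (651, [o647]), (676, [o89, o2907, o557, o2118]), (696, [o0, o646]), (697, [o0, o647]), (698, [o0, o648]), (712, [o0, o711]), (715, [o96, o1161]), (716, [o20, o612]), (738, [o0, o2026]), (739, [o0, o740]), (750, [o1084]),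 (758, [o2152]), (775, [o0, o282, o1052, o1039]), (777, [o0, o517]), (779, [o0, o635]), (780, [o0, o684]), (793, [o662]), (794, [o2343]), (795, [o1161]), (797, [o20, o3433]), (804, [o90, o647]), (805, [o89, o646]), (806, [o20, o2796]), (817, [o0, o602]), (829, [o20, o3466]), (830, [o68, o708]), (831, [o68, o2427]), (838, [o20, o3472]), (839, [o69, o2408]), (849, [o2408]), (852, [o0, o603]), (873, [o0, o872]), (884, [o1424]), (892, [o2185]), (926, [o69, o1525]), (927, [o20, o3385]), (934, [o2184]), (940, [o0, o1406]), (950, [o0, o949]), (953, [o69, o2667]), (954, [o20, o3116]), (960, [o1525]), (961, [o2460]), (962, [o2195]), (965, [o0, o2779, o75, o557]), (966, [o0, o76, o805, o2212]), (967, [o89, o1445]), (981, [o20, o113]), (1006, [o0, o1344]), (1019, [o69, o1424]), (1024, [o460]), (1035, [o0, o1379]), (1039, [o20, o1677]), (1047, [o0, o1046]), (1052, [o2796]),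 (1056, [o0, o1584, o2328, o758]), (1074, [o20, o602]), (1081, [o0, o1404]), (1082, [o0, o1377]), (1092, [o0, o687]), (1099, [o2385]), (1100, [o90, o635]), (1104, [o0, o1499]), (1119, [o0, o1307]), (1120, [o1307]), (1123, [o69, o1963]), (1133, [o20, o3351]), (1134, [o282, o1052, o1039]), (1150, [o0, o2104]), (1160, [o0, o1161]), (1168, [o2032]), (1174, [o20, o159]), (1179, [o20, o711]), (1180, [o113, o1845]), (1188, [o493]), (1194, [o20, o1570]), (1197, [o69, o1274]), (1198, [o90, o2148]), (1201, [o68, o2641]), (1202, [o69, o643]), (1214, [o20, o3137]), (1215, [o89, o1571]), (1224, [o69, o687]), (1225, [o0, o1482]), (1236, [o69, o76, o805, o2212]), (1237, [o68, o493]), (1248, [o68, o535]), (1253, [o20, o2269]), (1254, [o68, o740]), (1264, [o459]), (1271, [o68, o612]), (1272, [o69, o2641]), (1275, [o0, o1274]), (1283, [o2427]), (1284, [o2762]), (1293, [o68,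 o521]), (1306, [o96, o1006, o230, o3492]), (1308, [o89, o2779, o75, o557]), (1311, [o0, o3408, o1369, o1561]), (1312, [o89, o1499]), (1324, [o76, o805, o2212]), (1325, [o2779, o75, o557]), (1326, [o69, o2162]), (1329, [o68, o3111]), (1359, [o0, o3331]), (1360, [o0, o3111]), (1361, [o0, o1362]), (1369, [o1571]), (1370, [o1570]), (1371, [o2156]), (1387, [o1845]), (1393, [o68, o648]), (1394, [o89, o1046]), (1409, [o1406]), (1419, [o90, o1547]), (1423, [o0, o1424]), (1438, [o20, o196]), (1439, [o114, o509]), (1446, [o89, o740]), (1447, [o20, o648]), (1458, [o0, o662]), (1459, [o0, o2343]), (1469, [o89, o2213]), (1472, [o89, o1547]), (1477, [o0, o708]), (1502, [o872]), (1517, [o0, o946]), (1524, [o0, o1525]), (1526, [o133, o630]), (1540, [o20, o1845]), (1541, [o68, o2343]), (1548, [o0, o1547]), (1553, [o708]), (1560, [o2551]), (1561, [o0, o630]), (1583, [o133,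 o602]), (1584, [o0, o199]), (1590, [o196]), (1639, [o0, o2270]), (1659, [o89, o3137]), (1660, [o68, o3180]), (1672, [o20, o521]), (1673, [o0, o1963]), (1678, [o0, o1677]), (1713, [o0, o1911]), (1714, [o1911]), (1715, [o0, o2551]), (1805, [o630]), (1807, [o0, o1084]), (1808, [o0, o3351]), (1847, [o2667]), (1885, [o648]), (1901, [o89, o2269]), (1915, [o1046]), (1916, [o3433]), (1930, [o69, o2460]), (1931, [o68, o1362]), (1940, [o20, o3180]), (1966, [o0, o1132]), (1971, [o90, o337]), (1975, [o0, o2549]), (1980, [o89, o521]), (1990, [o68, o872]), (1995, [o69, o3331]), (1996, [o133, o521]), (1999, [o3331]), (2000, [o3111]), (2001, [o1362]), (2004, [o1379]), (2005, [o1344]), (2006, [o0, o1845]), (2009, [o69, o2156]), (2010, [o89, o1424]), (2027, [o509]), (2037, [o20, o2185]), (2038, [o96, o337]), (2040, [o69, o2385]), (2041, [o0, o2032]), (2046, [o20, o1424]),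 (2048, [o69, o1571]), (2049, [o69, o1570]), (2050, [o1547]), (2053, [o68, o1377]), (2054, [o69, o460]), (2055, [o20, o1379]), (2060, [o68, o1084]), (2077, [o603]), (2083, [o20, o3509]), (2090, [o96, o2408]), (2118, [o2630]), (2122, [o0, o2205]), (2123, [o0, o2195]), (2124, [o0, o2460]), (2143, [o20, o2213]), (2144, [o96, o647]), (2147, [o0, o2148]), (2153, [o20, o460]), (2159, [o1404]), (2166, [o1584, o2328, o758]), (2167, [o69, o2779, o75, o557]), (2173, [o90, o2152]), (2174, [o89, o711]), (2176, [o69, o1362]), (2177, [o68, o2460]), (2180, [o143, o337]), (2194, [o114, o3466]), (2199, [o0, o2193]), (2206, [o602]), (2212, [o0, o2213]), (2218, [o1482]), (2239, [o20, o2907, o557, o2118]), (2240, [o635]), (2263, [o684]), (2328, [o20, o662]), (2347, [o0, o2873]), (2386, [o0, o2385]), (2396, [o2026]), (2397, [o643]), (2398, [o68, o646]), (2409, [o0, o2408]),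 (2411, [o548]), (2414, [o69, o602]), (2418, [o90, o1161]), (2429, [o0, o2152]), (2436, [o711]), (2437, [o2162]), (2440, [o68, o459]), (2442, [o68, o1499]), (2449, [o2641]), (2450, [o0, o2185]), (2498, [o68, o2026]), (2500, [o96, o3285]), (2501, [o20, o1132]), (2548, [o0, o1006, o230, o3492]), (2559, [o20, o275]), (2560, [o113, o254]), (2565, [o89, o2549]), (2566, [o20, o2385]), (2573, [o337]), (2588, [o949]), (2589, [o1274]), (2590, [o1132]), (2596, [o96, o1084]), (2597, [o69, o1845]), (2600, [o3408, o1369, o1561]), (2615, [o68, o2185]), (2616, [o1590, o1885, o1293]), (2624, [o20, o1911]), (2625, [o68, o2205]), (2639, [o20, o2641]), (2640, [o0, o2641]), (2650, [o96, o2796]), (2651, [o68, o2174, o2498, o3292]), (2653, [o1445]), (2654, [o68, o1344]), (2655, [o143, o1379]), (2656, [o20, o2549]), (2659, [o0, o2630]), (2660, [o521]), (2668, [o0, o2667]), (2672,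 [o740]), (2673, [o687]), (2674, [o69, o2104]), (2675, [o90, o1963]), (2676, [o946]), (2677, [o133, o1046]), (2688, [o148, o2549]), (2690, [o20, o2779, o75, o557]), (2693, [o68, o2184]), (2696, [o20, o274]), (2698, [o68, o76, o805, o2212]), (2699, [o68, o2213]), (2700, [o68, o602]), (2703, [o69, o708]), (2704, [o68, o1424]), (2705, [o535]), (2706, [o612]), (2707, [o2193]), (2708, [o1006, o230, o3492]), (2716, [o20, o1584, o2328, o758]), (2717, [o20, o199]), (2718, [o114, o647]), (2724, [o20, o3018]), (2728, [o20, o2460]), (2730, [o68, o2625, o1312, o3482]), (2731, [o20, o2873]), (2732, [o68, o3408, o1369, o1561]), (2744, [o0, o459]), (2745, [o0, o2184]), (2747, [o89, o662]), (2748, [o68, o946]), (2757, [o69, o1132]), (2758, [o89, o2460]), (2766, [o0, o1571]), (2769, [o1677]), (2770, [o96, o1248, o373, o2386]), (2773, [o69, o949]), (2776, [o114, o3018]),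 (2779, [o20, o1046]), (2782, [o69, o1590, o1885, o1293]), (2785, [o2213]), (2786, [o2148]), (2788, [o133, o2270]), (2789, [o20, o1274]), (2795, [o0, o2796]), (2797, [o1377]), (2876, [o89, o3385]), (2881, [o20, o643]), (2899, [o68, o1379]), (2907, [o20, o708]), (2908, [o96, o3180]), (2912, [o0, o3412]), (2919, [o20, o2104]), (2922, [o0, o2162]), (2923, [o3351]), (2924, [o68, o3060]), (2925, [o20, o949]), (2932, [o0, o3341]), (2933, [o0, o3137]), (2934, [o3012]), (2937, [o89, o3123]), (2940, [o89, o3366]), (2953, [o3060]), (2958, [o1188, o2449, o3015]), (2973, [o0, o2269]), (2983, [o89, o3466]), (2998, [o2269]), (3000, [o2205]), (3002, [o0, o3018]), (3013, [o0, o3012]), (3015, [o96, o3351]), (3024, [o3244]), (3031, [o96, o3366]), (3041, [o0, o3472]), (3042, [o3285]), (3059, [o20, o687]), (3070, [o89, o3433]), (3071, [o68, o3351]), (3082, [o0, o3116]), (3083,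 [o0, o3266]), (3088, [o3509]), (3089, [o3501]), (3092, [o68, o2873]), (3112, [o0, o1570]), (3143, [o0, o3180]), (3146, [o0, o2156]), (3169, [o90, o1006, o230, o3492]), (3170, [o96, o3501]), (3175, [o89, o3472]), (3176, [o20, o2788, o1194, o3439]), (3185, [o2873]), (3189, [o2907, o557, o2118]), (3190, [o68, o3501]), (3195, [o89, o3012]), (3224, [o0, o3285]), (3225, [o3472]), (3226, [o68, o3018]), (3227, [o96, o3137]), (3228, [o20, o2762]), (3230, [o3412]), (3240, [o3266]), (3286, [o2270]), (3292, [o68, o3341]), (3304, [o0, o3244]), (3332, [o96, o2873]), (3346, [o89, o3060]), (3350, [o0, o3060]), (3353, [o0, o3366]), (3360, [o3504]), (3377, [o3366]), (3379, [o3180]), (3395, [o89, o3509]), (3398, [o68, o3116]), (3400, [o3466]), (3402, [o0, o1188, o2449, o3015]), (3403, [o68, o3123]), (3407, [o3341]), (3408, [o0, o3433]), (3414, [o68, o3466]), (3439, [o20,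 o2156]), (3444, [o68, o3385]), (3445, [o2707, o1275, o2660]), (3464, [o3116]), (3469, [o0, o3504]), (3473, [o0, o3509]), (3474, [o3018]), (3482, [o96, o3244]), (3484, [o20, o1571]), (3485, [o20, o1344]), (3492, [o0, o3466]), (3494, [o96, o3266]), (3500, [o0, o3501]), (3502, [o0, o3123]), (3503, [o3385]), (3505, [o20, o1362]), (3506, [o0, o3385]), (3507, [o3123]), (3508, [o3137])], 2975⟩,
      ⟨o8, [(8, []), (20, [o137]), (66, [o215]), (68, [o20, o290]), (69, [o20, o689]), (82, [o20, o1406]), (86, [o152]), (89, [o148]), (90, [o66, o89]), (96, [o143]), (113, [o428]), (114, [o66, o555]), (133, [o20, o143]), (134, [o517]), (137, [o20]), (143, [o96]), (148, [o89]), (152, [o86]), (153, [o20, o421]), (159, [o20, o535]), (162, [o1585]), (165, [o199]), (196, [o20, o740]), (199, [o165]), (210, [o222]), (213, [o20, o363]), (215, [o66]), (218, [o251]), (221, [o1965]),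 (222, [o210]), (245, [o66, o221]), (251, [o218]), (254, [o275]), (256, [o20, o1482]), (257, [o20, o86]), (274, [o1006, o230, o3492]), (275, [o254]), (286, [o318]), (287, [o689]), (289, [o314]), (290, [o384]), (312, [o555]), (314, [o289]), (315, [o363]), (318, [o286]), (337, [o20, o251]), (363, [o315]), (367, [o1482]), (384, [o290]), (385, [o20, o222]), (421, [o595]), (428, [o113]), (440, [o20, o134]), (459, [o711]), (460, [o1571]), (485, [o20, o3060]), (486, [o528]), (493, [o1499]), (509, [o1406]), (517, [o134]), (521, [o1445]), (528, [o486]), (535, [o2026]), (548, [o1046]), (552, [o985]), (555, [o312]), (562, [o20, o3111]), (595, [o421]), (602, [o1344]), (603, [o1845]), (612, [o740]), (630, [o949]), (635, [o687]), (643, [o20, o630]), (646, [o66, o647]), (647, [o1547]), (648, [o872]), (662, [o2032]), (684, [o2193]), (687, [o635]), (689, [o287]), (708, [o20,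 o2408]), (711, [o459]), (740, [o612]), (872, [o648]), (901, [o1737]), (946, [o20, o1445]), (949, [o630]), (985, [o552]), (986, [o2150]), (987, [o1567]), (1046, [o548]), (1084, [o1379]), (1132, [o20, o635]), (1161, [o20, o548]), (1204, [o66, o901]), (1274, [o20, o165]), (1307, [o20, o314]), (1344, [o602]), (1362, [o2460]), (1377, [o2796]), (1379, [o1084]), (1404, [o20, o987]), (1406, [o509]), (1424, [o20, o3501]), (1427, [o1981]), (1445, [o521]), (1464, [o2149]), (1482, [o367]), (1499, [o493]), (1525, [o66, o2460]), (1547, [o647]), (1567, [o987]), (1570, [o2152]), (1571, [o460]), (1585, [o162]), (1586, [o66, o162]), (1588, [o20, o2193]), (1677, [o2762]), (1737, [o901]), (1763, [o20, o2667]), (1845, [o603]), (1911, [o20, o2205]), (1963, [o66, o2551]), (1965, [o221]), (1981, [o1427]), (2026, [o535]), (2032, [o662]), (2104, [o20, o2162]), (2148, [o20, o528]),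 (2149, [o1464]), (2150, [o986]), (2152, [o1570]), (2156, [o2162]), (2162, [o2156]), (2179, [o20, o3341]), (2184, [o2213]), (2185, [o2205]), (2193, [o684]), (2195, [o3111]), (2205, [o2185]), (2213, [o2184]), (2269, [o20, o459]), (2270, [o3385]), (2343, [o66, o662]), (2385, [o2551]), (2408, [o3331]), (2427, [o66, o2762]), (2460, [o1362]), (2549, [o20, o872]), (2551, [o2385]), (2630, [o2667]), (2641, [o20, o3123]), (2667, [o2630]), (2762, [o1677]), (2796, [o1377]), (2873, [o3466]), (3012, [o66, o3351]), (3018, [o3501]), (3060, [o3244]), (3111, [o2195]), (3116, [o3123]), (3123, [o3116]), (3137, [o20, o1377]), (3180, [o3504]), (3244, [o3060]), (3266, [o20, o1981]), (3285, [o20, o552]), (3331, [o2408]), (3341, [o3412]), (3351, [o3472]), (3366, [o66, o3180]), (3385, [o2270]), (3412, [o3341]), (3433, [o20, o2184]), (3466, [o2873]), (3472, [o3351]), (3501, [o3018]),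 (3504, [o3180]), (3509, [o20, o1499])], 3384⟩]⟩,
  ⟨[(o10, o10), (o0, o0)], 1, .node 5 2 [⟨o8, [(8, []), (20, [o148, o1965]), (66, [o215]), (68, [o86, o148]), (89, [o148]), (90, [o86, o96]), (113, [o86, o421]), (114, [o148, o711, o2873, o1084]), (133, [o148, o740, o509, o314]), (134, [o517]), (137, [o286, o1763, o2641]), (143, [o96]), (152, [o86]), (153, [o86, o215]), (159, [o86, o254]), (162, [o1585]), (199, [o165]), (210, [o222]), (221, [o1965]), (245, [o86, o2630, o289, o3366, o8]), (251, [o218]), (256, [o86, o1585]), (257, [o165, o711, o2873, o1084]), (274, [o86, o165]), (275, [o254]), (286, [o96, o384]), (287, [o646, o3137, o689]), (289, [o86, o384]), (290, [o384]), (314, [o86, o1965]), (315, [o440, o153, o363]), (318, [o3137, o318, o2179, o8]), (337, [o215, o521]), (363, [o96, o421]), (385, [o215, o421]), (428, [o86, o222]), (440, [o215, o384]), (459,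 [o148, o2385]), (460, [o96, o493]), (485, [o86, o711, o552, o602]), (486, [o528]), (509, [o96, o8, o2343, o1525, o985]), (548, [o96, o1981]), (552, [o8, o2343, o1525, o985]), (555, [o312]), (595, [o421]), (602, [o86, o630]), (603, [o199, o1763, o210]), (612, [o555, o687, o643]), (635, [o86, o1677]), (643, [o215, o535]), (646, [o215, o1547]), (647, [o1547]), (648, [o86, o367]), (662, [o2032]), (684, [o86, o3137, o318, o2179, o8]), (687, [o86, o2796]), (689, [o148, o517]), (711, [o96, o2641, o3331, o89]), (740, [o1404, o612, o152]), (872, [o86, o2032]), (901, [o1737]), (946, [o215, o367]), (949, [o630]), (985, [o148, o1362]), (986, [o86, o1981]), (987, [o1567]), (1046, [o96, o1362]), (1084, [o148, o1677]), (1204, [o148, o711, o552, o602]), (1274, [o86, o711, o2873, o1084]), (1344, [o89, o603, o2427]), (1377, [o2796]), (1379, [o96, o2630, o289, o3366, o8]),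 (1404, [o215, o2796]), (1406, [o509, o3244, o1499]), (1424, [o86, o8, o2343, o1525, o985]), (1427, [o1981]), (1445, [o521]), (1464, [o96, o367]), (1482, [o367]), (1499, [o493]), (1525, [o8, o643, o3501, o287]), (1570, [o86, o2667]), (1571, [o459, o1763, o3433]), (1586, [o86, o218]), (1763, [o148, o3137, o318, o2179, o8]), (1845, [o96, o2796]), (1963, [o165, o740, o509, o314]), (2026, [o535]), (2104, [o96, o711, o2873, o1084]), (2148, [o96, o740, o509, o314]), (2149, [o96, o2156]), (2150, [o86, o528]), (2152, [o245, o2460, o3366]), (2162, [o2156]), (2179, [o165, o8, o2343, o1525, o985]), (2185, [o1204, o595, o3509]), (2193, [o96, o2184]), (2195, [o86, o493]), (2205, [o148, o1567]), (2213, [o2184]), (2269, [o86, o3123]), (2270, [o3385]), (2343, [o86, o740, o509, o314]), (2408, [o2641, o3331, o89]), (2427, [o165, o2630, o289, o3366, o8]), (2460, [o1362]),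 (2551, [o2385]), (2630, [o2667]), (2641, [o2630, o289, o3366, o8]), (2762, [o1677]), (2873, [o3466]), (3012, [o86, o3412]), (3111, [o86, o2385]), (3116, [o3123]), (3137, [o86, o3472]), (3180, [o3504]), (3244, [o3060]), (3266, [o86, o3385]), (3285, [o86, o3060]), (3331, [o96, o1547]), (3341, [o3412]), (3351, [o3472]), (3366, [o86, o3018]), (3433, [o86, o3466]), (3501, [o3018]), (3509, [o3244, o89, o3509, o8])], 2⟩,
      ⟨o69, [(69, []), (82, [o213, o708]), (86, [o8, o2343, o1525, o985]), (96, [o213, o222]), (148, [o213, o384]), (165, [o213, o1362]), (196, [o20, o872, o548, o113]), (213, [o1307]), (218, [o2630, o289, o3366, o8]), (222, [o1965]), (312, [o517]), (367, [o1981]), (384, [o421]), (421, [o384]), (493, [o535]), (517, [o312]), (521, [o1737]), (528, [o2032]), (535, [o493]), (562, [o1161]), (630, [o1677]), (708, [o1132]), (1132, [o708]), (1161, [o562]),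 (1307, [o213]), (1362, [o2156]), (1547, [o1567]), (1567, [o1547]), (1585, [o3137, o318, o2179, o8]), (1588, [o2549]), (1677, [o630]), (1737, [o521]), (1911, [o213, o1588]), (1965, [o222]), (1981, [o367]), (2032, [o528]), (2156, [o1362]), (2184, [o2796]), (2385, [o2667]), (2549, [o1588]), (2667, [o2385]), (2796, [o2184]), (3018, [o213, o630]), (3060, [o213, o1547]), (3123, [o213, o1737]), (3412, [o213, o528]), (3472, [o213, o493]), (3504, [o213, o367])], 407⟩,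
      ⟨o215, [(215, [])], 513⟩,
      ⟨o254, [(254, []), (3385, [o555, o687, o643]), (3466, [o1404, o612, o152])], 2810⟩]⟩,
  ⟨[(o10, o10), (o0, o0), (o215, o8)], 2, .node 1 3 [⟨o1, [(1, [])], 3⟩,
      ⟨o14, [(14, [])], 94⟩,
      ⟨o63, [(63, []), (192, [o0, o1307, o89, o603, o2427, o165, o222, o86, o215, o3385, o3123]), (370, [o1588]), (795, [o562]), (1120, [o0, o708, o2549, o222, o165, o2427, o603, o89]), (1553, [o1161, o1911, o222, o165, o2427, o603, o89]), (1590, [o562, o0, o1307, o89, o603, o2427, o165, o222, o86, o215, o3385, o3123]), (1714, [o384, o3060, o1677, o86, o0, o222, o165, o2427, o603, o89]), (2590, [o89, o603, o2427, o165, o222, o215, o2796, o528, o1547, o86, o1677, o3060, o384])], 185⟩,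
      ⟨o70, [(70, []), (79, [o562, o0, o1307, o89, o603, o2427, o165, o222, o86, o215, o3385, o3123]), (214, [o0, o1307, o89, o603, o2427, o165, o222, o86, o215, o3385, o3123]), (1119, [o0, o708, o2549, o222, o165, o2427, o603, o89]), (1160, [o562]), (1477, [o1161, o1911, o222, o165, o2427, o603, o89]), (1713, [o384, o3060, o1677, o86, o0, o222, o165, o2427, o603, o89]), (1966, [o89, o603, o2427, o165, o222, o215, o2796, o528, o1547, o86, o1677, o3060, o384]), (1975, [o1588])], 227⟩,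
      ⟨o283, [(283, []), (473, [o86, o3466, o215, o3060, o562, o1547, o528, o2796, o215]), (981, [o0, o222, o535, o528, o86, o196, o1161]), (2704, [o1588]), (2747, [o82]), (2757, [o562])], 269⟩,
      ⟨o305, [(305, []), (324, [o86, o3466, o215, o3060, o562, o1547, o528, o2796, o215]), (637, [o0, o222, o535, o528, o86, o196, o1161]), (2703, [o82]), (2748, [o562]), (2758, [o1588])], 338⟩]⟩,
  ⟨[(o10, o10), (o0, o0), (o215, o8), (o14, o1)], 3, .node 6 4 [⟨o86, [(86, [])], 4⟩,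
      ⟨o218, [(218, [])], 19⟩,
      ⟨o384, [(384, []), (1981, [o82])], 46⟩,
      ⟨o528, [(528, []), (1965, [o82])], 56⟩,
      ⟨o1567, [(1567, []), (1737, [o82])], 70⟩,
      ⟨o1585, [(1585, [])], 79⟩]⟩,
  ⟨[(o10, o10), (o0, o0), (o215, o8), (o14, o1), (o256, o86)], 4, .node 8 5 [⟨o1204, [(1204, [])], 5⟩,
      ⟨o2179, [(2179, [])], 12⟩]⟩,
  ⟨[(o10, o10), (o0, o0), (o215, o8), (o14, o1), (o256, o86), (o1965, o1204)], 5, .node 2 5 [⟨o65, [(65, [])], 6⟩,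
      ⟨o97, [(97, [])], 9⟩]⟩,
  ⟨[(o10, o10), (o0, o0), (o215, o8), (o14, o1), (o256, o86), (o1965, o1204), (o12, o65)], 5, .node 4 5 [⟨o160, [(160, [])], 7⟩]⟩,
  ⟨[(o10, o10), (o0, o0), (o215, o8), (o14, o1), (o256, o86), (o1965, o1204), (o12, o65), (o154, o160)], 5, .node 7 5 [⟨o84, [(84, [])], 8⟩]⟩,
  ⟨[(o10, o10), (o0, o0), (o215, o8), (o14, o1), (o256, o86), (o1965, o1204), (o12, o65), (o154, o160), (o243, o84)], 5, .conjw 2 [1, 0, 2, 1, 3, 2, 7, 8, 3, 7, 2, 3, 4, 1, 2, 3, 7, 8, 5, 4, 2, 3, 7, 2, 3, 4, 5, 3, 4, 0]⟩,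
  ⟨[(o10, o10), (o0, o0), (o215, o8), (o14, o1), (o256, o86), (o1965, o1204), (o12, o97)], 5, .node 4 5 [⟨o83, [(83, [])], 10⟩]⟩,
  ⟨[(o10, o10), (o0, o0), (o215, o8), (o14, o1), (o256, o86), (o1965, o1204), (o12, o97), (o154, o83)], 5, .node 7 5 [⟨o161, [(161, [])], 11⟩]⟩,
  ⟨[(o10, o10), (o0, o0), (o215, o8), (o14, o1), (o256, o86), (o1965, o1204), (o12, o97), (o154, o83), (o243, o161)], 5, .conjw 1 [2, 3, 7, 1, 2, 3, 4, 0, 1, 2, 3, 7, 1, 2, 3, 4, 5, 4, 2, 0]⟩,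
  ⟨[(o10, o10), (o0, o0), (o215, o8), (o14, o1), (o256, o86), (o1965, o2179)], 5, .node 2 5 [⟨o163, [(163, [])], 13⟩,
      ⟨o164, [(164, [])], 16⟩]⟩,
  ⟨[(o10, o10), (o0, o0), (o215, o8), (o14, o1), (o256, o86), (o1965, o2179), (o12, o163)], 5, .node 4 5 [⟨o154, [(154, [])], 14⟩]⟩,
  ⟨[(o10, o10), (o0, o0), (o215, o8), (o14, o1), (o256, o86), (o1965, o2179), (o12, o163), (o154, o154)], 5, .node 7 5 [⟨o149, [(149, [])], 15⟩]⟩,
  ⟨[(o10, o10), (o0, o0), (o215, o8), (o14, o1), (o256, o86), (o1965, o2179), (o12, o163), (o154, o154), (o243, o149)], 5, .conjw 2 [1, 2, 1, 0, 6, 8, 5, 4, 3, 7, 2, 3, 4, 1, 2, 3, 7, 8, 5, 4, 3, 7, 2, 3, 4, 5, 2, 0]⟩,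
  ⟨[(o10, o10), (o0, o0), (o215, o8), (o14, o1), (o256, o86), (o1965, o2179), (o12, o164)], 5, .node 4 5 [⟨o67, [(67, [])], 17⟩]⟩,
  ⟨[(o10, o10), (o0, o0), (o215, o8), (o14, o1), (o256, o86), (o1965, o2179), (o12, o164), (o154, o67)], 5, .node 7 5 [⟨o155, [(155, [])], 18⟩]⟩,
  ⟨[(o10, o10), (o0, o0), (o215, o8), (o14, o1), (o256, o86), (o1965, o2179), (o12, o164), (o154, o67), (o243, o155)], 5, .conjw 1 [6, 5, 4, 3, 7, 1, 2, 3, 4, 5, 4, 1, 2, 0]⟩,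
  ⟨[(o10, o10), (o0, o0), (o215, o8), (o14, o1), (o256, o218)], 4, .node 8 6 [⟨o245, [(245, [])], 20⟩,
      ⟨o485, [(485, [])], 33⟩]⟩,
  ⟨[(o10, o10), (o0, o0), (o215, o8), (o14, o1), (o256, o218), (o1965, o245)], 6, .node 2 6 [⟨o65, [(65, [])], 21⟩,
      ⟨o97, [(97, [])], 24⟩,
      ⟨o593, [(593, [])], 27⟩,
      ⟨o633, [(633, [])], 30⟩]⟩,
  ⟨[(o10, o10), (o0, o0), (o215, o8), (o14, o1), (o256, o218), (o1965, o245), (o12, o65)], 6, .node 7 6 [⟨o149, [(149, [])], 22⟩]⟩,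
  ⟨[(o10, o10), (o0, o0), (o215, o8), (o14, o1), (o256, o218), (o1965, o245), (o12, o65), (o243, o149)], 6, .node 4 6 [⟨o154, [(154, [])], 23⟩]⟩,
  ⟨[(o10, o10), (o0, o0), (o215, o8), (o14, o1), (o256, o218), (o1965, o245), (o12, o65), (o243, o149), (o154, o154)], 6, .inner [7, 5, 4, 2, 3, 0, 2, 3, 2, 4, 5, 7]⟩,
  ⟨[(o10, o10), (o0, o0), (o215, o8), (o14, o1), (o256, o218), (o1965, o245), (o12, o97)], 6, .node 7 6 [⟨o155, [(155, [])], 25⟩]⟩,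
  ⟨[(o10, o10), (o0, o0), (o215, o8), (o14, o1), (o256, o218), (o1965, o245), (o12, o97), (o243, o155)], 6, .node 4 6 [⟨o67, [(67, [])], 26⟩]⟩,
  ⟨[(o10, o10), (o0, o0), (o215, o8), (o14, o1), (o256, o218), (o1965, o245), (o12, o97), (o243, o155), (o154, o67)], 6, .inner [4, 3, 7, 2, 3, 4, 5, 2, 3, 0, 2, 4, 3, 2, 5, 4, 3, 2, 7, 3, 4]⟩,
  ⟨[(o10, o10), (o0, o0), (o215, o8), (o14, o1), (o256, o218), (o1965, o245), (o12, o593)], 6, .node 7 6 [⟨o859, [(859, [])], 28⟩]⟩,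
  ⟨[(o10, o10), (o0, o0), (o215, o8), (o14, o1), (o256, o218), (o1965, o245), (o12, o593), (o243, o859)], 6, .node 4 6 [⟨o525, [(525, [])], 29⟩]⟩,
  ⟨[(o10, o10), (o0, o0), (o215, o8), (o14, o1), (o256, o218), (o1965, o245), (o12, o593), (o243, o859), (o154, o525)], 6, .conjw 2 [1, 2, 1, 0, 8, 3, 7, 2, 3, 4, 1, 2, 3, 7, 8, 6, 5, 4, 3, 7, 1, 2, 3, 4, 5, 2, 0]⟩,
  ⟨[(o10, o10), (o0, o0), (o215, o8), (o14, o1), (o256, o218), (o1965, o245), (o12, o633)], 6, .node 7 6 [⟨o524, [(524, [])], 31⟩]⟩,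
  ⟨[(o10, o10), (o0, o0), (o215, o8), (o14, o1), (o256, o218), (o1965, o245), (o12, o633), (o243, o524)], 6, .node 4 6 [⟨o1976, [(1976, [])], 32⟩]⟩,
  ⟨[(o10, o10), (o0, o0), (o215, o8), (o14, o1), (o256, o218), (o1965, o245), (o12, o633), (o243, o524), (o154, o1976)], 6, .conjw 1 [1, 0, 2, 1, 0, 5, 4, 3, 2, 7, 3, 2, 1, 4, 3, 8, 7, 3, 4, 2, 3, 7, 8, 1, 2, 3, 7, 5, 6, 4, 5, 3, 4, 2, 3, 7, 3, 4, 0, 1, 2, 1]⟩,
  ⟨[(o10, o10), (o0, o0), (o215, o8), (o14, o1), (o256, o218), (o1965, o485)], 6, .node 2 6 [⟨o163, [(163, [])], 34⟩,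
      ⟨o164, [(164, [])], 37⟩,
      ⟨o1365, [(1365, [])], 40⟩,
      ⟨o2272, [(2272, [])], 43⟩]⟩,
  ⟨[(o10, o10), (o0, o0), (o215, o8), (o14, o1), (o256, o218), (o1965, o485), (o12, o163)], 6, .node 4 6 [⟨o160, [(160, [])], 35⟩]⟩,
  ⟨[(o10, o10), (o0, o0), (o215, o8), (o14, o1), (o256, o218), (o1965, o485), (o12, o163), (o154, o160)], 6, .node 7 6 [⟨o84, [(84, [])], 36⟩]⟩,
  ⟨[(o10, o10), (o0, o0), (o215, o8), (o14, o1), (o256, o218), (o1965, o485), (o12, o163), (o154, o160), (o243, o84)], 6, .inner [1, 2, 1, 0, 3, 2, 1, 5, 4, 8, 7, 3, 2, 1, 0, 4, 3, 2, 7, 8, 5, 4, 3, 7, 6, 4, 5, 2, 3, 4, 1, 2, 3, 7, 6, 1, 2, 3, 4, 5, 1, 2, 3, 0, 1, 0, 2, 4, 1, 0, 3, 2, 1, 5, 4, 3, 2, 1, 6, 7, 3, 2, 1, 4, 3, 2, 5, 4, 6, 7, 3, 4, 5, 8, 7, 2, 3, 4, 0, 1, 2, 3, 7, 8, 4, 5, 1, 2, 3, 0, 1, 2, 1]⟩,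
  ⟨[(o10, o10), (o0, o0), (o215, o8), (o14, o1), (o256, o218), (o1965, o485), (o12, o164)], 6, .node 7 6 [⟨o161, [(161, [])], 38⟩]⟩,
  ⟨[(o10, o10), (o0, o0), (o215, o8), (o14, o1), (o256, o218), (o1965, o485), (o12, o164), (o243, o161)], 6, .node 4 6 [⟨o83, [(83, [])], 39⟩]⟩,
  ⟨[(o10, o10), (o0, o0), (o215, o8), (o14, o1), (o256, o218), (o1965, o485), (o12, o164), (o243, o161), (o154, o83)], 6, .inner [7, 4, 5, 1, 2, 3, 4, 0, 1, 2, 3, 7, 6, 2, 3, 4, 5, 4, 3, 0, 1, 0, 2, 4, 1, 0, 3, 4, 5, 4, 3, 2, 6, 7, 3, 2, 1, 0, 4, 3, 2, 1, 5, 4, 7]⟩,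
  ⟨[(o10, o10), (o0, o0), (o215, o8), (o14, o1), (o256, o218), (o1965, o485), (o12, o1365)], 6, .node 4 6 [⟨o1564, [(1564, [])], 41⟩]⟩,
  ⟨[(o10, o10), (o0, o0), (o215, o8), (o14, o1), (o256, o218), (o1965, o485), (o12, o1365), (o154, o1564)], 6, .node 7 6 [⟨o1412, [(1412, [])], 42⟩]⟩,
  ⟨[(o10, o10), (o0, o0), (o215, o8), (o14, o1), (o256, o218), (o1965, o485), (o12, o1365), (o154, o1564), (o243, o1412)], 6, .conjw 2 [4, 3, 2, 5, 4, 3, 6, 5, 4, 3, 7, 8, 3, 7, 2, 3, 4, 1, 2, 3, 7, 8, 0, 1, 2, 3, 7, 5, 4, 3, 2, 1, 0]⟩,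
  ⟨[(o10, o10), (o0, o0), (o215, o8), (o14, o1), (o256, o218), (o1965, o485), (o12, o2272)], 6, .node 7 6 [⟨o1565, [(1565, [])], 44⟩]⟩,
  ⟨[(o10, o10), (o0, o0), (o215, o8), (o14, o1), (o256, o218), (o1965, o485), (o12, o2272), (o243, o1565)], 6, .node 4 6 [⟨o1413, [(1413, [])], 45⟩]⟩,
  ⟨[(o10, o10), (o0, o0), (o215, o8), (o14, o1), (o256, o218), (o1965, o485), (o12, o2272), (o243, o1565), (o154, o1413)], 6, .conjw 1 [4, 3, 2, 6, 7, 3, 2, 4, 3, 5, 6, 8, 7, 3, 2, 4, 5, 3, 4, 1, 2, 3, 7, 8, 0, 1, 2, 3, 7, 6, 4, 5, 2, 3, 4, 1, 2, 0, 1, 0]⟩,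
  ⟨[(o10, o10), (o0, o0), (o215, o8), (o14, o1), (o256, o384)], 4, .node 8 7 [⟨o1763, [(1763, [])], 47⟩]⟩,
  ⟨[(o10, o10), (o0, o0), (o215, o8), (o14, o1), (o256, o384), (o1965, o1763)], 7, .node 2 7 [⟨o49, [(49, [])], 48⟩,
      ⟨o122, [(122, [])], 52⟩]⟩,
  ⟨[(o10, o10), (o0, o0), (o215, o8), (o14, o1), (o256, o384), (o1965, o1763), (o12, o49)], 7, .node 4 7 [⟨o626, [(626, [])], 49⟩]⟩,
  ⟨[(o10, o10), (o0, o0), (o215, o8), (o14, o1), (o256, o384), (o1965, o1763), (o12, o49), (o154, o626)], 7, .node 7 7 [⟨o591, [(591, [])], 50⟩,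
      ⟨o1565, [(1565, [])], 51⟩]⟩,
  ⟨[(o10, o10), (o0, o0), (o215, o8), (o14, o1), (o256, o384), (o1965, o1763), (o12, o49), (o154, o626), (o243, o591)], 7, .conjw 1 [2, 7, 8, 3, 7, 4, 5, 2, 3, 4, 1, 2, 3, 7, 8, 0, 1, 2, 3, 7, 5, 3, 4, 2, 1]⟩,
  ⟨[(o10, o10), (o0, o0), (o215, o8), (o14, o1), (o256, o384), (o1965, o1763), (o12, o49), (o154, o626), (o243, o1565)], 7, .bad [7, 4] 8 10⟩,
  ⟨[(o10, o10), (o0, o0), (o215, o8), (o14, o1), (o256, o384), (o1965, o1763), (o12, o122)], 7, .node 4 7 [⟨o627, [(627, [])], 53⟩]⟩,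
  ⟨[(o10, o10), (o0, o0), (o215, o8), (o14, o1), (o256, o384), (o1965, o1763), (o12, o122), (o154, o627)], 7, .node 7 7 [⟨o984, [(984, [])], 54⟩,
      ⟨o1412, [(1412, [])], 55⟩]⟩,
  ⟨[(o10, o10), (o0, o0), (o215, o8), (o14, o1), (o256, o384), (o1965, o1763), (o12, o122), (o154, o627), (o243, o984)], 7, .conjw 2 [7, 8, 2, 3, 4, 5, 1, 2, 3, 4, 0, 1, 2, 3, 7, 3, 4, 5, 4, 2, 0]⟩,
  ⟨[(o10, o10), (o0, o0), (o215, o8), (o14, o1), (o256, o384), (o1965, o1763), (o12, o122), (o154, o627), (o243, o1412)], 7, .bad [7, 4] 8 10⟩,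
  ⟨[(o10, o10), (o0, o0), (o215, o8), (o14, o1), (o256, o528)], 4, .node 8 8 [⟨o245, [(245, [])], 57⟩]⟩,
  ⟨[(o10, o10), (o0, o0), (o215, o8), (o14, o1), (o256, o528), (o1965, o245)], 8, .node 2 8 [⟨o1043, [(1043, [])], 58⟩,
      ⟨o1044, [(1044, [])], 61⟩,
      ⟨o3181, [(3181, [])], 64⟩,
      ⟨o3182, [(3182, [])], 67⟩]⟩,
  ⟨[(o10, o10), (o0, o0), (o215, o8), (o14, o1), (o256, o528), (o1965, o245), (o12, o1043)], 8, .node 7 8 [⟨o1294, [(1294, [])], 59⟩]⟩,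
  ⟨[(o10, o10), (o0, o0), (o215, o8), (o14, o1), (o256, o528), (o1965, o245), (o12, o1043), (o243, o1294)], 8, .node 4 8 [⟨o561, [(561, [])], 60⟩]⟩,
  ⟨[(o10, o10), (o0, o0), (o215, o8), (o14, o1), (o256, o528), (o1965, o245), (o12, o1043), (o243, o1294), (o154, o561)], 8, .inner [4, 5, 3, 4, 2, 3, 7, 8, 1, 2, 3, 4, 0, 1, 2, 3, 7, 6, 1, 2, 3, 4, 5, 2, 3, 0, 2, 4, 3, 2, 5, 4, 3, 2, 1, 6, 7, 3, 2, 1, 0, 4, 3, 2, 1, 8, 7, 3, 2, 4, 3, 5, 4]⟩,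
  ⟨[(o10, o10), (o0, o0), (o215, o8), (o14, o1), (o256, o528), (o1965, o245), (o12, o1044)], 8, .node 7 8 [⟨o1442, [(1442, [])], 62⟩]⟩,
  ⟨[(o10, o10), (o0, o0), (o215, o8), (o14, o1), (o256, o528), (o1965, o245), (o12, o1044), (o243, o1442)], 8, .node 4 8 [⟨o560, [(560, [])], 63⟩]⟩,
  ⟨[(o10, o10), (o0, o0), (o215, o8), (o14, o1), (o256, o528), (o1965, o245), (o12, o1044), (o243, o1442), (o154, o560)], 8, .inner [2, 3, 4, 3, 2, 1, 5, 4, 3, 2, 1, 0, 7, 8, 3, 7, 6, 3, 4, 5, 2, 3, 4, 1, 2, 3, 7, 5, 6, 0, 1, 2, 3, 4, 5, 2, 3, 0, 1, 0, 2, 4, 1, 0, 3, 2, 5, 4, 3, 2, 1, 0, 6, 5, 7, 3, 2, 1, 4, 3, 2, 5, 4, 3, 6, 7, 3, 8, 7, 0, 1, 2, 3, 4, 5, 1, 2, 3, 4, 3, 2]⟩,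
  ⟨[(o10, o10), (o0, o0), (o215, o8), (o14, o1), (o256, o528), (o1965, o245), (o12, o3181)], 8, .node 7 8 [⟨o288, [(288, [])], 65⟩]⟩,
  ⟨[(o10, o10), (o0, o0), (o215, o8), (o14, o1), (o256, o528), (o1965, o245), (o12, o3181), (o243, o288)], 8, .node 4 8 [⟨o188, [(188, [])], 66⟩]⟩,
  ⟨[(o10, o10), (o0, o0), (o215, o8), (o14, o1), (o256, o528), (o1965, o245), (o12, o3181), (o243, o288), (o154, o188)], 8, .conjw 2 [2, 4, 3, 5, 4, 7, 3, 8, 7, 2, 3, 4, 1, 2, 3, 7, 8, 0, 1, 2, 3, 7, 5, 4, 3, 0, 1, 2, 0, 1, 0]⟩,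
  ⟨[(o10, o10), (o0, o0), (o215, o8), (o14, o1), (o256, o528), (o1965, o245), (o12, o3182)], 8, .node 7 8 [⟨o362, [(362, [])], 68⟩]⟩,
  ⟨[(o10, o10), (o0, o0), (o215, o8), (o14, o1), (o256, o528), (o1965, o245), (o12, o3182), (o243, o362)], 8, .node 4 8 [⟨o187, [(187, [])], 69⟩]⟩,
  ⟨[(o10, o10), (o0, o0), (o215, o8), (o14, o1), (o256, o528), (o1965, o245), (o12, o3182), (o243, o362), (o154, o187)], 8, .conjw 1 [1, 4, 3, 2, 1, 0, 6, 5, 7, 3, 2, 1, 0, 4, 5, 3, 4, 2, 3, 7, 8, 6, 5, 4, 1, 2, 3, 7, 4, 5, 2, 3, 4, 1, 2, 0, 1, 0]⟩,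
  ⟨[(o10, o10), (o0, o0), (o215, o8), (o14, o1), (o256, o1567)], 4, .node 8 9 [⟨o153, [(153, [])], 71⟩]⟩,
  ⟨[(o10, o10), (o0, o0), (o215, o8), (o14, o1), (o256, o1567), (o1965, o153)], 9, .node 2 9 [⟨o599, [(599, [])], 72⟩,
      ⟨o1530, [(1530, [])], 76⟩]⟩,
  ⟨[(o10, o10), (o0, o0), (o215, o8), (o14, o1), (o256, o1567), (o1965, o153), (o12, o599)], 9, .node 4 9 [⟨o154, [(154, [])], 73⟩]⟩,
  ⟨[(o10, o10), (o0, o0), (o215, o8), (o14, o1), (o256, o1567), (o1965, o153), (o12, o599), (o154, o154)], 9, .node 7 9 [⟨o149, [(149, [])], 74⟩,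
      ⟨o1442, [(1442, [])], 75⟩]⟩,
  ⟨[(o10, o10), (o0, o0), (o215, o8), (o14, o1), (o256, o1567), (o1965, o153), (o12, o599), (o154, o154), (o243, o149)], 9, .conjw 1 [1, 0, 2, 1, 0, 5, 4, 3, 2, 1, 6, 5, 4, 3, 7, 3, 2, 4, 3, 7, 8, 7, 5, 6, 3, 4, 5, 2, 3, 4, 1, 2, 3, 7, 3, 4, 3, 0, 1, 2, 1]⟩,
  ⟨[(o10, o10), (o0, o0), (o215, o8), (o14, o1), (o256, o1567), (o1965, o153), (o12, o599), (o154, o154), (o243, o1442)], 9, .bad [7, 4] 8 10⟩,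
  ⟨[(o10, o10), (o0, o0), (o215, o8), (o14, o1), (o256, o1567), (o1965, o153), (o12, o1530)], 9, .node 4 9 [⟨o67, [(67, [])], 77⟩]⟩,
  ⟨[(o10, o10), (o0, o0), (o215, o8), (o14, o1), (o256, o1567), (o1965, o153), (o12, o1530), (o154, o67)], 9, .node 7 9 [⟨o155, [(155, [])], 78⟩]⟩,
  ⟨[(o10, o10), (o0, o0), (o215, o8), (o14, o1), (o256, o1567), (o1965, o153), (o12, o1530), (o154, o67), (o243, o155)], 9, .conjw 2 [6, 5, 4, 3, 7, 1, 2, 3, 4, 5, 4, 1, 2, 0]⟩,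
  ⟨[(o10, o10), (o0, o0), (o215, o8), (o14, o1), (o256, o1585)], 4, .node 8 10 [⟨o440, [(440, [])], 80⟩,
      ⟨o1763, [(1763, [])], 87⟩]⟩,
  ⟨[(o10, o10), (o0, o0), (o215, o8), (o14, o1), (o256, o1585), (o1965, o440)], 10, .node 2 10 [⟨o1572, [(1572, [])], 81⟩,
      ⟨o2234, [(2234, [])], 84⟩]⟩,
  ⟨[(o10, o10), (o0, o0), (o215, o8), (o14, o1), (o256, o1585), (o1965, o440), (o12, o1572)], 10, .node 4 10 [⟨o430, [(430, [])], 82⟩]⟩,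
  ⟨[(o10, o10), (o0, o0), (o215, o8), (o14, o1), (o256, o1585), (o1965, o440), (o12, o1572), (o154, o430)], 10, .node 7 10 [⟨o317, [(317, [])], 83⟩]⟩,
  ⟨[(o10, o10), (o0, o0), (o215, o8), (o14, o1), (o256, o1585), (o1965, o440), (o12, o1572), (o154, o430), (o243, o317)], 10, .conjw 2 [1, 6, 5, 4, 7, 3, 4, 8, 7, 3, 4, 5, 6, 2, 3, 4, 5, 1, 2, 3, 4, 0, 1, 2, 3, 7, 3, 4, 2, 1]⟩,
  ⟨[(o10, o10), (o0, o0), (o215, o8), (o14, o1), (o256, o1585), (o1965, o440), (o12, o2234)], 10, .node 4 10 [⟨o429, [(429, [])], 85⟩]⟩,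
  ⟨[(o10, o10), (o0, o0), (o215, o8), (o14, o1), (o256, o1585), (o1965, o440), (o12, o2234), (o154, o429)], 10, .node 7 10 [⟨o316, [(316, [])], 86⟩]⟩,
  ⟨[(o10, o10), (o0, o0), (o215, o8), (o14, o1), (o256, o1585), (o1965, o440), (o12, o2234), (o154, o429), (o243, o316)], 10, .conjw 1 [6, 5, 7, 3, 4, 8, 7, 3, 4, 2, 3, 7, 5, 6, 4, 5, 3, 4, 1, 2, 3, 7, 8, 0, 1, 2, 3, 7, 3, 4, 2, 1]⟩,
  ⟨[(o10, o10), (o0, o0), (o215, o8), (o14, o1), (o256, o1585), (o1965, o1763)], 10, .node 2 10 [⟨o1740, [(1740, [])], 88⟩,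
      ⟨o2344, [(2344, [])], 91⟩]⟩,
  ⟨[(o10, o10), (o0, o0), (o215, o8), (o14, o1), (o256, o1585), (o1965, o1763), (o12, o1740)], 10, .node 4 10 [⟨o858, [(858, [])], 89⟩]⟩,
  ⟨[(o10, o10), (o0, o0), (o215, o8), (o14, o1), (o256, o1585), (o1965, o1763), (o12, o1740), (o154, o858)], 10, .node 7 10 [⟨o782, [(782, [])], 90⟩]⟩,
  ⟨[(o10, o10), (o0, o0), (o215, o8), (o14, o1), (o256, o1585), (o1965, o1763), (o12, o1740), (o154, o858), (o243, o782)], 10, .conjw 1 [1, 7, 3, 2, 1, 0, 8, 7, 3, 2, 1, 0, 4, 5, 3, 4, 2, 3, 7, 8, 6, 5, 4, 1, 2, 3, 7, 4, 5, 2, 3, 4, 1, 2, 0, 1, 0]⟩,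
  ⟨[(o10, o10), (o0, o0), (o215, o8), (o14, o1), (o256, o1585), (o1965, o1763), (o12, o2344)], 10, .node 4 10 [⟨o632, [(632, [])], 92⟩]⟩,
  ⟨[(o10, o10), (o0, o0), (o215, o8), (o14, o1), (o256, o1585), (o1965, o1763), (o12, o2344), (o154, o632)], 10, .node 7 10 [⟨o783, [(783, [])], 93⟩]⟩,
  ⟨[(o10, o10), (o0, o0), (o215, o8), (o14, o1), (o256, o1585), (o1965, o1763), (o12, o2344), (o154, o632), (o243, o783)], 10, .conjw 2 [1, 4, 3, 2, 1, 8, 7, 6, 3, 4, 5, 2, 3, 4, 0, 1, 2, 3, 7, 6, 3, 4, 5, 2, 3, 4, 1, 0]⟩,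
  ⟨[(o10, o10), (o0, o0), (o215, o8), (o14, o14)], 3, .node 6 4 [⟨o86, [(86, [])], 95⟩,
      ⟨o218, [(218, [])], 110⟩,
      ⟨o384, [(384, []), (1981, [o82])], 137⟩,
      ⟨o528, [(528, []), (1965, [o82])], 147⟩,
      ⟨o1567, [(1567, []), (1737, [o82])], 161⟩,
      ⟨o1585, [(1585, [])], 170⟩]⟩,
  ⟨[(o10, o10), (o0, o0), (o215, o8), (o14, o14), (o256, o86)], 4, .node 8 5 [⟨o1204, [(1204, [])], 96⟩,
      ⟨o2179, [(2179, [])], 103⟩]⟩,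
  ⟨[(o10, o10), (o0, o0), (o215, o8), (o14, o14), (o256, o86), (o1965, o1204)], 5, .node 2 5 [⟨o65, [(65, [])], 97⟩,
      ⟨o97, [(97, [])], 100⟩]⟩,
  ⟨[(o10, o10), (o0, o0), (o215, o8), (o14, o14), (o256, o86), (o1965, o1204), (o12, o65)], 5, .node 4 5 [⟨o160, [(160, [])], 98⟩]⟩,
  ⟨[(o10, o10), (o0, o0), (o215, o8), (o14, o14), (o256, o86), (o1965, o1204), (o12, o65), (o154, o160)], 5, .node 7 5 [⟨o84, [(84, [])], 99⟩]⟩,
  ⟨[(o10, o10), (o0, o0), (o215, o8), (o14, o14), (o256, o86), (o1965, o1204), (o12, o65), (o154, o160), (o243, o84)], 5, .conjw 1 [2, 1, 0, 3, 6, 7, 3, 2, 1, 8, 7, 3, 2, 1, 0, 4, 3, 2, 1, 5, 4, 3, 2, 6, 5, 4, 7, 8, 3, 7, 4, 5, 2, 3, 4, 1, 2, 3, 7, 8, 6, 5, 4, 3, 7, 3, 0, 1, 2, 0]⟩,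
  ⟨[(o10, o10), (o0, o0), (o215, o8), (o14, o14), (o256, o86), (o1965, o1204), (o12, o97)], 5, .node 4 5 [⟨o83, [(83, [])], 101⟩]⟩,
  ⟨[(o10, o10), (o0, o0), (o215, o8), (o14, o14), (o256, o86), (o1965, o1204), (o12, o97), (o154, o83)], 5, .node 7 5 [⟨o161, [(161, [])], 102⟩]⟩,
  ⟨[(o10, o10), (o0, o0), (o215, o8), (o14, o14), (o256, o86), (o1965, o1204), (o12, o97), (o154, o83), (o243, o161)], 5, .conjw 2 [2, 1, 3, 2, 7, 8, 3, 7, 2, 3, 4, 1, 2, 3, 7, 8, 5, 4, 2, 3, 7, 2, 3, 4, 5, 3, 2, 0]⟩,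
  ⟨[(o10, o10), (o0, o0), (o215, o8), (o14, o14), (o256, o86), (o1965, o2179)], 5, .node 2 5 [⟨o163, [(163, [])], 104⟩,
      ⟨o164, [(164, [])], 107⟩]⟩,
  ⟨[(o10, o10), (o0, o0), (o215, o8), (o14, o14), (o256, o86), (o1965, o2179), (o12, o163)], 5, .node 4 5 [⟨o154, [(154, [])], 105⟩]⟩,
  ⟨[(o10, o10), (o0, o0), (o215, o8), (o14, o14), (o256, o86), (o1965, o2179), (o12, o163), (o154, o154)], 5, .node 7 5 [⟨o149, [(149, [])], 106⟩]⟩,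
  ⟨[(o10, o10), (o0, o0), (o215, o8), (o14, o14), (o256, o86), (o1965, o2179), (o12, o163), (o154, o154), (o243, o149)], 5, .conjw 1 [2, 5, 4, 6, 5, 7, 3, 8, 7, 3, 2, 1, 0, 4, 3, 2, 1, 5, 4, 6, 5, 3, 4, 2, 3, 7, 8, 3, 4, 2, 3, 7, 5, 6, 3, 4, 5, 1, 2, 3, 4, 0, 1, 0]⟩,
  ⟨[(o10, o10), (o0, o0), (o215, o8), (o14, o14), (o256, o86), (o1965, o2179), (o12, o164)], 5, .node 4 5 [⟨o67, [(67, [])], 108⟩]⟩,
  ⟨[(o10, o10), (o0, o0), (o215, o8), (o14, o14), (o256, o86), (o1965, o2179), (o12, o164), (o154, o67)], 5, .node 7 5 [⟨o155, [(155, [])], 109⟩]⟩,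
  ⟨[(o10, o10), (o0, o0), (o215, o8), (o14, o14), (o256, o86), (o1965, o2179), (o12, o164), (o154, o67), (o243, o155)], 5, .conjw 2 [2, 3, 4, 3, 6, 8, 5, 4, 3, 7, 2, 3, 4, 1, 2, 3, 7, 8, 0, 1, 2, 3, 7, 3, 4, 3, 2, 1]⟩,
  ⟨[(o10, o10), (o0, o0), (o215, o8), (o14, o14), (o256, o218)], 4, .node 8 6 [⟨o245, [(245, [])], 111⟩,
      ⟨o485, [(485, [])], 124⟩]⟩,
  ⟨[(o10, o10), (o0, o0), (o215, o8), (o14, o14), (o256, o218), (o1965, o245)], 6, .node 2 6 [⟨o65, [(65, [])], 112⟩,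
      ⟨o97, [(97, [])], 115⟩,
      ⟨o593, [(593, [])], 118⟩,
      ⟨o633, [(633, [])], 121⟩]⟩,
  ⟨[(o10, o10), (o0, o0), (o215, o8), (o14, o14), (o256, o218), (o1965, o245), (o12, o65)], 6, .node 7 6 [⟨o149, [(149, [])], 113⟩]⟩,
  ⟨[(o10, o10), (o0, o0), (o215, o8), (o14, o14), (o256, o218), (o1965, o245), (o12, o65), (o243, o149)], 6, .node 4 6 [⟨o154, [(154, [])], 114⟩]⟩,
  ⟨[(o10, o10), (o0, o0), (o215, o8), (o14, o14), (o256, o218), (o1965, o245), (o12, o65), (o243, o149), (o154, o154)], 6, .inner [7, 5, 4, 2, 3, 1, 2, 0, 1, 0, 1, 0, 2, 1, 3, 2, 4, 5, 7]⟩,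
  ⟨[(o10, o10), (o0, o0), (o215, o8), (o14, o14), (o256, o218), (o1965, o245), (o12, o97)], 6, .node 7 6 [⟨o155, [(155, [])], 116⟩]⟩,
  ⟨[(o10, o10), (o0, o0), (o215, o8), (o14, o14), (o256, o218), (o1965, o245), (o12, o97), (o243, o155)], 6, .node 4 6 [⟨o67, [(67, [])], 117⟩]⟩,
  ⟨[(o10, o10), (o0, o0), (o215, o8), (o14, o14), (o256, o218), (o1965, o245), (o12, o97), (o243, o155), (o154, o67)], 6, .inner [4, 3, 7, 2, 3, 4, 5, 1, 2, 3, 4, 0, 1, 2, 3, 0, 1, 0, 2, 1, 0, 3, 2, 1, 0, 4, 3, 2, 1, 5, 4, 3, 2, 7, 3, 4]⟩,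
  ⟨[(o10, o10), (o0, o0), (o215, o8), (o14, o14), (o256, o218), (o1965, o245), (o12, o593)], 6, .node 7 6 [⟨o859, [(859, [])], 119⟩]⟩,
  ⟨[(o10, o10), (o0, o0), (o215, o8), (o14, o14), (o256, o218), (o1965, o245), (o12, o593), (o243, o859)], 6, .node 4 6 [⟨o525, [(525, [])], 120⟩]⟩,
  ⟨[(o10, o10), (o0, o0), (o215, o8), (o14, o14), (o256, o218), (o1965, o245), (o12, o593), (o243, o859), (o154, o525)], 6, .conjw 1 [2, 3, 4, 5, 4, 3, 2, 1, 0, 6, 7, 3, 2, 1, 4, 5, 3, 4, 2, 3, 7, 8, 3, 4, 2, 3, 7, 5, 6, 3, 4, 5, 1, 2, 3, 4, 0, 1, 0]⟩,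
  ⟨[(o10, o10), (o0, o0), (o215, o8), (o14, o14), (o256, o218), (o1965, o245), (o12, o633)], 6, .node 7 6 [⟨o524, [(524, [])], 122⟩]⟩,
  ⟨[(o10, o10), (o0, o0), (o215, o8), (o14, o14), (o256, o218), (o1965, o245), (o12, o633), (o243, o524)], 6, .node 4 6 [⟨o1976, [(1976, [])], 123⟩]⟩,
  ⟨[(o10, o10), (o0, o0), (o215, o8), (o14, o14), (o256, o218), (o1965, o245), (o12, o633), (o243, o524), (o154, o1976)], 6, .conjw 2 [2, 4, 3, 5, 4, 6, 5, 7, 3, 2, 1, 4, 3, 7, 8, 5, 2, 3, 4, 0, 1, 2, 3, 7, 5, 3, 4, 2, 3, 0, 1, 2, 0, 1, 0]⟩,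
  ⟨[(o10, o10), (o0, o0), (o215, o8), (o14, o14), (o256, o218), (o1965, o485)], 6, .node 2 6 [⟨o163, [(163, [])], 125⟩,
      ⟨o164, [(164, [])], 128⟩,
      ⟨o1365, [(1365, [])], 131⟩,
      ⟨o2272, [(2272, [])], 134⟩]⟩,
  ⟨[(o10, o10), (o0, o0), (o215, o8), (o14, o14), (o256, o218), (o1965, o485), (o12, o163)], 6, .node 4 6 [⟨o160, [(160, [])], 126⟩]⟩,
  ⟨[(o10, o10), (o0, o0), (o215, o8), (o14, o14), (o256, o218), (o1965, o485), (o12, o163), (o154, o160)], 6, .node 7 6 [⟨o84, [(84, [])], 127⟩]⟩,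
  ⟨[(o10, o10), (o0, o0), (o215, o8), (o14, o14), (o256, o218), (o1965, o485), (o12, o163), (o154, o160), (o243, o84)], 6, .inner [4, 3, 5, 8, 7, 6, 4, 5, 3, 4, 2, 3, 7, 8, 1, 2, 3, 7, 3, 4, 5, 6, 1, 2, 3, 4, 5, 0, 1, 0, 2, 4, 1, 0, 5, 4, 3, 2, 1, 6, 5, 4, 3, 7, 3, 2, 1, 8, 7, 3, 2, 4, 3, 5, 4, 6, 7, 8, 5, 3, 4]⟩]

/-- Nodes. -/
def nd1 : List ONode := [
  ⟨[(o10, o10), (o0, o0), (o215, o8), (o14, o14), (o256, o218), (o1965, o485), (o12, o164)], 6, .node 7 6 [⟨o161, [(161, [])], 129⟩]⟩,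
  ⟨[(o10, o10), (o0, o0), (o215, o8), (o14, o14), (o256, o218), (o1965, o485), (o12, o164), (o243, o161)], 6, .node 4 6 [⟨o83, [(83, [])], 130⟩]⟩,
  ⟨[(o10, o10), (o0, o0), (o215, o8), (o14, o14), (o256, o218), (o1965, o485), (o12, o164), (o243, o161), (o154, o83)], 6, .inner [7, 4, 5, 2, 3, 4, 1, 2, 3, 7, 6, 5, 4, 2, 3, 0, 1, 0, 2, 1, 0, 3, 2, 4, 5, 6, 7, 3, 2, 1, 4, 3, 2, 5, 4, 7]⟩,
  ⟨[(o10, o10), (o0, o0), (o215, o8), (o14, o14), (o256, o218), (o1965, o485), (o12, o1365)], 6, .node 4 6 [⟨o1564, [(1564, [])], 132⟩]⟩,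
  ⟨[(o10, o10), (o0, o0), (o215, o8), (o14, o14), (o256, o218), (o1965, o485), (o12, o1365), (o154, o1564)], 6, .node 7 6 [⟨o1412, [(1412, [])], 133⟩]⟩,
  ⟨[(o10, o10), (o0, o0), (o215, o8), (o14, o14), (o256, o218), (o1965, o485), (o12, o1365), (o154, o1564), (o243, o1412)], 6, .conjw 1 [2, 4, 3, 5, 4, 6, 5, 7, 3, 4, 2, 3, 7, 8, 7, 5, 3, 4, 2, 3, 7, 4, 5, 1, 2, 3, 4, 3, 2, 0, 1, 0]⟩,
  ⟨[(o10, o10), (o0, o0), (o215, o8), (o14, o14), (o256, o218), (o1965, o485), (o12, o2272)], 6, .node 7 6 [⟨o1565, [(1565, [])], 135⟩]⟩,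
  ⟨[(o10, o10), (o0, o0), (o215, o8), (o14, o14), (o256, o218), (o1965, o485), (o12, o2272), (o243, o1565)], 6, .node 4 6 [⟨o1413, [(1413, [])], 136⟩]⟩,
  ⟨[(o10, o10), (o0, o0), (o215, o8), (o14, o14), (o256, o218), (o1965, o485), (o12, o2272), (o243, o1565), (o154, o1413)], 6, .conjw 2 [2, 3, 4, 3, 2, 5, 4, 3, 6, 5, 7, 3, 4, 2, 3, 7, 8, 5, 4, 2, 3, 7, 3, 4, 5, 1, 2, 3, 4, 2, 0, 1, 0]⟩,
  ⟨[(o10, o10), (o0, o0), (o215, o8), (o14, o14), (o256, o384)], 4, .node 8 7 [⟨o1763, [(1763, [])], 138⟩]⟩,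
  ⟨[(o10, o10), (o0, o0), (o215, o8), (o14, o14), (o256, o384), (o1965, o1763)], 7, .node 2 7 [⟨o49, [(49, [])], 139⟩,
      ⟨o122, [(122, [])], 143⟩]⟩,
  ⟨[(o10, o10), (o0, o0), (o215, o8), (o14, o14), (o256, o384), (o1965, o1763), (o12, o49)], 7, .node 4 7 [⟨o626, [(626, [])], 140⟩]⟩,
  ⟨[(o10, o10), (o0, o0), (o215, o8), (o14, o14), (o256, o384), (o1965, o1763), (o12, o49), (o154, o626)], 7, .node 7 7 [⟨o591, [(591, [])], 141⟩,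
      ⟨o1565, [(1565, [])], 142⟩]⟩,
  ⟨[(o10, o10), (o0, o0), (o215, o8), (o14, o14), (o256, o384), (o1965, o1763), (o12, o49), (o154, o626), (o243, o591)], 7, .conjw 2 [2, 3, 7, 8, 3, 7, 4, 5, 2, 3, 4, 1, 2, 3, 7, 8, 0, 1, 2, 3, 7, 5, 4, 2, 1]⟩,
  ⟨[(o10, o10), (o0, o0), (o215, o8), (o14, o14), (o256, o384), (o1965, o1763), (o12, o49), (o154, o626), (o243, o1565)], 7, .bad [7, 4] 8 10⟩,
  ⟨[(o10, o10), (o0, o0), (o215, o8), (o14, o14), (o256, o384), (o1965, o1763), (o12, o122)], 7, .node 4 7 [⟨o627, [(627, [])], 144⟩]⟩,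
  ⟨[(o10, o10), (o0, o0), (o215, o8), (o14, o14), (o256, o384), (o1965, o1763), (o12, o122), (o154, o627)], 7, .node 7 7 [⟨o984, [(984, [])], 145⟩,
      ⟨o1412, [(1412, [])], 146⟩]⟩,
  ⟨[(o10, o10), (o0, o0), (o215, o8), (o14, o14), (o256, o384), (o1965, o1763), (o12, o122), (o154, o627), (o243, o984)], 7, .conjw 1 [2, 3, 4, 5, 6, 5, 4, 3, 2, 7, 3, 2, 4, 3, 5, 7, 8, 4, 3, 7, 6, 5, 2, 3, 4, 1, 2, 3, 7, 8, 0, 1, 2, 3, 7, 5, 4, 1, 0]⟩,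
  ⟨[(o10, o10), (o0, o0), (o215, o8), (o14, o14), (o256, o384), (o1965, o1763), (o12, o122), (o154, o627), (o243, o1412)], 7, .bad [7, 4] 8 10⟩,
  ⟨[(o10, o10), (o0, o0), (o215, o8), (o14, o14), (o256, o528)], 4, .node 8 8 [⟨o245, [(245, [])], 148⟩]⟩,
  ⟨[(o10, o10), (o0, o0), (o215, o8), (o14, o14), (o256, o528), (o1965, o245)], 8, .node 2 8 [⟨o1043, [(1043, [])], 149⟩,
      ⟨o1044, [(1044, [])], 152⟩,
      ⟨o3181, [(3181, [])], 155⟩,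
      ⟨o3182, [(3182, [])], 158⟩]⟩,
  ⟨[(o10, o10), (o0, o0), (o215, o8), (o14, o14), (o256, o528), (o1965, o245), (o12, o1043)], 8, .node 7 8 [⟨o1294, [(1294, [])], 150⟩]⟩,
  ⟨[(o10, o10), (o0, o0), (o215, o8), (o14, o14), (o256, o528), (o1965, o245), (o12, o1043), (o243, o1294)], 8, .node 4 8 [⟨o561, [(561, [])], 151⟩]⟩,
  ⟨[(o10, o10), (o0, o0), (o215, o8), (o14, o14), (o256, o528), (o1965, o245), (o12, o1043), (o243, o1294), (o154, o561)], 8, .inner [4, 5, 3, 4, 2, 3, 7, 8, 1, 2, 3, 7, 6, 5, 4, 2, 3, 0, 1, 0, 2, 1, 0, 3, 2, 4, 5, 6, 7, 3, 2, 1, 8, 7, 3, 2, 4, 3, 5, 4]⟩,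
  ⟨[(o10, o10), (o0, o0), (o215, o8), (o14, o14), (o256, o528), (o1965, o245), (o12, o1044)], 8, .node 7 8 [⟨o1442, [(1442, [])], 153⟩]⟩,
  ⟨[(o10, o10), (o0, o0), (o215, o8), (o14, o14), (o256, o528), (o1965, o245), (o12, o1044), (o243, o1442)], 8, .node 4 8 [⟨o560, [(560, [])], 154⟩]⟩,
  ⟨[(o10, o10), (o0, o0), (o215, o8), (o14, o14), (o256, o528), (o1965, o245), (o12, o1044), (o243, o1442), (o154, o560)], 8, .inner [4, 5, 3, 4, 2, 3, 7, 8, 1, 2, 3, 7, 4, 5, 6, 2, 3, 4, 5, 4, 3, 0, 1, 0, 2, 4, 1, 0, 3, 4, 5, 4, 3, 2, 6, 5, 4, 7, 3, 2, 1, 8, 7, 3, 2, 4, 3, 5, 4]⟩,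
  ⟨[(o10, o10), (o0, o0), (o215, o8), (o14, o14), (o256, o528), (o1965, o245), (o12, o3181)], 8, .node 7 8 [⟨o288, [(288, [])], 156⟩]⟩,
  ⟨[(o10, o10), (o0, o0), (o215, o8), (o14, o14), (o256, o528), (o1965, o245), (o12, o3181), (o243, o288)], 8, .node 4 8 [⟨o188, [(188, [])], 157⟩]⟩,
  ⟨[(o10, o10), (o0, o0), (o215, o8), (o14, o14), (o256, o528), (o1965, o245), (o12, o3181), (o243, o288), (o154, o188)], 8, .conjw 1 [2, 4, 3, 5, 4, 7, 8, 3, 7, 2, 3, 4, 1, 2, 3, 7, 8, 0, 1, 2, 3, 7, 5, 4, 3, 0, 1, 2, 0, 1, 0]⟩,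
  ⟨[(o10, o10), (o0, o0), (o215, o8), (o14, o14), (o256, o528), (o1965, o245), (o12, o3182)], 8, .node 7 8 [⟨o362, [(362, [])], 159⟩]⟩,
  ⟨[(o10, o10), (o0, o0), (o215, o8), (o14, o14), (o256, o528), (o1965, o245), (o12, o3182), (o243, o362)], 8, .node 4 8 [⟨o187, [(187, [])], 160⟩]⟩,
  ⟨[(o10, o10), (o0, o0), (o215, o8), (o14, o14), (o256, o528), (o1965, o245), (o12, o3182), (o243, o362), (o154, o187)], 8, .conjw 2 [2, 3, 4, 5, 7, 3, 2, 4, 3, 8, 7, 5, 3, 4, 2, 3, 7, 8, 5, 4, 2, 3, 7, 1, 2, 3, 4, 1, 2, 0, 1, 0]⟩,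
  ⟨[(o10, o10), (o0, o0), (o215, o8), (o14, o14), (o256, o1567)], 4, .node 8 9 [⟨o153, [(153, [])], 162⟩]⟩,
  ⟨[(o10, o10), (o0, o0), (o215, o8), (o14, o14), (o256, o1567), (o1965, o153)], 9, .node 2 9 [⟨o599, [(599, [])], 163⟩,
      ⟨o1530, [(1530, [])], 167⟩]⟩,
  ⟨[(o10, o10), (o0, o0), (o215, o8), (o14, o14), (o256, o1567), (o1965, o153), (o12, o599)], 9, .node 4 9 [⟨o154, [(154, [])], 164⟩]⟩,
  ⟨[(o10, o10), (o0, o0), (o215, o8), (o14, o14), (o256, o1567), (o1965, o153), (o12, o599), (o154, o154)], 9, .node 7 9 [⟨o149, [(149, [])], 165⟩,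
      ⟨o1442, [(1442, [])], 166⟩]⟩,
  ⟨[(o10, o10), (o0, o0), (o215, o8), (o14, o14), (o256, o1567), (o1965, o153), (o12, o599), (o154, o154), (o243, o149)], 9, .conjw 2 [2, 7, 3, 4, 5, 8, 7, 3, 2, 4, 3, 7, 8, 1, 2, 3, 4, 0, 1, 2, 3, 7, 5, 3, 4, 2, 3, 1, 2, 0, 1, 0]⟩,
  ⟨[(o10, o10), (o0, o0), (o215, o8), (o14, o14), (o256, o1567), (o1965, o153), (o12, o599), (o154, o154), (o243, o1442)], 9, .bad [7, 4] 8 10⟩,
  ⟨[(o10, o10), (o0, o0), (o215, o8), (o14, o14), (o256, o1567), (o1965, o153), (o12, o1530)], 9, .node 4 9 [⟨o67, [(67, [])], 168⟩]⟩,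
  ⟨[(o10, o10), (o0, o0), (o215, o8), (o14, o14), (o256, o1567), (o1965, o153), (o12, o1530), (o154, o67)], 9, .node 7 9 [⟨o155, [(155, [])], 169⟩]⟩,
  ⟨[(o10, o10), (o0, o0), (o215, o8), (o14, o14), (o256, o1567), (o1965, o153), (o12, o1530), (o154, o67), (o243, o155)], 9, .conjw 1 [2, 3, 5, 4, 7, 3, 2, 1, 8, 7, 3, 4, 5, 2, 3, 4, 0, 1, 2, 3, 7, 8, 3, 4, 2, 3, 7, 3, 4, 1, 2, 1, 0]⟩,
  ⟨[(o10, o10), (o0, o0), (o215, o8), (o14, o14), (o256, o1585)], 4, .node 8 10 [⟨o440, [(440, [])], 171⟩,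
      ⟨o1763, [(1763, [])], 178⟩]⟩,
  ⟨[(o10, o10), (o0, o0), (o215, o8), (o14, o14), (o256, o1585), (o1965, o440)], 10, .node 2 10 [⟨o1572, [(1572, [])], 172⟩,
      ⟨o2234, [(2234, [])], 175⟩]⟩,
  ⟨[(o10, o10), (o0, o0), (o215, o8), (o14, o14), (o256, o1585), (o1965, o440), (o12, o1572)], 10, .node 4 10 [⟨o430, [(430, [])], 173⟩]⟩,
  ⟨[(o10, o10), (o0, o0), (o215, o8), (o14, o14), (o256, o1585), (o1965, o440), (o12, o1572), (o154, o430)], 10, .node 7 10 [⟨o317, [(317, [])], 174⟩]⟩,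
  ⟨[(o10, o10), (o0, o0), (o215, o8), (o14, o14), (o256, o1585), (o1965, o440), (o12, o1572), (o154, o430), (o243, o317)], 10, .conjw 1 [2, 3, 4, 7, 3, 2, 1, 0, 8, 7, 3, 4, 5, 2, 3, 4, 1, 2, 3, 7, 8, 3, 4, 2, 3, 7, 5, 3, 4, 1, 2, 1, 0]⟩,
  ⟨[(o10, o10), (o0, o0), (o215, o8), (o14, o14), (o256, o1585), (o1965, o440), (o12, o2234)], 10, .node 4 10 [⟨o429, [(429, [])], 176⟩]⟩,
  ⟨[(o10, o10), (o0, o0), (o215, o8), (o14, o14), (o256, o1585), (o1965, o440), (o12, o2234), (o154, o429)], 10, .node 7 10 [⟨o316, [(316, [])], 177⟩]⟩,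
  ⟨[(o10, o10), (o0, o0), (o215, o8), (o14, o14), (o256, o1585), (o1965, o440), (o12, o2234), (o154, o429), (o243, o316)], 10, .conjw 2 [6, 5, 7, 3, 4, 8, 7, 3, 2, 4, 3, 7, 5, 6, 4, 5, 3, 4, 1, 2, 3, 7, 8, 0, 1, 2, 3, 7, 3, 4, 2, 1]⟩,
  ⟨[(o10, o10), (o0, o0), (o215, o8), (o14, o14), (o256, o1585), (o1965, o1763)], 10, .node 2 10 [⟨o1740, [(1740, [])], 179⟩,
      ⟨o2344, [(2344, [])], 182⟩]⟩,
  ⟨[(o10, o10), (o0, o0), (o215, o8), (o14, o14), (o256, o1585), (o1965, o1763), (o12, o1740)], 10, .node 4 10 [⟨o858, [(858, [])], 180⟩]⟩,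
  ⟨[(o10, o10), (o0, o0), (o215, o8), (o14, o14), (o256, o1585), (o1965, o1763), (o12, o1740), (o154, o858)], 10, .node 7 10 [⟨o782, [(782, [])], 181⟩]⟩,
  ⟨[(o10, o10), (o0, o0), (o215, o8), (o14, o14), (o256, o1585), (o1965, o1763), (o12, o1740), (o154, o858), (o243, o782)], 10, .conjw 2 [2, 3, 5, 4, 3, 2, 6, 5, 7, 3, 8, 7, 3, 4, 2, 3, 7, 8, 5, 4, 2, 3, 7, 5, 1, 2, 3, 4, 3, 2, 0, 1, 0]⟩,
  ⟨[(o10, o10), (o0, o0), (o215, o8), (o14, o14), (o256, o1585), (o1965, o1763), (o12, o2344)], 10, .node 4 10 [⟨o632, [(632, [])], 183⟩]⟩,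
  ⟨[(o10, o10), (o0, o0), (o215, o8), (o14, o14), (o256, o1585), (o1965, o1763), (o12, o2344), (o154, o632)], 10, .node 7 10 [⟨o783, [(783, [])], 184⟩]⟩,
  ⟨[(o10, o10), (o0, o0), (o215, o8), (o14, o14), (o256, o1585), (o1965, o1763), (o12, o2344), (o154, o632), (o243, o783)], 10, .conjw 1 [4, 3, 6, 7, 3, 2, 4, 3, 5, 4, 7, 8, 3, 7, 2, 3, 4, 1, 2, 3, 7, 8, 0, 1, 2, 3, 7, 5, 6, 4, 5, 3, 4, 0]⟩,
  ⟨[(o10, o10), (o0, o0), (o215, o8), (o14, o63)], 3, .node 6 11 [⟨o86, [(86, [])], 186⟩,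
      ⟨o218, [(218, [])], 189⟩,
      ⟨o1585, [(1585, [])], 226⟩]⟩,
  ⟨[(o10, o10), (o0, o0), (o215, o8), (o14, o63), (o256, o86)], 11, .node 8 12 [⟨o337, [(337, [])], 187⟩,
      ⟨o646, [(646, [])], 188⟩]⟩,
  ⟨[(o10, o10), (o0, o0), (o215, o8), (o14, o63), (o256, o86), (o1965, o337)], 12, .node 2 12 []⟩,
  ⟨[(o10, o10), (o0, o0), (o215, o8), (o14, o63), (o256, o86), (o1965, o646)], 12, .node 2 12 []⟩,
  ⟨[(o10, o10), (o0, o0), (o215, o8), (o14, o63), (o256, o218)], 11, .node 8 13 [⟨o257, [(257, [])], 190⟩,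
      ⟨o2343, [(2343, [])], 209⟩]⟩,
  ⟨[(o10, o10), (o0, o0), (o215, o8), (o14, o63), (o256, o218), (o1965, o257)], 13, .node 2 13 [⟨o149, [(149, [])], 191⟩,
      ⟨o155, [(155, [])], 195⟩,
      ⟨o524, [(524, [])], 201⟩,
      ⟨o859, [(859, [])], 206⟩]⟩,
  ⟨[(o10, o10), (o0, o0), (o215, o8), (o14, o63), (o256, o218), (o1965, o257), (o12, o149)], 13, .node 4 13 [⟨o98, [(98, [])], 192⟩]⟩,
  ⟨[(o10, o10), (o0, o0), (o215, o8), (o14, o63), (o256, o218), (o1965, o257), (o12, o149), (o154, o98)], 13, .node 7 13 [⟨o65, [(65, [])], 193⟩,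
      ⟨o163, [(163, [])], 194⟩]⟩,
  ⟨[(o10, o10), (o0, o0), (o215, o8), (o14, o63), (o256, o218), (o1965, o257), (o12, o149), (o154, o98), (o243, o65)], 13, .inner [4, 1, 2, 3, 7, 4, 5, 1, 2, 3, 4, 0, 1, 2, 3, 7, 3, 4, 5, 0, 1, 2, 3, 0, 1, 0, 2, 4, 1, 0, 3, 2, 1, 0, 5, 4, 3, 7, 3, 2, 1, 0, 4, 3, 2, 1, 5, 4, 7, 3, 2, 1, 4]⟩,
  ⟨[(o10, o10), (o0, o0), (o215, o8), (o14, o63), (o256, o218), (o1965, o257), (o12, o149), (o154, o98), (o243, o163)], 13, .bad [7, 4] 8 10⟩,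
  ⟨[(o10, o10), (o0, o0), (o215, o8), (o14, o63), (o256, o218), (o1965, o257), (o12, o155)], 13, .node 4 13 [⟨o7, [(7, [])], 196⟩,
      ⟨o634, [(634, [])], 200⟩]⟩,
  ⟨[(o10, o10), (o0, o0), (o215, o8), (o14, o63), (o256, o218), (o1965, o257), (o12, o155), (o154, o7)], 13, .node 7 13 [⟨o97, [(97, [])], 197⟩,
      ⟨o164, [(164, [])], 198⟩,
      ⟨o1365, [(1365, [])], 199⟩]⟩,
  ⟨[(o10, o10), (o0, o0), (o215, o8), (o14, o63), (o256, o218), (o1965, o257), (o12, o155), (o154, o7), (o243, o97)], 13, .inner [7, 5, 3, 0, 2, 4, 3, 5, 7]⟩,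
  ⟨[(o10, o10), (o0, o0), (o215, o8), (o14, o63), (o256, o218), (o1965, o257), (o12, o155), (o154, o7), (o243, o164)], 13, .bad [7, 4] 8 10⟩,
  ⟨[(o10, o10), (o0, o0), (o215, o8), (o14, o63), (o256, o218), (o1965, o257), (o12, o155), (o154, o7), (o243, o1365)], 13, .bad [7, 4] 8 10⟩,
  ⟨[(o10, o10), (o0, o0), (o215, o8), (o14, o63), (o256, o218), (o1965, o257), (o12, o155), (o154, o634)], 13, .node 7 13 []⟩,
  ⟨[(o10, o10), (o0, o0), (o215, o8), (o14, o63), (o256, o218), (o1965, o257), (o12, o524)], 13, .node 4 13 [⟨o7, [(7, [])], 202⟩,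
      ⟨o634, [(634, [])], 203⟩]⟩,
  ⟨[(o10, o10), (o0, o0), (o215, o8), (o14, o63), (o256, o218), (o1965, o257), (o12, o524), (o154, o7)], 13, .node 7 13 []⟩,
  ⟨[(o10, o10), (o0, o0), (o215, o8), (o14, o63), (o256, o218), (o1965, o257), (o12, o524), (o154, o634)], 13, .node 7 13 [⟨o633, [(633, [])], 204⟩,
      ⟨o2272, [(2272, [])], 205⟩]⟩,
  ⟨[(o10, o10), (o0, o0), (o215, o8), (o14, o63), (o256, o218), (o1965, o257), (o12, o524), (o154, o634), (o243, o633)], 13, .conjw 1 [7, 8, 3, 7, 6, 3, 4, 5, 1, 2, 3, 4, 0, 1, 0]⟩,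
  ⟨[(o10, o10), (o0, o0), (o215, o8), (o14, o63), (o256, o218), (o1965, o257), (o12, o524), (o154, o634), (o243, o2272)], 13, .bad [7, 4] 8 10⟩,
  ⟨[(o10, o10), (o0, o0), (o215, o8), (o14, o63), (o256, o218), (o1965, o257), (o12, o859)], 13, .node 4 13 [⟨o688, [(688, [])], 207⟩]⟩,
  ⟨[(o10, o10), (o0, o0), (o215, o8), (o14, o63), (o256, o218), (o1965, o257), (o12, o859), (o154, o688)], 13, .node 7 13 [⟨o593, [(593, [])], 208⟩]⟩,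
  ⟨[(o10, o10), (o0, o0), (o215, o8), (o14, o63), (o256, o218), (o1965, o257), (o12, o859), (o154, o688), (o243, o593)], 13, .conjw 2 [7, 8, 3, 7, 6, 3, 4, 5, 1, 2, 3, 4, 0, 1, 0]⟩,
  ⟨[(o10, o10), (o0, o0), (o215, o8), (o14, o63), (o256, o218), (o1965, o2343)], 13, .node 2 13 [⟨o84, [(84, [])], 210⟩,
      ⟨o161, [(161, [])], 214⟩,
      ⟨o1412, [(1412, [])], 218⟩,
      ⟨o1565, [(1565, [])], 222⟩]⟩,
  ⟨[(o10, o10), (o0, o0), (o215, o8), (o14, o63), (o256, o218), (o1965, o2343), (o12, o84)], 13, .node 4 13 [⟨o194, [(194, [])], 211⟩]⟩,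
  ⟨[(o10, o10), (o0, o0), (o215, o8), (o14, o63), (o256, o218), (o1965, o2343), (o12, o84), (o154, o194)], 13, .node 7 13 [⟨o65, [(65, [])], 212⟩,
      ⟨o163, [(163, [])], 213⟩]⟩,
  ⟨[(o10, o10), (o0, o0), (o215, o8), (o14, o63), (o256, o218), (o1965, o2343), (o12, o84), (o154, o194), (o243, o65)], 13, .bad [7, 4] 8 10⟩,
  ⟨[(o10, o10), (o0, o0), (o215, o8), (o14, o63), (o256, o218), (o1965, o2343), (o12, o84), (o154, o194), (o243, o163)], 13, .inner [1, 2, 4, 3, 7, 6, 2, 3, 4, 5, 1, 2, 3, 4, 0, 1, 2, 3, 7, 6, 1, 2, 3, 4, 5, 2, 3, 0, 1, 0, 2, 4, 1, 0, 3, 2, 5, 4, 3, 2, 1, 6, 7, 3, 2, 1, 0, 4, 3, 2, 1, 5, 4, 3, 2, 6, 7, 3, 4, 2, 1]⟩,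
  ⟨[(o10, o10), (o0, o0), (o215, o8), (o14, o63), (o256, o218), (o1965, o2343), (o12, o161)], 13, .node 4 13 [⟨o195, [(195, [])], 215⟩]⟩,
  ⟨[(o10, o10), (o0, o0), (o215, o8), (o14, o63), (o256, o218), (o1965, o2343), (o12, o161), (o154, o195)], 13, .node 7 13 [⟨o97, [(97, [])], 216⟩,
      ⟨o164, [(164, [])], 217⟩]⟩,
  ⟨[(o10, o10), (o0, o0), (o215, o8), (o14, o63), (o256, o218), (o1965, o2343), (o12, o161), (o154, o195), (o243, o97)], 13, .bad [7, 4] 8 10⟩,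
  ⟨[(o10, o10), (o0, o0), (o215, o8), (o14, o63), (o256, o218), (o1965, o2343), (o12, o161), (o154, o195), (o243, o164)], 13, .inner [4, 1, 2, 3, 7, 5, 6, 4, 5, 3, 4, 2, 3, 7, 4, 5, 6, 2, 3, 4, 5, 1, 2, 3, 1, 0, 2, 4, 1, 3, 2, 1, 5, 4, 3, 2, 6, 5, 4, 7, 3, 2, 4, 3, 5, 4, 6, 5, 7, 3, 2, 1, 4]⟩,
  ⟨[(o10, o10), (o0, o0), (o215, o8), (o14, o63), (o256, o218), (o1965, o2343), (o12, o1412)], 13, .node 4 13 [⟨o1960, [(1960, [])], 219⟩]⟩,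
  ⟨[(o10, o10), (o0, o0), (o215, o8), (o14, o63), (o256, o218), (o1965, o2343), (o12, o1412), (o154, o1960)], 13, .node 7 13 [⟨o97, [(97, [])], 220⟩,
      ⟨o1365, [(1365, [])], 221⟩]⟩,
  ⟨[(o10, o10), (o0, o0), (o215, o8), (o14, o63), (o256, o218), (o1965, o2343), (o12, o1412), (o154, o1960), (o243, o97)], 13, .bad [7, 4] 8 10⟩,
  ⟨[(o10, o10), (o0, o0), (o215, o8), (o14, o63), (o256, o218), (o1965, o2343), (o12, o1412), (o154, o1960), (o243, o1365)], 13, .conjw 2 [1, 0, 2, 1, 0, 4, 7, 8, 5, 6, 3, 4, 5, 2, 3, 4, 1, 2, 3, 7, 2, 3, 4, 5, 2, 3, 1, 2, 0]⟩,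
  ⟨[(o10, o10), (o0, o0), (o215, o8), (o14, o63), (o256, o218), (o1965, o2343), (o12, o1565)], 13, .node 4 13 [⟨o1366, [(1366, [])], 223⟩]⟩,
  ⟨[(o10, o10), (o0, o0), (o215, o8), (o14, o63), (o256, o218), (o1965, o2343), (o12, o1565), (o154, o1366)], 13, .node 7 13 [⟨o633, [(633, [])], 224⟩,
      ⟨o2272, [(2272, [])], 225⟩]⟩,
  ⟨[(o10, o10), (o0, o0), (o215, o8), (o14, o63), (o256, o218), (o1965, o2343), (o12, o1565), (o154, o1366), (o243, o633)], 13, .bad [7, 4] 8 10⟩,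
  ⟨[(o10, o10), (o0, o0), (o215, o8), (o14, o63), (o256, o218), (o1965, o2343), (o12, o1565), (o154, o1366), (o243, o2272)], 13, .conjw 1 [1, 0, 2, 1, 0, 5, 4, 3, 2, 7, 3, 4, 1, 2, 3, 7, 8, 7, 3, 4, 1, 2, 3, 7, 5, 4, 1, 2, 3, 0, 1, 2, 1, 0]⟩,
  ⟨[(o10, o10), (o0, o0), (o215, o8), (o14, o63), (o256, o1585)], 11, .node 2 11 []⟩,
  ⟨[(o10, o10), (o0, o0), (o215, o8), (o14, o70)], 3, .node 6 11 [⟨o86, [(86, [])], 228⟩,
      ⟨o218, [(218, [])], 231⟩,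
      ⟨o1585, [(1585, [])], 268⟩]⟩,
  ⟨[(o10, o10), (o0, o0), (o215, o8), (o14, o70), (o256, o86)], 11, .node 8 12 [⟨o337, [(337, [])], 229⟩,
      ⟨o646, [(646, [])], 230⟩]⟩,
  ⟨[(o10, o10), (o0, o0), (o215, o8), (o14, o70), (o256, o86), (o1965, o337)], 12, .node 2 12 []⟩,
  ⟨[(o10, o10), (o0, o0), (o215, o8), (o14, o70), (o256, o86), (o1965, o646)], 12, .node 2 12 []⟩,
  ⟨[(o10, o10), (o0, o0), (o215, o8), (o14, o70), (o256, o218)], 11, .node 8 13 [⟨o257, [(257, [])], 232⟩,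
      ⟨o2343, [(2343, [])], 251⟩]⟩,
  ⟨[(o10, o10), (o0, o0), (o215, o8), (o14, o70), (o256, o218), (o1965, o257)], 13, .node 2 13 [⟨o149, [(149, [])], 233⟩,
      ⟨o155, [(155, [])], 237⟩,
      ⟨o524, [(524, [])], 243⟩,
      ⟨o859, [(859, [])], 248⟩]⟩,
  ⟨[(o10, o10), (o0, o0), (o215, o8), (o14, o70), (o256, o218), (o1965, o257), (o12, o149)], 13, .node 4 13 [⟨o98, [(98, [])], 234⟩]⟩,
  ⟨[(o10, o10), (o0, o0), (o215, o8), (o14, o70), (o256, o218), (o1965, o257), (o12, o149), (o154, o98)], 13, .node 7 13 [⟨o65, [(65, [])], 235⟩,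
      ⟨o163, [(163, [])], 236⟩]⟩,
  ⟨[(o10, o10), (o0, o0), (o215, o8), (o14, o70), (o256, o218), (o1965, o257), (o12, o149), (o154, o98), (o243, o65)], 13, .inner [7, 3, 4, 1, 2, 3, 7, 0, 1, 2, 3, 4, 5, 0, 2, 4, 5, 4, 3, 2, 1, 0, 7, 3, 2, 1, 4, 3, 7]⟩,
  ⟨[(o10, o10), (o0, o0), (o215, o8), (o14, o70), (o256, o218), (o1965, o257), (o12, o149), (o154, o98), (o243, o163)], 13, .bad [7, 4] 8 10⟩,
  ⟨[(o10, o10), (o0, o0), (o215, o8), (o14, o70), (o256, o218), (o1965, o257), (o12, o155)], 13, .node 4 13 [⟨o7, [(7, [])], 238⟩,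
      ⟨o634, [(634, [])], 242⟩]⟩,
  ⟨[(o10, o10), (o0, o0), (o215, o8), (o14, o70), (o256, o218), (o1965, o257), (o12, o155), (o154, o7)], 13, .node 7 13 [⟨o97, [(97, [])], 239⟩,
      ⟨o164, [(164, [])], 240⟩,
      ⟨o1365, [(1365, [])], 241⟩]⟩,
  ⟨[(o10, o10), (o0, o0), (o215, o8), (o14, o70), (o256, o218), (o1965, o257), (o12, o155), (o154, o7), (o243, o97)], 13, .inner [7, 5, 1, 2, 3, 4, 0, 1, 2, 3, 1, 0, 2, 1, 3, 2, 1, 0, 4, 3, 2, 1, 5, 7]⟩,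
  ⟨[(o10, o10), (o0, o0), (o215, o8), (o14, o70), (o256, o218), (o1965, o257), (o12, o155), (o154, o7), (o243, o164)], 13, .bad [7, 4] 8 10⟩,
  ⟨[(o10, o10), (o0, o0), (o215, o8), (o14, o70), (o256, o218), (o1965, o257), (o12, o155), (o154, o7), (o243, o1365)], 13, .bad [7, 4] 8 10⟩,
  ⟨[(o10, o10), (o0, o0), (o215, o8), (o14, o70), (o256, o218), (o1965, o257), (o12, o155), (o154, o634)], 13, .node 7 13 []⟩,
  ⟨[(o10, o10), (o0, o0), (o215, o8), (o14, o70), (o256, o218), (o1965, o257), (o12, o524)], 13, .node 4 13 [⟨o7, [(7, [])], 244⟩,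
      ⟨o634, [(634, [])], 245⟩]⟩,
  ⟨[(o10, o10), (o0, o0), (o215, o8), (o14, o70), (o256, o218), (o1965, o257), (o12, o524), (o154, o7)], 13, .node 7 13 []⟩,
  ⟨[(o10, o10), (o0, o0), (o215, o8), (o14, o70), (o256, o218), (o1965, o257), (o12, o524), (o154, o634)], 13, .node 7 13 [⟨o633, [(633, [])], 246⟩,
      ⟨o2272, [(2272, [])], 247⟩]⟩,
  ⟨[(o10, o10), (o0, o0), (o215, o8), (o14, o70), (o256, o218), (o1965, o257), (o12, o524), (o154, o634), (o243, o633)], 13, .conjw 2 [1, 0, 2, 1, 8, 3, 7, 2, 3, 4, 0, 1, 2, 3, 7, 8, 6, 5, 4, 3, 7, 1, 2, 3, 4, 5, 0]⟩,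
  ⟨[(o10, o10), (o0, o0), (o215, o8), (o14, o70), (o256, o218), (o1965, o257), (o12, o524), (o154, o634), (o243, o2272)], 13, .bad [7, 4] 8 10⟩,
  ⟨[(o10, o10), (o0, o0), (o215, o8), (o14, o70), (o256, o218), (o1965, o257), (o12, o859)], 13, .node 4 13 [⟨o688, [(688, [])], 249⟩]⟩,
  ⟨[(o10, o10), (o0, o0), (o215, o8), (o14, o70), (o256, o218), (o1965, o257), (o12, o859), (o154, o688)], 13, .node 7 13 [⟨o593, [(593, [])], 250⟩]⟩,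
  ⟨[(o10, o10), (o0, o0), (o215, o8), (o14, o70), (o256, o218), (o1965, o257), (o12, o859), (o154, o688), (o243, o593)], 13, .conjw 1 [2, 4, 3, 5, 4, 6, 7, 3, 2, 4, 5, 8, 7, 3, 4, 2, 3, 7, 8, 1, 2, 3, 7, 5, 6, 4, 5, 3, 4, 2, 3, 7, 3, 4, 0, 1, 2, 1]⟩,
  ⟨[(o10, o10), (o0, o0), (o215, o8), (o14, o70), (o256, o218), (o1965, o2343)], 13, .node 2 13 [⟨o84, [(84, [])], 252⟩,
      ⟨o161, [(161, [])], 256⟩,
      ⟨o1412, [(1412, [])], 260⟩,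
      ⟨o1565, [(1565, [])], 264⟩]⟩,
  ⟨[(o10, o10), (o0, o0), (o215, o8), (o14, o70), (o256, o218), (o1965, o2343), (o12, o84)], 13, .node 4 13 [⟨o194, [(194, [])], 253⟩]⟩,
  ⟨[(o10, o10), (o0, o0), (o215, o8), (o14, o70), (o256, o218), (o1965, o2343), (o12, o84), (o154, o194)], 13, .node 7 13 [⟨o65, [(65, [])], 254⟩,
      ⟨o163, [(163, [])], 255⟩]⟩,
  ⟨[(o10, o10), (o0, o0), (o215, o8), (o14, o70), (o256, o218), (o1965, o2343), (o12, o84), (o154, o194), (o243, o65)], 13, .bad [7, 4] 8 10⟩,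
  ⟨[(o10, o10), (o0, o0), (o215, o8), (o14, o70), (o256, o218), (o1965, o2343), (o12, o84), (o154, o194), (o243, o163)], 13, .inner [7, 4, 5, 2, 3, 4, 1, 2, 3, 7, 4, 5, 6, 2, 3, 4, 5, 4, 3, 0, 1, 0, 2, 4, 1, 0, 3, 4, 5, 4, 3, 2, 6, 5, 4, 7, 3, 2, 1, 4, 3, 2, 5, 4, 7]⟩]

/-- Nodes. -/
def nd2 : List ONode := [
  ⟨[(o10, o10), (o0, o0), (o215, o8), (o14, o70), (o256, o218), (o1965, o2343), (o12, o161)], 13, .node 4 13 [⟨o195, [(195, [])], 257⟩]⟩,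
  ⟨[(o10, o10), (o0, o0), (o215, o8), (o14, o70), (o256, o218), (o1965, o2343), (o12, o161), (o154, o195)], 13, .node 7 13 [⟨o97, [(97, [])], 258⟩,
      ⟨o164, [(164, [])], 259⟩]⟩,
  ⟨[(o10, o10), (o0, o0), (o215, o8), (o14, o70), (o256, o218), (o1965, o2343), (o12, o161), (o154, o195), (o243, o97)], 13, .bad [7, 4] 8 10⟩,
  ⟨[(o10, o10), (o0, o0), (o215, o8), (o14, o70), (o256, o218), (o1965, o2343), (o12, o161), (o154, o195), (o243, o164)], 13, .inner [4, 3, 2, 1, 7, 3, 2, 1, 0, 4, 3, 2, 1, 5, 4, 8, 7, 3, 4, 2, 3, 7, 8, 1, 2, 3, 7, 5, 6, 4, 5, 3, 4, 0, 1, 2, 3, 7, 4, 5, 1, 2, 3, 0, 1, 0, 2, 4, 1, 0, 3, 2, 1, 5, 4, 7, 3, 2, 1, 0, 4, 3, 5, 4, 6, 5, 7, 3, 2, 1, 8, 7, 3, 2, 4, 3, 7, 8, 4, 5, 1, 2, 3, 4, 0, 1, 2, 3, 7, 1, 2, 3, 4]⟩,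
  ⟨[(o10, o10), (o0, o0), (o215, o8), (o14, o70), (o256, o218), (o1965, o2343), (o12, o1412)], 13, .node 4 13 [⟨o1960, [(1960, [])], 261⟩]⟩,
  ⟨[(o10, o10), (o0, o0), (o215, o8), (o14, o70), (o256, o218), (o1965, o2343), (o12, o1412), (o154, o1960)], 13, .node 7 13 [⟨o97, [(97, [])], 262⟩,
      ⟨o1365, [(1365, [])], 263⟩]⟩,
  ⟨[(o10, o10), (o0, o0), (o215, o8), (o14, o70), (o256, o218), (o1965, o2343), (o12, o1412), (o154, o1960), (o243, o97)], 13, .bad [7, 4] 8 10⟩,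
  ⟨[(o10, o10), (o0, o0), (o215, o8), (o14, o70), (o256, o218), (o1965, o2343), (o12, o1412), (o154, o1960), (o243, o1365)], 13, .conjw 1 [1, 0, 6, 7, 3, 2, 1, 4, 3, 2, 7, 3, 4, 5, 6, 8, 7, 3, 2, 4, 5, 3, 4, 1, 2, 3, 7, 8, 0, 1, 2, 3, 7, 6, 4, 5, 2, 3, 4, 1, 2, 0, 1, 0]⟩,
  ⟨[(o10, o10), (o0, o0), (o215, o8), (o14, o70), (o256, o218), (o1965, o2343), (o12, o1565)], 13, .node 4 13 [⟨o1366, [(1366, [])], 265⟩]⟩,
  ⟨[(o10, o10), (o0, o0), (o215, o8), (o14, o70), (o256, o218), (o1965, o2343), (o12, o1565), (o154, o1366)], 13, .node 7 13 [⟨o633, [(633, [])], 266⟩,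
      ⟨o2272, [(2272, [])], 267⟩]⟩,
  ⟨[(o10, o10), (o0, o0), (o215, o8), (o14, o70), (o256, o218), (o1965, o2343), (o12, o1565), (o154, o1366), (o243, o633)], 13, .bad [7, 4] 8 10⟩,
  ⟨[(o10, o10), (o0, o0), (o215, o8), (o14, o70), (o256, o218), (o1965, o2343), (o12, o1565), (o154, o1366), (o243, o2272)], 13, .conjw 2 [1, 0, 2, 1, 0, 3, 2, 1, 4, 3, 2, 1, 0, 7, 3, 2, 1, 8, 7, 4, 5, 3, 4, 2, 3, 7, 8, 3, 4, 1, 2, 3, 7, 3, 4, 0, 1, 2, 1, 0]⟩,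
  ⟨[(o10, o10), (o0, o0), (o215, o8), (o14, o70), (o256, o1585)], 11, .node 2 11 []⟩,
  ⟨[(o10, o10), (o0, o0), (o215, o8), (o14, o283)], 3, .node 6 14 [⟨o96, [(96, [])], 270⟩,
      ⟨o312, [(312, [])], 280⟩,
      ⟨o421, [(421, [])], 281⟩,
      ⟨o521, [(521, [])], 283⟩,
      ⟨o2032, [(2032, [])], 291⟩,
      ⟨o2667, [(2667, [])], 301⟩,
      ⟨o2796, [(2796, [])], 310⟩,
      ⟨o3060, [(3060, [])], 312⟩,
      ⟨o3504, [(3504, [])], 319⟩]⟩,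
  ⟨[(o10, o10), (o0, o0), (o215, o8), (o14, o283), (o256, o96)], 14, .node 8 15 [⟨o2343, [(2343, [])], 271⟩,
      ⟨o2641, [(2641, [])], 279⟩]⟩,
  ⟨[(o10, o10), (o0, o0), (o215, o8), (o14, o283), (o256, o96), (o1965, o2343)], 15, .node 2 15 [⟨o417, [(417, [])], 272⟩,
      ⟨o418, [(418, [])], 276⟩]⟩,
  ⟨[(o10, o10), (o0, o0), (o215, o8), (o14, o283), (o256, o96), (o1965, o2343), (o12, o417)], 15, .node 4 15 [⟨o564, [(564, [])], 273⟩]⟩,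
  ⟨[(o10, o10), (o0, o0), (o215, o8), (o14, o283), (o256, o96), (o1965, o2343), (o12, o417), (o154, o564)], 15, .node 7 15 [⟨o200, [(200, [])], 274⟩,
      ⟨o489, [(489, [])], 275⟩]⟩,
  ⟨[(o10, o10), (o0, o0), (o215, o8), (o14, o283), (o256, o96), (o1965, o2343), (o12, o417), (o154, o564), (o243, o200)], 15, .bad [7, 4] 8 10⟩,
  ⟨[(o10, o10), (o0, o0), (o215, o8), (o14, o283), (o256, o96), (o1965, o2343), (o12, o417), (o154, o564), (o243, o489)], 15, .bad [8, 4] 489 417⟩,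
  ⟨[(o10, o10), (o0, o0), (o215, o8), (o14, o283), (o256, o96), (o1965, o2343), (o12, o418)], 15, .node 7 15 [⟨o488, [(488, [])], 277⟩]⟩,
  ⟨[(o10, o10), (o0, o0), (o215, o8), (o14, o283), (o256, o96), (o1965, o2343), (o12, o418), (o243, o488)], 15, .node 4 15 [⟨o565, [(565, [])], 278⟩]⟩,
  ⟨[(o10, o10), (o0, o0), (o215, o8), (o14, o283), (o256, o96), (o1965, o2343), (o12, o418), (o243, o488), (o154, o565)], 15, .bad [7, 2] 565 2343⟩,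
  ⟨[(o10, o10), (o0, o0), (o215, o8), (o14, o283), (o256, o96), (o1965, o2641)], 15, .node 2 15 []⟩,
  ⟨[(o10, o10), (o0, o0), (o215, o8), (o14, o283), (o256, o312)], 14, .node 4 14 []⟩,
  ⟨[(o10, o10), (o0, o0), (o215, o8), (o14, o283), (o256, o421)], 14, .node 8 16 [⟨o3366, [(3366, [])], 282⟩]⟩,
  ⟨[(o10, o10), (o0, o0), (o215, o8), (o14, o283), (o256, o421), (o1965, o3366)], 16, .node 2 16 []⟩,
  ⟨[(o10, o10), (o0, o0), (o215, o8), (o14, o283), (o256, o521)], 14, .node 8 17 [⟨o3433, [(3433, [])], 284⟩]⟩,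
  ⟨[(o10, o10), (o0, o0), (o215, o8), (o14, o283), (o256, o521), (o1965, o3433)], 17, .node 2 17 [⟨o977, [(977, [])], 285⟩,
      ⟨o1095, [(1095, [])], 288⟩]⟩,
  ⟨[(o10, o10), (o0, o0), (o215, o8), (o14, o283), (o256, o521), (o1965, o3433), (o12, o977)], 17, .node 4 17 [⟨o565, [(565, [])], 286⟩]⟩,
  ⟨[(o10, o10), (o0, o0), (o215, o8), (o14, o283), (o256, o521), (o1965, o3433), (o12, o977), (o154, o565)], 17, .node 7 17 [⟨o488, [(488, [])], 287⟩]⟩,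
  ⟨[(o10, o10), (o0, o0), (o215, o8), (o14, o283), (o256, o521), (o1965, o3433), (o12, o977), (o154, o565), (o243, o488)], 17, .conjw 2 [4, 3, 5, 4, 6, 5, 4, 3, 7, 8, 7, 3, 4, 2, 3, 7, 4, 5, 1, 2, 3, 4, 3, 2, 0, 1, 0]⟩,
  ⟨[(o10, o10), (o0, o0), (o215, o8), (o14, o283), (o256, o521), (o1965, o3433), (o12, o1095)], 17, .node 4 17 [⟨o564, [(564, [])], 289⟩]⟩,
  ⟨[(o10, o10), (o0, o0), (o215, o8), (o14, o283), (o256, o521), (o1965, o3433), (o12, o1095), (o154, o564)], 17, .node 7 17 [⟨o489, [(489, [])], 290⟩]⟩,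
  ⟨[(o10, o10), (o0, o0), (o215, o8), (o14, o283), (o256, o521), (o1965, o3433), (o12, o1095), (o154, o564), (o243, o489)], 17, .conjw 1 [1, 0, 4, 3, 2, 1, 5, 4, 3, 2, 6, 5, 7, 3, 4, 8, 7, 3, 4, 5, 2, 3, 4, 1, 2, 3, 7, 8, 6, 5, 4, 3, 7, 4, 5, 2, 3, 4, 1, 2, 0, 1, 0]⟩,
  ⟨[(o10, o10), (o0, o0), (o215, o8), (o14, o283), (o256, o2032)], 14, .node 8 18 [⟨o68, [(68, [])], 292⟩]⟩,
  ⟨[(o10, o10), (o0, o0), (o215, o8), (o14, o283), (o256, o2032), (o1965, o68)], 18, .node 2 18 [⟨o163, [(163, [])], 293⟩,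
      ⟨o164, [(164, [])], 294⟩,
      ⟨o1853, [(1853, [])], 295⟩,
      ⟨o3409, [(3409, [])], 297⟩]⟩,
  ⟨[(o10, o10), (o0, o0), (o215, o8), (o14, o283), (o256, o2032), (o1965, o68), (o12, o163)], 18, .node 4 18 []⟩,
  ⟨[(o10, o10), (o0, o0), (o215, o8), (o14, o283), (o256, o2032), (o1965, o68), (o12, o164)], 18, .node 7 18 []⟩,
  ⟨[(o10, o10), (o0, o0), (o215, o8), (o14, o283), (o256, o2032), (o1965, o68), (o12, o1853)], 18, .node 4 18 [⟨o564, [(564, [])], 296⟩]⟩,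
  ⟨[(o10, o10), (o0, o0), (o215, o8), (o14, o283), (o256, o2032), (o1965, o68), (o12, o1853), (o154, o564)], 18, .node 7 18 []⟩,
  ⟨[(o10, o10), (o0, o0), (o215, o8), (o14, o283), (o256, o2032), (o1965, o68), (o12, o3409)], 18, .node 4 18 [⟨o124, [(124, [])], 298⟩,
      ⟨o565, [(565, [])], 300⟩]⟩,
  ⟨[(o10, o10), (o0, o0), (o215, o8), (o14, o283), (o256, o2032), (o1965, o68), (o12, o3409), (o154, o124)], 18, .node 7 18 [⟨o2272, [(2272, [])], 299⟩]⟩,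
  ⟨[(o10, o10), (o0, o0), (o215, o8), (o14, o283), (o256, o2032), (o1965, o68), (o12, o3409), (o154, o124), (o243, o2272)], 18, .bad [7, 4] 8 10⟩,
  ⟨[(o10, o10), (o0, o0), (o215, o8), (o14, o283), (o256, o2032), (o1965, o68), (o12, o3409), (o154, o565)], 18, .node 7 18 []⟩,
  ⟨[(o10, o10), (o0, o0), (o215, o8), (o14, o283), (o256, o2667)], 14, .node 8 19 [⟨o2343, [(2343, [])], 302⟩]⟩,
  ⟨[(o10, o10), (o0, o0), (o215, o8), (o14, o283), (o256, o2667), (o1965, o2343)], 19, .node 2 19 [⟨o2407, [(2407, [])], 303⟩,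
      ⟨o2469, [(2469, [])], 307⟩]⟩,
  ⟨[(o10, o10), (o0, o0), (o215, o8), (o14, o283), (o256, o2667), (o1965, o2343), (o12, o2407)], 19, .node 4 19 [⟨o1366, [(1366, [])], 304⟩]⟩,
  ⟨[(o10, o10), (o0, o0), (o215, o8), (o14, o283), (o256, o2667), (o1965, o2343), (o12, o2407), (o154, o1366)], 19, .node 7 19 [⟨o458, [(458, [])], 305⟩,
      ⟨o2272, [(2272, [])], 306⟩]⟩,
  ⟨[(o10, o10), (o0, o0), (o215, o8), (o14, o283), (o256, o2667), (o1965, o2343), (o12, o2407), (o154, o1366), (o243, o458)], 19, .bad [7, 4] 8 10⟩,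
  ⟨[(o10, o10), (o0, o0), (o215, o8), (o14, o283), (o256, o2667), (o1965, o2343), (o12, o2407), (o154, o1366), (o243, o2272)], 19, .conjw 1 [2, 4, 3, 5, 4, 6, 7, 5, 3, 4, 2, 3, 7, 8, 7, 5, 3, 4, 2, 3, 7, 4, 5, 1, 2, 3, 4, 2, 0, 1, 0]⟩,
  ⟨[(o10, o10), (o0, o0), (o215, o8), (o14, o283), (o256, o2667), (o1965, o2343), (o12, o2469)], 19, .node 4 19 [⟨o1960, [(1960, [])], 308⟩]⟩,
  ⟨[(o10, o10), (o0, o0), (o215, o8), (o14, o283), (o256, o2667), (o1965, o2343), (o12, o2469), (o154, o1960)], 19, .node 7 19 [⟨o1365, [(1365, [])], 309⟩]⟩,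
  ⟨[(o10, o10), (o0, o0), (o215, o8), (o14, o283), (o256, o2667), (o1965, o2343), (o12, o2469), (o154, o1960), (o243, o1365)], 19, .conjw 2 [2, 3, 4, 3, 2, 5, 4, 3, 6, 7, 5, 3, 4, 2, 3, 7, 8, 5, 4, 2, 3, 7, 4, 5, 1, 2, 3, 4, 2, 0, 1, 0]⟩,
  ⟨[(o10, o10), (o0, o0), (o215, o8), (o14, o283), (o256, o2796)], 14, .node 8 20 [⟨o385, [(385, [])], 311⟩]⟩,
  ⟨[(o10, o10), (o0, o0), (o215, o8), (o14, o283), (o256, o2796), (o1965, o385)], 20, .node 4 20 []⟩,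
  ⟨[(o10, o10), (o0, o0), (o215, o8), (o14, o283), (o256, o3060)], 14, .node 8 21 [⟨o114, [(114, [])], 313⟩,
      ⟨o337, [(337, [])], 314⟩]⟩,
  ⟨[(o10, o10), (o0, o0), (o215, o8), (o14, o283), (o256, o3060), (o1965, o114)], 21, .node 4 21 []⟩,
  ⟨[(o10, o10), (o0, o0), (o215, o8), (o14, o283), (o256, o3060), (o1965, o337)], 21, .node 2 21 [⟨o1856, [(1856, [])], 315⟩,
      ⟨o2509, [(2509, [])], 317⟩]⟩,
  ⟨[(o10, o10), (o0, o0), (o215, o8), (o14, o283), (o256, o3060), (o1965, o337), (o12, o1856)], 21, .node 4 21 [⟨o564, [(564, [])], 316⟩]⟩,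
  ⟨[(o10, o10), (o0, o0), (o215, o8), (o14, o283), (o256, o3060), (o1965, o337), (o12, o1856), (o154, o564)], 21, .node 7 21 []⟩,
  ⟨[(o10, o10), (o0, o0), (o215, o8), (o14, o283), (o256, o3060), (o1965, o337), (o12, o2509)], 21, .node 4 21 [⟨o565, [(565, [])], 318⟩]⟩,
  ⟨[(o10, o10), (o0, o0), (o215, o8), (o14, o283), (o256, o3060), (o1965, o337), (o12, o2509), (o154, o565)], 21, .node 7 21 []⟩,
  ⟨[(o10, o10), (o0, o0), (o215, o8), (o14, o283), (o256, o3504)], 14, .node 8 22 [⟨o385, [(385, [])], 320⟩,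
      ⟨o1404, [(1404, [])], 321⟩]⟩,
  ⟨[(o10, o10), (o0, o0), (o215, o8), (o14, o283), (o256, o3504), (o1965, o385)], 22, .node 2 22 []⟩,
  ⟨[(o10, o10), (o0, o0), (o215, o8), (o14, o283), (o256, o3504), (o1965, o1404)], 22, .node 2 22 [⟨o343, [(343, [])], 322⟩,
      ⟨o568, [(568, [])], 327⟩,
      ⟨o1856, [(1856, [])], 330⟩,
      ⟨o2509, [(2509, [])], 333⟩]⟩,
  ⟨[(o10, o10), (o0, o0), (o215, o8), (o14, o283), (o256, o3504), (o1965, o1404), (o12, o343)], 22, .node 4 22 [⟨o2163, [(2163, [])], 323⟩,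
      ⟨o3081, [(3081, [])], 326⟩]⟩,
  ⟨[(o10, o10), (o0, o0), (o215, o8), (o14, o283), (o256, o3504), (o1965, o1404), (o12, o343), (o154, o2163)], 22, .node 7 22 [⟨o136, [(136, [])], 324⟩,
      ⟨o458, [(458, [])], 325⟩]⟩,
  ⟨[(o10, o10), (o0, o0), (o215, o8), (o14, o283), (o256, o3504), (o1965, o1404), (o12, o343), (o154, o2163), (o243, o136)], 22, .bad [7, 4] 8 10⟩,
  ⟨[(o10, o10), (o0, o0), (o215, o8), (o14, o283), (o256, o3504), (o1965, o1404), (o12, o343), (o154, o2163), (o243, o458)], 22, .bad [1, 2, 1] 283 283⟩,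
  ⟨[(o10, o10), (o0, o0), (o215, o8), (o14, o283), (o256, o3504), (o1965, o1404), (o12, o343), (o154, o3081)], 22, .node 7 22 []⟩,
  ⟨[(o10, o10), (o0, o0), (o215, o8), (o14, o283), (o256, o3504), (o1965, o1404), (o12, o568)], 22, .node 7 22 [⟨o457, [(457, [])], 328⟩]⟩,
  ⟨[(o10, o10), (o0, o0), (o215, o8), (o14, o283), (o256, o3504), (o1965, o1404), (o12, o568), (o243, o457)], 22, .node 4 22 [⟨o2233, [(2233, [])], 329⟩]⟩,
  ⟨[(o10, o10), (o0, o0), (o215, o8), (o14, o283), (o256, o3504), (o1965, o1404), (o12, o568), (o243, o457), (o154, o2233)], 22, .bad [1, 2, 1] 283 283⟩,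
  ⟨[(o10, o10), (o0, o0), (o215, o8), (o14, o283), (o256, o3504), (o1965, o1404), (o12, o1856)], 22, .node 7 22 [⟨o1792, [(1792, [])], 331⟩]⟩,
  ⟨[(o10, o10), (o0, o0), (o215, o8), (o14, o283), (o256, o3504), (o1965, o1404), (o12, o1856), (o243, o1792)], 22, .node 4 22 [⟨o3081, [(3081, [])], 332⟩]⟩,
  ⟨[(o10, o10), (o0, o0), (o215, o8), (o14, o283), (o256, o3504), (o1965, o1404), (o12, o1856), (o243, o1792), (o154, o3081)], 22, .conjw 2 [1, 0, 6, 7, 5, 3, 4, 2, 3, 7, 8, 1, 2, 3, 7, 3, 4, 5, 1, 2, 3, 4, 2, 0, 1, 0]⟩,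
  ⟨[(o10, o10), (o0, o0), (o215, o8), (o14, o283), (o256, o3504), (o1965, o1404), (o12, o2509)], 22, .node 4 22 [⟨o2233, [(2233, [])], 334⟩,
      ⟨o3058, [(3058, [])], 335⟩]⟩,
  ⟨[(o10, o10), (o0, o0), (o215, o8), (o14, o283), (o256, o3504), (o1965, o1404), (o12, o2509), (o154, o2233)], 22, .node 7 22 []⟩,
  ⟨[(o10, o10), (o0, o0), (o215, o8), (o14, o283), (o256, o3504), (o1965, o1404), (o12, o2509), (o154, o3058)], 22, .node 7 22 [⟨o136, [(136, [])], 336⟩,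
      ⟨o1623, [(1623, [])], 337⟩]⟩,
  ⟨[(o10, o10), (o0, o0), (o215, o8), (o14, o283), (o256, o3504), (o1965, o1404), (o12, o2509), (o154, o3058), (o243, o136)], 22, .bad [7, 4] 8 10⟩,
  ⟨[(o10, o10), (o0, o0), (o215, o8), (o14, o283), (o256, o3504), (o1965, o1404), (o12, o2509), (o154, o3058), (o243, o1623)], 22, .conjw 1 [1, 0, 4, 3, 2, 1, 0, 5, 4, 3, 2, 1, 6, 5, 7, 3, 2, 4, 8, 7, 3, 4, 2, 3, 7, 5, 1, 2, 3, 4, 0, 1, 2, 3, 7, 8, 6, 5, 4, 3, 7, 3, 4, 2, 1]⟩,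
  ⟨[(o10, o10), (o0, o0), (o215, o8), (o14, o305)], 3, .node 6 14 [⟨o96, [(96, [])], 339⟩,
      ⟨o312, [(312, [])], 349⟩,
      ⟨o421, [(421, [])], 350⟩,
      ⟨o521, [(521, [])], 352⟩,
      ⟨o2032, [(2032, [])], 360⟩,
      ⟨o2667, [(2667, [])], 370⟩,
      ⟨o2796, [(2796, [])], 379⟩,
      ⟨o3060, [(3060, [])], 381⟩,
      ⟨o3504, [(3504, [])], 388⟩]⟩,
  ⟨[(o10, o10), (o0, o0), (o215, o8), (o14, o305), (o256, o96)], 14, .node 8 15 [⟨o2343, [(2343, [])], 340⟩,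
      ⟨o2641, [(2641, [])], 348⟩]⟩,
  ⟨[(o10, o10), (o0, o0), (o215, o8), (o14, o305), (o256, o96), (o1965, o2343)], 15, .node 2 15 [⟨o417, [(417, [])], 341⟩,
      ⟨o418, [(418, [])], 345⟩]⟩,
  ⟨[(o10, o10), (o0, o0), (o215, o8), (o14, o305), (o256, o96), (o1965, o2343), (o12, o417)], 15, .node 4 15 [⟨o564, [(564, [])], 342⟩]⟩,
  ⟨[(o10, o10), (o0, o0), (o215, o8), (o14, o305), (o256, o96), (o1965, o2343), (o12, o417), (o154, o564)], 15, .node 7 15 [⟨o200, [(200, [])], 343⟩,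
      ⟨o489, [(489, [])], 344⟩]⟩,
  ⟨[(o10, o10), (o0, o0), (o215, o8), (o14, o305), (o256, o96), (o1965, o2343), (o12, o417), (o154, o564), (o243, o200)], 15, .bad [7, 4] 8 10⟩,
  ⟨[(o10, o10), (o0, o0), (o215, o8), (o14, o305), (o256, o96), (o1965, o2343), (o12, o417), (o154, o564), (o243, o489)], 15, .bad [8, 4] 489 417⟩,
  ⟨[(o10, o10), (o0, o0), (o215, o8), (o14, o305), (o256, o96), (o1965, o2343), (o12, o418)], 15, .node 7 15 [⟨o488, [(488, [])], 346⟩]⟩,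
  ⟨[(o10, o10), (o0, o0), (o215, o8), (o14, o305), (o256, o96), (o1965, o2343), (o12, o418), (o243, o488)], 15, .node 4 15 [⟨o565, [(565, [])], 347⟩]⟩,
  ⟨[(o10, o10), (o0, o0), (o215, o8), (o14, o305), (o256, o96), (o1965, o2343), (o12, o418), (o243, o488), (o154, o565)], 15, .bad [7, 2] 565 2343⟩,
  ⟨[(o10, o10), (o0, o0), (o215, o8), (o14, o305), (o256, o96), (o1965, o2641)], 15, .node 2 15 []⟩,
  ⟨[(o10, o10), (o0, o0), (o215, o8), (o14, o305), (o256, o312)], 14, .node 4 14 []⟩,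
  ⟨[(o10, o10), (o0, o0), (o215, o8), (o14, o305), (o256, o421)], 14, .node 8 16 [⟨o3366, [(3366, [])], 351⟩]⟩,
  ⟨[(o10, o10), (o0, o0), (o215, o8), (o14, o305), (o256, o421), (o1965, o3366)], 16, .node 2 16 []⟩,
  ⟨[(o10, o10), (o0, o0), (o215, o8), (o14, o305), (o256, o521)], 14, .node 8 17 [⟨o3433, [(3433, [])], 353⟩]⟩,
  ⟨[(o10, o10), (o0, o0), (o215, o8), (o14, o305), (o256, o521), (o1965, o3433)], 17, .node 2 17 [⟨o977, [(977, [])], 354⟩,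
      ⟨o1095, [(1095, [])], 357⟩]⟩,
  ⟨[(o10, o10), (o0, o0), (o215, o8), (o14, o305), (o256, o521), (o1965, o3433), (o12, o977)], 17, .node 4 17 [⟨o565, [(565, [])], 355⟩]⟩,
  ⟨[(o10, o10), (o0, o0), (o215, o8), (o14, o305), (o256, o521), (o1965, o3433), (o12, o977), (o154, o565)], 17, .node 7 17 [⟨o488, [(488, [])], 356⟩]⟩,
  ⟨[(o10, o10), (o0, o0), (o215, o8), (o14, o305), (o256, o521), (o1965, o3433), (o12, o977), (o154, o565), (o243, o488)], 17, .conjw 1 [6, 5, 7, 3, 2, 1, 4, 3, 7, 8, 7, 3, 4, 2, 3, 7, 5, 6, 4, 5, 3, 4, 1, 2, 3, 7, 4, 3, 0, 1, 2, 1]⟩,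
  ⟨[(o10, o10), (o0, o0), (o215, o8), (o14, o305), (o256, o521), (o1965, o3433), (o12, o1095)], 17, .node 4 17 [⟨o564, [(564, [])], 358⟩]⟩,
  ⟨[(o10, o10), (o0, o0), (o215, o8), (o14, o305), (o256, o521), (o1965, o3433), (o12, o1095), (o154, o564)], 17, .node 7 17 [⟨o489, [(489, [])], 359⟩]⟩,
  ⟨[(o10, o10), (o0, o0), (o215, o8), (o14, o305), (o256, o521), (o1965, o3433), (o12, o1095), (o154, o564), (o243, o489)], 17, .conjw 2 [2, 1, 0, 5, 4, 6, 5, 4, 3, 7, 3, 4, 5, 2, 3, 4, 1, 2, 3, 7, 8, 7, 3, 4, 2, 3, 7, 3, 4, 0, 1, 2, 1, 0]⟩,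
  ⟨[(o10, o10), (o0, o0), (o215, o8), (o14, o305), (o256, o2032)], 14, .node 8 18 [⟨o68, [(68, [])], 361⟩]⟩,
  ⟨[(o10, o10), (o0, o0), (o215, o8), (o14, o305), (o256, o2032), (o1965, o68)], 18, .node 2 18 [⟨o163, [(163, [])], 362⟩,
      ⟨o164, [(164, [])], 363⟩,
      ⟨o1853, [(1853, [])], 364⟩,
      ⟨o3409, [(3409, [])], 366⟩]⟩,
  ⟨[(o10, o10), (o0, o0), (o215, o8), (o14, o305), (o256, o2032), (o1965, o68), (o12, o163)], 18, .node 4 18 []⟩,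
  ⟨[(o10, o10), (o0, o0), (o215, o8), (o14, o305), (o256, o2032), (o1965, o68), (o12, o164)], 18, .node 7 18 []⟩,
  ⟨[(o10, o10), (o0, o0), (o215, o8), (o14, o305), (o256, o2032), (o1965, o68), (o12, o1853)], 18, .node 4 18 [⟨o564, [(564, [])], 365⟩]⟩,
  ⟨[(o10, o10), (o0, o0), (o215, o8), (o14, o305), (o256, o2032), (o1965, o68), (o12, o1853), (o154, o564)], 18, .node 7 18 []⟩,
  ⟨[(o10, o10), (o0, o0), (o215, o8), (o14, o305), (o256, o2032), (o1965, o68), (o12, o3409)], 18, .node 4 18 [⟨o124, [(124, [])], 367⟩,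
      ⟨o565, [(565, [])], 369⟩]⟩,
  ⟨[(o10, o10), (o0, o0), (o215, o8), (o14, o305), (o256, o2032), (o1965, o68), (o12, o3409), (o154, o124)], 18, .node 7 18 [⟨o2272, [(2272, [])], 368⟩]⟩,
  ⟨[(o10, o10), (o0, o0), (o215, o8), (o14, o305), (o256, o2032), (o1965, o68), (o12, o3409), (o154, o124), (o243, o2272)], 18, .bad [7, 4] 8 10⟩,
  ⟨[(o10, o10), (o0, o0), (o215, o8), (o14, o305), (o256, o2032), (o1965, o68), (o12, o3409), (o154, o565)], 18, .node 7 18 []⟩,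
  ⟨[(o10, o10), (o0, o0), (o215, o8), (o14, o305), (o256, o2667)], 14, .node 8 19 [⟨o2343, [(2343, [])], 371⟩]⟩,
  ⟨[(o10, o10), (o0, o0), (o215, o8), (o14, o305), (o256, o2667), (o1965, o2343)], 19, .node 2 19 [⟨o2407, [(2407, [])], 372⟩,
      ⟨o2469, [(2469, [])], 376⟩]⟩,
  ⟨[(o10, o10), (o0, o0), (o215, o8), (o14, o305), (o256, o2667), (o1965, o2343), (o12, o2407)], 19, .node 4 19 [⟨o1366, [(1366, [])], 373⟩]⟩,
  ⟨[(o10, o10), (o0, o0), (o215, o8), (o14, o305), (o256, o2667), (o1965, o2343), (o12, o2407), (o154, o1366)], 19, .node 7 19 [⟨o458, [(458, [])], 374⟩,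
      ⟨o2272, [(2272, [])], 375⟩]⟩,
  ⟨[(o10, o10), (o0, o0), (o215, o8), (o14, o305), (o256, o2667), (o1965, o2343), (o12, o2407), (o154, o1366), (o243, o458)], 19, .bad [7, 4] 8 10⟩,
  ⟨[(o10, o10), (o0, o0), (o215, o8), (o14, o305), (o256, o2667), (o1965, o2343), (o12, o2407), (o154, o1366), (o243, o2272)], 19, .conjw 2 [4, 3, 2, 5, 4, 3, 6, 5, 4, 3, 7, 2, 3, 4, 1, 2, 3, 7, 8, 0, 1, 2, 3, 7, 5, 3, 4, 3, 2, 0, 1, 0]⟩,
  ⟨[(o10, o10), (o0, o0), (o215, o8), (o14, o305), (o256, o2667), (o1965, o2343), (o12, o2469)], 19, .node 4 19 [⟨o1960, [(1960, [])], 377⟩]⟩,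
  ⟨[(o10, o10), (o0, o0), (o215, o8), (o14, o305), (o256, o2667), (o1965, o2343), (o12, o2469), (o154, o1960)], 19, .node 7 19 [⟨o1365, [(1365, [])], 378⟩]⟩,
  ⟨[(o10, o10), (o0, o0), (o215, o8), (o14, o305), (o256, o2667), (o1965, o2343), (o12, o2469), (o154, o1960), (o243, o1365)], 19, .conjw 1 [2, 3, 6, 5, 7, 3, 2, 1, 0, 4, 3, 8, 7, 5, 6, 4, 5, 3, 4, 2, 3, 7, 8, 1, 2, 3, 7, 4, 5, 3, 4, 3, 2, 0, 1, 0]⟩,
  ⟨[(o10, o10), (o0, o0), (o215, o8), (o14, o305), (o256, o2796)], 14, .node 8 20 [⟨o385, [(385, [])], 380⟩]⟩,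
  ⟨[(o10, o10), (o0, o0), (o215, o8), (o14, o305), (o256, o2796), (o1965, o385)], 20, .node 4 20 []⟩,
  ⟨[(o10, o10), (o0, o0), (o215, o8), (o14, o305), (o256, o3060)], 14, .node 8 21 [⟨o114, [(114, [])], 382⟩,
      ⟨o337, [(337, [])], 383⟩]⟩,
  ⟨[(o10, o10), (o0, o0), (o215, o8), (o14, o305), (o256, o3060), (o1965, o114)], 21, .node 4 21 []⟩,
  ⟨[(o10, o10), (o0, o0), (o215, o8), (o14, o305), (o256, o3060), (o1965, o337)], 21, .node 2 21 [⟨o1856, [(1856, [])], 384⟩,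
      ⟨o2509, [(2509, [])], 386⟩]⟩]

/-- Nodes. -/
def nd3 : List ONode := [
  ⟨[(o10, o10), (o0, o0), (o215, o8), (o14, o305), (o256, o3060), (o1965, o337), (o12, o1856)], 21, .node 4 21 [⟨o564, [(564, [])], 385⟩]⟩,
  ⟨[(o10, o10), (o0, o0), (o215, o8), (o14, o305), (o256, o3060), (o1965, o337), (o12, o1856), (o154, o564)], 21, .node 7 21 []⟩,
  ⟨[(o10, o10), (o0, o0), (o215, o8), (o14, o305), (o256, o3060), (o1965, o337), (o12, o2509)], 21, .node 4 21 [⟨o565, [(565, [])], 387⟩]⟩,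
  ⟨[(o10, o10), (o0, o0), (o215, o8), (o14, o305), (o256, o3060), (o1965, o337), (o12, o2509), (o154, o565)], 21, .node 7 21 []⟩,
  ⟨[(o10, o10), (o0, o0), (o215, o8), (o14, o305), (o256, o3504)], 14, .node 8 22 [⟨o385, [(385, [])], 389⟩,
      ⟨o1404, [(1404, [])], 390⟩]⟩,
  ⟨[(o10, o10), (o0, o0), (o215, o8), (o14, o305), (o256, o3504), (o1965, o385)], 22, .node 2 22 []⟩,
  ⟨[(o10, o10), (o0, o0), (o215, o8), (o14, o305), (o256, o3504), (o1965, o1404)], 22, .node 2 22 [⟨o343, [(343, [])], 391⟩,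
      ⟨o568, [(568, [])], 396⟩,
      ⟨o1856, [(1856, [])], 399⟩,
      ⟨o2509, [(2509, [])], 402⟩]⟩,
  ⟨[(o10, o10), (o0, o0), (o215, o8), (o14, o305), (o256, o3504), (o1965, o1404), (o12, o343)], 22, .node 4 22 [⟨o2163, [(2163, [])], 392⟩,
      ⟨o3081, [(3081, [])], 395⟩]⟩,
  ⟨[(o10, o10), (o0, o0), (o215, o8), (o14, o305), (o256, o3504), (o1965, o1404), (o12, o343), (o154, o2163)], 22, .node 7 22 [⟨o136, [(136, [])], 393⟩,
      ⟨o458, [(458, [])], 394⟩]⟩,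
  ⟨[(o10, o10), (o0, o0), (o215, o8), (o14, o305), (o256, o3504), (o1965, o1404), (o12, o343), (o154, o2163), (o243, o136)], 22, .bad [7, 4] 8 10⟩,
  ⟨[(o10, o10), (o0, o0), (o215, o8), (o14, o305), (o256, o3504), (o1965, o1404), (o12, o343), (o154, o2163), (o243, o458)], 22, .bad [7, 8, 7] 305 305⟩,
  ⟨[(o10, o10), (o0, o0), (o215, o8), (o14, o305), (o256, o3504), (o1965, o1404), (o12, o343), (o154, o3081)], 22, .node 7 22 []⟩,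
  ⟨[(o10, o10), (o0, o0), (o215, o8), (o14, o305), (o256, o3504), (o1965, o1404), (o12, o568)], 22, .node 7 22 [⟨o457, [(457, [])], 397⟩]⟩,
  ⟨[(o10, o10), (o0, o0), (o215, o8), (o14, o305), (o256, o3504), (o1965, o1404), (o12, o568), (o243, o457)], 22, .node 4 22 [⟨o2233, [(2233, [])], 398⟩]⟩,
  ⟨[(o10, o10), (o0, o0), (o215, o8), (o14, o305), (o256, o3504), (o1965, o1404), (o12, o568), (o243, o457), (o154, o2233)], 22, .bad [7, 8, 7] 305 305⟩,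
  ⟨[(o10, o10), (o0, o0), (o215, o8), (o14, o305), (o256, o3504), (o1965, o1404), (o12, o1856)], 22, .node 7 22 [⟨o1792, [(1792, [])], 400⟩]⟩,
  ⟨[(o10, o10), (o0, o0), (o215, o8), (o14, o305), (o256, o3504), (o1965, o1404), (o12, o1856), (o243, o1792)], 22, .node 4 22 [⟨o3081, [(3081, [])], 401⟩]⟩,
  ⟨[(o10, o10), (o0, o0), (o215, o8), (o14, o305), (o256, o3504), (o1965, o1404), (o12, o1856), (o243, o1792), (o154, o3081)], 22, .conjw 1 [1, 7, 6, 5, 3, 4, 2, 3, 7, 8, 0, 1, 2, 3, 7, 3, 4, 5, 1, 2, 3, 4, 2, 0, 1, 0]⟩,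
  ⟨[(o10, o10), (o0, o0), (o215, o8), (o14, o305), (o256, o3504), (o1965, o1404), (o12, o2509)], 22, .node 4 22 [⟨o2233, [(2233, [])], 403⟩,
      ⟨o3058, [(3058, [])], 404⟩]⟩,
  ⟨[(o10, o10), (o0, o0), (o215, o8), (o14, o305), (o256, o3504), (o1965, o1404), (o12, o2509), (o154, o2233)], 22, .node 7 22 []⟩,
  ⟨[(o10, o10), (o0, o0), (o215, o8), (o14, o305), (o256, o3504), (o1965, o1404), (o12, o2509), (o154, o3058)], 22, .node 7 22 [⟨o136, [(136, [])], 405⟩,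
      ⟨o1623, [(1623, [])], 406⟩]⟩,
  ⟨[(o10, o10), (o0, o0), (o215, o8), (o14, o305), (o256, o3504), (o1965, o1404), (o12, o2509), (o154, o3058), (o243, o136)], 22, .bad [7, 4] 8 10⟩,
  ⟨[(o10, o10), (o0, o0), (o215, o8), (o14, o305), (o256, o3504), (o1965, o1404), (o12, o2509), (o154, o3058), (o243, o1623)], 22, .conjw 2 [2, 1, 0, 3, 2, 1, 4, 6, 5, 8, 4, 3, 7, 2, 3, 4, 1, 2, 3, 7, 8, 0, 1, 2, 3, 7, 3, 4, 0, 1, 2, 1]⟩,
  ⟨[(o10, o10), (o0, o0), (o215, o69)], 2, .node 6 23 [⟨o213, [(213, []), (312, [o3060, o517, o2641, o3331, o89, o1161, o3018]), (367, [o86, o96, o1307, o1404, o612, o152, o367, o3466, o86, o86, o96, o1307, o1404, o612, o152, o367, o3466, o86]), (384, [o3060, o517, o2641, o3331, o89, o1161, o3018, o3060, o517, o2641, o3331, o89, o1161, o3018]), (421, [o3060, o517, o2641, o3331, o89, o1161, o3018, o86, o254, o517, o2641, o3331, o89, o1161,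 o3472, o86]), (493, [o86, o96, o1307, o1404, o612, o152, o367, o3466, o86, o86, o254, o517, o2641, o3331, o89, o1161, o3472, o86]), (517, [o86, o254, o517, o2641, o3331, o89, o1161, o3472, o86]), (521, [o86, o96, o1307, o1404, o612, o152, o367, o3466, o86]), (535, [o86, o96, o1307, o1404, o612, o152, o367, o3466, o86, o3060, o517, o2641, o3331, o89, o1161, o3018]), (562, [o196]), (708, [o165, o215, o254, o86]), (1132, [o82]), (1161, [o86, o148, o3504, o3060]), (1307, [o69]), (1362, [o196, o86, o96, o1307, o1404, o612, o152, o367, o3466, o86]), (1547, [o196, o86, o254, o517, o2641, o3331, o89, o1161, o3472, o86]), (1567, [o196, o3060, o517, o2641, o3331, o89, o1161, o3018]), (1588, [o86, o96, o3412, o3123]), (1737, [o69, o86, o96, o1307, o1404, o612, o152, o367, o3466, o86]), (1981, [o69, o86, o96, o1307, o1404, o612, o152, o367, o3466, o86, o86, o96, o1307,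 o1404, o612, o152, o367, o3466, o86]), (2156, [o1911, o3060, o517, o2641, o3331, o89, o1161, o3018]), (2184, [o3060, o517, o2641, o3331, o89, o1161, o3018, o86, o96, o1307, o1404, o612, o152, o367, o3466, o86]), (2549, [o1911]), (2796, [o86, o254, o517, o2641, o3331, o89, o1161, o3472, o86, o86, o96, o1307, o1404, o612, o152, o367, o3466, o86])], 408⟩,
      ⟨o222, [(222, []), (528, [o165, o215, o254, o86]), (630, [o86, o148, o3504, o3060]), (1677, [o196]), (1965, [o69]), (2032, [o82]), (2385, [o1911]), (2667, [o86, o96, o3412, o3123])], 456⟩]⟩,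
  ⟨[(o10, o10), (o0, o0), (o215, o69), (o256, o213)], 23, .node 8 24 [⟨o66, [(66, [])], 409⟩,
      ⟨o275, [(275, [])], 410⟩,
      ⟨o2270, [(2270, [])], 428⟩,
      ⟨o2873, [(2873, [])], 441⟩]⟩,
  ⟨[(o10, o10), (o0, o0), (o215, o69), (o256, o213), (o1965, o66)], 24, .node 2 24 []⟩,
  ⟨[(o10, o10), (o0, o0), (o215, o69), (o256, o213), (o1965, o275)], 24, .node 2 25 [⟨o2383, [(2383, [])], 411⟩,
      ⟨o2384, [(2384, [])], 422⟩]⟩,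
  ⟨[(o10, o10), (o0, o0), (o215, o69), (o256, o213), (o1965, o275), (o12, o2383)], 25, .node 1 25 [⟨o138, [(138, [])], 412⟩,
      ⟨o230, [(230, [])], 417⟩]⟩,
  ⟨[(o10, o10), (o0, o0), (o215, o69), (o256, o213), (o1965, o275), (o12, o2383), (o14, o138)], 25, .node 4 25 [⟨o97, [(97, [])], 413⟩,
      ⟨o341, [(341, [])], 416⟩]⟩,
  ⟨[(o10, o10), (o0, o0), (o215, o69), (o256, o213), (o1965, o275), (o12, o2383), (o14, o138), (o154, o97)], 25, .node 7 25 [⟨o296, [(296, [])], 414⟩,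
      ⟨o2642, [(2642, [])], 415⟩]⟩,
  ⟨[(o10, o10), (o0, o0), (o215, o69), (o256, o213), (o1965, o275), (o12, o2383), (o14, o138), (o154, o97), (o243, o296)], 25, .bad [7, 2] 69 10⟩,
  ⟨[(o10, o10), (o0, o0), (o215, o69), (o256, o213), (o1965, o275), (o12, o2383), (o14, o138), (o154, o97), (o243, o2642)], 25, .inner [2, 3, 4, 3, 2, 5, 6, 5, 7, 3, 4, 2, 3, 7, 8, 1, 2, 3, 7, 4, 5, 3, 4, 0, 1, 2, 3, 7, 4, 5, 1, 2, 3, 0, 1, 0, 2, 4, 1, 0, 3, 2, 1, 5, 4, 7, 3, 2, 1, 0, 4, 3, 5, 4, 7, 3, 2, 1, 8, 7, 3, 2, 4, 3, 7, 5, 6, 5, 2, 3, 4, 3, 2]⟩,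
  ⟨[(o10, o10), (o0, o0), (o215, o69), (o256, o213), (o1965, o275), (o12, o2383), (o14, o138), (o154, o341)], 25, .node 7 25 []⟩,
  ⟨[(o10, o10), (o0, o0), (o215, o69), (o256, o213), (o1965, o275), (o12, o2383), (o14, o230)], 25, .node 4 25 [⟨o97, [(97, [])], 418⟩,
      ⟨o341, [(341, [])], 421⟩]⟩,
  ⟨[(o10, o10), (o0, o0), (o215, o69), (o256, o213), (o1965, o275), (o12, o2383), (o14, o230), (o154, o97)], 25, .node 7 25 [⟨o296, [(296, [])], 419⟩,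
      ⟨o2642, [(2642, [])], 420⟩]⟩,
  ⟨[(o10, o10), (o0, o0), (o215, o69), (o256, o213), (o1965, o275), (o12, o2383), (o14, o230), (o154, o97), (o243, o296)], 25, .bad [7, 2] 69 10⟩,
  ⟨[(o10, o10), (o0, o0), (o215, o69), (o256, o213), (o1965, o275), (o12, o2383), (o14, o230), (o154, o97), (o243, o2642)], 25, .inner [2, 8, 3, 7, 4, 5, 3, 4, 2, 3, 7, 8, 6, 5, 4, 1, 2, 3, 7, 0, 1, 2, 3, 4, 5, 0, 1, 0, 2, 4, 1, 0, 5, 4, 3, 2, 1, 0, 7, 3, 2, 1, 4, 5, 6, 8, 7, 3, 2, 4, 3, 5, 4, 7, 3, 8, 2]⟩,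
  ⟨[(o10, o10), (o0, o0), (o215, o69), (o256, o213), (o1965, o275), (o12, o2383), (o14, o230), (o154, o341)], 25, .node 7 25 []⟩,
  ⟨[(o10, o10), (o0, o0), (o215, o69), (o256, o213), (o1965, o275), (o12, o2384)], 25, .node 7 25 [⟨o2550, [(2550, [])], 423⟩]⟩,
  ⟨[(o10, o10), (o0, o0), (o215, o69), (o256, o213), (o1965, o275), (o12, o2384), (o243, o2550)], 25, .node 1 25 [⟨o138, [(138, [])], 424⟩,
      ⟨o230, [(230, [])], 426⟩]⟩,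
  ⟨[(o10, o10), (o0, o0), (o215, o69), (o256, o213), (o1965, o275), (o12, o2384), (o243, o2550), (o14, o138)], 25, .node 4 25 [⟨o65, [(65, [])], 425⟩]⟩,
  ⟨[(o10, o10), (o0, o0), (o215, o69), (o256, o213), (o1965, o275), (o12, o2384), (o243, o2550), (o14, o138), (o154, o65)], 25, .inner [6, 5, 4, 2, 3, 7, 8, 4, 2, 3, 7, 5, 6, 4, 5, 2, 3, 0, 2, 4, 3, 2, 5, 4, 6, 5, 7, 3, 2, 4, 8, 7, 3, 2, 4, 5, 6]⟩,
  ⟨[(o10, o10), (o0, o0), (o215, o69), (o256, o213), (o1965, o275), (o12, o2384), (o243, o2550), (o14, o230)], 25, .node 4 25 [⟨o65, [(65, [])], 427⟩]⟩,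
  ⟨[(o10, o10), (o0, o0), (o215, o69), (o256, o213), (o1965, o275), (o12, o2384), (o243, o2550), (o14, o230), (o154, o65)], 25, .inner [6, 5, 4, 2, 3, 7, 8, 4, 2, 3, 7, 5, 6, 4, 5, 1, 2, 3, 4, 0, 1, 2, 3, 0, 1, 0, 2, 1, 0, 3, 2, 1, 0, 4, 3, 2, 1, 5, 4, 6, 5, 7, 3, 2, 4, 8, 7, 3, 2, 4, 5, 6]⟩,
  ⟨[(o10, o10), (o0, o0), (o215, o69), (o256, o213), (o1965, o2270)], 24, .node 2 26 [⟨o1740, [(1740, [])], 429⟩,
      ⟨o2344, [(2344, [])], 434⟩]⟩,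
  ⟨[(o10, o10), (o0, o0), (o215, o69), (o256, o213), (o1965, o2270), (o12, o1740)], 26, .node 1 26 [⟨o19, [(19, [])], 430⟩,
      ⟨o205, [(205, [])], 432⟩]⟩,
  ⟨[(o10, o10), (o0, o0), (o215, o69), (o256, o213), (o1965, o2270), (o12, o1740), (o14, o19)], 26, .node 4 26 [⟨o1623, [(1623, [])], 431⟩]⟩,
  ⟨[(o10, o10), (o0, o0), (o215, o69), (o256, o213), (o1965, o2270), (o12, o1740), (o14, o19), (o154, o1623)], 26, .node 7 26 []⟩,
  ⟨[(o10, o10), (o0, o0), (o215, o69), (o256, o213), (o1965, o2270), (o12, o1740), (o14, o205)], 26, .node 4 26 [⟨o1623, [(1623, [])], 433⟩]⟩,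
  ⟨[(o10, o10), (o0, o0), (o215, o69), (o256, o213), (o1965, o2270), (o12, o1740), (o14, o205), (o154, o1623)], 26, .node 7 26 []⟩,
  ⟨[(o10, o10), (o0, o0), (o215, o69), (o256, o213), (o1965, o2270), (o12, o2344)], 26, .node 1 26 [⟨o19, [(19, [])], 435⟩,
      ⟨o205, [(205, [])], 438⟩]⟩,
  ⟨[(o10, o10), (o0, o0), (o215, o69), (o256, o213), (o1965, o2270), (o12, o2344), (o14, o19)], 26, .node 4 26 [⟨o1792, [(1792, [])], 436⟩]⟩,
  ⟨[(o10, o10), (o0, o0), (o215, o69), (o256, o213), (o1965, o2270), (o12, o2344), (o14, o19), (o154, o1792)], 26, .node 7 26 [⟨o1741, [(1741, [])], 437⟩]⟩,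
  ⟨[(o10, o10), (o0, o0), (o215, o69), (o256, o213), (o1965, o2270), (o12, o2344), (o14, o19), (o154, o1792), (o243, o1741)], 26, .bad [1, 2, 1] 2344 2344⟩,
  ⟨[(o10, o10), (o0, o0), (o215, o69), (o256, o213), (o1965, o2270), (o12, o2344), (o14, o205)], 26, .node 4 26 [⟨o1792, [(1792, [])], 439⟩]⟩,
  ⟨[(o10, o10), (o0, o0), (o215, o69), (o256, o213), (o1965, o2270), (o12, o2344), (o14, o205), (o154, o1792)], 26, .node 7 26 [⟨o1741, [(1741, [])], 440⟩]⟩,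
  ⟨[(o10, o10), (o0, o0), (o215, o69), (o256, o213), (o1965, o2270), (o12, o2344), (o14, o205), (o154, o1792), (o243, o1741)], 26, .bad [4, 2, 1] 213 205⟩,
  ⟨[(o10, o10), (o0, o0), (o215, o69), (o256, o213), (o1965, o2873)], 24, .node 1 27 [⟨o267, [(267, [])], 442⟩,
      ⟨o431, [(431, [])], 449⟩]⟩,
  ⟨[(o10, o10), (o0, o0), (o215, o69), (o256, o213), (o1965, o2873), (o14, o267)], 27, .node 2 27 [⟨o728, [(728, [])], 443⟩,
      ⟨o772, [(772, [])], 446⟩]⟩,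
  ⟨[(o10, o10), (o0, o0), (o215, o69), (o256, o213), (o1965, o2873), (o14, o267), (o12, o728)], 27, .node 4 27 [⟨o1565, [(1565, [])], 444⟩]⟩,
  ⟨[(o10, o10), (o0, o0), (o215, o69), (o256, o213), (o1965, o2873), (o14, o267), (o12, o728), (o154, o1565)], 27, .node 7 27 [⟨o1342, [(1342, [])], 445⟩]⟩,
  ⟨[(o10, o10), (o0, o0), (o215, o69), (o256, o213), (o1965, o2873), (o14, o267), (o12, o728), (o154, o1565), (o243, o1342)], 27, .conjw 1 [2, 4, 3, 5, 4, 7, 6, 5, 3, 4, 2, 3, 7, 8, 7, 5, 3, 4, 2, 3, 7, 1, 2, 3, 4, 5, 1, 2, 0]⟩,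
  ⟨[(o10, o10), (o0, o0), (o215, o69), (o256, o213), (o1965, o2873), (o14, o267), (o12, o772)], 27, .node 4 27 [⟨o1412, [(1412, [])], 447⟩]⟩,
  ⟨[(o10, o10), (o0, o0), (o215, o69), (o256, o213), (o1965, o2873), (o14, o267), (o12, o772), (o154, o1412)], 27, .node 7 27 [⟨o1300, [(1300, [])], 448⟩]⟩,
  ⟨[(o10, o10), (o0, o0), (o215, o69), (o256, o213), (o1965, o2873), (o14, o267), (o12, o772), (o154, o1412), (o243, o1300)], 27, .conjw 2 [2, 3, 4, 3, 2, 5, 4, 7, 6, 5, 3, 4, 2, 3, 7, 8, 5, 3, 4, 2, 3, 7, 6, 1, 2, 3, 4, 5, 4, 0]⟩,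
  ⟨[(o10, o10), (o0, o0), (o215, o69), (o256, o213), (o1965, o2873), (o14, o431)], 27, .node 2 27 [⟨o728, [(728, [])], 450⟩,
      ⟨o772, [(772, [])], 453⟩]⟩,
  ⟨[(o10, o10), (o0, o0), (o215, o69), (o256, o213), (o1965, o2873), (o14, o431), (o12, o728)], 27, .node 4 27 [⟨o1565, [(1565, [])], 451⟩]⟩,
  ⟨[(o10, o10), (o0, o0), (o215, o69), (o256, o213), (o1965, o2873), (o14, o431), (o12, o728), (o154, o1565)], 27, .node 7 27 [⟨o1342, [(1342, [])], 452⟩]⟩,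
  ⟨[(o10, o10), (o0, o0), (o215, o69), (o256, o213), (o1965, o2873), (o14, o431), (o12, o728), (o154, o1565), (o243, o1342)], 27, .conjw 2 [4, 3, 2, 1, 0, 5, 7, 6, 4, 5, 3, 4, 2, 3, 7, 8, 1, 2, 3, 7, 5, 4, 2, 3, 0, 1, 2, 0, 1, 0]⟩,
  ⟨[(o10, o10), (o0, o0), (o215, o69), (o256, o213), (o1965, o2873), (o14, o431), (o12, o772)], 27, .node 4 27 [⟨o1412, [(1412, [])], 454⟩]⟩,
  ⟨[(o10, o10), (o0, o0), (o215, o69), (o256, o213), (o1965, o2873), (o14, o431), (o12, o772), (o154, o1412)], 27, .node 7 27 [⟨o1300, [(1300, [])], 455⟩]⟩,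
  ⟨[(o10, o10), (o0, o0), (o215, o69), (o256, o213), (o1965, o2873), (o14, o431), (o12, o772), (o154, o1412), (o243, o1300)], 27, .conjw 1 [2, 3, 4, 5, 6, 8, 7, 3, 4, 5, 2, 3, 4, 1, 2, 3, 7, 8, 0, 1, 2, 3, 7, 6, 4, 5, 3, 4, 2, 1, 0]⟩,
  ⟨[(o10, o10), (o0, o0), (o215, o69), (o256, o222)], 23, .node 8 28 [⟨o143, [(143, []), (3341, [o69, o86, o254, o517, o2641, o3331, o89, o1161, o3472, o86]), (3501, [o69, o86, o254, o517, o2641, o3331, o89, o1161, o3472, o86, o69, o86, o254, o517, o2641, o3331, o89, o1161, o3472, o86])], 457⟩,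
      ⟨o251, [(251, [])], 458⟩]⟩,
  ⟨[(o10, o10), (o0, o0), (o215, o69), (o256, o222), (o1965, o143)], 28, .node 1 28 []⟩,
  ⟨[(o10, o10), (o0, o0), (o215, o69), (o256, o222), (o1965, o251)], 28, .node 1 29 [⟨o106, [(106, [])], 459⟩,
      ⟨o212, [(212, [])], 472⟩,
      ⟨o226, [(226, [])], 485⟩,
      ⟨o508, [(508, [])], 492⟩,
      ⟨o519, [(519, [])], 499⟩,
      ⟨o2027, [(2027, [])], 506⟩]⟩,
  ⟨[(o10, o10), (o0, o0), (o215, o69), (o256, o222), (o1965, o251), (o14, o106)], 29, .node 2 29 [⟨o108, [(108, [])], 460⟩,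
      ⟨o109, [(109, [])], 463⟩,
      ⟨o2550, [(2550, [])], 466⟩,
      ⟨o2642, [(2642, [])], 469⟩]⟩,
  ⟨[(o10, o10), (o0, o0), (o215, o69), (o256, o222), (o1965, o251), (o14, o106), (o12, o108)], 29, .node 7 29 [⟨o364, [(364, [])], 461⟩]⟩,
  ⟨[(o10, o10), (o0, o0), (o215, o69), (o256, o222), (o1965, o251), (o14, o106), (o12, o108), (o243, o364)], 29, .node 4 29 [⟨o593, [(593, [])], 462⟩]⟩,
  ⟨[(o10, o10), (o0, o0), (o215, o69), (o256, o222), (o1965, o251), (o14, o106), (o12, o108), (o243, o364), (o154, o593)], 29, .conjw 0 [7, 8, 3, 7, 1, 2, 3, 4, 2, 0, 1, 0]⟩,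
  ⟨[(o10, o10), (o0, o0), (o215, o69), (o256, o222), (o1965, o251), (o14, o106), (o12, o109)], 29, .node 4 29 [⟨o633, [(633, [])], 464⟩]⟩,
  ⟨[(o10, o10), (o0, o0), (o215, o69), (o256, o222), (o1965, o251), (o14, o106), (o12, o109), (o154, o633)], 29, .node 7 29 [⟨o365, [(365, [])], 465⟩]⟩,
  ⟨[(o10, o10), (o0, o0), (o215, o69), (o256, o222), (o1965, o251), (o14, o106), (o12, o109), (o154, o633), (o243, o365)], 29, .conjw 1 [1, 2, 3, 7, 8, 7, 3, 4, 2, 3, 7, 3, 4, 0, 1, 0]⟩,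
  ⟨[(o10, o10), (o0, o0), (o215, o69), (o256, o222), (o1965, o251), (o14, o106), (o12, o2550)], 29, .node 7 29 [⟨o2384, [(2384, [])], 467⟩]⟩,
  ⟨[(o10, o10), (o0, o0), (o215, o69), (o256, o222), (o1965, o251), (o14, o106), (o12, o2550), (o243, o2384)], 29, .node 4 29 [⟨o65, [(65, [])], 468⟩]⟩,
  ⟨[(o10, o10), (o0, o0), (o215, o69), (o256, o222), (o1965, o251), (o14, o106), (o12, o2550), (o243, o2384), (o154, o65)], 29, .inner [6, 4, 5, 3, 4, 2, 3, 7, 8, 4, 1, 2, 3, 7, 5, 6, 4, 5, 3, 4, 0, 1, 2, 3, 7, 4, 5, 3, 4, 2, 3, 1, 0, 2, 1, 3, 2, 4, 3, 5, 4, 7, 3, 2, 1, 0, 4, 3, 5, 4, 6, 5, 7, 3, 2, 1, 4, 8, 7, 3, 2, 4, 3, 5, 4, 6]⟩,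
  ⟨[(o10, o10), (o0, o0), (o215, o69), (o256, o222), (o1965, o251), (o14, o106), (o12, o2642)], 29, .node 4 29 [⟨o97, [(97, [])], 470⟩]⟩,
  ⟨[(o10, o10), (o0, o0), (o215, o69), (o256, o222), (o1965, o251), (o14, o106), (o12, o2642), (o154, o97)], 29, .node 7 29 [⟨o2383, [(2383, [])], 471⟩]⟩,
  ⟨[(o10, o10), (o0, o0), (o215, o69), (o256, o222), (o1965, o251), (o14, o106), (o12, o2642), (o154, o97), (o243, o2383)], 29, .inner [2, 3, 4, 3, 2, 1, 0, 6, 5, 4, 3, 7, 8, 2, 3, 7, 6, 4, 5, 3, 4, 1, 2, 3, 7, 2, 3, 4, 5, 1, 2, 3, 0, 1, 0, 2, 4, 1, 0, 3, 2, 1, 5, 4, 3, 2, 7, 3, 2, 1, 4, 3, 5, 4, 6, 7, 3, 2, 8, 7, 3, 4, 5, 6, 0, 1, 2, 3, 4, 3, 2]⟩,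
  ⟨[(o10, o10), (o0, o0), (o215, o69), (o256, o222), (o1965, o251), (o14, o212)], 29, .node 2 29 [⟨o108, [(108, [])], 473⟩,
      ⟨o109, [(109, [])], 476⟩,
      ⟨o2550, [(2550, [])], 479⟩,
      ⟨o2642, [(2642, [])], 482⟩]⟩,
  ⟨[(o10, o10), (o0, o0), (o215, o69), (o256, o222), (o1965, o251), (o14, o212), (o12, o108)], 29, .node 7 29 [⟨o364, [(364, [])], 474⟩]⟩,
  ⟨[(o10, o10), (o0, o0), (o215, o69), (o256, o222), (o1965, o251), (o14, o212), (o12, o108), (o243, o364)], 29, .node 4 29 [⟨o593, [(593, [])], 475⟩]⟩,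
  ⟨[(o10, o10), (o0, o0), (o215, o69), (o256, o222), (o1965, o251), (o14, o212), (o12, o108), (o243, o364), (o154, o593)], 29, .conjw 1 [7, 8, 3, 7, 1, 2, 3, 0, 1, 2, 1, 0]⟩,
  ⟨[(o10, o10), (o0, o0), (o215, o69), (o256, o222), (o1965, o251), (o14, o212), (o12, o109)], 29, .node 4 29 [⟨o633, [(633, [])], 477⟩]⟩,
  ⟨[(o10, o10), (o0, o0), (o215, o69), (o256, o222), (o1965, o251), (o14, o212), (o12, o109), (o154, o633)], 29, .node 7 29 [⟨o365, [(365, [])], 478⟩]⟩,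
  ⟨[(o10, o10), (o0, o0), (o215, o69), (o256, o222), (o1965, o251), (o14, o212), (o12, o109), (o154, o633), (o243, o365)], 29, .conjw 2 [7, 8, 3, 7, 1, 2, 3, 0, 1, 2, 1, 0]⟩,
  ⟨[(o10, o10), (o0, o0), (o215, o69), (o256, o222), (o1965, o251), (o14, o212), (o12, o2550)], 29, .node 7 29 [⟨o2384, [(2384, [])], 480⟩]⟩,
  ⟨[(o10, o10), (o0, o0), (o215, o69), (o256, o222), (o1965, o251), (o14, o212), (o12, o2550), (o243, o2384)], 29, .node 4 29 [⟨o65, [(65, [])], 481⟩]⟩,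
  ⟨[(o10, o10), (o0, o0), (o215, o69), (o256, o222), (o1965, o251), (o14, o212), (o12, o2550), (o243, o2384), (o154, o65)], 29, .inner [7, 8, 3, 7, 1, 2, 3, 4, 5, 6, 0, 1, 2, 3, 4, 5, 2, 3, 0, 1, 0, 2, 4, 1, 0, 3, 2, 5, 4, 3, 2, 1, 0, 6, 5, 4, 3, 2, 1, 7, 3, 8, 7]⟩,
  ⟨[(o10, o10), (o0, o0), (o215, o69), (o256, o222), (o1965, o251), (o14, o212), (o12, o2642)], 29, .node 4 29 [⟨o97, [(97, [])], 483⟩]⟩,
  ⟨[(o10, o10), (o0, o0), (o215, o69), (o256, o222), (o1965, o251), (o14, o212), (o12, o2642), (o154, o97)], 29, .node 7 29 [⟨o2383, [(2383, [])], 484⟩]⟩,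
  ⟨[(o10, o10), (o0, o0), (o215, o69), (o256, o222), (o1965, o251), (o14, o212), (o12, o2642), (o154, o97), (o243, o2383)], 29, .inner [2, 3, 4, 3, 6, 5, 4, 2, 3, 7, 8, 3, 7, 6, 5, 2, 3, 4, 1, 2, 3, 7, 0, 1, 2, 3, 4, 5, 0, 1, 0, 2, 4, 1, 0, 5, 4, 3, 2, 1, 0, 7, 3, 2, 1, 4, 3, 2, 5, 6, 7, 3, 8, 7, 3, 2, 4, 5, 6, 3, 4, 3, 2]⟩,
  ⟨[(o10, o10), (o0, o0), (o215, o69), (o256, o222), (o1965, o251), (o14, o226)], 29, .node 2 29 [⟨o429, [(429, [])], 486⟩,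
      ⟨o430, [(430, [])], 489⟩]⟩,
  ⟨[(o10, o10), (o0, o0), (o215, o69), (o256, o222), (o1965, o251), (o14, o226), (o12, o429)], 29, .node 7 29 [⟨o316, [(316, [])], 487⟩]⟩,
  ⟨[(o10, o10), (o0, o0), (o215, o69), (o256, o222), (o1965, o251), (o14, o226), (o12, o429), (o243, o316)], 29, .node 4 29 [⟨o2455, [(2455, [])], 488⟩]⟩,
  ⟨[(o10, o10), (o0, o0), (o215, o69), (o256, o222), (o1965, o251), (o14, o226), (o12, o429), (o243, o316), (o154, o2455)], 29, .inner [7, 3, 4, 5, 6, 8, 7, 3, 4, 5, 2, 3, 4, 1, 2, 3, 7, 8, 0, 1, 2, 3, 7, 4, 5, 6, 3, 4, 5, 2, 3, 0, 1, 0, 2, 4, 1, 0, 3, 2, 5, 4, 3, 6, 5, 4, 7, 3, 2, 1, 0, 8, 7, 3, 2, 1, 4, 3, 2, 5, 4, 3, 7, 8, 6, 5, 4, 3, 7]⟩,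
  ⟨[(o10, o10), (o0, o0), (o215, o69), (o256, o222), (o1965, o251), (o14, o226), (o12, o430)], 29, .node 7 29 [⟨o317, [(317, [])], 490⟩]⟩,
  ⟨[(o10, o10), (o0, o0), (o215, o69), (o256, o222), (o1965, o251), (o14, o226), (o12, o430), (o243, o317)], 29, .node 4 29 [⟨o2713, [(2713, [])], 491⟩]⟩,
  ⟨[(o10, o10), (o0, o0), (o215, o69), (o256, o222), (o1965, o251), (o14, o226), (o12, o430), (o243, o317), (o154, o2713)], 29, .inner [4, 2, 3, 7, 8, 4, 2, 3, 7, 5, 6, 4, 5, 2, 3, 4, 1, 2, 3, 7, 8, 0, 1, 2, 3, 7, 4, 5, 3, 4, 0, 1, 2, 3, 1, 0, 2, 1, 3, 2, 1, 0, 4, 3, 5, 4, 7, 3, 2, 1, 0, 8, 7, 3, 2, 1, 4, 3, 2, 5, 4, 6, 5, 7, 3, 2, 4, 8, 7, 3, 2, 4]⟩,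
  ⟨[(o10, o10), (o0, o0), (o215, o69), (o256, o222), (o1965, o251), (o14, o508)], 29, .node 2 29 [⟨o108, [(108, [])], 493⟩,
      ⟨o109, [(109, [])], 496⟩]⟩,
  ⟨[(o10, o10), (o0, o0), (o215, o69), (o256, o222), (o1965, o251), (o14, o508), (o12, o108)], 29, .node 7 29 [⟨o364, [(364, [])], 494⟩]⟩,
  ⟨[(o10, o10), (o0, o0), (o215, o69), (o256, o222), (o1965, o251), (o14, o508), (o12, o108), (o243, o364)], 29, .node 4 29 [⟨o1479, [(1479, [])], 495⟩]⟩,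
  ⟨[(o10, o10), (o0, o0), (o215, o69), (o256, o222), (o1965, o251), (o14, o508), (o12, o108), (o243, o364), (o154, o1479)], 29, .inner [2, 1, 0, 3, 2, 1, 4, 3, 2, 1, 0, 6, 5, 4, 3, 7, 8, 2, 3, 7, 6, 4, 5, 3, 4, 1, 2, 3, 7, 2, 3, 4, 5, 1, 2, 3, 0, 1, 0, 2, 4, 1, 0, 3, 2, 1, 5, 4, 3, 2, 7, 3, 2, 1, 4, 3, 5, 4, 6, 7, 3, 2, 8, 7, 3, 4, 5, 6, 0, 1, 2, 3, 4, 1, 2, 3, 0, 1, 2]⟩,
  ⟨[(o10, o10), (o0, o0), (o215, o69), (o256, o222), (o1965, o251), (o14, o508), (o12, o109)], 29, .node 4 29 [⟨o1497, [(1497, [])], 497⟩]⟩,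
  ⟨[(o10, o10), (o0, o0), (o215, o69), (o256, o222), (o1965, o251), (o14, o508), (o12, o109), (o154, o1497)], 29, .node 7 29 [⟨o365, [(365, [])], 498⟩]⟩,
  ⟨[(o10, o10), (o0, o0), (o215, o69), (o256, o222), (o1965, o251), (o14, o508), (o12, o109), (o154, o1497), (o243, o365)], 29, .inner [2, 1, 0, 3, 2, 1, 4, 3, 6, 5, 4, 2, 3, 7, 8, 3, 7, 6, 5, 2, 3, 4, 1, 2, 3, 7, 0, 1, 2, 3, 4, 5, 0, 1, 0, 2, 4, 1, 0, 5, 4, 3, 2, 1, 0, 7, 3, 2, 1, 4, 3, 2, 5, 6, 7, 3, 8, 7, 3, 2, 4, 5, 6, 3, 4, 1, 2, 3, 0, 1, 2]⟩,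
  ⟨[(o10, o10), (o0, o0), (o215, o69), (o256, o222), (o1965, o251), (o14, o519)], 29, .node 2 29 [⟨o429, [(429, [])], 500⟩,
      ⟨o430, [(430, [])], 503⟩]⟩,
  ⟨[(o10, o10), (o0, o0), (o215, o69), (o256, o222), (o1965, o251), (o14, o519), (o12, o429)], 29, .node 7 29 [⟨o316, [(316, [])], 501⟩]⟩,
  ⟨[(o10, o10), (o0, o0), (o215, o69), (o256, o222), (o1965, o251), (o14, o519), (o12, o429), (o243, o316)], 29, .node 4 29 [⟨o2455, [(2455, [])], 502⟩]⟩,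
  ⟨[(o10, o10), (o0, o0), (o215, o69), (o256, o222), (o1965, o251), (o14, o519), (o12, o429), (o243, o316), (o154, o2455)], 29, .inner [2, 3, 4, 3, 2, 1, 0, 5, 6, 5, 4, 3, 7, 3, 4, 5, 2, 3, 4, 1, 2, 3, 7, 8, 5, 3, 4, 2, 3, 7, 5, 1, 2, 3, 1, 0, 2, 4, 1, 3, 2, 1, 5, 7, 3, 2, 4, 3, 5, 8, 7, 3, 2, 1, 4, 3, 2, 5, 4, 3, 7, 3, 4, 5, 6, 5, 0, 1, 2, 3, 4, 3, 2]⟩,
  ⟨[(o10, o10), (o0, o0), (o215, o69), (o256, o222), (o1965, o251), (o14, o519), (o12, o430)], 29, .node 7 29 [⟨o317, [(317, [])], 504⟩]⟩,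
  ⟨[(o10, o10), (o0, o0), (o215, o69), (o256, o222), (o1965, o251), (o14, o519), (o12, o430), (o243, o317)], 29, .node 4 29 [⟨o2713, [(2713, [])], 505⟩]⟩,
  ⟨[(o10, o10), (o0, o0), (o215, o69), (o256, o222), (o1965, o251), (o14, o519), (o12, o430), (o243, o317), (o154, o2713)], 29, .inner [2, 3, 4, 3, 2, 5, 4, 3, 2, 1, 0, 7, 8, 6, 5, 4, 3, 7, 2, 3, 4, 1, 2, 3, 7, 8, 5, 4, 3, 7, 0, 1, 2, 3, 4, 5, 1, 0, 2, 4, 1, 5, 4, 3, 2, 1, 0, 7, 3, 4, 5, 8, 7, 3, 2, 1, 4, 3, 2, 7, 3, 4, 5, 6, 8, 7, 0, 1, 2, 3, 4, 5, 2, 3, 4, 3, 2]⟩,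
  ⟨[(o10, o10), (o0, o0), (o215, o69), (o256, o222), (o1965, o251), (o14, o2027)], 29, .node 2 29 [⟨o108, [(108, [])], 507⟩,
      ⟨o109, [(109, [])], 510⟩]⟩,
  ⟨[(o10, o10), (o0, o0), (o215, o69), (o256, o222), (o1965, o251), (o14, o2027), (o12, o108)], 29, .node 7 29 [⟨o364, [(364, [])], 508⟩]⟩,
  ⟨[(o10, o10), (o0, o0), (o215, o69), (o256, o222), (o1965, o251), (o14, o2027), (o12, o108), (o243, o364)], 29, .node 4 29 [⟨o1479, [(1479, [])], 509⟩]⟩,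
  ⟨[(o10, o10), (o0, o0), (o215, o69), (o256, o222), (o1965, o251), (o14, o2027), (o12, o108), (o243, o364), (o154, o1479)], 29, .inner [2, 6, 3, 4, 5, 1, 2, 3, 4, 0, 1, 2, 3, 7, 8, 1, 2, 3, 7, 6, 4, 5, 3, 4, 0, 1, 2, 3, 7, 4, 5, 3, 4, 2, 3, 1, 0, 2, 1, 3, 2, 4, 3, 5, 4, 7, 3, 2, 1, 0, 4, 3, 5, 4, 6, 7, 3, 2, 1, 8, 7, 3, 2, 1, 0, 4, 3, 2, 1, 5, 4, 3, 6, 2]⟩,
  ⟨[(o10, o10), (o0, o0), (o215, o69), (o256, o222), (o1965, o251), (o14, o2027), (o12, o109)], 29, .node 4 29 [⟨o1497, [(1497, [])], 511⟩]⟩,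
  ⟨[(o10, o10), (o0, o0), (o215, o69), (o256, o222), (o1965, o251), (o14, o2027), (o12, o109), (o154, o1497)], 29, .node 7 29 [⟨o365, [(365, [])], 512⟩]⟩]

/-- Nodes. -/
def nd4 : List ONode := [
  ⟨[(o10, o10), (o0, o0), (o215, o69), (o256, o222), (o1965, o251), (o14, o2027), (o12, o109), (o154, o1497), (o243, o365)], 29, .inner [1, 2, 3, 7, 8, 0, 1, 2, 3, 7, 2, 3, 4, 5, 6, 1, 2, 3, 4, 5, 2, 3, 0, 1, 0, 2, 4, 1, 0, 3, 2, 5, 4, 3, 2, 1, 6, 5, 4, 3, 2, 7, 3, 2, 1, 0, 8, 7, 3, 2, 1]⟩,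
  ⟨[(o10, o10), (o0, o0), (o215, o215)], 2, .node 8 30 [⟨o69, [(69, []), (82, [o312, o1362, o82, o69]), (86, [o8, o2343, o1525, o985, o86, o3123]), (96, [o421, o517]), (148, [o421, o1307]), (165, [o196, o740, o509, o314, o1737]), (196, [o421, o2184]), (213, [o1307]), (218, [o421, o1567]), (222, [o1965]), (312, [o517]), (367, [o1981]), (384, [o421]), (493, [o535]), (528, [o2032]), (630, [o1677]), (708, [o1132]), (1161, [o562]), (1362, [o2156]), (1547, [o1567]), (1585, [o3137, o318, o2179, o8, o86, o82]), (1588, [o2549]), (1737, [o521]), (1911, [o1588, o213, o1911, o69]), (2667, [o2385]), (2796, [o2184]), (3018, [o421, o521]), (3060, [o69, o3060, o1547, o213]), (3123, [o69, o3123, o1362, o1588]), (3412, [o421, o2156]), (3472, [o1362, o630, o3472, o69]), (3504, [o421, o1132])], 514⟩,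
      ⟨o254, [(254, []), (3385, [o493, o245, o2460, o3366, o96]), (3466, [o196, o740, o509, o314, o1737])], 735⟩,
      ⟨o421, [(421, []), (517, [o493, o245, o2460, o3366, o96]), (1307, [o196, o740, o509, o314, o1737])], 736⟩,
      ⟨o521, [(521, []), (535, [o196, o740, o509, o314, o1737]), (1132, [o493, o245, o2460, o3366, o96])], 801⟩,
      ⟨o562, [(562, []), (1567, [o196, o740, o509, o314, o1737]), (1981, [o493, o245, o2460, o3366, o96])], 846⟩,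
      ⟨o1677, [(1677, []), (2032, [o493, o245, o2460, o3366, o96]), (2385, [o196, o740, o509, o314, o1737])], 944⟩,
      ⟨o1965, [(1965, [])], 1059⟩,
      ⟨o2156, [(2156, []), (2184, [o196, o740, o509, o314, o1737]), (2549, [o493, o245, o2460, o3366, o96])], 2685⟩]⟩,
  ⟨[(o10, o10), (o0, o0), (o215, o215), (o1965, o69)], 30, .node 6 31 [⟨o68, [(68, []), (3137, [o535, o2385, o3123, o86, o985, o1525, o2343, o8, o3466]), (3509, [o254, o517, o1132, o1737, o314, o509, o740, o196, o254])], 515⟩,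
      ⟨o143, [(143, []), (3341, [o535, o2385, o3123, o86, o985, o1525, o2343, o8, o3466]), (3501, [o254, o517, o1132, o1737, o314, o509, o740, o196, o254])], 584⟩,
      ⟨o251, [(251, [])], 617⟩,
      ⟨o256, [(256, [])], 676⟩]⟩,
  ⟨[(o10, o10), (o0, o0), (o215, o215), (o1965, o69), (o256, o68)], 31, .node 1 32 [⟨o355, [(355, [])], 516⟩,
      ⟨o368, [(368, [])], 528⟩,
      ⟨o426, [(426, [])], 540⟩,
      ⟨o797, [(797, [])], 552⟩,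
      ⟨o1253, [(1253, [])], 564⟩,
      ⟨o2698, [(2698, [])], 574⟩]⟩,
  ⟨[(o10, o10), (o0, o0), (o215, o215), (o1965, o69), (o256, o68), (o14, o355)], 32, .node 2 32 [⟨o1415, [(1415, [])], 517⟩,
      ⟨o1461, [(1461, [])], 519⟩,
      ⟨o1462, [(1462, [])], 523⟩,
      ⟨o1968, [(1968, [])], 526⟩]⟩,
  ⟨[(o10, o10), (o0, o0), (o215, o215), (o1965, o69), (o256, o68), (o14, o355), (o12, o1415)], 32, .node 7 32 [⟨o610, [(610, [])], 518⟩]⟩,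
  ⟨[(o10, o10), (o0, o0), (o215, o215), (o1965, o69), (o256, o68), (o14, o355), (o12, o1415), (o243, o610)], 32, .node 4 32 []⟩,
  ⟨[(o10, o10), (o0, o0), (o215, o215), (o1965, o69), (o256, o68), (o14, o355), (o12, o1461)], 32, .node 4 32 [⟨o131, [(131, [])], 520⟩,
      ⟨o564, [(564, [])], 521⟩]⟩,
  ⟨[(o10, o10), (o0, o0), (o215, o215), (o1965, o69), (o256, o68), (o14, o355), (o12, o1461), (o154, o131)], 32, .node 7 32 []⟩,
  ⟨[(o10, o10), (o0, o0), (o215, o215), (o1965, o69), (o256, o68), (o14, o355), (o12, o1461), (o154, o564)], 32, .node 7 32 [⟨o1989, [(1989, [])], 522⟩]⟩,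
  ⟨[(o10, o10), (o0, o0), (o215, o215), (o1965, o69), (o256, o68), (o14, o355), (o12, o1461), (o154, o564), (o243, o1989)], 32, .conjw 1 [2, 4, 5, 6, 8, 7, 3, 2, 4, 3, 5, 7, 8, 4, 3, 7, 2, 3, 4, 1, 2, 3, 7, 8, 0, 1, 2, 3, 7, 5, 6, 4, 5, 3, 4]⟩,
  ⟨[(o10, o10), (o0, o0), (o215, o215), (o1965, o69), (o256, o68), (o14, o355), (o12, o1462)], 32, .node 4 32 [⟨o565, [(565, [])], 524⟩]⟩,
  ⟨[(o10, o10), (o0, o0), (o215, o215), (o1965, o69), (o256, o68), (o14, o355), (o12, o1462), (o154, o565)], 32, .node 7 32 [⟨o870, [(870, [])], 525⟩]⟩,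
  ⟨[(o10, o10), (o0, o0), (o215, o215), (o1965, o69), (o256, o68), (o14, o355), (o12, o1462), (o154, o565), (o243, o870)], 32, .conjw 2 [1, 0, 4, 5, 6, 3, 4, 5, 2, 3, 4, 1, 2, 3, 7, 3, 4, 5, 2, 3, 4, 3, 2, 1, 0]⟩,
  ⟨[(o10, o10), (o0, o0), (o215, o215), (o1965, o69), (o256, o68), (o14, o355), (o12, o1968)], 32, .node 4 32 [⟨o565, [(565, [])], 527⟩]⟩,
  ⟨[(o10, o10), (o0, o0), (o215, o215), (o1965, o69), (o256, o68), (o14, o355), (o12, o1968), (o154, o565)], 32, .node 7 32 []⟩,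
  ⟨[(o10, o10), (o0, o0), (o215, o215), (o1965, o69), (o256, o68), (o14, o368)], 32, .node 2 32 [⟨o1415, [(1415, [])], 529⟩,
      ⟨o1587, [(1587, [])], 530⟩,
      ⟨o1964, [(1964, [])], 533⟩,
      ⟨o1968, [(1968, [])], 537⟩]⟩,
  ⟨[(o10, o10), (o0, o0), (o215, o215), (o1965, o69), (o256, o68), (o14, o368), (o12, o1415)], 32, .node 4 32 []⟩,
  ⟨[(o10, o10), (o0, o0), (o215, o215), (o1965, o69), (o256, o68), (o14, o368), (o12, o1587)], 32, .node 7 32 [⟨o220, [(220, [])], 531⟩]⟩,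
  ⟨[(o10, o10), (o0, o0), (o215, o215), (o1965, o69), (o256, o68), (o14, o368), (o12, o1587), (o243, o220)], 32, .node 4 32 [⟨o207, [(207, [])], 532⟩]⟩,
  ⟨[(o10, o10), (o0, o0), (o215, o215), (o1965, o69), (o256, o68), (o14, o368), (o12, o1587), (o243, o220), (o154, o207)], 32, .inner [4, 7, 3, 2, 4, 3, 5, 6, 8, 7, 3, 2, 4, 3, 7, 8, 1, 2, 3, 7, 5, 6, 4, 5, 3, 4, 0, 1, 2, 3, 7, 3, 4, 5, 1, 2, 3, 0, 1, 0, 2, 4, 1, 0, 3, 2, 1, 5, 4, 3, 7, 3, 2, 1, 0, 4, 3, 5, 4, 6, 5, 7, 3, 2, 1, 8, 7, 3, 4, 2, 3, 7, 8, 6, 5, 3, 4, 2, 3, 7, 4]⟩,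
  ⟨[(o10, o10), (o0, o0), (o215, o215), (o1965, o69), (o256, o68), (o14, o368), (o12, o1964)], 32, .node 4 32 [⟨o208, [(208, [])], 534⟩,
      ⟨o1428, [(1428, [])], 536⟩]⟩,
  ⟨[(o10, o10), (o0, o0), (o215, o215), (o1965, o69), (o256, o68), (o14, o368), (o12, o1964), (o154, o208)], 32, .node 7 32 [⟨o217, [(217, [])], 535⟩]⟩,
  ⟨[(o10, o10), (o0, o0), (o215, o215), (o1965, o69), (o256, o68), (o14, o368), (o12, o1964), (o154, o208), (o243, o217)], 32, .inner [1, 0, 2, 1, 0, 3, 4, 3, 8, 7, 5, 6, 3, 4, 5, 2, 3, 4, 1, 2, 3, 7, 5, 6, 0, 1, 2, 3, 4, 5, 4, 2, 3, 0, 1, 0, 2, 4, 1, 0, 3, 2, 4, 5, 4, 3, 2, 1, 0, 6, 5, 7, 3, 2, 1, 4, 3, 2, 5, 4, 3, 6, 5, 7, 8, 3, 4, 3, 0, 1, 2, 0, 1]⟩,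
  ⟨[(o10, o10), (o0, o0), (o215, o215), (o1965, o69), (o256, o68), (o14, o368), (o12, o1964), (o154, o1428)], 32, .node 7 32 []⟩,
  ⟨[(o10, o10), (o0, o0), (o215, o215), (o1965, o69), (o256, o68), (o14, o368), (o12, o1968)], 32, .node 4 32 [⟨o208, [(208, [])], 538⟩,
      ⟨o1428, [(1428, [])], 539⟩]⟩,
  ⟨[(o10, o10), (o0, o0), (o215, o215), (o1965, o69), (o256, o68), (o14, o368), (o12, o1968), (o154, o208)], 32, .node 7 32 []⟩,
  ⟨[(o10, o10), (o0, o0), (o215, o215), (o1965, o69), (o256, o68), (o14, o368), (o12, o1968), (o154, o1428)], 32, .node 7 32 []⟩,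
  ⟨[(o10, o10), (o0, o0), (o215, o215), (o1965, o69), (o256, o68), (o14, o426)], 32, .node 2 32 [⟨o1415, [(1415, [])], 541⟩,
      ⟨o1587, [(1587, [])], 542⟩,
      ⟨o1964, [(1964, [])], 545⟩,
      ⟨o1968, [(1968, [])], 549⟩]⟩,
  ⟨[(o10, o10), (o0, o0), (o215, o215), (o1965, o69), (o256, o68), (o14, o426), (o12, o1415)], 32, .node 4 32 []⟩,
  ⟨[(o10, o10), (o0, o0), (o215, o215), (o1965, o69), (o256, o68), (o14, o426), (o12, o1587)], 32, .node 7 32 [⟨o220, [(220, [])], 543⟩]⟩,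
  ⟨[(o10, o10), (o0, o0), (o215, o215), (o1965, o69), (o256, o68), (o14, o426), (o12, o1587), (o243, o220)], 32, .node 4 32 [⟨o207, [(207, [])], 544⟩]⟩,
  ⟨[(o10, o10), (o0, o0), (o215, o215), (o1965, o69), (o256, o68), (o14, o426), (o12, o1587), (o243, o220), (o154, o207)], 32, .inner [1, 2, 4, 3, 8, 7, 5, 6, 3, 4, 5, 2, 3, 4, 1, 2, 3, 7, 5, 6, 0, 1, 2, 3, 4, 5, 4, 2, 3, 0, 1, 0, 2, 4, 1, 0, 3, 2, 4, 5, 4, 3, 2, 1, 0, 6, 5, 7, 3, 2, 1, 4, 3, 2, 5, 4, 3, 6, 5, 7, 8, 3, 4, 2, 1]⟩,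
  ⟨[(o10, o10), (o0, o0), (o215, o215), (o1965, o69), (o256, o68), (o14, o426), (o12, o1964)], 32, .node 4 32 [⟨o208, [(208, [])], 546⟩,
      ⟨o1428, [(1428, [])], 548⟩]⟩,
  ⟨[(o10, o10), (o0, o0), (o215, o215), (o1965, o69), (o256, o68), (o14, o426), (o12, o1964), (o154, o208)], 32, .node 7 32 [⟨o217, [(217, [])], 547⟩]⟩,
  ⟨[(o10, o10), (o0, o0), (o215, o215), (o1965, o69), (o256, o68), (o14, o426), (o12, o1964), (o154, o208), (o243, o217)], 32, .inner [7, 6, 5, 3, 4, 2, 3, 7, 8, 4, 1, 2, 3, 7, 5, 6, 0, 1, 2, 3, 4, 5, 1, 0, 2, 4, 1, 5, 4, 3, 2, 1, 0, 6, 5, 7, 3, 2, 1, 4, 8, 7, 3, 2, 4, 3, 5, 6, 7]⟩,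
  ⟨[(o10, o10), (o0, o0), (o215, o215), (o1965, o69), (o256, o68), (o14, o426), (o12, o1964), (o154, o1428)], 32, .node 7 32 []⟩,
  ⟨[(o10, o10), (o0, o0), (o215, o215), (o1965, o69), (o256, o68), (o14, o426), (o12, o1968)], 32, .node 4 32 [⟨o208, [(208, [])], 550⟩,
      ⟨o1428, [(1428, [])], 551⟩]⟩,
  ⟨[(o10, o10), (o0, o0), (o215, o215), (o1965, o69), (o256, o68), (o14, o426), (o12, o1968), (o154, o208)], 32, .node 7 32 []⟩,
  ⟨[(o10, o10), (o0, o0), (o215, o215), (o1965, o69), (o256, o68), (o14, o426), (o12, o1968), (o154, o1428)], 32, .node 7 32 []⟩,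
  ⟨[(o10, o10), (o0, o0), (o215, o215), (o1965, o69), (o256, o68), (o14, o797)], 32, .node 2 32 [⟨o1415, [(1415, [])], 553⟩,
      ⟨o1461, [(1461, [])], 555⟩,
      ⟨o1462, [(1462, [])], 559⟩,
      ⟨o1968, [(1968, [])], 562⟩]⟩,
  ⟨[(o10, o10), (o0, o0), (o215, o215), (o1965, o69), (o256, o68), (o14, o797), (o12, o1415)], 32, .node 7 32 [⟨o610, [(610, [])], 554⟩]⟩,
  ⟨[(o10, o10), (o0, o0), (o215, o215), (o1965, o69), (o256, o68), (o14, o797), (o12, o1415), (o243, o610)], 32, .node 4 32 []⟩,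
  ⟨[(o10, o10), (o0, o0), (o215, o215), (o1965, o69), (o256, o68), (o14, o797), (o12, o1461)], 32, .node 4 32 [⟨o131, [(131, [])], 556⟩,
      ⟨o564, [(564, [])], 557⟩]⟩,
  ⟨[(o10, o10), (o0, o0), (o215, o215), (o1965, o69), (o256, o68), (o14, o797), (o12, o1461), (o154, o131)], 32, .node 7 32 []⟩,
  ⟨[(o10, o10), (o0, o0), (o215, o215), (o1965, o69), (o256, o68), (o14, o797), (o12, o1461), (o154, o564)], 32, .node 7 32 [⟨o1989, [(1989, [])], 558⟩]⟩,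
  ⟨[(o10, o10), (o0, o0), (o215, o215), (o1965, o69), (o256, o68), (o14, o797), (o12, o1461), (o154, o564), (o243, o1989)], 32, .conjw 2 [1, 0, 4, 5, 6, 3, 4, 5, 2, 3, 4, 1, 2, 3, 7, 5, 6, 3, 4, 5, 2, 3, 4, 1, 0]⟩,
  ⟨[(o10, o10), (o0, o0), (o215, o215), (o1965, o69), (o256, o68), (o14, o797), (o12, o1462)], 32, .node 4 32 [⟨o565, [(565, [])], 560⟩]⟩,
  ⟨[(o10, o10), (o0, o0), (o215, o215), (o1965, o69), (o256, o68), (o14, o797), (o12, o1462), (o154, o565)], 32, .node 7 32 [⟨o870, [(870, [])], 561⟩]⟩,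
  ⟨[(o10, o10), (o0, o0), (o215, o215), (o1965, o69), (o256, o68), (o14, o797), (o12, o1462), (o154, o565), (o243, o870)], 32, .conjw 1 [1, 0, 2, 4, 3, 7, 5, 6, 4, 5, 2, 3, 4, 1, 2, 3, 7, 8, 3, 4, 1, 2, 3, 7, 1, 2, 0, 1, 0]⟩,
  ⟨[(o10, o10), (o0, o0), (o215, o215), (o1965, o69), (o256, o68), (o14, o797), (o12, o1968)], 32, .node 4 32 [⟨o565, [(565, [])], 563⟩]⟩,
  ⟨[(o10, o10), (o0, o0), (o215, o215), (o1965, o69), (o256, o68), (o14, o797), (o12, o1968), (o154, o565)], 32, .node 7 32 []⟩,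
  ⟨[(o10, o10), (o0, o0), (o215, o215), (o1965, o69), (o256, o68), (o14, o1253)], 32, .node 2 32 [⟨o1461, [(1461, [])], 565⟩,
      ⟨o1462, [(1462, [])], 568⟩,
      ⟨o1587, [(1587, [])], 570⟩,
      ⟨o1964, [(1964, [])], 571⟩]⟩,
  ⟨[(o10, o10), (o0, o0), (o215, o215), (o1965, o69), (o256, o68), (o14, o1253), (o12, o1461)], 32, .node 4 32 [⟨o115, [(115, [])], 566⟩,
      ⟨o1484, [(1484, [])], 567⟩]⟩,
  ⟨[(o10, o10), (o0, o0), (o215, o215), (o1965, o69), (o256, o68), (o14, o1253), (o12, o1461), (o154, o115)], 32, .node 7 32 []⟩,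
  ⟨[(o10, o10), (o0, o0), (o215, o215), (o1965, o69), (o256, o68), (o14, o1253), (o12, o1461), (o154, o1484)], 32, .node 7 32 []⟩,
  ⟨[(o10, o10), (o0, o0), (o215, o215), (o1965, o69), (o256, o68), (o14, o1253), (o12, o1462)], 32, .node 4 32 [⟨o1717, [(1717, [])], 569⟩]⟩,
  ⟨[(o10, o10), (o0, o0), (o215, o215), (o1965, o69), (o256, o68), (o14, o1253), (o12, o1462), (o154, o1717)], 32, .node 7 32 []⟩,
  ⟨[(o10, o10), (o0, o0), (o215, o215), (o1965, o69), (o256, o68), (o14, o1253), (o12, o1587)], 32, .node 4 32 []⟩,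
  ⟨[(o10, o10), (o0, o0), (o215, o215), (o1965, o69), (o256, o68), (o14, o1253), (o12, o1964)], 32, .node 4 32 [⟨o1717, [(1717, [])], 572⟩]⟩,
  ⟨[(o10, o10), (o0, o0), (o215, o215), (o1965, o69), (o256, o68), (o14, o1253), (o12, o1964), (o154, o1717)], 32, .node 7 32 [⟨o183, [(183, [])], 573⟩]⟩,
  ⟨[(o10, o10), (o0, o0), (o215, o215), (o1965, o69), (o256, o68), (o14, o1253), (o12, o1964), (o154, o1717), (o243, o183)], 32, .bad [7, 2] 69 10⟩,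
  ⟨[(o10, o10), (o0, o0), (o215, o215), (o1965, o69), (o256, o68), (o14, o2698)], 32, .node 2 32 [⟨o1461, [(1461, [])], 575⟩,
      ⟨o1462, [(1462, [])], 578⟩,
      ⟨o1587, [(1587, [])], 580⟩,
      ⟨o1964, [(1964, [])], 581⟩]⟩,
  ⟨[(o10, o10), (o0, o0), (o215, o215), (o1965, o69), (o256, o68), (o14, o2698), (o12, o1461)], 32, .node 4 32 [⟨o115, [(115, [])], 576⟩,
      ⟨o1484, [(1484, [])], 577⟩]⟩,
  ⟨[(o10, o10), (o0, o0), (o215, o215), (o1965, o69), (o256, o68), (o14, o2698), (o12, o1461), (o154, o115)], 32, .node 7 32 []⟩,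
  ⟨[(o10, o10), (o0, o0), (o215, o215), (o1965, o69), (o256, o68), (o14, o2698), (o12, o1461), (o154, o1484)], 32, .node 7 32 []⟩,
  ⟨[(o10, o10), (o0, o0), (o215, o215), (o1965, o69), (o256, o68), (o14, o2698), (o12, o1462)], 32, .node 4 32 [⟨o1717, [(1717, [])], 579⟩]⟩,
  ⟨[(o10, o10), (o0, o0), (o215, o215), (o1965, o69), (o256, o68), (o14, o2698), (o12, o1462), (o154, o1717)], 32, .node 7 32 []⟩,
  ⟨[(o10, o10), (o0, o0), (o215, o215), (o1965, o69), (o256, o68), (o14, o2698), (o12, o1587)], 32, .node 4 32 []⟩,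
  ⟨[(o10, o10), (o0, o0), (o215, o215), (o1965, o69), (o256, o68), (o14, o2698), (o12, o1964)], 32, .node 4 32 [⟨o1717, [(1717, [])], 582⟩]⟩,
  ⟨[(o10, o10), (o0, o0), (o215, o215), (o1965, o69), (o256, o68), (o14, o2698), (o12, o1964), (o154, o1717)], 32, .node 7 32 [⟨o183, [(183, [])], 583⟩]⟩,
  ⟨[(o10, o10), (o0, o0), (o215, o215), (o1965, o69), (o256, o68), (o14, o2698), (o12, o1964), (o154, o1717), (o243, o183)], 32, .bad [7, 2] 69 10⟩,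
  ⟨[(o10, o10), (o0, o0), (o215, o215), (o1965, o69), (o256, o143)], 31, .node 1 33 [⟨o355, [(355, [])], 585⟩,
      ⟨o368, [(368, [])], 593⟩,
      ⟨o426, [(426, [])], 600⟩,
      ⟨o797, [(797, [])], 607⟩,
      ⟨o1253, [(1253, [])], 615⟩,
      ⟨o2698, [(2698, [])], 616⟩]⟩,
  ⟨[(o10, o10), (o0, o0), (o215, o215), (o1965, o69), (o256, o143), (o14, o355)], 33, .node 4 33 [⟨o488, [(488, [])], 586⟩,
      ⟨o489, [(489, [])], 589⟩]⟩,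
  ⟨[(o10, o10), (o0, o0), (o215, o215), (o1965, o69), (o256, o143), (o14, o355), (o154, o488)], 33, .node 7 33 [⟨o1989, [(1989, [])], 587⟩]⟩,
  ⟨[(o10, o10), (o0, o0), (o215, o215), (o1965, o69), (o256, o143), (o14, o355), (o154, o488), (o243, o1989)], 33, .node 2 33 [⟨o1461, [(1461, [])], 588⟩]⟩,
  ⟨[(o10, o10), (o0, o0), (o215, o215), (o1965, o69), (o256, o143), (o14, o355), (o154, o488), (o243, o1989), (o12, o1461)], 33, .conjw 2 [4, 3, 5, 4, 6, 5, 8, 7, 3, 2, 4, 3, 7, 8, 5, 6, 4, 5, 3, 4, 2, 3, 7, 3, 4, 5, 1, 2, 3, 4, 0, 1, 0]⟩,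
  ⟨[(o10, o10), (o0, o0), (o215, o215), (o1965, o69), (o256, o143), (o14, o355), (o154, o489)], 33, .node 2 33 [⟨o1462, [(1462, [])], 590⟩,
      ⟨o1968, [(1968, [])], 592⟩]⟩,
  ⟨[(o10, o10), (o0, o0), (o215, o215), (o1965, o69), (o256, o143), (o14, o355), (o154, o489), (o12, o1462)], 33, .node 7 33 [⟨o870, [(870, [])], 591⟩]⟩,
  ⟨[(o10, o10), (o0, o0), (o215, o215), (o1965, o69), (o256, o143), (o14, o355), (o154, o489), (o12, o1462), (o243, o870)], 33, .conjw 1 [2, 1, 0, 3, 2, 1, 4, 3, 2, 7, 3, 4, 5, 6, 8, 7, 3, 4, 5, 2, 3, 4, 1, 2, 3, 7, 8, 0, 1, 2, 3, 7, 4, 5, 2, 3, 4, 1, 2, 0, 1, 0]⟩,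
  ⟨[(o10, o10), (o0, o0), (o215, o215), (o1965, o69), (o256, o143), (o14, o355), (o154, o489), (o12, o1968)], 33, .node 7 33 []⟩,
  ⟨[(o10, o10), (o0, o0), (o215, o215), (o1965, o69), (o256, o143), (o14, o368)], 33, .node 4 33 [⟨o200, [(200, [])], 594⟩,
      ⟨o209, [(209, [])], 597⟩]⟩,
  ⟨[(o10, o10), (o0, o0), (o215, o215), (o1965, o69), (o256, o143), (o14, o368), (o154, o200)], 33, .node 7 33 [⟨o217, [(217, [])], 595⟩]⟩,
  ⟨[(o10, o10), (o0, o0), (o215, o215), (o1965, o69), (o256, o143), (o14, o368), (o154, o200), (o243, o217)], 33, .node 2 33 [⟨o1964, [(1964, [])], 596⟩]⟩,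
  ⟨[(o10, o10), (o0, o0), (o215, o215), (o1965, o69), (o256, o143), (o14, o368), (o154, o200), (o243, o217), (o12, o1964)], 33, .inner [8, 4, 2, 3, 7, 6, 2, 3, 4, 5, 3, 0, 2, 4, 3, 5, 4, 3, 2, 6, 7, 3, 2, 4, 8]⟩,
  ⟨[(o10, o10), (o0, o0), (o215, o215), (o1965, o69), (o256, o143), (o14, o368), (o154, o209)], 33, .node 2 33 [⟨o1587, [(1587, [])], 598⟩]⟩,
  ⟨[(o10, o10), (o0, o0), (o215, o215), (o1965, o69), (o256, o143), (o14, o368), (o154, o209), (o12, o1587)], 33, .node 7 33 [⟨o220, [(220, [])], 599⟩]⟩,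
  ⟨[(o10, o10), (o0, o0), (o215, o215), (o1965, o69), (o256, o143), (o14, o368), (o154, o209), (o12, o1587), (o243, o220)], 33, .inner [8, 4, 1, 2, 3, 7, 6, 3, 4, 5, 2, 3, 4, 0, 1, 2, 3, 7, 3, 4, 5, 0, 1, 2, 3, 0, 1, 0, 2, 4, 1, 0, 3, 2, 1, 0, 5, 4, 3, 7, 3, 2, 1, 0, 4, 3, 2, 5, 4, 3, 6, 7, 3, 2, 1, 4, 8]⟩,
  ⟨[(o10, o10), (o0, o0), (o215, o215), (o1965, o69), (o256, o143), (o14, o426)], 33, .node 4 33 [⟨o200, [(200, [])], 601⟩,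
      ⟨o209, [(209, [])], 604⟩]⟩,
  ⟨[(o10, o10), (o0, o0), (o215, o215), (o1965, o69), (o256, o143), (o14, o426), (o154, o200)], 33, .node 7 33 [⟨o217, [(217, [])], 602⟩]⟩,
  ⟨[(o10, o10), (o0, o0), (o215, o215), (o1965, o69), (o256, o143), (o14, o426), (o154, o200), (o243, o217)], 33, .node 2 33 [⟨o1964, [(1964, [])], 603⟩]⟩,
  ⟨[(o10, o10), (o0, o0), (o215, o215), (o1965, o69), (o256, o143), (o14, o426), (o154, o200), (o243, o217), (o12, o1964)], 33, .inner [8, 4, 2, 3, 7, 6, 2, 3, 4, 5, 1, 2, 3, 4, 0, 1, 2, 3, 1, 0, 2, 1, 3, 2, 1, 0, 4, 3, 2, 1, 5, 4, 3, 2, 6, 7, 3, 2, 4, 8]⟩,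
  ⟨[(o10, o10), (o0, o0), (o215, o215), (o1965, o69), (o256, o143), (o14, o426), (o154, o209)], 33, .node 2 33 [⟨o1587, [(1587, [])], 605⟩]⟩,
  ⟨[(o10, o10), (o0, o0), (o215, o215), (o1965, o69), (o256, o143), (o14, o426), (o154, o209), (o12, o1587)], 33, .node 7 33 [⟨o220, [(220, [])], 606⟩]⟩,
  ⟨[(o10, o10), (o0, o0), (o215, o215), (o1965, o69), (o256, o143), (o14, o426), (o154, o209), (o12, o1587), (o243, o220)], 33, .inner [8, 2, 3, 4, 1, 2, 3, 7, 6, 0, 1, 2, 3, 4, 5, 0, 2, 4, 5, 4, 3, 2, 1, 0, 6, 7, 3, 2, 1, 4, 3, 2, 8]⟩,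
  ⟨[(o10, o10), (o0, o0), (o215, o215), (o1965, o69), (o256, o143), (o14, o797)], 33, .node 4 33 [⟨o488, [(488, [])], 608⟩,
      ⟨o489, [(489, [])], 611⟩]⟩,
  ⟨[(o10, o10), (o0, o0), (o215, o215), (o1965, o69), (o256, o143), (o14, o797), (o154, o488)], 33, .node 7 33 [⟨o1989, [(1989, [])], 609⟩]⟩,
  ⟨[(o10, o10), (o0, o0), (o215, o215), (o1965, o69), (o256, o143), (o14, o797), (o154, o488), (o243, o1989)], 33, .node 2 33 [⟨o1461, [(1461, [])], 610⟩]⟩,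
  ⟨[(o10, o10), (o0, o0), (o215, o215), (o1965, o69), (o256, o143), (o14, o797), (o154, o488), (o243, o1989), (o12, o1461)], 33, .conjw 1 [4, 3, 2, 5, 4, 6, 5, 7, 3, 2, 1, 0, 4, 3, 7, 8, 7, 5, 6, 3, 4, 5, 2, 3, 4, 1, 2, 3, 7, 5, 3, 4, 0, 1, 2, 1]⟩,
  ⟨[(o10, o10), (o0, o0), (o215, o215), (o1965, o69), (o256, o143), (o14, o797), (o154, o489)], 33, .node 2 33 [⟨o1462, [(1462, [])], 612⟩,
      ⟨o1968, [(1968, [])], 614⟩]⟩,
  ⟨[(o10, o10), (o0, o0), (o215, o215), (o1965, o69), (o256, o143), (o14, o797), (o154, o489), (o12, o1462)], 33, .node 7 33 [⟨o870, [(870, [])], 613⟩]⟩,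
  ⟨[(o10, o10), (o0, o0), (o215, o215), (o1965, o69), (o256, o143), (o14, o797), (o154, o489), (o12, o1462), (o243, o870)], 33, .conjw 2 [1, 0, 4, 5, 6, 3, 4, 5, 2, 3, 4, 1, 2, 3, 7, 5, 3, 4, 2, 3, 1, 2, 0, 1, 0]⟩,
  ⟨[(o10, o10), (o0, o0), (o215, o215), (o1965, o69), (o256, o143), (o14, o797), (o154, o489), (o12, o1968)], 33, .node 7 33 []⟩,
  ⟨[(o10, o10), (o0, o0), (o215, o215), (o1965, o69), (o256, o143), (o14, o1253)], 33, .node 4 33 []⟩,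
  ⟨[(o10, o10), (o0, o0), (o215, o215), (o1965, o69), (o256, o143), (o14, o2698)], 33, .node 4 33 []⟩,
  ⟨[(o10, o10), (o0, o0), (o215, o215), (o1965, o69), (o256, o251)], 31, .node 1 34 [⟨o104, [(104, [])], 618⟩,
      ⟨o202, [(202, [])], 631⟩,
      ⟨o676, [(676, [])], 644⟩,
      ⟨o954, [(954, [])], 653⟩,
      ⟨o2650, [(2650, [])], 662⟩,
      ⟨o2731, [(2731, [])], 669⟩]⟩,
  ⟨[(o10, o10), (o0, o0), (o215, o215), (o1965, o69), (o256, o251), (o14, o104)], 34, .node 2 34 [⟨o244, [(244, [])], 619⟩,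
      ⟨o253, [(253, [])], 622⟩,
      ⟨o628, [(628, [])], 625⟩,
      ⟨o1563, [(1563, [])], 628⟩]⟩,
  ⟨[(o10, o10), (o0, o0), (o215, o215), (o1965, o69), (o256, o251), (o14, o104), (o12, o244)], 34, .node 7 34 [⟨o243, [(243, [])], 620⟩]⟩,
  ⟨[(o10, o10), (o0, o0), (o215, o215), (o1965, o69), (o256, o251), (o14, o104), (o12, o244), (o243, o243)], 34, .node 4 34 [⟨o208, [(208, [])], 621⟩]⟩,
  ⟨[(o10, o10), (o0, o0), (o215, o215), (o1965, o69), (o256, o251), (o14, o104), (o12, o244), (o243, o243), (o154, o208)], 34, .inner [8, 7, 3, 4, 5, 0, 2, 4, 5, 4, 3, 7, 8]⟩,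
  ⟨[(o10, o10), (o0, o0), (o215, o215), (o1965, o69), (o256, o251), (o14, o104), (o12, o253)], 34, .node 4 34 [⟨o207, [(207, [])], 623⟩]⟩,
  ⟨[(o10, o10), (o0, o0), (o215, o215), (o1965, o69), (o256, o251), (o14, o104), (o12, o253), (o154, o207)], 34, .node 7 34 [⟨o9, [(9, [])], 624⟩]⟩,
  ⟨[(o10, o10), (o0, o0), (o215, o215), (o1965, o69), (o256, o251), (o14, o104), (o12, o253), (o154, o207), (o243, o9)], 34, .inner [8, 4, 1, 2, 3, 7, 2, 3, 4, 5, 1, 2, 3, 4, 0, 1, 2, 3, 7, 3, 4, 5, 1, 2, 3, 0, 1, 0, 2, 4, 1, 0, 3, 2, 1, 5, 4, 3, 7, 3, 2, 1, 0, 4, 3, 2, 1, 5, 4, 3, 2, 7, 3, 2, 1, 4, 8]⟩,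
  ⟨[(o10, o10), (o0, o0), (o215, o215), (o1965, o69), (o256, o251), (o14, o104), (o12, o628)], 34, .node 7 34 [⟨o1297, [(1297, [])], 626⟩]⟩,
  ⟨[(o10, o10), (o0, o0), (o215, o215), (o1965, o69), (o256, o251), (o14, o104), (o12, o628), (o243, o1297)], 34, .node 4 34 [⟨o554, [(554, [])], 627⟩]⟩,
  ⟨[(o10, o10), (o0, o0), (o215, o215), (o1965, o69), (o256, o251), (o14, o104), (o12, o628), (o243, o1297), (o154, o554)], 34, .conjw 1 [7, 8, 3, 7, 6, 4, 5, 1, 2, 3, 4, 2, 0, 1, 0]⟩,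
  ⟨[(o10, o10), (o0, o0), (o215, o215), (o1965, o69), (o256, o251), (o14, o104), (o12, o1563)], 34, .node 4 34 [⟨o592, [(592, [])], 629⟩]⟩,
  ⟨[(o10, o10), (o0, o0), (o215, o215), (o1965, o69), (o256, o251), (o14, o104), (o12, o1563), (o154, o592)], 34, .node 7 34 [⟨o529, [(529, [])], 630⟩]⟩,
  ⟨[(o10, o10), (o0, o0), (o215, o215), (o1965, o69), (o256, o251), (o14, o104), (o12, o1563), (o154, o592), (o243, o529)], 34, .conjw 2 [7, 8, 3, 7, 6, 4, 5, 1, 2, 3, 4, 2, 0, 1, 0]⟩,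
  ⟨[(o10, o10), (o0, o0), (o215, o215), (o1965, o69), (o256, o251), (o14, o202)], 34, .node 2 34 [⟨o244, [(244, [])], 632⟩,
      ⟨o253, [(253, [])], 635⟩,
      ⟨o628, [(628, [])], 638⟩,
      ⟨o1563, [(1563, [])], 641⟩]⟩,
  ⟨[(o10, o10), (o0, o0), (o215, o215), (o1965, o69), (o256, o251), (o14, o202), (o12, o244)], 34, .node 7 34 [⟨o243, [(243, [])], 633⟩]⟩,
  ⟨[(o10, o10), (o0, o0), (o215, o215), (o1965, o69), (o256, o251), (o14, o202), (o12, o244), (o243, o243)], 34, .node 4 34 [⟨o208, [(208, [])], 634⟩]⟩,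
  ⟨[(o10, o10), (o0, o0), (o215, o215), (o1965, o69), (o256, o251), (o14, o202), (o12, o244), (o243, o243), (o154, o208)], 34, .inner [8, 7, 3, 4, 5, 1, 2, 3, 4, 0, 1, 2, 3, 0, 2, 3, 2, 1, 0, 4, 3, 2, 1, 5, 4, 3, 7, 8]⟩,
  ⟨[(o10, o10), (o0, o0), (o215, o215), (o1965, o69), (o256, o251), (o14, o202), (o12, o253)], 34, .node 4 34 [⟨o207, [(207, [])], 636⟩]⟩,
  ⟨[(o10, o10), (o0, o0), (o215, o215), (o1965, o69), (o256, o251), (o14, o202), (o12, o253), (o154, o207)], 34, .node 7 34 [⟨o9, [(9, [])], 637⟩]⟩,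
  ⟨[(o10, o10), (o0, o0), (o215, o215), (o1965, o69), (o256, o251), (o14, o202), (o12, o253), (o154, o207), (o243, o9)], 34, .inner [8, 1, 2, 3, 7, 0, 1, 2, 3, 4, 5, 0, 1, 0, 2, 4, 1, 0, 5, 4, 3, 2, 1, 0, 7, 3, 2, 1, 8]⟩,
  ⟨[(o10, o10), (o0, o0), (o215, o215), (o1965, o69), (o256, o251), (o14, o202), (o12, o628)], 34, .node 7 34 [⟨o1297, [(1297, [])], 639⟩]⟩,
  ⟨[(o10, o10), (o0, o0), (o215, o215), (o1965, o69), (o256, o251), (o14, o202), (o12, o628), (o243, o1297)], 34, .node 4 34 [⟨o554, [(554, [])], 640⟩]⟩]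

/-- Nodes. -/
def nd5 : List ONode := [
  ⟨[(o10, o10), (o0, o0), (o215, o215), (o1965, o69), (o256, o251), (o14, o202), (o12, o628), (o243, o1297), (o154, o554)], 34, .conjw 2 [1, 0, 4, 3, 7, 5, 6, 4, 5, 3, 4, 2, 3, 7, 8, 1, 2, 3, 7, 5, 3, 4, 3, 1, 2, 1, 0]⟩,
  ⟨[(o10, o10), (o0, o0), (o215, o215), (o1965, o69), (o256, o251), (o14, o202), (o12, o1563)], 34, .node 4 34 [⟨o592, [(592, [])], 642⟩]⟩,
  ⟨[(o10, o10), (o0, o0), (o215, o215), (o1965, o69), (o256, o251), (o14, o202), (o12, o1563), (o154, o592)], 34, .node 7 34 [⟨o529, [(529, [])], 643⟩]⟩,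
  ⟨[(o10, o10), (o0, o0), (o215, o215), (o1965, o69), (o256, o251), (o14, o202), (o12, o1563), (o154, o592), (o243, o529)], 34, .conjw 1 [2, 4, 3, 5, 4, 6, 7, 3, 2, 4, 3, 5, 7, 8, 7, 3, 4, 2, 3, 7, 8, 5, 1, 2, 3, 4, 0, 1, 2, 3, 7, 6, 5, 2, 3, 4, 2, 1]⟩,
  ⟨[(o10, o10), (o0, o0), (o215, o215), (o1965, o69), (o256, o251), (o14, o676)], 34, .node 2 34 [⟨o530, [(530, [])], 645⟩,
      ⟨o531, [(531, [])], 648⟩]⟩,
  ⟨[(o10, o10), (o0, o0), (o215, o215), (o1965, o69), (o256, o251), (o14, o676), (o12, o530)], 34, .node 7 34 [⟨o587, [(587, [])], 646⟩]⟩,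
  ⟨[(o10, o10), (o0, o0), (o215, o215), (o1965, o69), (o256, o251), (o14, o676), (o12, o530), (o243, o587)], 34, .node 4 34 [⟨o565, [(565, [])], 647⟩]⟩,
  ⟨[(o10, o10), (o0, o0), (o215, o215), (o1965, o69), (o256, o251), (o14, o676), (o12, o530), (o243, o587), (o154, o565)], 34, .conjw 1 [1, 0, 2, 1, 3, 6, 5, 4, 3, 2, 1, 7, 3, 2, 1, 0, 4, 3, 7, 8, 7, 5, 6, 3, 4, 5, 2, 3, 4, 1, 2, 3, 7, 6, 5, 3, 4, 1, 2, 1]⟩,
  ⟨[(o10, o10), (o0, o0), (o215, o215), (o1965, o69), (o256, o251), (o14, o676), (o12, o531)], 34, .node 4 34 [⟨o564, [(564, [])], 649⟩,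
      ⟨o1742, [(1742, [])], 652⟩]⟩,
  ⟨[(o10, o10), (o0, o0), (o215, o215), (o1965, o69), (o256, o251), (o14, o676), (o12, o531), (o154, o564)], 34, .node 7 34 [⟨o81, [(81, [])], 650⟩,
      ⟨o588, [(588, [])], 651⟩]⟩,
  ⟨[(o10, o10), (o0, o0), (o215, o215), (o1965, o69), (o256, o251), (o14, o676), (o12, o531), (o154, o564), (o243, o81)], 34, .bad [7, 2] 69 10⟩,
  ⟨[(o10, o10), (o0, o0), (o215, o215), (o1965, o69), (o256, o251), (o14, o676), (o12, o531), (o154, o564), (o243, o588)], 34, .conjw 2 [6, 7, 3, 4, 5, 6, 8, 7, 3, 2, 1, 4, 5, 3, 4, 2, 3, 7, 8, 0, 1, 2, 3, 7, 4, 5, 2, 3, 4, 1, 2, 0, 1, 0]⟩,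
  ⟨[(o10, o10), (o0, o0), (o215, o215), (o1965, o69), (o256, o251), (o14, o676), (o12, o531), (o154, o1742)], 34, .node 7 34 []⟩,
  ⟨[(o10, o10), (o0, o0), (o215, o215), (o1965, o69), (o256, o251), (o14, o954)], 34, .node 2 34 [⟨o530, [(530, [])], 654⟩,
      ⟨o531, [(531, [])], 657⟩]⟩,
  ⟨[(o10, o10), (o0, o0), (o215, o215), (o1965, o69), (o256, o251), (o14, o954), (o12, o530)], 34, .node 7 34 [⟨o587, [(587, [])], 655⟩]⟩,
  ⟨[(o10, o10), (o0, o0), (o215, o215), (o1965, o69), (o256, o251), (o14, o954), (o12, o530), (o243, o587)], 34, .node 4 34 [⟨o565, [(565, [])], 656⟩]⟩,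
  ⟨[(o10, o10), (o0, o0), (o215, o215), (o1965, o69), (o256, o251), (o14, o954), (o12, o530), (o243, o587), (o154, o565)], 34, .conjw 2 [1, 0, 2, 4, 5, 6, 3, 4, 5, 2, 3, 4, 1, 2, 3, 7, 2, 3, 4, 2, 3, 0, 1, 2, 0, 1, 0]⟩,
  ⟨[(o10, o10), (o0, o0), (o215, o215), (o1965, o69), (o256, o251), (o14, o954), (o12, o531)], 34, .node 4 34 [⟨o564, [(564, [])], 658⟩,
      ⟨o1742, [(1742, [])], 661⟩]⟩,
  ⟨[(o10, o10), (o0, o0), (o215, o215), (o1965, o69), (o256, o251), (o14, o954), (o12, o531), (o154, o564)], 34, .node 7 34 [⟨o81, [(81, [])], 659⟩,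
      ⟨o588, [(588, [])], 660⟩]⟩,
  ⟨[(o10, o10), (o0, o0), (o215, o215), (o1965, o69), (o256, o251), (o14, o954), (o12, o531), (o154, o564), (o243, o81)], 34, .bad [7, 2] 69 10⟩,
  ⟨[(o10, o10), (o0, o0), (o215, o215), (o1965, o69), (o256, o251), (o14, o954), (o12, o531), (o154, o564), (o243, o588)], 34, .conjw 1 [6, 7, 3, 4, 5, 6, 8, 7, 3, 4, 5, 2, 3, 4, 1, 2, 3, 7, 8, 0, 1, 2, 3, 7, 4, 5, 2, 3, 4, 1, 2, 0, 1, 0]⟩,
  ⟨[(o10, o10), (o0, o0), (o215, o215), (o1965, o69), (o256, o251), (o14, o954), (o12, o531), (o154, o1742)], 34, .node 7 34 []⟩,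
  ⟨[(o10, o10), (o0, o0), (o215, o215), (o1965, o69), (o256, o251), (o14, o2650)], 34, .node 2 34 [⟨o244, [(244, [])], 663⟩,
      ⟨o253, [(253, [])], 666⟩]⟩,
  ⟨[(o10, o10), (o0, o0), (o215, o215), (o1965, o69), (o256, o251), (o14, o2650), (o12, o244)], 34, .node 7 34 [⟨o243, [(243, [])], 664⟩]⟩,
  ⟨[(o10, o10), (o0, o0), (o215, o215), (o1965, o69), (o256, o251), (o14, o2650), (o12, o244), (o243, o243)], 34, .node 4 34 [⟨o1756, [(1756, [])], 665⟩]⟩,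
  ⟨[(o10, o10), (o0, o0), (o215, o215), (o1965, o69), (o256, o251), (o14, o2650), (o12, o244), (o243, o243), (o154, o1756)], 34, .conjw 1 [1, 2, 1, 0, 3, 2, 1, 4, 3, 5, 4, 6, 7, 3, 2, 4, 3, 5, 7, 8, 7, 3, 4, 2, 3, 7, 8, 5, 1, 2, 3, 4, 0, 1, 2, 3, 7, 6, 5, 2, 3, 4, 2, 1]⟩,
  ⟨[(o10, o10), (o0, o0), (o215, o215), (o1965, o69), (o256, o251), (o14, o2650), (o12, o253)], 34, .node 4 34 [⟨o1757, [(1757, [])], 667⟩]⟩,
  ⟨[(o10, o10), (o0, o0), (o215, o215), (o1965, o69), (o256, o251), (o14, o2650), (o12, o253), (o154, o1757)], 34, .node 7 34 [⟨o9, [(9, [])], 668⟩]⟩,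
  ⟨[(o10, o10), (o0, o0), (o215, o215), (o1965, o69), (o256, o251), (o14, o2650), (o12, o253), (o154, o1757), (o243, o9)], 34, .conjw 2 [1, 2, 3, 7, 8, 0, 1, 2, 3, 7, 6, 4, 5, 2, 3, 4, 2, 1, 0]⟩,
  ⟨[(o10, o10), (o0, o0), (o215, o215), (o1965, o69), (o256, o251), (o14, o2731)], 34, .node 2 34 [⟨o244, [(244, [])], 670⟩,
      ⟨o253, [(253, [])], 673⟩]⟩,
  ⟨[(o10, o10), (o0, o0), (o215, o215), (o1965, o69), (o256, o251), (o14, o2731), (o12, o244)], 34, .node 7 34 [⟨o243, [(243, [])], 671⟩]⟩,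
  ⟨[(o10, o10), (o0, o0), (o215, o215), (o1965, o69), (o256, o251), (o14, o2731), (o12, o244), (o243, o243)], 34, .node 4 34 [⟨o1756, [(1756, [])], 672⟩]⟩,
  ⟨[(o10, o10), (o0, o0), (o215, o215), (o1965, o69), (o256, o251), (o14, o2731), (o12, o244), (o243, o243), (o154, o1756)], 34, .conjw 2 [1, 0, 2, 1, 3, 2, 4, 3, 7, 5, 6, 4, 5, 3, 4, 2, 3, 7, 8, 1, 2, 3, 7, 5, 3, 4, 3, 1, 2, 1, 0]⟩,
  ⟨[(o10, o10), (o0, o0), (o215, o215), (o1965, o69), (o256, o251), (o14, o2731), (o12, o253)], 34, .node 4 34 [⟨o1757, [(1757, [])], 674⟩]⟩,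
  ⟨[(o10, o10), (o0, o0), (o215, o215), (o1965, o69), (o256, o251), (o14, o2731), (o12, o253), (o154, o1757)], 34, .node 7 34 [⟨o9, [(9, [])], 675⟩]⟩,
  ⟨[(o10, o10), (o0, o0), (o215, o215), (o1965, o69), (o256, o251), (o14, o2731), (o12, o253), (o154, o1757), (o243, o9)], 34, .conjw 1 [1, 2, 3, 7, 8, 0, 1, 2, 3, 7, 6, 4, 5, 2, 3, 4, 2, 1, 0]⟩,
  ⟨[(o10, o10), (o0, o0), (o215, o215), (o1965, o69), (o256, o256)], 31, .node 1 35 [⟨o104, [(104, [])], 677⟩,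
      ⟨o202, [(202, [])], 690⟩,
      ⟨o676, [(676, [])], 703⟩,
      ⟨o954, [(954, [])], 712⟩,
      ⟨o2650, [(2650, [])], 721⟩,
      ⟨o2731, [(2731, [])], 728⟩]⟩,
  ⟨[(o10, o10), (o0, o0), (o215, o215), (o1965, o69), (o256, o256), (o14, o104)], 35, .node 2 35 [⟨o244, [(244, [])], 678⟩,
      ⟨o253, [(253, [])], 681⟩,
      ⟨o628, [(628, [])], 684⟩,
      ⟨o1563, [(1563, [])], 687⟩]⟩,
  ⟨[(o10, o10), (o0, o0), (o215, o215), (o1965, o69), (o256, o256), (o14, o104), (o12, o244)], 35, .node 7 35 [⟨o243, [(243, [])], 679⟩]⟩,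
  ⟨[(o10, o10), (o0, o0), (o215, o215), (o1965, o69), (o256, o256), (o14, o104), (o12, o244), (o243, o243)], 35, .node 4 35 [⟨o200, [(200, [])], 680⟩]⟩,
  ⟨[(o10, o10), (o0, o0), (o215, o215), (o1965, o69), (o256, o256), (o14, o104), (o12, o244), (o243, o243), (o154, o200)], 35, .inner [8, 7, 3, 0, 2, 3, 7, 8]⟩,
  ⟨[(o10, o10), (o0, o0), (o215, o215), (o1965, o69), (o256, o256), (o14, o104), (o12, o253)], 35, .node 4 35 [⟨o209, [(209, [])], 682⟩]⟩,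
  ⟨[(o10, o10), (o0, o0), (o215, o215), (o1965, o69), (o256, o256), (o14, o104), (o12, o253), (o154, o209)], 35, .node 7 35 [⟨o9, [(9, [])], 683⟩]⟩,
  ⟨[(o10, o10), (o0, o0), (o215, o215), (o1965, o69), (o256, o256), (o14, o104), (o12, o253), (o154, o209), (o243, o9)], 35, .inner [7, 3, 4, 2, 3, 7, 8, 5, 4, 3, 7, 2, 3, 4, 5, 2, 3, 0, 2, 4, 3, 2, 5, 4, 3, 2, 7, 3, 4, 5, 8, 7, 3, 2, 4, 3, 7]⟩,
  ⟨[(o10, o10), (o0, o0), (o215, o215), (o1965, o69), (o256, o256), (o14, o104), (o12, o628)], 35, .node 7 35 [⟨o1297, [(1297, [])], 685⟩]⟩,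
  ⟨[(o10, o10), (o0, o0), (o215, o215), (o1965, o69), (o256, o256), (o14, o104), (o12, o628), (o243, o1297)], 35, .node 4 35 [⟨o589, [(589, [])], 686⟩]⟩,
  ⟨[(o10, o10), (o0, o0), (o215, o215), (o1965, o69), (o256, o256), (o14, o104), (o12, o628), (o243, o1297), (o154, o589)], 35, .conjw 2 [1, 0, 4, 3, 7, 3, 4, 5, 2, 3, 4, 1, 2, 3, 7, 8, 6, 5, 4, 3, 7, 2, 3, 4, 3, 2, 1]⟩,
  ⟨[(o10, o10), (o0, o0), (o215, o215), (o1965, o69), (o256, o256), (o14, o104), (o12, o1563)], 35, .node 4 35 [⟨o2229, [(2229, [])], 688⟩]⟩,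
  ⟨[(o10, o10), (o0, o0), (o215, o215), (o1965, o69), (o256, o256), (o14, o104), (o12, o1563), (o154, o2229)], 35, .node 7 35 [⟨o529, [(529, [])], 689⟩]⟩,
  ⟨[(o10, o10), (o0, o0), (o215, o215), (o1965, o69), (o256, o256), (o14, o104), (o12, o1563), (o154, o2229), (o243, o529)], 35, .conjw 1 [1, 2, 1, 0, 3, 2, 1, 4, 3, 2, 7, 3, 8, 7, 4, 5, 3, 4, 2, 3, 7, 8, 6, 5, 4, 3, 7, 5, 1, 2, 3, 4, 1, 2, 0, 1, 0]⟩,
  ⟨[(o10, o10), (o0, o0), (o215, o215), (o1965, o69), (o256, o256), (o14, o202)], 35, .node 2 35 [⟨o244, [(244, [])], 691⟩,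
      ⟨o253, [(253, [])], 694⟩,
      ⟨o628, [(628, [])], 697⟩,
      ⟨o1563, [(1563, [])], 700⟩]⟩,
  ⟨[(o10, o10), (o0, o0), (o215, o215), (o1965, o69), (o256, o256), (o14, o202), (o12, o244)], 35, .node 7 35 [⟨o243, [(243, [])], 692⟩]⟩,
  ⟨[(o10, o10), (o0, o0), (o215, o215), (o1965, o69), (o256, o256), (o14, o202), (o12, o244), (o243, o243)], 35, .node 4 35 [⟨o200, [(200, [])], 693⟩]⟩,
  ⟨[(o10, o10), (o0, o0), (o215, o215), (o1965, o69), (o256, o256), (o14, o202), (o12, o244), (o243, o243), (o154, o200)], 35, .inner [8, 7, 3, 1, 2, 0, 1, 0, 1, 0, 2, 1, 3, 7, 8]⟩,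
  ⟨[(o10, o10), (o0, o0), (o215, o215), (o1965, o69), (o256, o256), (o14, o202), (o12, o253)], 35, .node 4 35 [⟨o209, [(209, [])], 695⟩]⟩,
  ⟨[(o10, o10), (o0, o0), (o215, o215), (o1965, o69), (o256, o256), (o14, o202), (o12, o253), (o154, o209)], 35, .node 7 35 [⟨o9, [(9, [])], 696⟩]⟩,
  ⟨[(o10, o10), (o0, o0), (o215, o215), (o1965, o69), (o256, o256), (o14, o202), (o12, o253), (o154, o209), (o243, o9)], 35, .inner [8, 1, 2, 3, 7, 0, 1, 2, 3, 0, 1, 0, 2, 1, 0, 3, 2, 1, 0, 7, 3, 2, 1, 8]⟩,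
  ⟨[(o10, o10), (o0, o0), (o215, o215), (o1965, o69), (o256, o256), (o14, o202), (o12, o628)], 35, .node 7 35 [⟨o1297, [(1297, [])], 698⟩]⟩,
  ⟨[(o10, o10), (o0, o0), (o215, o215), (o1965, o69), (o256, o256), (o14, o202), (o12, o628), (o243, o1297)], 35, .node 4 35 [⟨o589, [(589, [])], 699⟩]⟩,
  ⟨[(o10, o10), (o0, o0), (o215, o215), (o1965, o69), (o256, o256), (o14, o202), (o12, o628), (o243, o1297), (o154, o589)], 35, .conjw 1 [2, 3, 4, 3, 2, 1, 0, 5, 6, 8, 7, 3, 2, 1, 4, 5, 3, 4, 2, 3, 7, 8, 3, 4, 2, 3, 7, 5, 3, 4, 1, 2, 3, 0, 1, 2, 0, 1, 0]⟩,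
  ⟨[(o10, o10), (o0, o0), (o215, o215), (o1965, o69), (o256, o256), (o14, o202), (o12, o1563)], 35, .node 4 35 [⟨o2229, [(2229, [])], 701⟩]⟩,
  ⟨[(o10, o10), (o0, o0), (o215, o215), (o1965, o69), (o256, o256), (o14, o202), (o12, o1563), (o154, o2229)], 35, .node 7 35 [⟨o529, [(529, [])], 702⟩]⟩,
  ⟨[(o10, o10), (o0, o0), (o215, o215), (o1965, o69), (o256, o256), (o14, o202), (o12, o1563), (o154, o2229), (o243, o529)], 35, .conjw 2 [1, 0, 2, 1, 0, 4, 3, 2, 1, 8, 7, 3, 2, 1, 4, 3, 7, 8, 5, 6, 4, 5, 3, 4, 2, 3, 7, 3, 4, 5, 1, 2, 3, 4, 0, 1, 0]⟩,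
  ⟨[(o10, o10), (o0, o0), (o215, o215), (o1965, o69), (o256, o256), (o14, o676)], 35, .node 2 35 [⟨o530, [(530, [])], 704⟩,
      ⟨o531, [(531, [])], 707⟩]⟩,
  ⟨[(o10, o10), (o0, o0), (o215, o215), (o1965, o69), (o256, o256), (o14, o676), (o12, o530)], 35, .node 7 35 [⟨o587, [(587, [])], 705⟩]⟩,
  ⟨[(o10, o10), (o0, o0), (o215, o215), (o1965, o69), (o256, o256), (o14, o676), (o12, o530), (o243, o587)], 35, .node 4 35 [⟨o489, [(489, [])], 706⟩]⟩,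
  ⟨[(o10, o10), (o0, o0), (o215, o215), (o1965, o69), (o256, o256), (o14, o676), (o12, o530), (o243, o587), (o154, o489)], 35, .conjw 2 [1, 0, 2, 1, 4, 3, 2, 1, 8, 7, 3, 2, 4, 3, 7, 8, 1, 2, 3, 4, 0, 1, 2, 3, 7, 5, 3, 4, 2, 3, 1, 2, 0, 1, 0]⟩,
  ⟨[(o10, o10), (o0, o0), (o215, o215), (o1965, o69), (o256, o256), (o14, o676), (o12, o531)], 35, .node 4 35 [⟨o488, [(488, [])], 708⟩,
      ⟨o2344, [(2344, [])], 711⟩]⟩,
  ⟨[(o10, o10), (o0, o0), (o215, o215), (o1965, o69), (o256, o256), (o14, o676), (o12, o531), (o154, o488)], 35, .node 7 35 [⟨o81, [(81, [])], 709⟩,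
      ⟨o588, [(588, [])], 710⟩]⟩,
  ⟨[(o10, o10), (o0, o0), (o215, o215), (o1965, o69), (o256, o256), (o14, o676), (o12, o531), (o154, o488), (o243, o81)], 35, .bad [7, 2] 69 10⟩,
  ⟨[(o10, o10), (o0, o0), (o215, o215), (o1965, o69), (o256, o256), (o14, o676), (o12, o531), (o154, o488), (o243, o588)], 35, .conjw 1 [1, 0, 7, 3, 2, 1, 4, 8, 7, 3, 2, 1, 0, 4, 3, 5, 4, 6, 5, 7, 3, 2, 1, 4, 8, 7, 3, 4, 2, 3, 7, 8, 3, 4, 1, 2, 3, 7, 5, 3, 4, 2, 3, 0, 1, 2, 0, 1, 0]⟩,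
  ⟨[(o10, o10), (o0, o0), (o215, o215), (o1965, o69), (o256, o256), (o14, o676), (o12, o531), (o154, o2344)], 35, .node 7 35 []⟩,
  ⟨[(o10, o10), (o0, o0), (o215, o215), (o1965, o69), (o256, o256), (o14, o954)], 35, .node 2 35 [⟨o530, [(530, [])], 713⟩,
      ⟨o531, [(531, [])], 716⟩]⟩,
  ⟨[(o10, o10), (o0, o0), (o215, o215), (o1965, o69), (o256, o256), (o14, o954), (o12, o530)], 35, .node 7 35 [⟨o587, [(587, [])], 714⟩]⟩,
  ⟨[(o10, o10), (o0, o0), (o215, o215), (o1965, o69), (o256, o256), (o14, o954), (o12, o530), (o243, o587)], 35, .node 4 35 [⟨o489, [(489, [])], 715⟩]⟩,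
  ⟨[(o10, o10), (o0, o0), (o215, o215), (o1965, o69), (o256, o256), (o14, o954), (o12, o530), (o243, o587), (o154, o489)], 35, .conjw 1 [1, 0, 2, 1, 8, 7, 3, 2, 1, 4, 3, 7, 8, 2, 3, 7, 4, 5, 3, 4, 2, 3, 7, 8, 6, 5, 4, 3, 7, 1, 2, 3, 0, 1, 2]⟩,
  ⟨[(o10, o10), (o0, o0), (o215, o215), (o1965, o69), (o256, o256), (o14, o954), (o12, o531)], 35, .node 4 35 [⟨o488, [(488, [])], 717⟩,
      ⟨o2344, [(2344, [])], 720⟩]⟩,
  ⟨[(o10, o10), (o0, o0), (o215, o215), (o1965, o69), (o256, o256), (o14, o954), (o12, o531), (o154, o488)], 35, .node 7 35 [⟨o81, [(81, [])], 718⟩,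
      ⟨o588, [(588, [])], 719⟩]⟩,
  ⟨[(o10, o10), (o0, o0), (o215, o215), (o1965, o69), (o256, o256), (o14, o954), (o12, o531), (o154, o488), (o243, o81)], 35, .bad [7, 2] 69 10⟩,
  ⟨[(o10, o10), (o0, o0), (o215, o215), (o1965, o69), (o256, o256), (o14, o954), (o12, o531), (o154, o488), (o243, o588)], 35, .conjw 2 [1, 0, 2, 4, 3, 2, 1, 8, 7, 3, 2, 4, 3, 7, 8, 1, 2, 3, 4, 0, 1, 2, 3, 7, 5, 3, 4, 2, 3, 0, 1, 2, 0, 1, 0]⟩,
  ⟨[(o10, o10), (o0, o0), (o215, o215), (o1965, o69), (o256, o256), (o14, o954), (o12, o531), (o154, o2344)], 35, .node 7 35 []⟩,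
  ⟨[(o10, o10), (o0, o0), (o215, o215), (o1965, o69), (o256, o256), (o14, o2650)], 35, .node 2 35 [⟨o244, [(244, [])], 722⟩,
      ⟨o253, [(253, [])], 725⟩]⟩,
  ⟨[(o10, o10), (o0, o0), (o215, o215), (o1965, o69), (o256, o256), (o14, o2650), (o12, o244)], 35, .node 7 35 [⟨o243, [(243, [])], 723⟩]⟩,
  ⟨[(o10, o10), (o0, o0), (o215, o215), (o1965, o69), (o256, o256), (o14, o2650), (o12, o244), (o243, o243)], 35, .node 4 35 [⟨o2234, [(2234, [])], 724⟩]⟩,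
  ⟨[(o10, o10), (o0, o0), (o215, o215), (o1965, o69), (o256, o256), (o14, o2650), (o12, o244), (o243, o243), (o154, o2234)], 35, .conjw 2 [1, 2, 3, 4, 3, 2, 1, 8, 7, 3, 2, 1, 4, 3, 7, 8, 5, 6, 4, 5, 3, 4, 2, 3, 7, 3, 4, 5, 1, 2, 3, 4, 0, 1, 0]⟩,
  ⟨[(o10, o10), (o0, o0), (o215, o215), (o1965, o69), (o256, o256), (o14, o2650), (o12, o253)], 35, .node 4 35 [⟨o1572, [(1572, [])], 726⟩]⟩,
  ⟨[(o10, o10), (o0, o0), (o215, o215), (o1965, o69), (o256, o256), (o14, o2650), (o12, o253), (o154, o1572)], 35, .node 7 35 [⟨o9, [(9, [])], 727⟩]⟩,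
  ⟨[(o10, o10), (o0, o0), (o215, o215), (o1965, o69), (o256, o256), (o14, o2650), (o12, o253), (o154, o1572), (o243, o9)], 35, .conjw 1 [4, 3, 2, 7, 3, 8, 7, 4, 5, 3, 4, 2, 3, 7, 8, 6, 5, 4, 3, 7, 1, 2, 3, 4, 5, 4, 1, 2, 0]⟩,
  ⟨[(o10, o10), (o0, o0), (o215, o215), (o1965, o69), (o256, o256), (o14, o2731)], 35, .node 2 35 [⟨o244, [(244, [])], 729⟩,
      ⟨o253, [(253, [])], 732⟩]⟩,
  ⟨[(o10, o10), (o0, o0), (o215, o215), (o1965, o69), (o256, o256), (o14, o2731), (o12, o244)], 35, .node 7 35 [⟨o243, [(243, [])], 730⟩]⟩,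
  ⟨[(o10, o10), (o0, o0), (o215, o215), (o1965, o69), (o256, o256), (o14, o2731), (o12, o244), (o243, o243)], 35, .node 4 35 [⟨o2234, [(2234, [])], 731⟩]⟩,
  ⟨[(o10, o10), (o0, o0), (o215, o215), (o1965, o69), (o256, o256), (o14, o2731), (o12, o244), (o243, o243), (o154, o2234)], 35, .conjw 1 [1, 0, 4, 3, 8, 7, 3, 2, 1, 0, 4, 3, 2, 1, 5, 4, 3, 2, 7, 6, 5, 3, 4, 2, 3, 7, 8, 5, 4, 2, 3, 7, 1, 2, 3, 4, 2, 3, 1, 2, 0, 1, 0]⟩,
  ⟨[(o10, o10), (o0, o0), (o215, o215), (o1965, o69), (o256, o256), (o14, o2731), (o12, o253)], 35, .node 4 35 [⟨o1572, [(1572, [])], 733⟩]⟩,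
  ⟨[(o10, o10), (o0, o0), (o215, o215), (o1965, o69), (o256, o256), (o14, o2731), (o12, o253), (o154, o1572)], 35, .node 7 35 [⟨o9, [(9, [])], 734⟩]⟩,
  ⟨[(o10, o10), (o0, o0), (o215, o215), (o1965, o69), (o256, o256), (o14, o2731), (o12, o253), (o154, o1572), (o243, o9)], 35, .conjw 2 [1, 0, 2, 1, 3, 2, 4, 3, 7, 3, 4, 5, 2, 3, 4, 1, 2, 3, 7, 8, 6, 5, 4, 3, 7, 2, 3, 4, 3, 2, 1]⟩,
  ⟨[(o10, o10), (o0, o0), (o215, o215), (o1965, o254)], 30, .node 1 30 []⟩,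
  ⟨[(o10, o10), (o0, o0), (o215, o215), (o1965, o421)], 30, .node 1 36 [⟨o63, [(63, []), (104, [o1965]), (246, [o0, o421, o254, o2032]), (426, [o1981]), (795, [o562]), (2050, [o1567]), (3225, [o0, o1307, o254, o535]), (3474, [o0, o521, o3385, o421])], 737⟩,
      ⟨o70, [(70, []), (193, [o0, o421, o254, o2032]), (202, [o1965]), (368, [o1981]), (1160, [o562]), (1548, [o1567]), (3002, [o0, o521, o3385, o421]), (3041, [o0, o1307, o254, o535])], 756⟩,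
      ⟨o171, [(171, []), (305, [o1965]), (715, [o0, o1307, o254, o535]), (1254, [o562]), (2009, [o1567]), (2639, [o0, o421, o254, o2032]), (2651, [o1981]), (2748, [o0, o521, o3385, o421])], 775⟩,
      ⟨o270, [(270, []), (283, [o1965]), (1074, [o1981]), (1180, [o562]), (1393, [o1567]), (2040, [o0, o421, o254, o2032]), (2442, [o0, o1307, o254, o535]), (2757, [o0, o521, o3385, o421])], 788⟩]⟩,
  ⟨[(o10, o10), (o0, o0), (o215, o215), (o1965, o421), (o14, o63)], 36, .node 6 37 [⟨o162, [(162, [])], 738⟩,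
      ⟨o1586, [(1586, [])], 747⟩]⟩,
  ⟨[(o10, o10), (o0, o0), (o215, o215), (o1965, o421), (o14, o63), (o256, o162)], 37, .node 2 37 [⟨o85, [(85, [])], 739⟩,
      ⟨o151, [(151, [])], 743⟩]⟩,
  ⟨[(o10, o10), (o0, o0), (o215, o215), (o1965, o421), (o14, o63), (o256, o162), (o12, o85)], 37, .node 4 37 [⟨o98, [(98, [])], 740⟩]⟩,
  ⟨[(o10, o10), (o0, o0), (o215, o215), (o1965, o421), (o14, o63), (o256, o162), (o12, o85), (o154, o98)], 37, .node 7 37 [⟨o87, [(87, [])], 741⟩,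
      ⟨o217, [(217, [])], 742⟩]⟩,
  ⟨[(o10, o10), (o0, o0), (o215, o215), (o1965, o421), (o14, o63), (o256, o162), (o12, o85), (o154, o98), (o243, o87)], 37, .inner [7, 4, 5, 3, 4, 1, 2, 3, 7, 5, 0, 1, 2, 3, 0, 1, 0, 2, 4, 1, 0, 3, 2, 1, 0, 5, 7, 3, 2, 1, 4, 3, 5, 4, 7]⟩,
  ⟨[(o10, o10), (o0, o0), (o215, o215), (o1965, o421), (o14, o63), (o256, o162), (o12, o85), (o154, o98), (o243, o217)], 37, .bad [7, 6] 85 162⟩,
  ⟨[(o10, o10), (o0, o0), (o215, o215), (o1965, o421), (o14, o63), (o256, o162), (o12, o151)], 37, .node 4 37 [⟨o7, [(7, [])], 744⟩]⟩,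
  ⟨[(o10, o10), (o0, o0), (o215, o215), (o1965, o421), (o14, o63), (o256, o162), (o12, o151), (o154, o7)], 37, .node 7 37 [⟨o88, [(88, [])], 745⟩,
      ⟨o220, [(220, [])], 746⟩]⟩,
  ⟨[(o10, o10), (o0, o0), (o215, o215), (o1965, o421), (o14, o63), (o256, o162), (o12, o151), (o154, o7), (o243, o88)], 37, .inner [4, 2, 3, 7, 1, 2, 3, 4, 0, 1, 2, 3, 7, 0, 1, 2, 3, 4, 5, 4, 3, 1, 0, 2, 4, 1, 3, 4, 5, 4, 3, 2, 1, 0, 7, 3, 2, 1, 0, 4, 3, 2, 1, 7, 3, 2, 4]⟩,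
  ⟨[(o10, o10), (o0, o0), (o215, o215), (o1965, o421), (o14, o63), (o256, o162), (o12, o151), (o154, o7), (o243, o220)], 37, .bad [7, 4, 2] 10 7⟩,
  ⟨[(o10, o10), (o0, o0), (o215, o215), (o1965, o421), (o14, o63), (o256, o1586)], 37, .node 2 37 [⟨o85, [(85, [])], 748⟩,
      ⟨o151, [(151, [])], 752⟩]⟩,
  ⟨[(o10, o10), (o0, o0), (o215, o215), (o1965, o421), (o14, o63), (o256, o1586), (o12, o85)], 37, .node 4 37 [⟨o97, [(97, [])], 749⟩]⟩,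
  ⟨[(o10, o10), (o0, o0), (o215, o215), (o1965, o421), (o14, o63), (o256, o1586), (o12, o85), (o154, o97)], 37, .node 7 37 [⟨o87, [(87, [])], 750⟩,
      ⟨o217, [(217, [])], 751⟩]⟩,
  ⟨[(o10, o10), (o0, o0), (o215, o215), (o1965, o421), (o14, o63), (o256, o1586), (o12, o85), (o154, o97), (o243, o87)], 37, .inner [7, 4, 5, 3, 4, 1, 2, 3, 7, 5, 3, 4, 2, 3, 0, 1, 0, 2, 1, 0, 3, 2, 4, 3, 5, 7, 3, 2, 1, 4, 3, 5, 4, 7]⟩,
  ⟨[(o10, o10), (o0, o0), (o215, o215), (o1965, o421), (o14, o63), (o256, o1586), (o12, o85), (o154, o97), (o243, o217)], 37, .bad [6, 3] 217 97⟩,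
  ⟨[(o10, o10), (o0, o0), (o215, o215), (o1965, o421), (o14, o63), (o256, o1586), (o12, o151)], 37, .node 4 37 [⟨o65, [(65, [])], 753⟩]⟩,
  ⟨[(o10, o10), (o0, o0), (o215, o215), (o1965, o421), (o14, o63), (o256, o1586), (o12, o151), (o154, o65)], 37, .node 7 37 [⟨o88, [(88, [])], 754⟩,
      ⟨o220, [(220, [])], 755⟩]⟩,
  ⟨[(o10, o10), (o0, o0), (o215, o215), (o1965, o421), (o14, o63), (o256, o1586), (o12, o151), (o154, o65), (o243, o88)], 37, .inner [8, 2, 3, 7, 4, 5, 3, 4, 2, 3, 7, 8, 3, 4, 1, 2, 3, 7, 0, 1, 2, 3, 0, 1, 0, 2, 4, 1, 0, 3, 2, 1, 0, 7, 3, 2, 1, 4, 3, 8, 7, 3, 2, 4, 3, 5, 4, 7, 3, 2, 8]⟩,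
  ⟨[(o10, o10), (o0, o0), (o215, o215), (o1965, o421), (o14, o63), (o256, o1586), (o12, o151), (o154, o65), (o243, o220)], 37, .bad [6, 3] 220 65⟩,
  ⟨[(o10, o10), (o0, o0), (o215, o215), (o1965, o421), (o14, o70)], 36, .node 6 37 [⟨o162, [(162, [])], 757⟩,
      ⟨o1586, [(1586, [])], 766⟩]⟩,
  ⟨[(o10, o10), (o0, o0), (o215, o215), (o1965, o421), (o14, o70), (o256, o162)], 37, .node 2 37 [⟨o85, [(85, [])], 758⟩,
      ⟨o151, [(151, [])], 762⟩]⟩,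
  ⟨[(o10, o10), (o0, o0), (o215, o215), (o1965, o421), (o14, o70), (o256, o162), (o12, o85)], 37, .node 4 37 [⟨o98, [(98, [])], 759⟩]⟩,
  ⟨[(o10, o10), (o0, o0), (o215, o215), (o1965, o421), (o14, o70), (o256, o162), (o12, o85), (o154, o98)], 37, .node 7 37 [⟨o87, [(87, [])], 760⟩,
      ⟨o217, [(217, [])], 761⟩]⟩,
  ⟨[(o10, o10), (o0, o0), (o215, o215), (o1965, o421), (o14, o70), (o256, o162), (o12, o85), (o154, o98), (o243, o87)], 37, .inner [2, 3, 4, 1, 2, 3, 7, 5, 4, 3, 0, 1, 0, 2, 4, 1, 0, 3, 4, 5, 7, 3, 2, 1, 4, 3, 2]⟩,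
  ⟨[(o10, o10), (o0, o0), (o215, o215), (o1965, o421), (o14, o70), (o256, o162), (o12, o85), (o154, o98), (o243, o217)], 37, .bad [7, 6] 85 162⟩,
  ⟨[(o10, o10), (o0, o0), (o215, o215), (o1965, o421), (o14, o70), (o256, o162), (o12, o151)], 37, .node 4 37 [⟨o7, [(7, [])], 763⟩]⟩,
  ⟨[(o10, o10), (o0, o0), (o215, o215), (o1965, o421), (o14, o70), (o256, o162), (o12, o151), (o154, o7)], 37, .node 7 37 [⟨o88, [(88, [])], 764⟩,
      ⟨o220, [(220, [])], 765⟩]⟩,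
  ⟨[(o10, o10), (o0, o0), (o215, o215), (o1965, o421), (o14, o70), (o256, o162), (o12, o151), (o154, o7), (o243, o88)], 37, .inner [2, 3, 4, 1, 2, 3, 7, 5, 2, 3, 4, 1, 2, 3, 0, 1, 0, 2, 1, 0, 3, 2, 1, 4, 3, 2, 5, 7, 3, 2, 1, 4, 3, 2]⟩,
  ⟨[(o10, o10), (o0, o0), (o215, o215), (o1965, o421), (o14, o70), (o256, o162), (o12, o151), (o154, o7), (o243, o220)], 37, .bad [7, 1, 2] 10 70⟩,
  ⟨[(o10, o10), (o0, o0), (o215, o215), (o1965, o421), (o14, o70), (o256, o1586)], 37, .node 2 37 [⟨o85, [(85, [])], 767⟩,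
      ⟨o151, [(151, [])], 771⟩]⟩,
  ⟨[(o10, o10), (o0, o0), (o215, o215), (o1965, o421), (o14, o70), (o256, o1586), (o12, o85)], 37, .node 4 37 [⟨o97, [(97, [])], 768⟩]⟩]

/-- Nodes. -/
def nd6 : List ONode := [
  ⟨[(o10, o10), (o0, o0), (o215, o215), (o1965, o421), (o14, o70), (o256, o1586), (o12, o85), (o154, o97)], 37, .node 7 37 [⟨o87, [(87, [])], 769⟩,
      ⟨o217, [(217, [])], 770⟩]⟩,
  ⟨[(o10, o10), (o0, o0), (o215, o215), (o1965, o421), (o14, o70), (o256, o1586), (o12, o85), (o154, o97), (o243, o87)], 37, .inner [4, 3, 7, 5, 1, 2, 3, 4, 0, 1, 2, 3, 7, 2, 3, 4, 5, 4, 3, 1, 0, 2, 4, 1, 3, 4, 5, 4, 3, 2, 7, 3, 2, 1, 0, 4, 3, 2, 1, 5, 7, 3, 4]⟩,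
  ⟨[(o10, o10), (o0, o0), (o215, o215), (o1965, o421), (o14, o70), (o256, o1586), (o12, o85), (o154, o97), (o243, o217)], 37, .bad [6, 3] 217 97⟩,
  ⟨[(o10, o10), (o0, o0), (o215, o215), (o1965, o421), (o14, o70), (o256, o1586), (o12, o151)], 37, .node 4 37 [⟨o65, [(65, [])], 772⟩]⟩,
  ⟨[(o10, o10), (o0, o0), (o215, o215), (o1965, o421), (o14, o70), (o256, o1586), (o12, o151), (o154, o65)], 37, .node 7 37 [⟨o88, [(88, [])], 773⟩,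
      ⟨o220, [(220, [])], 774⟩]⟩,
  ⟨[(o10, o10), (o0, o0), (o215, o215), (o1965, o421), (o14, o70), (o256, o1586), (o12, o151), (o154, o65), (o243, o88)], 37, .inner [1, 2, 3, 7, 4, 5, 3, 4, 1, 2, 3, 7, 1, 2, 3, 4, 5, 3, 0, 1, 0, 2, 4, 1, 0, 3, 5, 4, 3, 2, 1, 7, 3, 2, 1, 4, 3, 5, 4, 7, 3, 2, 1]⟩,
  ⟨[(o10, o10), (o0, o0), (o215, o215), (o1965, o421), (o14, o70), (o256, o1586), (o12, o151), (o154, o65), (o243, o220)], 37, .bad [6, 3] 220 65⟩,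
  ⟨[(o10, o10), (o0, o0), (o215, o215), (o1965, o421), (o14, o171)], 36, .node 7 38 [⟨o9, [(9, [])], 776⟩,
      ⟨o243, [(243, [])], 779⟩,
      ⟨o323, [(323, [])], 782⟩,
      ⟨o513, [(513, [])], 785⟩]⟩,
  ⟨[(o10, o10), (o0, o0), (o215, o215), (o1965, o421), (o14, o171), (o243, o9)], 38, .node 6 38 [⟨o459, [(459, [])], 777⟩,
      ⟨o460, [(460, [])], 778⟩]⟩,
  ⟨[(o10, o10), (o0, o0), (o215, o215), (o1965, o421), (o14, o171), (o243, o9), (o256, o459)], 38, .node 2 38 []⟩,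
  ⟨[(o10, o10), (o0, o0), (o215, o215), (o1965, o421), (o14, o171), (o243, o9), (o256, o460)], 38, .node 2 38 []⟩,
  ⟨[(o10, o10), (o0, o0), (o215, o215), (o1965, o421), (o14, o171), (o243, o243)], 38, .node 6 38 [⟨o459, [(459, [])], 780⟩,
      ⟨o460, [(460, [])], 781⟩]⟩,
  ⟨[(o10, o10), (o0, o0), (o215, o215), (o1965, o421), (o14, o171), (o243, o243), (o256, o459)], 38, .node 2 38 []⟩,
  ⟨[(o10, o10), (o0, o0), (o215, o215), (o1965, o421), (o14, o171), (o243, o243), (o256, o460)], 38, .node 2 38 []⟩,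
  ⟨[(o10, o10), (o0, o0), (o215, o215), (o1965, o421), (o14, o171), (o243, o323)], 38, .node 4 38 [⟨o604, [(604, [])], 783⟩,
      ⟨o731, [(731, [])], 784⟩]⟩,
  ⟨[(o10, o10), (o0, o0), (o215, o215), (o1965, o421), (o14, o171), (o243, o323), (o154, o604)], 38, .node 6 38 []⟩,
  ⟨[(o10, o10), (o0, o0), (o215, o215), (o1965, o421), (o14, o171), (o243, o323), (o154, o731)], 38, .node 6 38 []⟩,
  ⟨[(o10, o10), (o0, o0), (o215, o215), (o1965, o421), (o14, o171), (o243, o513)], 38, .node 2 38 [⟨o23, [(23, [])], 786⟩,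
      ⟨o1415, [(1415, [])], 787⟩]⟩,
  ⟨[(o10, o10), (o0, o0), (o215, o215), (o1965, o421), (o14, o171), (o243, o513), (o12, o23)], 38, .node 4 38 []⟩,
  ⟨[(o10, o10), (o0, o0), (o215, o215), (o1965, o421), (o14, o171), (o243, o513), (o12, o1415)], 38, .node 6 38 []⟩,
  ⟨[(o10, o10), (o0, o0), (o215, o215), (o1965, o421), (o14, o270)], 36, .node 7 38 [⟨o9, [(9, [])], 789⟩,
      ⟨o243, [(243, [])], 792⟩,
      ⟨o323, [(323, [])], 795⟩,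
      ⟨o513, [(513, [])], 798⟩]⟩,
  ⟨[(o10, o10), (o0, o0), (o215, o215), (o1965, o421), (o14, o270), (o243, o9)], 38, .node 6 38 [⟨o459, [(459, [])], 790⟩,
      ⟨o460, [(460, [])], 791⟩]⟩,
  ⟨[(o10, o10), (o0, o0), (o215, o215), (o1965, o421), (o14, o270), (o243, o9), (o256, o459)], 38, .node 2 38 []⟩,
  ⟨[(o10, o10), (o0, o0), (o215, o215), (o1965, o421), (o14, o270), (o243, o9), (o256, o460)], 38, .node 2 38 []⟩,
  ⟨[(o10, o10), (o0, o0), (o215, o215), (o1965, o421), (o14, o270), (o243, o243)], 38, .node 6 38 [⟨o459, [(459, [])], 793⟩,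
      ⟨o460, [(460, [])], 794⟩]⟩,
  ⟨[(o10, o10), (o0, o0), (o215, o215), (o1965, o421), (o14, o270), (o243, o243), (o256, o459)], 38, .node 2 38 []⟩,
  ⟨[(o10, o10), (o0, o0), (o215, o215), (o1965, o421), (o14, o270), (o243, o243), (o256, o460)], 38, .node 2 38 []⟩,
  ⟨[(o10, o10), (o0, o0), (o215, o215), (o1965, o421), (o14, o270), (o243, o323)], 38, .node 4 38 [⟨o604, [(604, [])], 796⟩,
      ⟨o731, [(731, [])], 797⟩]⟩,
  ⟨[(o10, o10), (o0, o0), (o215, o215), (o1965, o421), (o14, o270), (o243, o323), (o154, o604)], 38, .node 6 38 []⟩,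
  ⟨[(o10, o10), (o0, o0), (o215, o215), (o1965, o421), (o14, o270), (o243, o323), (o154, o731)], 38, .node 6 38 []⟩,
  ⟨[(o10, o10), (o0, o0), (o215, o215), (o1965, o421), (o14, o270), (o243, o513)], 38, .node 2 38 [⟨o23, [(23, [])], 799⟩,
      ⟨o1415, [(1415, [])], 800⟩]⟩,
  ⟨[(o10, o10), (o0, o0), (o215, o215), (o1965, o421), (o14, o270), (o243, o513), (o12, o23)], 38, .node 4 38 []⟩,
  ⟨[(o10, o10), (o0, o0), (o215, o215), (o1965, o421), (o14, o270), (o243, o513), (o12, o1415)], 38, .node 6 38 []⟩,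
  ⟨[(o10, o10), (o0, o0), (o215, o215), (o1965, o521)], 30, .node 1 39 [⟨o63, [(63, []), (104, [o1965]), (246, [o421, o254, o2032, o0]), (426, [o1981]), (795, [o562]), (2050, [o1567]), (3225, [o517, o2385, o3385, o0]), (3474, [o254, o517, o2184, o0])], 802⟩,
      ⟨o70, [(70, []), (193, [o421, o254, o2032, o0]), (202, [o1965]), (368, [o1981]), (1160, [o562]), (1548, [o1567]), (3002, [o254, o517, o2184, o0]), (3041, [o517, o2385, o3385, o0])], 817⟩,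
      ⟨o171, [(171, []), (305, [o1965]), (715, [o517, o2385, o3385, o0]), (1254, [o562]), (2009, [o1567]), (2639, [o421, o254, o2032, o0]), (2651, [o1981]), (2748, [o254, o517, o2184, o0])], 832⟩,
      ⟨o270, [(270, []), (283, [o1965]), (1074, [o1981]), (1180, [o562]), (1393, [o1567]), (2040, [o421, o254, o2032, o0]), (2442, [o517, o2385, o3385, o0]), (2757, [o254, o517, o2184, o0])], 839⟩]⟩,
  ⟨[(o10, o10), (o0, o0), (o215, o215), (o1965, o521), (o14, o63)], 39, .node 6 40 [⟨o152, [(152, [])], 803⟩,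
      ⟨o153, [(153, [])], 810⟩]⟩,
  ⟨[(o10, o10), (o0, o0), (o215, o215), (o1965, o521), (o14, o63), (o256, o152)], 40, .node 2 40 [⟨o9, [(9, [])], 804⟩,
      ⟨o243, [(243, [])], 807⟩]⟩,
  ⟨[(o10, o10), (o0, o0), (o215, o215), (o1965, o521), (o14, o63), (o256, o152), (o12, o9)], 40, .node 4 40 [⟨o163, [(163, [])], 805⟩]⟩,
  ⟨[(o10, o10), (o0, o0), (o215, o215), (o1965, o521), (o14, o63), (o256, o152), (o12, o9), (o154, o163)], 40, .node 7 40 [⟨o11, [(11, [])], 806⟩]⟩,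
  ⟨[(o10, o10), (o0, o0), (o215, o215), (o1965, o521), (o14, o63), (o256, o152), (o12, o9), (o154, o163), (o243, o11)], 40, .inner [4, 2, 3, 7, 1, 2, 3, 4, 0, 1, 2, 3, 7, 6, 2, 3, 4, 5, 4, 3, 0, 1, 0, 2, 4, 1, 0, 3, 4, 5, 4, 3, 2, 6, 7, 3, 2, 1, 0, 4, 3, 2, 1, 7, 3, 2, 4]⟩,
  ⟨[(o10, o10), (o0, o0), (o215, o215), (o1965, o521), (o14, o63), (o256, o152), (o12, o243)], 40, .node 4 40 [⟨o164, [(164, [])], 808⟩]⟩,
  ⟨[(o10, o10), (o0, o0), (o215, o215), (o1965, o521), (o14, o63), (o256, o152), (o12, o243), (o154, o164)], 40, .node 7 40 [⟨o12, [(12, [])], 809⟩]⟩,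
  ⟨[(o10, o10), (o0, o0), (o215, o215), (o1965, o521), (o14, o63), (o256, o152), (o12, o243), (o154, o164), (o243, o12)], 40, .inner [6, 5, 4, 1, 2, 3, 7, 4, 2, 3, 0, 1, 0, 2, 4, 1, 0, 3, 2, 4, 7, 3, 2, 1, 4, 5, 6]⟩,
  ⟨[(o10, o10), (o0, o0), (o215, o215), (o1965, o521), (o14, o63), (o256, o153)], 40, .node 2 40 [⟨o9, [(9, [])], 811⟩,
      ⟨o243, [(243, [])], 814⟩]⟩,
  ⟨[(o10, o10), (o0, o0), (o215, o215), (o1965, o521), (o14, o63), (o256, o153), (o12, o9)], 40, .node 4 40 [⟨o195, [(195, [])], 812⟩]⟩,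
  ⟨[(o10, o10), (o0, o0), (o215, o215), (o1965, o521), (o14, o63), (o256, o153), (o12, o9), (o154, o195)], 40, .node 7 40 [⟨o11, [(11, [])], 813⟩]⟩,
  ⟨[(o10, o10), (o0, o0), (o215, o215), (o1965, o521), (o14, o63), (o256, o153), (o12, o9), (o154, o195), (o243, o11)], 40, .inner [6, 5, 8, 7, 3, 2, 1, 0, 4, 3, 2, 5, 4, 7, 8, 3, 7, 6, 4, 5, 2, 3, 4, 1, 2, 3, 7, 5, 6, 0, 1, 2, 3, 4, 5, 1, 2, 3, 0, 1, 0, 2, 4, 1, 0, 3, 2, 1, 5, 4, 3, 2, 1, 0, 6, 5, 7, 3, 2, 1, 4, 3, 2, 5, 4, 6, 7, 3, 8, 7, 4, 5, 2, 3, 4, 0, 1, 2, 3, 7, 8, 5, 6]⟩,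
  ⟨[(o10, o10), (o0, o0), (o215, o215), (o1965, o521), (o14, o63), (o256, o153), (o12, o243)], 40, .node 4 40 [⟨o194, [(194, [])], 815⟩]⟩,
  ⟨[(o10, o10), (o0, o0), (o215, o215), (o1965, o521), (o14, o63), (o256, o153), (o12, o243), (o154, o194)], 40, .node 7 40 [⟨o12, [(12, [])], 816⟩]⟩,
  ⟨[(o10, o10), (o0, o0), (o215, o215), (o1965, o521), (o14, o63), (o256, o153), (o12, o243), (o154, o194), (o243, o12)], 40, .inner [6, 8, 7, 5, 3, 4, 2, 3, 7, 8, 5, 4, 3, 7, 6, 5, 1, 2, 3, 4, 0, 1, 2, 3, 7, 5, 6, 4, 5, 3, 4, 0, 1, 2, 3, 1, 0, 2, 1, 3, 2, 1, 0, 4, 3, 5, 4, 6, 5, 7, 3, 2, 1, 0, 4, 3, 2, 1, 5, 6, 7, 3, 4, 5, 8, 7, 3, 2, 4, 3, 5, 7, 8, 6]⟩,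
  ⟨[(o10, o10), (o0, o0), (o215, o215), (o1965, o521), (o14, o70)], 39, .node 6 40 [⟨o152, [(152, [])], 818⟩,
      ⟨o153, [(153, [])], 825⟩]⟩,
  ⟨[(o10, o10), (o0, o0), (o215, o215), (o1965, o521), (o14, o70), (o256, o152)], 40, .node 2 40 [⟨o9, [(9, [])], 819⟩,
      ⟨o243, [(243, [])], 822⟩]⟩,
  ⟨[(o10, o10), (o0, o0), (o215, o215), (o1965, o521), (o14, o70), (o256, o152), (o12, o9)], 40, .node 4 40 [⟨o163, [(163, [])], 820⟩]⟩,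
  ⟨[(o10, o10), (o0, o0), (o215, o215), (o1965, o521), (o14, o70), (o256, o152), (o12, o9), (o154, o163)], 40, .node 7 40 [⟨o11, [(11, [])], 821⟩]⟩,
  ⟨[(o10, o10), (o0, o0), (o215, o215), (o1965, o521), (o14, o70), (o256, o152), (o12, o9), (o154, o163), (o243, o11)], 40, .inner [4, 3, 7, 2, 3, 4, 1, 2, 3, 7, 6, 5, 3, 4, 2, 3, 0, 1, 0, 2, 1, 0, 3, 2, 4, 3, 5, 6, 7, 3, 2, 1, 4, 3, 2, 7, 3, 4]⟩,
  ⟨[(o10, o10), (o0, o0), (o215, o215), (o1965, o521), (o14, o70), (o256, o152), (o12, o243)], 40, .node 4 40 [⟨o164, [(164, [])], 823⟩]⟩,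
  ⟨[(o10, o10), (o0, o0), (o215, o215), (o1965, o521), (o14, o70), (o256, o152), (o12, o243), (o154, o164)], 40, .node 7 40 [⟨o12, [(12, [])], 824⟩]⟩,
  ⟨[(o10, o10), (o0, o0), (o215, o215), (o1965, o521), (o14, o70), (o256, o152), (o12, o243), (o154, o164), (o243, o12)], 40, .inner [4, 3, 7, 2, 3, 4, 1, 2, 3, 7, 6, 5, 0, 1, 2, 3, 0, 1, 0, 2, 4, 1, 0, 3, 2, 1, 0, 5, 6, 7, 3, 2, 1, 4, 3, 2, 7, 3, 4]⟩,
  ⟨[(o10, o10), (o0, o0), (o215, o215), (o1965, o521), (o14, o70), (o256, o153)], 40, .node 2 40 [⟨o9, [(9, [])], 826⟩,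
      ⟨o243, [(243, [])], 829⟩]⟩,
  ⟨[(o10, o10), (o0, o0), (o215, o215), (o1965, o521), (o14, o70), (o256, o153), (o12, o9)], 40, .node 4 40 [⟨o195, [(195, [])], 827⟩]⟩,
  ⟨[(o10, o10), (o0, o0), (o215, o215), (o1965, o521), (o14, o70), (o256, o153), (o12, o9), (o154, o195)], 40, .node 7 40 [⟨o11, [(11, [])], 828⟩]⟩,
  ⟨[(o10, o10), (o0, o0), (o215, o215), (o1965, o521), (o14, o70), (o256, o153), (o12, o9), (o154, o195), (o243, o11)], 40, .inner [8, 7, 6, 5, 3, 4, 2, 3, 7, 8, 4, 1, 2, 3, 7, 3, 4, 5, 6, 1, 2, 3, 4, 5, 0, 1, 0, 2, 4, 1, 0, 5, 4, 3, 2, 1, 6, 5, 4, 3, 7, 3, 2, 1, 4, 8, 7, 3, 2, 4, 3, 5, 6, 7, 8]⟩,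
  ⟨[(o10, o10), (o0, o0), (o215, o215), (o1965, o521), (o14, o70), (o256, o153), (o12, o243)], 40, .node 4 40 [⟨o194, [(194, [])], 830⟩]⟩,
  ⟨[(o10, o10), (o0, o0), (o215, o215), (o1965, o521), (o14, o70), (o256, o153), (o12, o243), (o154, o194)], 40, .node 7 40 [⟨o12, [(12, [])], 831⟩]⟩,
  ⟨[(o10, o10), (o0, o0), (o215, o215), (o1965, o521), (o14, o70), (o256, o153), (o12, o243), (o154, o194), (o243, o12)], 40, .inner [4, 3, 2, 6, 7, 3, 4, 5, 8, 7, 3, 2, 4, 3, 7, 8, 5, 4, 3, 7, 6, 5, 1, 2, 3, 4, 0, 1, 2, 3, 7, 5, 6, 4, 5, 2, 3, 1, 0, 2, 4, 1, 3, 2, 5, 4, 6, 5, 7, 3, 2, 1, 0, 4, 3, 2, 1, 5, 6, 7, 3, 4, 5, 8, 7, 3, 4, 2, 3, 7, 8, 5, 4, 3, 7, 6, 2, 3, 4]⟩,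
  ⟨[(o10, o10), (o0, o0), (o215, o215), (o1965, o521), (o14, o171)], 39, .node 7 41 [⟨o189, [(189, [])], 833⟩,
      ⟨o190, [(190, [])], 836⟩]⟩,
  ⟨[(o10, o10), (o0, o0), (o215, o215), (o1965, o521), (o14, o171), (o243, o189)], 41, .node 2 41 [⟨o185, [(185, [])], 834⟩,
      ⟨o534, [(534, [])], 835⟩]⟩,
  ⟨[(o10, o10), (o0, o0), (o215, o215), (o1965, o521), (o14, o171), (o243, o189), (o12, o185)], 41, .node 6 41 []⟩,
  ⟨[(o10, o10), (o0, o0), (o215, o215), (o1965, o521), (o14, o171), (o243, o189), (o12, o534)], 41, .node 4 41 []⟩,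
  ⟨[(o10, o10), (o0, o0), (o215, o215), (o1965, o521), (o14, o171), (o243, o190)], 41, .node 2 41 [⟨o26, [(26, [])], 837⟩,
      ⟨o611, [(611, [])], 838⟩]⟩,
  ⟨[(o10, o10), (o0, o0), (o215, o215), (o1965, o521), (o14, o171), (o243, o190), (o12, o26)], 41, .node 4 41 []⟩,
  ⟨[(o10, o10), (o0, o0), (o215, o215), (o1965, o521), (o14, o171), (o243, o190), (o12, o611)], 41, .node 4 41 []⟩,
  ⟨[(o10, o10), (o0, o0), (o215, o215), (o1965, o521), (o14, o270)], 39, .node 7 41 [⟨o189, [(189, [])], 840⟩,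
      ⟨o190, [(190, [])], 843⟩]⟩,
  ⟨[(o10, o10), (o0, o0), (o215, o215), (o1965, o521), (o14, o270), (o243, o189)], 41, .node 2 41 [⟨o185, [(185, [])], 841⟩,
      ⟨o534, [(534, [])], 842⟩]⟩,
  ⟨[(o10, o10), (o0, o0), (o215, o215), (o1965, o521), (o14, o270), (o243, o189), (o12, o185)], 41, .node 6 41 []⟩,
  ⟨[(o10, o10), (o0, o0), (o215, o215), (o1965, o521), (o14, o270), (o243, o189), (o12, o534)], 41, .node 4 41 []⟩,
  ⟨[(o10, o10), (o0, o0), (o215, o215), (o1965, o521), (o14, o270), (o243, o190)], 41, .node 2 41 [⟨o26, [(26, [])], 844⟩,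
      ⟨o611, [(611, [])], 845⟩]⟩,
  ⟨[(o10, o10), (o0, o0), (o215, o215), (o1965, o521), (o14, o270), (o243, o190), (o12, o26)], 41, .node 4 41 []⟩,
  ⟨[(o10, o10), (o0, o0), (o215, o215), (o1965, o521), (o14, o270), (o243, o190), (o12, o611)], 41, .node 4 41 []⟩,
  ⟨[(o10, o10), (o0, o0), (o215, o215), (o1965, o562)], 30, .node 2 42 [⟨o21, [(21, []), (88, [o1965]), (1674, [o535, o254, o2032, o10]), (1758, [o10, o3466, o1567, o421]), (1766, [o2184]), (2142, [o10, o1981, o3385, o1307]), (2815, [o2549]), (2976, [o2156])], 847⟩,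
      ⟨o22, [(22, []), (87, [o1965]), (629, [o535, o254, o2032, o10]), (707, [o10, o1981, o3385, o1307]), (1759, [o10, o3466, o1567, o421]), (1765, [o2184]), (2814, [o2549]), (2975, [o2156])], 878⟩,
      ⟨o323, [(323, []), (382, [o1965]), (531, [o10, o3466, o1567, o421]), (587, [o2549]), (1301, [o535, o254, o2032, o10]), (1462, [o10, o1981, o3385, o1307]), (1989, [o2156]), (2024, [o2184])], 909⟩,
      ⟨o383, [(383, []), (513, [o1965]), (530, [o2549]), (588, [o10, o3466, o1567, o421]), (666, [o2184]), (870, [o10, o1981, o3385, o1307]), (1461, [o2156]), (2722, [o535, o254, o2032, o10])], 926⟩]⟩,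
  ⟨[(o10, o10), (o0, o0), (o215, o215), (o1965, o562), (o12, o21)], 42, .node 6 43 [⟨o221, [(221, [])], 848⟩,
      ⟨o245, [(245, [])], 854⟩,
      ⟨o337, [(337, [])], 859⟩,
      ⟨o1445, [(1445, [])], 862⟩,
      ⟨o2269, [(2269, [])], 864⟩,
      ⟨o2270, [(2270, [])], 871⟩]⟩,
  ⟨[(o10, o10), (o0, o0), (o215, o215), (o1965, o562), (o12, o21), (o256, o221)], 43, .node 7 43 [⟨o529, [(529, [])], 849⟩]⟩,
  ⟨[(o10, o10), (o0, o0), (o215, o215), (o1965, o562), (o12, o21), (o256, o221), (o243, o529)], 43, .node 1 43 [⟨o1, [(1, [])], 850⟩,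
      ⟨o14, [(14, [])], 852⟩]⟩,
  ⟨[(o10, o10), (o0, o0), (o215, o215), (o1965, o562), (o12, o21), (o256, o221), (o243, o529), (o14, o1)], 43, .node 4 43 [⟨o818, [(818, [])], 851⟩]⟩,
  ⟨[(o10, o10), (o0, o0), (o215, o215), (o1965, o562), (o12, o21), (o256, o221), (o243, o529), (o14, o1), (o154, o818)], 43, .inner [8, 4, 1, 2, 3, 7, 5, 6, 4, 5, 2, 3, 4, 1, 2, 3, 7, 1, 2, 3, 4, 5, 2, 3, 1, 0, 2, 4, 1, 3, 2, 5, 4, 3, 2, 1, 7, 3, 2, 1, 4, 3, 2, 5, 4, 6, 5, 7, 3, 2, 1, 4, 8]⟩,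
  ⟨[(o10, o10), (o0, o0), (o215, o215), (o1965, o562), (o12, o21), (o256, o221), (o243, o529), (o14, o14)], 43, .node 4 43 [⟨o818, [(818, [])], 853⟩]⟩,
  ⟨[(o10, o10), (o0, o0), (o215, o215), (o1965, o562), (o12, o21), (o256, o221), (o243, o529), (o14, o14), (o154, o818)], 43, .inner [4, 3, 7, 5, 6, 4, 5, 3, 4, 2, 3, 7, 8, 1, 2, 3, 7, 0, 1, 2, 3, 0, 1, 0, 2, 4, 1, 0, 3, 2, 1, 0, 7, 3, 2, 1, 8, 7, 3, 2, 4, 3, 5, 4, 6, 5, 7, 3, 4]⟩,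
  ⟨[(o10, o10), (o0, o0), (o215, o215), (o1965, o562), (o12, o21), (o256, o245)], 43, .node 7 43 [⟨o529, [(529, [])], 855⟩]⟩,
  ⟨[(o10, o10), (o0, o0), (o215, o215), (o1965, o562), (o12, o21), (o256, o245), (o243, o529)], 43, .node 4 43 [⟨o527, [(527, [])], 856⟩]⟩,
  ⟨[(o10, o10), (o0, o0), (o215, o215), (o1965, o562), (o12, o21), (o256, o245), (o243, o529), (o154, o527)], 43, .node 1 43 [⟨o1, [(1, [])], 857⟩,
      ⟨o14, [(14, [])], 858⟩]⟩,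
  ⟨[(o10, o10), (o0, o0), (o215, o215), (o1965, o562), (o12, o21), (o256, o245), (o243, o529), (o154, o527), (o14, o1)], 43, .inner [8, 7, 6, 4, 5, 1, 2, 3, 4, 0, 1, 2, 3, 7, 6, 2, 3, 4, 5, 4, 3, 0, 1, 0, 2, 4, 1, 0, 3, 4, 5, 4, 3, 2, 6, 7, 3, 2, 1, 0, 4, 3, 2, 1, 5, 4, 6, 7, 8]⟩,
  ⟨[(o10, o10), (o0, o0), (o215, o215), (o1965, o562), (o12, o21), (o256, o245), (o243, o529), (o154, o527), (o14, o14)], 43, .inner [8, 7, 6, 4, 5, 2, 3, 4, 1, 2, 3, 7, 6, 5, 4, 2, 3, 0, 1, 0, 2, 1, 0, 3, 2, 4, 5, 6, 7, 3, 2, 1, 4, 3, 2, 5, 4, 6, 7, 8]⟩,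
  ⟨[(o10, o10), (o0, o0), (o215, o215), (o1965, o562), (o12, o21), (o256, o337)], 43, .node 1 43 [⟨o536, [(536, [])], 860⟩,
      ⟨o2705, [(2705, [])], 861⟩]⟩,
  ⟨[(o10, o10), (o0, o0), (o215, o215), (o1965, o562), (o12, o21), (o256, o337), (o14, o536)], 43, .node 4 43 []⟩,
  ⟨[(o10, o10), (o0, o0), (o215, o215), (o1965, o562), (o12, o21), (o256, o337), (o14, o2705)], 43, .node 4 43 []⟩,
  ⟨[(o10, o10), (o0, o0), (o215, o215), (o1965, o562), (o12, o21), (o256, o1445)], 43, .node 4 43 [⟨o773, [(773, [])], 863⟩]⟩,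
  ⟨[(o10, o10), (o0, o0), (o215, o215), (o1965, o562), (o12, o21), (o256, o1445), (o154, o773)], 43, .node 1 43 []⟩,
  ⟨[(o10, o10), (o0, o0), (o215, o215), (o1965, o562), (o12, o21), (o256, o2269)], 43, .node 7 43 [⟨o184, [(184, [])], 865⟩,
      ⟨o492, [(492, [])], 869⟩]⟩,
  ⟨[(o10, o10), (o0, o0), (o215, o215), (o1965, o562), (o12, o21), (o256, o2269), (o243, o184)], 43, .node 4 43 [⟨o1378, [(1378, [])], 866⟩]⟩,
  ⟨[(o10, o10), (o0, o0), (o215, o215), (o1965, o562), (o12, o21), (o256, o2269), (o243, o184), (o154, o1378)], 43, .node 1 43 [⟨o3503, [(3503, [])], 867⟩,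
      ⟨o3506, [(3506, [])], 868⟩]⟩,
  ⟨[(o10, o10), (o0, o0), (o215, o215), (o1965, o562), (o12, o21), (o256, o2269), (o243, o184), (o154, o1378), (o14, o3503)], 43, .conjw 0 [7, 4, 5, 3, 4, 2, 3, 7, 8, 5, 3, 4, 2, 3, 7, 5, 3, 4, 1, 2, 3, 0, 1, 2, 0, 1, 0]⟩,
  ⟨[(o10, o10), (o0, o0), (o215, o215), (o1965, o562), (o12, o21), (o256, o2269), (o243, o184), (o154, o1378), (o14, o3506)], 43, .conjw 1 [4, 3, 7, 5, 3, 4, 2, 3, 7, 8, 5, 4, 2, 3, 7, 5, 3, 4, 1, 2, 3, 0, 1, 2, 0, 1, 0]⟩,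
  ⟨[(o10, o10), (o0, o0), (o215, o215), (o1965, o562), (o12, o21), (o256, o2269), (o243, o492)], 43, .node 4 43 [⟨o1378, [(1378, [])], 870⟩]⟩,
  ⟨[(o10, o10), (o0, o0), (o215, o215), (o1965, o562), (o12, o21), (o256, o2269), (o243, o492), (o154, o1378)], 43, .node 1 43 []⟩,
  ⟨[(o10, o10), (o0, o0), (o215, o215), (o1965, o562), (o12, o21), (o256, o2270)], 43, .node 7 43 [⟨o184, [(184, [])], 872⟩,
      ⟨o492, [(492, [])], 876⟩]⟩,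
  ⟨[(o10, o10), (o0, o0), (o215, o215), (o1965, o562), (o12, o21), (o256, o2270), (o243, o184)], 43, .node 4 43 [⟨o1405, [(1405, [])], 873⟩]⟩,
  ⟨[(o10, o10), (o0, o0), (o215, o215), (o1965, o562), (o12, o21), (o256, o2270), (o243, o184), (o154, o1405)], 43, .node 1 43 [⟨o3503, [(3503, [])], 874⟩,
      ⟨o3506, [(3506, [])], 875⟩]⟩,
  ⟨[(o10, o10), (o0, o0), (o215, o215), (o1965, o562), (o12, o21), (o256, o2270), (o243, o184), (o154, o1405), (o14, o3503)], 43, .conjw 1 [4, 3, 7, 5, 3, 4, 2, 3, 7, 8, 5, 4, 2, 3, 7, 3, 4, 5, 1, 2, 3, 4, 3, 2, 0, 1, 0]⟩,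
  ⟨[(o10, o10), (o0, o0), (o215, o215), (o1965, o562), (o12, o21), (o256, o2270), (o243, o184), (o154, o1405), (o14, o3506)], 43, .conjw 2 [4, 3, 2, 5, 4, 3, 6, 5, 7, 8, 3, 7, 2, 3, 4, 1, 2, 3, 7, 8, 0, 1, 2, 3, 7, 5, 4, 3, 2, 1, 0]⟩,
  ⟨[(o10, o10), (o0, o0), (o215, o215), (o1965, o562), (o12, o21), (o256, o2270), (o243, o492)], 43, .node 4 43 [⟨o1405, [(1405, [])], 877⟩]⟩,
  ⟨[(o10, o10), (o0, o0), (o215, o215), (o1965, o562), (o12, o21), (o256, o2270), (o243, o492), (o154, o1405)], 43, .node 1 43 []⟩,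
  ⟨[(o10, o10), (o0, o0), (o215, o215), (o1965, o562), (o12, o22)], 42, .node 4 44 [⟨o340, [(340, [])], 879⟩,
      ⟨o341, [(341, [])], 888⟩,
      ⟨o526, [(526, [])], 897⟩,
      ⟨o1620, [(1620, [])], 902⟩]⟩,
  ⟨[(o10, o10), (o0, o0), (o215, o215), (o1965, o562), (o12, o22), (o154, o340)], 44, .node 6 44 [⟨o221, [(221, [])], 880⟩,
      ⟨o2270, [(2270, [])], 881⟩]⟩,
  ⟨[(o10, o10), (o0, o0), (o215, o215), (o1965, o562), (o12, o22), (o154, o340), (o256, o221)], 44, .node 1 44 []⟩,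
  ⟨[(o10, o10), (o0, o0), (o215, o215), (o1965, o562), (o12, o22), (o154, o340), (o256, o2270)], 44, .node 1 44 [⟨o3503, [(3503, [])], 882⟩,
      ⟨o3506, [(3506, [])], 885⟩]⟩,
  ⟨[(o10, o10), (o0, o0), (o215, o215), (o1965, o562), (o12, o22), (o154, o340), (o256, o2270), (o14, o3503)], 44, .node 7 44 [⟨o183, [(183, [])], 883⟩,
      ⟨o1363, [(1363, [])], 884⟩]⟩,
  ⟨[(o10, o10), (o0, o0), (o215, o215), (o1965, o562), (o12, o22), (o154, o340), (o256, o2270), (o14, o3503), (o243, o183)], 44, .conjw 2 [4, 3, 2, 5, 7, 3, 4, 2, 3, 7, 8, 5, 4, 2, 3, 7, 3, 4, 5, 1, 2, 3, 4, 2, 0, 1, 0]⟩,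
  ⟨[(o10, o10), (o0, o0), (o215, o215), (o1965, o562), (o12, o22), (o154, o340), (o256, o2270), (o14, o3503), (o243, o1363)], 44, .bad [5, 7, 8, 6] 340 340⟩,
  ⟨[(o10, o10), (o0, o0), (o215, o215), (o1965, o562), (o12, o22), (o154, o340), (o256, o2270), (o14, o3506)], 44, .node 7 44 [⟨o183, [(183, [])], 886⟩,
      ⟨o1363, [(1363, [])], 887⟩]⟩,
  ⟨[(o10, o10), (o0, o0), (o215, o215), (o1965, o562), (o12, o22), (o154, o340), (o256, o2270), (o14, o3506), (o243, o183)], 44, .conjw 1 [2, 4, 3, 5, 4, 6, 5, 4, 7, 3, 2, 4, 3, 5, 4, 8, 7, 3, 4, 2, 3, 7, 8, 1, 2, 3, 7, 5, 6, 4, 5, 3, 4, 2, 3, 7, 3, 4, 0, 1, 2, 1]⟩,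
  ⟨[(o10, o10), (o0, o0), (o215, o215), (o1965, o562), (o12, o22), (o154, o340), (o256, o2270), (o14, o3506), (o243, o1363)], 44, .bad [5, 7, 8, 6] 340 340⟩,
  ⟨[(o10, o10), (o0, o0), (o215, o215), (o1965, o562), (o12, o22), (o154, o341)], 44, .node 6 44 [⟨o337, [(337, [])], 889⟩,
      ⟨o2269, [(2269, [])], 890⟩]⟩,
  ⟨[(o10, o10), (o0, o0), (o215, o215), (o1965, o562), (o12, o22), (o154, o341), (o256, o337)], 44, .node 1 44 []⟩,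
  ⟨[(o10, o10), (o0, o0), (o215, o215), (o1965, o562), (o12, o22), (o154, o341), (o256, o2269)], 44, .node 1 44 [⟨o3503, [(3503, [])], 891⟩,
      ⟨o3506, [(3506, [])], 894⟩]⟩,
  ⟨[(o10, o10), (o0, o0), (o215, o215), (o1965, o562), (o12, o22), (o154, o341), (o256, o2269), (o14, o3503)], 44, .node 7 44 [⟨o183, [(183, [])], 892⟩,
      ⟨o1363, [(1363, [])], 893⟩]⟩,
  ⟨[(o10, o10), (o0, o0), (o215, o215), (o1965, o562), (o12, o22), (o154, o341), (o256, o2269), (o14, o3503), (o243, o183)], 44, .conjw 1 [4, 3, 2, 5, 4, 3, 7, 8, 3, 7, 4, 5, 2, 3, 4, 1, 2, 3, 7, 8, 5, 3, 4, 2, 3, 7, 3, 4, 0, 1, 0]⟩,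
  ⟨[(o10, o10), (o0, o0), (o215, o215), (o1965, o562), (o12, o22), (o154, o341), (o256, o2269), (o14, o3503), (o243, o1363)], 44, .bad [5, 8, 7, 6] 341 341⟩,
  ⟨[(o10, o10), (o0, o0), (o215, o215), (o1965, o562), (o12, o22), (o154, o341), (o256, o2269), (o14, o3506)], 44, .node 7 44 [⟨o183, [(183, [])], 895⟩,
      ⟨o1363, [(1363, [])], 896⟩]⟩,
  ⟨[(o10, o10), (o0, o0), (o215, o215), (o1965, o562), (o12, o22), (o154, o341), (o256, o2269), (o14, o3506), (o243, o183)], 44, .conjw 2 [4, 3, 2, 7, 5, 3, 4, 2, 3, 7, 8, 5, 4, 2, 3, 7, 3, 4, 1, 2, 3, 0, 1, 2, 0, 1, 0]⟩]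

/-- Nodes. -/
def nd7 : List ONode := [
  ⟨[(o10, o10), (o0, o0), (o215, o215), (o1965, o562), (o12, o22), (o154, o341), (o256, o2269), (o14, o3506), (o243, o1363)], 44, .bad [5, 8, 7, 6] 341 341⟩,
  ⟨[(o10, o10), (o0, o0), (o215, o215), (o1965, o562), (o12, o22), (o154, o526)], 44, .node 6 44 [⟨o245, [(245, [])], 898⟩]⟩,
  ⟨[(o10, o10), (o0, o0), (o215, o215), (o1965, o562), (o12, o22), (o154, o526), (o256, o245)], 44, .node 7 44 [⟨o1297, [(1297, [])], 899⟩]⟩,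
  ⟨[(o10, o10), (o0, o0), (o215, o215), (o1965, o562), (o12, o22), (o154, o526), (o256, o245), (o243, o1297)], 44, .node 1 44 [⟨o1, [(1, [])], 900⟩,
      ⟨o14, [(14, [])], 901⟩]⟩,
  ⟨[(o10, o10), (o0, o0), (o215, o215), (o1965, o562), (o12, o22), (o154, o526), (o256, o245), (o243, o1297), (o14, o1)], 44, .inner [2, 1, 0, 3, 4, 3, 2, 1, 0, 5, 4, 3, 2, 1, 7, 3, 4, 2, 3, 7, 8, 1, 2, 3, 7, 5, 6, 4, 5, 3, 4, 0, 1, 2, 3, 7, 4, 5, 1, 2, 3, 0, 1, 0, 2, 4, 1, 0, 3, 2, 1, 5, 4, 7, 3, 2, 1, 0, 4, 3, 5, 4, 6, 5, 7, 3, 2, 1, 8, 7, 3, 2, 4, 3, 7, 1, 2, 3, 4, 5, 0, 1, 2, 3, 4, 3, 0, 1, 2]⟩,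
  ⟨[(o10, o10), (o0, o0), (o215, o215), (o1965, o562), (o12, o22), (o154, o526), (o256, o245), (o243, o1297), (o14, o14)], 44, .inner [4, 3, 7, 5, 6, 4, 5, 3, 4, 2, 3, 7, 8, 1, 2, 3, 7, 3, 4, 5, 6, 2, 3, 4, 5, 0, 1, 0, 2, 4, 1, 0, 5, 4, 3, 2, 6, 5, 4, 3, 7, 3, 2, 1, 8, 7, 3, 2, 4, 3, 5, 4, 6, 5, 7, 3, 4]⟩,
  ⟨[(o10, o10), (o0, o0), (o215, o215), (o1965, o562), (o12, o22), (o154, o1620)], 44, .node 1 44 [⟨o1, [(1, [])], 903⟩,
      ⟨o14, [(14, [])], 906⟩]⟩,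
  ⟨[(o10, o10), (o0, o0), (o215, o215), (o1965, o562), (o12, o22), (o154, o1620), (o14, o1)], 44, .node 6 44 [⟨o221, [(221, [])], 904⟩]⟩,
  ⟨[(o10, o10), (o0, o0), (o215, o215), (o1965, o562), (o12, o22), (o154, o1620), (o14, o1), (o256, o221)], 44, .node 7 44 [⟨o1297, [(1297, [])], 905⟩]⟩,
  ⟨[(o10, o10), (o0, o0), (o215, o215), (o1965, o562), (o12, o22), (o154, o1620), (o14, o1), (o256, o221), (o243, o1297)], 44, .inner [1, 0, 8, 4, 2, 3, 7, 1, 2, 3, 4, 0, 1, 2, 3, 7, 5, 6, 1, 2, 3, 4, 5, 0, 1, 2, 3, 0, 1, 0, 2, 4, 1, 0, 3, 2, 1, 0, 5, 4, 3, 2, 1, 6, 5, 7, 3, 2, 1, 0, 4, 3, 2, 1, 7, 3, 2, 4, 8, 0, 1]⟩,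
  ⟨[(o10, o10), (o0, o0), (o215, o215), (o1965, o562), (o12, o22), (o154, o1620), (o14, o14)], 44, .node 6 44 [⟨o221, [(221, [])], 907⟩]⟩,
  ⟨[(o10, o10), (o0, o0), (o215, o215), (o1965, o562), (o12, o22), (o154, o1620), (o14, o14), (o256, o221)], 44, .node 7 44 [⟨o1297, [(1297, [])], 908⟩]⟩,
  ⟨[(o10, o10), (o0, o0), (o215, o215), (o1965, o562), (o12, o22), (o154, o1620), (o14, o14), (o256, o221), (o243, o1297)], 44, .inner [8, 4, 2, 3, 7, 1, 2, 3, 4, 0, 1, 2, 3, 7, 5, 6, 4, 5, 3, 4, 1, 2, 3, 0, 1, 0, 2, 1, 0, 3, 2, 1, 4, 3, 5, 4, 6, 5, 7, 3, 2, 1, 0, 4, 3, 2, 1, 7, 3, 2, 4, 8]⟩,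
  ⟨[(o10, o10), (o0, o0), (o215, o215), (o1965, o562), (o12, o323)], 42, .node 1 45 [⟨o72, [(72, [])], 910⟩,
      ⟨o216, [(216, [])], 911⟩,
      ⟨o520, [(520, [])], 912⟩,
      ⟨o1678, [(1678, [])], 918⟩,
      ⟨o2660, [(2660, [])], 919⟩,
      ⟨o2769, [(2769, [])], 925⟩]⟩,
  ⟨[(o10, o10), (o0, o0), (o215, o215), (o1965, o562), (o12, o323), (o14, o72)], 45, .node 4 45 []⟩,
  ⟨[(o10, o10), (o0, o0), (o215, o215), (o1965, o562), (o12, o323), (o14, o216)], 45, .node 4 45 []⟩,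
  ⟨[(o10, o10), (o0, o0), (o215, o215), (o1965, o562), (o12, o323), (o14, o520)], 45, .node 7 45 [⟨o1483, [(1483, [])], 913⟩]⟩,
  ⟨[(o10, o10), (o0, o0), (o215, o215), (o1965, o562), (o12, o323), (o14, o520), (o243, o1483)], 45, .node 4 45 [⟨o2470, [(2470, [])], 914⟩,
      ⟨o3136, [(3136, [])], 916⟩]⟩,
  ⟨[(o10, o10), (o0, o0), (o215, o215), (o1965, o562), (o12, o323), (o14, o520), (o243, o1483), (o154, o2470)], 45, .node 6 45 [⟨o337, [(337, [])], 915⟩]⟩,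
  ⟨[(o10, o10), (o0, o0), (o215, o215), (o1965, o562), (o12, o323), (o14, o520), (o243, o1483), (o154, o2470), (o256, o337)], 45, .conjw 2 [4, 3, 2, 5, 4, 3, 6, 5, 7, 3, 2, 1, 0, 8, 7, 3, 4, 2, 3, 7, 8, 5, 6, 4, 5, 3, 4, 1, 2, 3, 7, 4, 5, 3, 2, 0]⟩,
  ⟨[(o10, o10), (o0, o0), (o215, o215), (o1965, o562), (o12, o323), (o14, o520), (o243, o1483), (o154, o3136)], 45, .node 6 45 [⟨o1445, [(1445, [])], 917⟩]⟩,
  ⟨[(o10, o10), (o0, o0), (o215, o215), (o1965, o562), (o12, o323), (o14, o520), (o243, o1483), (o154, o3136), (o256, o1445)], 45, .conjw 1 [1, 0, 2, 4, 3, 5, 4, 6, 5, 7, 3, 2, 1, 4, 3, 8, 7, 3, 4, 5, 2, 3, 4, 1, 2, 3, 7, 8, 6, 5, 4, 2, 3, 7, 3, 4, 5, 2, 0]⟩,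
  ⟨[(o10, o10), (o0, o0), (o215, o215), (o1965, o562), (o12, o323), (o14, o1678)], 45, .node 6 45 []⟩,
  ⟨[(o10, o10), (o0, o0), (o215, o215), (o1965, o562), (o12, o323), (o14, o2660)], 45, .node 7 45 [⟨o1483, [(1483, [])], 920⟩]⟩,
  ⟨[(o10, o10), (o0, o0), (o215, o215), (o1965, o562), (o12, o323), (o14, o2660), (o243, o1483)], 45, .node 4 45 [⟨o2470, [(2470, [])], 921⟩,
      ⟨o3136, [(3136, [])], 923⟩]⟩,
  ⟨[(o10, o10), (o0, o0), (o215, o215), (o1965, o562), (o12, o323), (o14, o2660), (o243, o1483), (o154, o2470)], 45, .node 6 45 [⟨o337, [(337, [])], 922⟩]⟩,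
  ⟨[(o10, o10), (o0, o0), (o215, o215), (o1965, o562), (o12, o323), (o14, o2660), (o243, o1483), (o154, o2470), (o256, o337)], 45, .conjw 1 [2, 1, 0, 6, 5, 4, 3, 7, 2, 3, 4, 1, 2, 3, 7, 8, 7, 3, 4, 1, 2, 3, 7, 4, 5, 3, 4, 3, 1, 2, 1, 0]⟩,
  ⟨[(o10, o10), (o0, o0), (o215, o215), (o1965, o562), (o12, o323), (o14, o2660), (o243, o1483), (o154, o3136)], 45, .node 6 45 [⟨o1445, [(1445, [])], 924⟩]⟩,
  ⟨[(o10, o10), (o0, o0), (o215, o215), (o1965, o562), (o12, o323), (o14, o2660), (o243, o1483), (o154, o3136), (o256, o1445)], 45, .conjw 2 [2, 1, 0, 3, 2, 1, 4, 5, 6, 5, 7, 3, 4, 2, 3, 7, 8, 5, 4, 2, 3, 7, 6, 4, 5, 1, 2, 3, 4, 2, 0, 1, 0]⟩,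
  ⟨[(o10, o10), (o0, o0), (o215, o215), (o1965, o562), (o12, o323), (o14, o2769)], 45, .node 6 45 []⟩,
  ⟨[(o10, o10), (o0, o0), (o215, o215), (o1965, o562), (o12, o383)], 42, .node 4 46 [⟨o1343, [(1343, [])], 927⟩,
      ⟨o1381, [(1381, [])], 930⟩,
      ⟨o2186, [(2186, [])], 933⟩,
      ⟨o2407, [(2407, [])], 939⟩]⟩,
  ⟨[(o10, o10), (o0, o0), (o215, o215), (o1965, o562), (o12, o383), (o154, o1343)], 46, .node 1 46 [⟨o520, [(520, [])], 928⟩,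
      ⟨o2660, [(2660, [])], 929⟩]⟩,
  ⟨[(o10, o10), (o0, o0), (o215, o215), (o1965, o562), (o12, o383), (o154, o1343), (o14, o520)], 46, .node 6 46 []⟩,
  ⟨[(o10, o10), (o0, o0), (o215, o215), (o1965, o562), (o12, o383), (o154, o1343), (o14, o2660)], 46, .node 6 46 []⟩,
  ⟨[(o10, o10), (o0, o0), (o215, o215), (o1965, o562), (o12, o383), (o154, o1381)], 46, .node 1 46 [⟨o520, [(520, [])], 931⟩,
      ⟨o2660, [(2660, [])], 932⟩]⟩,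
  ⟨[(o10, o10), (o0, o0), (o215, o215), (o1965, o562), (o12, o383), (o154, o1381), (o14, o520)], 46, .node 7 46 []⟩,
  ⟨[(o10, o10), (o0, o0), (o215, o215), (o1965, o562), (o12, o383), (o154, o1381), (o14, o2660)], 46, .node 7 46 []⟩,
  ⟨[(o10, o10), (o0, o0), (o215, o215), (o1965, o562), (o12, o383), (o154, o2186)], 46, .node 6 46 [⟨o662, [(662, [])], 934⟩,
      ⟨o2026, [(2026, [])], 935⟩]⟩,
  ⟨[(o10, o10), (o0, o0), (o215, o215), (o1965, o562), (o12, o383), (o154, o2186), (o256, o662)], 46, .node 1 46 []⟩,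
  ⟨[(o10, o10), (o0, o0), (o215, o215), (o1965, o562), (o12, o383), (o154, o2186), (o256, o2026)], 46, .node 7 46 [⟨o9, [(9, [])], 936⟩]⟩,
  ⟨[(o10, o10), (o0, o0), (o215, o215), (o1965, o562), (o12, o383), (o154, o2186), (o256, o2026), (o243, o9)], 46, .node 1 46 [⟨o520, [(520, [])], 937⟩,
      ⟨o2660, [(2660, [])], 938⟩]⟩,
  ⟨[(o10, o10), (o0, o0), (o215, o215), (o1965, o562), (o12, o383), (o154, o2186), (o256, o2026), (o243, o9), (o14, o520)], 46, .conjw 1 [4, 3, 2, 5, 4, 3, 7, 8, 3, 7, 4, 5, 2, 3, 4, 1, 2, 3, 7, 8, 0, 1, 2, 3, 7, 5, 2, 3, 4, 1, 0]⟩,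
  ⟨[(o10, o10), (o0, o0), (o215, o215), (o1965, o562), (o12, o383), (o154, o2186), (o256, o2026), (o243, o9), (o14, o2660)], 46, .conjw 2 [4, 3, 2, 5, 4, 3, 7, 3, 8, 7, 4, 5, 2, 3, 4, 1, 2, 3, 7, 8, 0, 1, 2, 3, 7, 5, 2, 3, 4, 1, 0]⟩,
  ⟨[(o10, o10), (o0, o0), (o215, o215), (o1965, o562), (o12, o383), (o154, o2407)], 46, .node 6 46 [⟨o643, [(643, [])], 940⟩]⟩,
  ⟨[(o10, o10), (o0, o0), (o215, o215), (o1965, o562), (o12, o383), (o154, o2407), (o256, o643)], 46, .node 7 46 [⟨o9, [(9, [])], 941⟩]⟩,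
  ⟨[(o10, o10), (o0, o0), (o215, o215), (o1965, o562), (o12, o383), (o154, o2407), (o256, o643), (o243, o9)], 46, .node 1 46 [⟨o520, [(520, [])], 942⟩,
      ⟨o2660, [(2660, [])], 943⟩]⟩,
  ⟨[(o10, o10), (o0, o0), (o215, o215), (o1965, o562), (o12, o383), (o154, o2407), (o256, o643), (o243, o9), (o14, o520)], 46, .conjw 2 [1, 2, 3, 4, 5, 6, 7, 3, 4, 2, 3, 7, 8, 5, 4, 1, 2, 3, 7, 6, 4, 5, 2, 3, 4, 0, 1, 2, 0, 1, 0]⟩,
  ⟨[(o10, o10), (o0, o0), (o215, o215), (o1965, o562), (o12, o383), (o154, o2407), (o256, o643), (o243, o9), (o14, o2660)], 46, .conjw 1 [6, 5, 4, 3, 2, 1, 0, 7, 3, 4, 5, 2, 3, 4, 1, 2, 3, 7, 8, 6, 5, 4, 3, 7, 2, 3, 4, 5, 3, 0, 1, 2, 0]⟩,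
  ⟨[(o10, o10), (o0, o0), (o215, o215), (o1965, o1677)], 30, .node 1 47 [⟨o145, [(145, []), (518, [o1965]), (1477, [o1981]), (1713, [o517, o3385, o2385, o0]), (2668, [o1567]), (2795, [o562]), (2912, [o0, o1677, o3385, o535]), (3502, [o254, o517, o2184, o0])], 945⟩,
      ⟨o146, [(146, []), (240, [o1965]), (1052, [o562]), (1553, [o1981]), (1714, [o517, o3385, o2385, o0]), (1847, [o1567]), (3230, [o0, o1677, o3385, o535]), (3507, [o254, o517, o2184, o0])], 966⟩,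
      ⟨o172, [(172, []), (473, [o1965]), (1253, [o562]), (2010, [o1567]), (2143, [o517, o3385, o2385, o0]), (2650, [o1981]), (2688, [o0, o1677, o3385, o535]), (2747, [o254, o517, o2184, o0])], 987⟩,
      ⟨o324, [(324, []), (356, [o1567]), (437, [o1965]), (953, [o1981]), (2177, [o517, o3385, o2385, o0]), (2698, [o254, o517, o2184, o0]), (2703, [o562]), (2731, [o0, o1677, o3385, o535])], 1012⟩]⟩,
  ⟨[(o10, o10), (o0, o0), (o215, o215), (o1965, o1677), (o14, o145)], 47, .node 4 48 [⟨o83, [(83, [])], 946⟩,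
      ⟨o84, [(84, [])], 951⟩,
      ⟨o160, [(160, [])], 956⟩,
      ⟨o161, [(161, [])], 961⟩]⟩,
  ⟨[(o10, o10), (o0, o0), (o215, o215), (o1965, o1677), (o14, o145), (o154, o83)], 48, .node 6 48 [⟨o143, [(143, [])], 947⟩]⟩,
  ⟨[(o10, o10), (o0, o0), (o215, o215), (o1965, o1677), (o14, o145), (o154, o83), (o256, o143)], 48, .node 2 48 [⟨o151, [(151, [])], 948⟩]⟩,
  ⟨[(o10, o10), (o0, o0), (o215, o215), (o1965, o1677), (o14, o145), (o154, o83), (o256, o143), (o12, o151)], 48, .node 7 48 [⟨o88, [(88, [])], 949⟩,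
      ⟨o220, [(220, [])], 950⟩]⟩,
  ⟨[(o10, o10), (o0, o0), (o215, o215), (o1965, o1677), (o14, o145), (o154, o83), (o256, o143), (o12, o151), (o243, o88)], 48, .inner [2, 3, 4, 3, 2, 1, 0, 6, 7, 3, 2, 1, 4, 3, 5, 4, 8, 7, 3, 4, 2, 3, 7, 8, 1, 2, 3, 7, 5, 6, 4, 5, 3, 4, 0, 1, 2, 3, 7, 4, 5, 1, 2, 3, 0, 1, 0, 2, 4, 1, 0, 3, 2, 1, 5, 4, 7, 3, 2, 1, 0, 4, 3, 5, 4, 6, 5, 7, 3, 2, 1, 8, 7, 3, 2, 4, 3, 7, 8, 4, 5, 3, 4, 1, 2, 3, 7, 6, 0, 1, 2, 3, 4, 3, 2]⟩,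
  ⟨[(o10, o10), (o0, o0), (o215, o215), (o1965, o1677), (o14, o145), (o154, o83), (o256, o143), (o12, o151), (o243, o220)], 48, .conjw 2 [1, 0, 7, 8, 3, 7, 2, 3, 4, 1, 2, 3, 7, 8, 5, 4, 3, 7, 2, 3, 4, 5, 3, 4, 0]⟩,
  ⟨[(o10, o10), (o0, o0), (o215, o215), (o1965, o1677), (o14, o145), (o154, o84)], 48, .node 6 48 [⟨o68, [(68, [])], 952⟩]⟩,
  ⟨[(o10, o10), (o0, o0), (o215, o215), (o1965, o1677), (o14, o145), (o154, o84), (o256, o68)], 48, .node 2 48 [⟨o151, [(151, [])], 953⟩]⟩,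
  ⟨[(o10, o10), (o0, o0), (o215, o215), (o1965, o1677), (o14, o145), (o154, o84), (o256, o68), (o12, o151)], 48, .node 7 48 [⟨o88, [(88, [])], 954⟩,
      ⟨o220, [(220, [])], 955⟩]⟩,
  ⟨[(o10, o10), (o0, o0), (o215, o215), (o1965, o1677), (o14, o145), (o154, o84), (o256, o68), (o12, o151), (o243, o88)], 48, .inner [4, 3, 7, 1, 2, 3, 4, 0, 1, 2, 3, 7, 5, 6, 4, 5, 0, 1, 2, 3, 0, 1, 0, 2, 4, 1, 0, 3, 2, 1, 0, 5, 4, 6, 5, 7, 3, 2, 1, 0, 4, 3, 2, 1, 7, 3, 4]⟩,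
  ⟨[(o10, o10), (o0, o0), (o215, o215), (o1965, o1677), (o14, o145), (o154, o84), (o256, o68), (o12, o151), (o243, o220)], 48, .conjw 1 [2, 3, 7, 3, 4, 5, 1, 2, 3, 0, 1, 2, 0]⟩,
  ⟨[(o10, o10), (o0, o0), (o215, o215), (o1965, o1677), (o14, o145), (o154, o160)], 48, .node 2 48 [⟨o85, [(85, [])], 957⟩]⟩,
  ⟨[(o10, o10), (o0, o0), (o215, o215), (o1965, o1677), (o14, o145), (o154, o160), (o12, o85)], 48, .node 6 48 [⟨o143, [(143, [])], 958⟩]⟩,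
  ⟨[(o10, o10), (o0, o0), (o215, o215), (o1965, o1677), (o14, o145), (o154, o160), (o12, o85), (o256, o143)], 48, .node 7 48 [⟨o87, [(87, [])], 959⟩,
      ⟨o217, [(217, [])], 960⟩]⟩,
  ⟨[(o10, o10), (o0, o0), (o215, o215), (o1965, o1677), (o14, o145), (o154, o160), (o12, o85), (o256, o143), (o243, o87)], 48, .inner [2, 4, 3, 5, 7, 8, 3, 7, 6, 4, 5, 3, 4, 2, 3, 7, 8, 1, 2, 3, 7, 4, 5, 6, 2, 3, 4, 5, 0, 1, 0, 2, 4, 1, 0, 5, 4, 3, 2, 6, 5, 4, 7, 3, 2, 1, 8, 7, 3, 2, 4, 3, 5, 4, 6, 7, 3, 8, 7, 5, 3, 4, 2]⟩,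
  ⟨[(o10, o10), (o0, o0), (o215, o215), (o1965, o1677), (o14, o145), (o154, o160), (o12, o85), (o256, o143), (o243, o217)], 48, .conjw 1 [6, 5, 4, 3, 8, 7, 3, 2, 1, 0, 4, 3, 2, 1, 5, 4, 6, 5, 3, 4, 2, 3, 7, 8, 3, 4, 2, 3, 7, 5, 6, 3, 4, 5, 1, 2, 3, 4, 0, 1, 0]⟩,
  ⟨[(o10, o10), (o0, o0), (o215, o215), (o1965, o1677), (o14, o145), (o154, o161)], 48, .node 2 48 [⟨o85, [(85, [])], 962⟩]⟩,
  ⟨[(o10, o10), (o0, o0), (o215, o215), (o1965, o1677), (o14, o145), (o154, o161), (o12, o85)], 48, .node 6 48 [⟨o68, [(68, [])], 963⟩]⟩,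
  ⟨[(o10, o10), (o0, o0), (o215, o215), (o1965, o1677), (o14, o145), (o154, o161), (o12, o85), (o256, o68)], 48, .node 7 48 [⟨o87, [(87, [])], 964⟩,
      ⟨o217, [(217, [])], 965⟩]⟩,
  ⟨[(o10, o10), (o0, o0), (o215, o215), (o1965, o1677), (o14, o145), (o154, o161), (o12, o85), (o256, o68), (o243, o87)], 48, .inner [4, 3, 7, 1, 2, 3, 4, 0, 1, 2, 3, 7, 5, 6, 4, 5, 3, 4, 2, 3, 0, 1, 0, 2, 1, 0, 3, 2, 4, 3, 5, 4, 6, 5, 7, 3, 2, 1, 0, 4, 3, 2, 1, 7, 3, 4]⟩,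
  ⟨[(o10, o10), (o0, o0), (o215, o215), (o1965, o1677), (o14, o145), (o154, o161), (o12, o85), (o256, o68), (o243, o217)], 48, .conjw 2 [7, 3, 8, 7, 4, 5, 2, 3, 4, 1, 2, 3, 7, 8, 0, 1, 2, 3, 7, 2, 3, 4, 3, 2, 1]⟩,
  ⟨[(o10, o10), (o0, o0), (o215, o215), (o1965, o1677), (o14, o146)], 47, .node 4 48 [⟨o83, [(83, [])], 967⟩,
      ⟨o84, [(84, [])], 972⟩,
      ⟨o160, [(160, [])], 977⟩,
      ⟨o161, [(161, [])], 982⟩]⟩,
  ⟨[(o10, o10), (o0, o0), (o215, o215), (o1965, o1677), (o14, o146), (o154, o83)], 48, .node 6 48 [⟨o143, [(143, [])], 968⟩]⟩,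
  ⟨[(o10, o10), (o0, o0), (o215, o215), (o1965, o1677), (o14, o146), (o154, o83), (o256, o143)], 48, .node 2 48 [⟨o151, [(151, [])], 969⟩]⟩,
  ⟨[(o10, o10), (o0, o0), (o215, o215), (o1965, o1677), (o14, o146), (o154, o83), (o256, o143), (o12, o151)], 48, .node 7 48 [⟨o88, [(88, [])], 970⟩,
      ⟨o220, [(220, [])], 971⟩]⟩,
  ⟨[(o10, o10), (o0, o0), (o215, o215), (o1965, o1677), (o14, o146), (o154, o83), (o256, o143), (o12, o151), (o243, o88)], 48, .inner [4, 1, 2, 3, 7, 5, 6, 4, 5, 3, 4, 1, 2, 3, 7, 4, 5, 6, 3, 4, 5, 1, 2, 3, 0, 1, 0, 2, 4, 1, 0, 3, 2, 1, 5, 4, 3, 6, 5, 4, 7, 3, 2, 1, 4, 3, 5, 4, 6, 5, 7, 3, 2, 1, 4]⟩,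
  ⟨[(o10, o10), (o0, o0), (o215, o215), (o1965, o1677), (o14, o146), (o154, o83), (o256, o143), (o12, o151), (o243, o220)], 48, .conjw 1 [2, 3, 7, 3, 4, 5, 1, 2, 3, 4, 0, 1, 0]⟩,
  ⟨[(o10, o10), (o0, o0), (o215, o215), (o1965, o1677), (o14, o146), (o154, o84)], 48, .node 6 48 [⟨o68, [(68, [])], 973⟩]⟩,
  ⟨[(o10, o10), (o0, o0), (o215, o215), (o1965, o1677), (o14, o146), (o154, o84), (o256, o68)], 48, .node 2 48 [⟨o151, [(151, [])], 974⟩]⟩,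
  ⟨[(o10, o10), (o0, o0), (o215, o215), (o1965, o1677), (o14, o146), (o154, o84), (o256, o68), (o12, o151)], 48, .node 7 48 [⟨o88, [(88, [])], 975⟩,
      ⟨o220, [(220, [])], 976⟩]⟩,
  ⟨[(o10, o10), (o0, o0), (o215, o215), (o1965, o1677), (o14, o146), (o154, o84), (o256, o68), (o12, o151), (o243, o88)], 48, .inner [4, 3, 8, 7, 5, 6, 4, 5, 3, 4, 2, 3, 7, 8, 7, 5, 6, 4, 5, 1, 2, 3, 4, 0, 1, 2, 3, 7, 5, 6, 4, 5, 3, 4, 2, 3, 0, 1, 0, 2, 1, 0, 3, 2, 4, 3, 5, 4, 6, 5, 7, 3, 2, 1, 0, 4, 3, 2, 1, 5, 4, 6, 5, 7, 8, 7, 3, 2, 4, 3, 5, 4, 6, 5, 7, 8, 3, 4]⟩,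
  ⟨[(o10, o10), (o0, o0), (o215, o215), (o1965, o1677), (o14, o146), (o154, o84), (o256, o68), (o12, o151), (o243, o220)], 48, .conjw 0 [2, 3, 7, 3, 4, 5, 1, 2, 3, 4, 0, 1, 0]⟩,
  ⟨[(o10, o10), (o0, o0), (o215, o215), (o1965, o1677), (o14, o146), (o154, o160)], 48, .node 2 48 [⟨o85, [(85, [])], 978⟩]⟩,
  ⟨[(o10, o10), (o0, o0), (o215, o215), (o1965, o1677), (o14, o146), (o154, o160), (o12, o85)], 48, .node 6 48 [⟨o143, [(143, [])], 979⟩]⟩,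
  ⟨[(o10, o10), (o0, o0), (o215, o215), (o1965, o1677), (o14, o146), (o154, o160), (o12, o85), (o256, o143)], 48, .node 7 48 [⟨o87, [(87, [])], 980⟩,
      ⟨o217, [(217, [])], 981⟩]⟩,
  ⟨[(o10, o10), (o0, o0), (o215, o215), (o1965, o1677), (o14, o146), (o154, o160), (o12, o85), (o256, o143), (o243, o87)], 48, .inner [1, 0, 4, 5, 7, 3, 2, 1, 0, 4, 3, 2, 1, 5, 8, 7, 3, 4, 2, 3, 7, 8, 1, 2, 3, 7, 5, 6, 4, 5, 3, 4, 0, 1, 2, 3, 7, 4, 5, 1, 2, 3, 0, 1, 0, 2, 4, 1, 0, 3, 2, 1, 5, 4, 7, 3, 2, 1, 0, 4, 3, 5, 4, 6, 5, 7, 3, 2, 1, 8, 7, 3, 2, 4, 3, 7, 8, 5, 1, 2, 3, 4, 0, 1, 2, 3, 7, 5, 4, 0, 1]⟩,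
  ⟨[(o10, o10), (o0, o0), (o215, o215), (o1965, o1677), (o14, o146), (o154, o160), (o12, o85), (o256, o143), (o243, o217)], 48, .conjw 2 [1, 0, 7, 8, 3, 7, 2, 3, 4, 1, 2, 3, 7, 8, 5, 4, 3, 7, 2, 3, 4, 5, 3, 2, 0]⟩,
  ⟨[(o10, o10), (o0, o0), (o215, o215), (o1965, o1677), (o14, o146), (o154, o161)], 48, .node 2 48 [⟨o85, [(85, [])], 983⟩]⟩,
  ⟨[(o10, o10), (o0, o0), (o215, o215), (o1965, o1677), (o14, o146), (o154, o161), (o12, o85)], 48, .node 6 48 [⟨o68, [(68, [])], 984⟩]⟩,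
  ⟨[(o10, o10), (o0, o0), (o215, o215), (o1965, o1677), (o14, o146), (o154, o161), (o12, o85), (o256, o68)], 48, .node 7 48 [⟨o87, [(87, [])], 985⟩,
      ⟨o217, [(217, [])], 986⟩]⟩,
  ⟨[(o10, o10), (o0, o0), (o215, o215), (o1965, o1677), (o14, o146), (o154, o161), (o12, o85), (o256, o68), (o243, o87)], 48, .inner [4, 3, 7, 1, 2, 3, 4, 0, 1, 2, 3, 7, 3, 4, 5, 6, 2, 3, 4, 5, 0, 1, 2, 3, 0, 1, 0, 2, 4, 1, 0, 3, 2, 1, 0, 5, 4, 3, 2, 6, 5, 4, 3, 7, 3, 2, 1, 0, 4, 3, 2, 1, 7, 3, 4]⟩,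
  ⟨[(o10, o10), (o0, o0), (o215, o215), (o1965, o1677), (o14, o146), (o154, o161), (o12, o85), (o256, o68), (o243, o217)], 48, .conjw 1 [2, 3, 7, 1, 2, 3, 4, 5, 2, 3, 1, 2, 0]⟩,
  ⟨[(o10, o10), (o0, o0), (o215, o215), (o1965, o1677), (o14, o172)], 47, .node 7 49 [⟨o9, [(9, [])], 988⟩,
      ⟨o243, [(243, [])], 997⟩,
      ⟨o323, [(323, [])], 1006⟩,
      ⟨o513, [(513, [])], 1009⟩]⟩,
  ⟨[(o10, o10), (o0, o0), (o215, o215), (o1965, o1677), (o14, o172), (o243, o9)], 49, .node 6 49 [⟨o318, [(318, [])], 989⟩,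
      ⟨o428, [(428, [])], 994⟩]⟩,
  ⟨[(o10, o10), (o0, o0), (o215, o215), (o1965, o1677), (o14, o172), (o243, o9), (o256, o318)], 49, .node 2 49 [⟨o24, [(24, [])], 990⟩,
      ⟨o3019, [(3019, [])], 992⟩]⟩,
  ⟨[(o10, o10), (o0, o0), (o215, o215), (o1965, o1677), (o14, o172), (o243, o9), (o256, o318), (o12, o24)], 49, .node 4 49 [⟨o1126, [(1126, [])], 991⟩]⟩,
  ⟨[(o10, o10), (o0, o0), (o215, o215), (o1965, o1677), (o14, o172), (o243, o9), (o256, o318), (o12, o24), (o154, o1126)], 49, .conjw 1 [1, 0, 2, 4, 3, 2, 1, 5, 4, 3, 2, 6, 5, 4, 3, 2, 7, 3, 8, 7, 2, 3, 4, 1, 2, 3, 7, 5, 6, 4, 5, 3, 4, 2, 3, 7, 4, 3, 0, 1, 2, 1, 0]⟩,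
  ⟨[(o10, o10), (o0, o0), (o215, o215), (o1965, o1677), (o14, o172), (o243, o9), (o256, o318), (o12, o3019)], 49, .node 4 49 [⟨o593, [(593, [])], 993⟩]⟩,
  ⟨[(o10, o10), (o0, o0), (o215, o215), (o1965, o1677), (o14, o172), (o243, o9), (o256, o318), (o12, o3019), (o154, o593)], 49, .bad [1, 2, 1] 1677 1677⟩,
  ⟨[(o10, o10), (o0, o0), (o215, o215), (o1965, o1677), (o14, o172), (o243, o9), (o256, o428)], 49, .node 4 49 [⟨o649, [(649, [])], 995⟩]⟩,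
  ⟨[(o10, o10), (o0, o0), (o215, o215), (o1965, o1677), (o14, o172), (o243, o9), (o256, o428), (o154, o649)], 49, .node 2 49 [⟨o24, [(24, [])], 996⟩]⟩,
  ⟨[(o10, o10), (o0, o0), (o215, o215), (o1965, o1677), (o14, o172), (o243, o9), (o256, o428), (o154, o649), (o12, o24)], 49, .conjw 2 [1, 2, 7, 8, 7, 3, 4, 5, 2, 3, 4, 1, 2, 3, 7, 8, 3, 4, 2, 3, 7, 3, 4, 5, 4, 2, 0]⟩,
  ⟨[(o10, o10), (o0, o0), (o215, o215), (o1965, o1677), (o14, o172), (o243, o243)], 49, .node 6 49 [⟨o318, [(318, [])], 998⟩,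
      ⟨o428, [(428, [])], 1003⟩]⟩,
  ⟨[(o10, o10), (o0, o0), (o215, o215), (o1965, o1677), (o14, o172), (o243, o243), (o256, o318)], 49, .node 2 49 [⟨o25, [(25, [])], 999⟩,
      ⟨o3253, [(3253, [])], 1001⟩]⟩,
  ⟨[(o10, o10), (o0, o0), (o215, o215), (o1965, o1677), (o14, o172), (o243, o243), (o256, o318), (o12, o25)], 49, .node 4 49 [⟨o1127, [(1127, [])], 1000⟩]⟩,
  ⟨[(o10, o10), (o0, o0), (o215, o215), (o1965, o1677), (o14, o172), (o243, o243), (o256, o318), (o12, o25), (o154, o1127)], 49, .conjw 2 [4, 3, 2, 1, 0, 5, 4, 3, 2, 1, 6, 5, 7, 3, 2, 1, 0, 4, 3, 7, 8, 7, 2, 3, 4, 1, 2, 3, 7, 5, 1, 2, 3, 4, 2, 3, 1, 2, 0, 1, 0]⟩,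
  ⟨[(o10, o10), (o0, o0), (o215, o215), (o1965, o1677), (o14, o172), (o243, o243), (o256, o318), (o12, o3253)], 49, .node 4 49 [⟨o633, [(633, [])], 1002⟩]⟩,
  ⟨[(o10, o10), (o0, o0), (o215, o215), (o1965, o1677), (o14, o172), (o243, o243), (o256, o318), (o12, o3253), (o154, o633)], 49, .bad [1, 2, 1] 1677 1677⟩,
  ⟨[(o10, o10), (o0, o0), (o215, o215), (o1965, o1677), (o14, o172), (o243, o243), (o256, o428)], 49, .node 4 49 [⟨o699, [(699, [])], 1004⟩]⟩,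
  ⟨[(o10, o10), (o0, o0), (o215, o215), (o1965, o1677), (o14, o172), (o243, o243), (o256, o428), (o154, o699)], 49, .node 2 49 [⟨o25, [(25, [])], 1005⟩]⟩,
  ⟨[(o10, o10), (o0, o0), (o215, o215), (o1965, o1677), (o14, o172), (o243, o243), (o256, o428), (o154, o699), (o12, o25)], 49, .conjw 1 [1, 0, 6, 5, 4, 3, 2, 1, 7, 8, 7, 3, 2, 1, 0, 4, 3, 2, 1, 5, 4, 3, 2, 6, 5, 7, 8, 4, 3, 7, 4, 5, 2, 3, 4, 1, 2, 3, 7, 8, 0, 1, 2, 3, 7, 3, 2, 0, 1, 0]⟩,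
  ⟨[(o10, o10), (o0, o0), (o215, o215), (o1965, o1677), (o14, o172), (o243, o323)], 49, .node 6 49 [⟨o3501, [(3501, [])], 1007⟩,
      ⟨o3509, [(3509, [])], 1008⟩]⟩,
  ⟨[(o10, o10), (o0, o0), (o215, o215), (o1965, o1677), (o14, o172), (o243, o323), (o256, o3501)], 49, .node 4 49 []⟩,
  ⟨[(o10, o10), (o0, o0), (o215, o215), (o1965, o1677), (o14, o172), (o243, o323), (o256, o3509)], 49, .node 4 49 []⟩,
  ⟨[(o10, o10), (o0, o0), (o215, o215), (o1965, o1677), (o14, o172), (o243, o513)], 49, .node 2 49 [⟨o1415, [(1415, [])], 1010⟩,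
      ⟨o1760, [(1760, [])], 1011⟩]⟩,
  ⟨[(o10, o10), (o0, o0), (o215, o215), (o1965, o1677), (o14, o172), (o243, o513), (o12, o1415)], 49, .node 4 49 []⟩,
  ⟨[(o10, o10), (o0, o0), (o215, o215), (o1965, o1677), (o14, o172), (o243, o513), (o12, o1760)], 49, .node 4 49 []⟩,
  ⟨[(o10, o10), (o0, o0), (o215, o215), (o1965, o1677), (o14, o324)], 47, .node 6 50 [⟨o318, [(318, [])], 1013⟩,
      ⟨o428, [(428, [])], 1024⟩,
      ⟨o949, [(949, [])], 1031⟩,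
      ⟨o1274, [(1274, [])], 1032⟩,
      ⟨o3501, [(3501, [])], 1033⟩,
      ⟨o3509, [(3509, [])], 1045⟩]⟩,
  ⟨[(o10, o10), (o0, o0), (o215, o215), (o1965, o1677), (o14, o324), (o256, o318)], 50, .node 7 50 [⟨o1298, [(1298, [])], 1014⟩,
      ⟨o1299, [(1299, [])], 1019⟩]⟩,
  ⟨[(o10, o10), (o0, o0), (o215, o215), (o1965, o1677), (o14, o324), (o256, o318), (o243, o1298)], 50, .node 2 50 [⟨o186, [(186, [])], 1015⟩,
      ⟨o1163, [(1163, [])], 1017⟩]⟩,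
  ⟨[(o10, o10), (o0, o0), (o215, o215), (o1965, o1677), (o14, o324), (o256, o318), (o243, o1298), (o12, o186)], 50, .node 4 50 [⟨o854, [(854, [])], 1016⟩]⟩,
  ⟨[(o10, o10), (o0, o0), (o215, o215), (o1965, o1677), (o14, o324), (o256, o318), (o243, o1298), (o12, o186), (o154, o854)], 50, .conjw 1 [1, 0, 2, 1, 3, 4, 3, 2, 1, 0, 5, 4, 3, 2, 6, 5, 4, 3, 7, 3, 8, 7, 2, 3, 4, 1, 2, 3, 7, 5, 6, 4, 5, 3, 4, 2, 3, 7, 4, 3, 0, 1, 2, 1, 0]⟩,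
  ⟨[(o10, o10), (o0, o0), (o215, o215), (o1965, o1677), (o14, o324), (o256, o318), (o243, o1298), (o12, o1163)], 50, .node 4 50 [⟨o592, [(592, [])], 1018⟩]⟩,
  ⟨[(o10, o10), (o0, o0), (o215, o215), (o1965, o1677), (o14, o324), (o256, o318), (o243, o1298), (o12, o1163), (o154, o592)], 50, .bad [1, 2, 1] 1677 1677⟩,
  ⟨[(o10, o10), (o0, o0), (o215, o215), (o1965, o1677), (o14, o324), (o256, o318), (o243, o1299)], 50, .node 2 50 [⟨o23, [(23, [])], 1020⟩,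
      ⟨o1162, [(1162, [])], 1022⟩]⟩,
  ⟨[(o10, o10), (o0, o0), (o215, o215), (o1965, o1677), (o14, o324), (o256, o318), (o243, o1299), (o12, o23)], 50, .node 4 50 [⟨o1343, [(1343, [])], 1021⟩]⟩,
  ⟨[(o10, o10), (o0, o0), (o215, o215), (o1965, o1677), (o14, o324), (o256, o318), (o243, o1299), (o12, o23), (o154, o1343)], 50, .conjw 2 [1, 0, 2, 7, 3, 4, 2, 3, 7, 8, 3, 7, 1, 2, 3, 4, 0, 1, 2, 3, 7, 3, 4, 1, 2, 1]⟩,
  ⟨[(o10, o10), (o0, o0), (o215, o215), (o1965, o1677), (o14, o324), (o256, o318), (o243, o1299), (o12, o1162)], 50, .node 4 50 [⟨o554, [(554, [])], 1023⟩]⟩,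
  ⟨[(o10, o10), (o0, o0), (o215, o215), (o1965, o1677), (o14, o324), (o256, o318), (o243, o1299), (o12, o1162), (o154, o554)], 50, .bad [1, 2, 1] 1677 1677⟩]

/-- Nodes. -/
def nd8 : List ONode := [
  ⟨[(o10, o10), (o0, o0), (o215, o215), (o1965, o1677), (o14, o324), (o256, o428)], 50, .node 7 50 [⟨o1298, [(1298, [])], 1025⟩,
      ⟨o1299, [(1299, [])], 1028⟩]⟩,
  ⟨[(o10, o10), (o0, o0), (o215, o215), (o1965, o1677), (o14, o324), (o256, o428), (o243, o1298)], 50, .node 4 50 [⟨o1068, [(1068, [])], 1026⟩]⟩,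
  ⟨[(o10, o10), (o0, o0), (o215, o215), (o1965, o1677), (o14, o324), (o256, o428), (o243, o1298), (o154, o1068)], 50, .node 2 50 [⟨o186, [(186, [])], 1027⟩]⟩,
  ⟨[(o10, o10), (o0, o0), (o215, o215), (o1965, o1677), (o14, o324), (o256, o428), (o243, o1298), (o154, o1068), (o12, o186)], 50, .conjw 2 [1, 0, 2, 1, 0, 3, 7, 3, 4, 5, 2, 3, 4, 1, 2, 3, 7, 8, 7, 3, 4, 2, 3, 7, 3, 4, 5, 4, 2, 0]⟩,
  ⟨[(o10, o10), (o0, o0), (o215, o215), (o1965, o1677), (o14, o324), (o256, o428), (o243, o1299)], 50, .node 4 50 [⟨o1381, [(1381, [])], 1029⟩]⟩,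
  ⟨[(o10, o10), (o0, o0), (o215, o215), (o1965, o1677), (o14, o324), (o256, o428), (o243, o1299), (o154, o1381)], 50, .node 2 50 [⟨o23, [(23, [])], 1030⟩]⟩,
  ⟨[(o10, o10), (o0, o0), (o215, o215), (o1965, o1677), (o14, o324), (o256, o428), (o243, o1299), (o154, o1381), (o12, o23)], 50, .conjw 1 [2, 3, 7, 8, 3, 7, 4, 5, 1, 2, 3, 4, 0, 1, 2, 3, 7, 5, 3, 4, 0, 1, 2, 1]⟩,
  ⟨[(o10, o10), (o0, o0), (o215, o215), (o1965, o1677), (o14, o324), (o256, o949)], 50, .node 2 50 []⟩,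
  ⟨[(o10, o10), (o0, o0), (o215, o215), (o1965, o1677), (o14, o324), (o256, o1274)], 50, .node 2 50 []⟩,
  ⟨[(o10, o10), (o0, o0), (o215, o215), (o1965, o1677), (o14, o324), (o256, o3501)], 50, .node 4 50 [⟨o854, [(854, [])], 1034⟩,
      ⟨o1343, [(1343, [])], 1037⟩,
      ⟨o3181, [(3181, [])], 1038⟩,
      ⟨o3182, [(3182, [])], 1041⟩]⟩,
  ⟨[(o10, o10), (o0, o0), (o215, o215), (o1965, o1677), (o14, o324), (o256, o3501), (o154, o854)], 50, .node 2 50 [⟨o2202, [(2202, [])], 1035⟩,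
      ⟨o3061, [(3061, [])], 1036⟩]⟩,
  ⟨[(o10, o10), (o0, o0), (o215, o215), (o1965, o1677), (o14, o324), (o256, o3501), (o154, o854), (o12, o2202)], 50, .node 7 50 []⟩,
  ⟨[(o10, o10), (o0, o0), (o215, o215), (o1965, o1677), (o14, o324), (o256, o3501), (o154, o854), (o12, o3061)], 50, .node 7 50 []⟩,
  ⟨[(o10, o10), (o0, o0), (o215, o215), (o1965, o1677), (o14, o324), (o256, o3501), (o154, o1343)], 50, .node 2 50 []⟩,
  ⟨[(o10, o10), (o0, o0), (o215, o215), (o1965, o1677), (o14, o324), (o256, o3501), (o154, o3181)], 50, .node 7 50 [⟨o3384, [(3384, [])], 1039⟩]⟩,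
  ⟨[(o10, o10), (o0, o0), (o215, o215), (o1965, o1677), (o14, o324), (o256, o3501), (o154, o3181), (o243, o3384)], 50, .node 2 50 [⟨o3061, [(3061, [])], 1040⟩]⟩,
  ⟨[(o10, o10), (o0, o0), (o215, o215), (o1965, o1677), (o14, o324), (o256, o3501), (o154, o3181), (o243, o3384), (o12, o3061)], 50, .bad [1, 2, 1] 1677 1677⟩,
  ⟨[(o10, o10), (o0, o0), (o215, o215), (o1965, o1677), (o14, o324), (o256, o3501), (o154, o3182)], 50, .node 7 50 [⟨o1273, [(1273, [])], 1042⟩,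
      ⟨o3383, [(3383, [])], 1043⟩]⟩,
  ⟨[(o10, o10), (o0, o0), (o215, o215), (o1965, o1677), (o14, o324), (o256, o3501), (o154, o3182), (o243, o1273)], 50, .node 2 50 []⟩,
  ⟨[(o10, o10), (o0, o0), (o215, o215), (o1965, o1677), (o14, o324), (o256, o3501), (o154, o3182), (o243, o3383)], 50, .node 2 50 [⟨o3134, [(3134, [])], 1044⟩]⟩,
  ⟨[(o10, o10), (o0, o0), (o215, o215), (o1965, o1677), (o14, o324), (o256, o3501), (o154, o3182), (o243, o3383), (o12, o3134)], 50, .bad [1, 2, 1] 1677 1677⟩,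
  ⟨[(o10, o10), (o0, o0), (o215, o215), (o1965, o1677), (o14, o324), (o256, o3509)], 50, .node 2 50 [⟨o665, [(665, [])], 1046⟩,
      ⟨o1460, [(1460, [])], 1048⟩,
      ⟨o1761, [(1761, [])], 1050⟩,
      ⟨o2202, [(2202, [])], 1051⟩,
      ⟨o3061, [(3061, [])], 1052⟩,
      ⟨o3134, [(3134, [])], 1056⟩]⟩,
  ⟨[(o10, o10), (o0, o0), (o215, o215), (o1965, o1677), (o14, o324), (o256, o3509), (o12, o665)], 50, .node 4 50 [⟨o2496, [(2496, [])], 1047⟩]⟩,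
  ⟨[(o10, o10), (o0, o0), (o215, o215), (o1965, o1677), (o14, o324), (o256, o3509), (o12, o665), (o154, o2496)], 50, .node 7 50 []⟩,
  ⟨[(o10, o10), (o0, o0), (o215, o215), (o1965, o1677), (o14, o324), (o256, o3509), (o12, o1460)], 50, .node 4 50 [⟨o2496, [(2496, [])], 1049⟩]⟩,
  ⟨[(o10, o10), (o0, o0), (o215, o215), (o1965, o1677), (o14, o324), (o256, o3509), (o12, o1460), (o154, o2496)], 50, .node 7 50 []⟩,
  ⟨[(o10, o10), (o0, o0), (o215, o215), (o1965, o1677), (o14, o324), (o256, o3509), (o12, o1761)], 50, .node 4 50 []⟩,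
  ⟨[(o10, o10), (o0, o0), (o215, o215), (o1965, o1677), (o14, o324), (o256, o3509), (o12, o2202)], 50, .node 7 50 []⟩,
  ⟨[(o10, o10), (o0, o0), (o215, o215), (o1965, o1677), (o14, o324), (o256, o3509), (o12, o3061)], 50, .node 7 50 [⟨o1466, [(1466, [])], 1053⟩,
      ⟨o3384, [(3384, [])], 1054⟩]⟩,
  ⟨[(o10, o10), (o0, o0), (o215, o215), (o1965, o1677), (o14, o324), (o256, o3509), (o12, o3061), (o243, o1466)], 50, .node 4 50 []⟩,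
  ⟨[(o10, o10), (o0, o0), (o215, o215), (o1965, o1677), (o14, o324), (o256, o3509), (o12, o3061), (o243, o3384)], 50, .node 4 50 [⟨o2897, [(2897, [])], 1055⟩]⟩,
  ⟨[(o10, o10), (o0, o0), (o215, o215), (o1965, o1677), (o14, o324), (o256, o3509), (o12, o3061), (o243, o3384), (o154, o2897)], 50, .bad [1, 2, 1] 1677 1677⟩,
  ⟨[(o10, o10), (o0, o0), (o215, o215), (o1965, o1677), (o14, o324), (o256, o3509), (o12, o3134)], 50, .node 4 50 [⟨o2496, [(2496, [])], 1057⟩]⟩,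
  ⟨[(o10, o10), (o0, o0), (o215, o215), (o1965, o1677), (o14, o324), (o256, o3509), (o12, o3134), (o154, o2496)], 50, .node 7 50 [⟨o3383, [(3383, [])], 1058⟩]⟩,
  ⟨[(o10, o10), (o0, o0), (o215, o215), (o1965, o1677), (o14, o324), (o256, o3509), (o12, o3134), (o154, o2496), (o243, o3383)], 50, .bad [1, 2, 1] 1677 1677⟩,
  ⟨[(o10, o10), (o0, o0), (o215, o215), (o1965, o1965)], 30, .node 1 51 [⟨o1, [(1, [])], 1060⟩,
      ⟨o14, [(14, [])], 1189⟩,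
      ⟨o72, [(72, []), (3400, [o0, o2549, o312, o509, o3244, o1499, o3018, o535]), (3503, [o1547, o8, o2343, o1525, o985, o1737, o535, o517])], 1318⟩,
      ⟨o216, [(216, []), (3492, [o0, o2549, o312, o509, o3244, o1499, o3018, o535]), (3506, [o1547, o8, o2343, o1525, o985, o1737, o535, o517])], 1407⟩,
      ⟨o370, [(370, []), (934, [o1547, o8, o2343, o1525, o985, o1737, o535, o517]), (1371, [o0, o2549, o312, o509, o3244, o1499, o3018, o535])], 1496⟩,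
      ⟨o422, [(422, []), (777, [o1547, o8, o2343, o1525, o985, o1737, o535, o517]), (1119, [o0, o2549, o312, o509, o3244, o1499, o3018, o535])], 1726⟩,
      ⟨o520, [(520, []), (536, [o0, o2549, o312, o509, o3244, o1499, o3018, o535]), (1966, [o1547, o8, o2343, o1525, o985, o1737, o535, o517])], 1859⟩,
      ⟨o557, [(557, []), (641, [o1547, o8, o2343, o1525, o985, o1737, o535, o517]), (1120, [o0, o2549, o312, o509, o3244, o1499, o3018, o535])], 1942⟩,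
      ⟨o1099, [(1099, []), (1168, [o0, o2549, o312, o509, o3244, o1499, o3018, o535]), (2769, [o1547, o8, o2343, o1525, o985, o1737, o535, o517])], 2075⟩,
      ⟨o1678, [(1678, []), (2041, [o1547, o8, o2343, o1525, o985, o1737, o535, o517]), (2386, [o0, o2549, o312, o509, o3244, o1499, o3018, o535])], 2220⟩,
      ⟨o1975, [(1975, []), (2745, [o1547, o8, o2343, o1525, o985, o1737, o535, o517]), (3146, [o0, o2549, o312, o509, o3244, o1499, o3018, o535])], 2327⟩,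
      ⟨o2590, [(2590, []), (2660, [o0, o2549, o312, o509, o3244, o1499, o3018, o535]), (2705, [o1547, o8, o2343, o1525, o985, o1737, o535, o517])], 2557⟩]⟩,
  ⟨[(o10, o10), (o0, o0), (o215, o215), (o1965, o1965), (o14, o1)], 51, .node 6 52 [⟨o251, [(251, [])], 1061⟩,
      ⟨o256, [(256, [])], 1104⟩,
      ⟨o287, [(287, []), (485, [o2184, o2032, o1307, o1677, o8, o2343, o1525, o985, o86, o3123, o1307, o1981, o2184, o2032, o1307, o1677, o8, o2343, o1525, o985, o86, o3123, o1307, o1981]), (2150, [o2184, o2032, o1307, o1677, o8, o2343, o1525, o985, o86, o3123, o1307, o1981])], 1147⟩,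
      ⟨o363, [(363, []), (486, [o2184, o2032, o1307, o1677, o8, o2343, o1525, o985, o86, o3123, o1307, o1981, o2184, o2032, o1307, o1677, o8, o2343, o1525, o985, o86, o3123, o1307, o1981]), (2149, [o2184, o2032, o1307, o1677, o8, o2343, o1525, o985, o86, o3123, o1307, o1981])], 1168⟩]⟩,
  ⟨[(o10, o10), (o0, o0), (o215, o215), (o1965, o1965), (o14, o1), (o256, o251)], 52, .node 2 52 [⟨o11, [(11, [])], 1062⟩,
      ⟨o12, [(12, [])], 1070⟩,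
      ⟨o2031, [(2031, [])], 1078⟩,
      ⟨o2192, [(2192, [])], 1083⟩,
      ⟨o2631, [(2631, [])], 1091⟩,
      ⟨o2666, [(2666, [])], 1096⟩]⟩,
  ⟨[(o10, o10), (o0, o0), (o215, o215), (o1965, o1965), (o14, o1), (o256, o251), (o12, o11)], 52, .node 4 52 [⟨o149, [(149, [])], 1063⟩,
      ⟨o429, [(429, [])], 1068⟩,
      ⟨o859, [(859, [])], 1069⟩]⟩,
  ⟨[(o10, o10), (o0, o0), (o215, o215), (o1965, o1965), (o14, o1), (o256, o251), (o12, o11), (o154, o149)], 52, .node 7 52 [⟨o9, [(9, [])], 1064⟩,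
      ⟨o244, [(244, [])], 1065⟩,
      ⟨o629, [(629, [])], 1066⟩,
      ⟨o1765, [(1765, [])], 1067⟩]⟩,
  ⟨[(o10, o10), (o0, o0), (o215, o215), (o1965, o1965), (o14, o1), (o256, o251), (o12, o11), (o154, o149), (o243, o9)], 52, .inner [2, 3, 4, 5, 0, 2, 4, 5, 4, 3, 2]⟩,
  ⟨[(o10, o10), (o0, o0), (o215, o215), (o1965, o1965), (o14, o1), (o256, o251), (o12, o11), (o154, o149), (o243, o244)], 52, .inner [2, 1, 0, 3, 4, 7, 8, 3, 4, 2, 3, 7, 3, 4, 5, 1, 2, 3, 4, 0, 1, 2, 3, 7, 3, 4, 5, 4, 2, 3, 0, 1, 0, 2, 4, 1, 0, 3, 2, 4, 5, 4, 3, 7, 3, 2, 1, 0, 4, 3, 2, 1, 5, 4, 3, 7, 3, 2, 4, 3, 8, 7, 4, 3, 0, 1, 2]⟩,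
  ⟨[(o10, o10), (o0, o0), (o215, o215), (o1965, o1965), (o14, o1), (o256, o251), (o12, o11), (o154, o149), (o243, o629)], 52, .conjw 2 [6, 4, 5, 1, 2, 3, 4, 1, 2, 0, 1, 0]⟩,
  ⟨[(o10, o10), (o0, o0), (o215, o215), (o1965, o1965), (o14, o1), (o256, o251), (o12, o11), (o154, o149), (o243, o1765)], 52, .conjw 1 [6, 4, 5, 1, 2, 3, 4, 1, 2, 0, 1, 0]⟩,
  ⟨[(o10, o10), (o0, o0), (o215, o215), (o1965, o1965), (o14, o1), (o256, o251), (o12, o11), (o154, o429)], 52, .node 7 52 []⟩,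
  ⟨[(o10, o10), (o0, o0), (o215, o215), (o1965, o1965), (o14, o1), (o256, o251), (o12, o11), (o154, o859)], 52, .node 7 52 []⟩,
  ⟨[(o10, o10), (o0, o0), (o215, o215), (o1965, o1965), (o14, o1), (o256, o251), (o12, o12)], 52, .node 4 52 [⟨o155, [(155, [])], 1071⟩,
      ⟨o430, [(430, [])], 1076⟩,
      ⟨o524, [(524, [])], 1077⟩]⟩,
  ⟨[(o10, o10), (o0, o0), (o215, o215), (o1965, o1965), (o14, o1), (o256, o251), (o12, o12), (o154, o155)], 52, .node 7 52 [⟨o243, [(243, [])], 1072⟩,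
      ⟨o253, [(253, [])], 1073⟩,
      ⟨o1674, [(1674, [])], 1074⟩,
      ⟨o1766, [(1766, [])], 1075⟩]⟩,
  ⟨[(o10, o10), (o0, o0), (o215, o215), (o1965, o1965), (o14, o1), (o256, o251), (o12, o12), (o154, o155), (o243, o243)], 52, .inner [4, 5, 3, 4, 2, 3, 0, 2, 3, 2, 4, 3, 5, 4]⟩,
  ⟨[(o10, o10), (o0, o0), (o215, o215), (o1965, o1965), (o14, o1), (o256, o251), (o12, o12), (o154, o155), (o243, o253)], 52, .inner [7, 8, 3, 7, 2, 3, 4, 5, 0, 2, 4, 5, 4, 3, 2, 7, 3, 8, 7]⟩,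
  ⟨[(o10, o10), (o0, o0), (o215, o215), (o1965, o1965), (o14, o1), (o256, o251), (o12, o12), (o154, o155), (o243, o1674)], 52, .conjw 1 [1, 0, 2, 1, 3, 4, 3, 2, 7, 3, 2, 4, 3, 5, 4, 6, 5, 7, 3, 4, 2, 3, 7, 8, 7, 3, 4, 5, 1, 2, 3, 4, 0, 1, 2, 3, 7, 6, 5, 3, 4, 2, 1]⟩,
  ⟨[(o10, o10), (o0, o0), (o215, o215), (o1965, o1965), (o14, o1), (o256, o251), (o12, o12), (o154, o155), (o243, o1766)], 52, .conjw 2 [1, 2, 3, 4, 3, 7, 8, 3, 7, 5, 6, 4, 5, 3, 4, 2, 3, 7, 8, 1, 2, 3, 7, 4, 3, 1, 2, 1]⟩,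
  ⟨[(o10, o10), (o0, o0), (o215, o215), (o1965, o1965), (o14, o1), (o256, o251), (o12, o12), (o154, o430)], 52, .node 7 52 []⟩,
  ⟨[(o10, o10), (o0, o0), (o215, o215), (o1965, o1965), (o14, o1), (o256, o251), (o12, o12), (o154, o524)], 52, .node 7 52 []⟩,
  ⟨[(o10, o10), (o0, o0), (o215, o215), (o1965, o1965), (o14, o1), (o256, o251), (o12, o2031)], 52, .node 7 52 [⟨o529, [(529, [])], 1079⟩,
      ⟨o628, [(628, [])], 1081⟩]⟩,
  ⟨[(o10, o10), (o0, o0), (o215, o215), (o1965, o1965), (o14, o1), (o256, o251), (o12, o2031), (o243, o529)], 52, .node 4 52 [⟨o859, [(859, [])], 1080⟩]⟩,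
  ⟨[(o10, o10), (o0, o0), (o215, o215), (o1965, o1965), (o14, o1), (o256, o251), (o12, o2031), (o243, o529), (o154, o859)], 52, .conjw 1 [1, 0, 2, 1, 7, 3, 2, 1, 4, 3, 2, 5, 4, 6, 5, 7, 3, 2, 8, 7, 3, 4, 2, 3, 7, 8, 1, 2, 3, 7, 5, 6, 4, 5, 3, 4, 2, 3, 7, 3, 4, 0, 1, 2, 1]⟩,
  ⟨[(o10, o10), (o0, o0), (o215, o215), (o1965, o1965), (o14, o1), (o256, o251), (o12, o2031), (o243, o628)], 52, .node 4 52 [⟨o859, [(859, [])], 1082⟩]⟩,
  ⟨[(o10, o10), (o0, o0), (o215, o215), (o1965, o1965), (o14, o1), (o256, o251), (o12, o2031), (o243, o628), (o154, o859)], 52, .conjw 2 [7, 8, 3, 7, 6, 4, 5, 1, 2, 3, 4, 1, 2, 0, 1, 0]⟩,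
  ⟨[(o10, o10), (o0, o0), (o215, o215), (o1965, o1965), (o14, o1), (o256, o251), (o12, o2192)], 52, .node 4 52 [⟨o155, [(155, [])], 1084⟩,
      ⟨o430, [(430, [])], 1085⟩,
      ⟨o524, [(524, [])], 1086⟩]⟩,
  ⟨[(o10, o10), (o0, o0), (o215, o215), (o1965, o1965), (o14, o1), (o256, o251), (o12, o2192), (o154, o155)], 52, .node 7 52 []⟩,
  ⟨[(o10, o10), (o0, o0), (o215, o215), (o1965, o1965), (o14, o1), (o256, o251), (o12, o2192), (o154, o430)], 52, .node 7 52 []⟩,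
  ⟨[(o10, o10), (o0, o0), (o215, o215), (o1965, o1965), (o14, o1), (o256, o251), (o12, o2192), (o154, o524)], 52, .node 7 52 [⟨o629, [(629, [])], 1087⟩,
      ⟨o1297, [(1297, [])], 1088⟩,
      ⟨o1563, [(1563, [])], 1089⟩,
      ⟨o1765, [(1765, [])], 1090⟩]⟩,
  ⟨[(o10, o10), (o0, o0), (o215, o215), (o1965, o1965), (o14, o1), (o256, o251), (o12, o2192), (o154, o524), (o243, o629)], 52, .bad [2, 3, 2] 629 629⟩,
  ⟨[(o10, o10), (o0, o0), (o215, o215), (o1965, o1965), (o14, o1), (o256, o251), (o12, o2192), (o154, o524), (o243, o1297)], 52, .conjw 2 [1, 2, 3, 6, 7, 3, 2, 4, 3, 8, 7, 5, 6, 4, 5, 3, 4, 2, 3, 7, 8, 1, 2, 3, 7, 5, 3, 4, 3, 2, 1, 0]⟩,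
  ⟨[(o10, o10), (o0, o0), (o215, o215), (o1965, o1965), (o14, o1), (o256, o251), (o12, o2192), (o154, o524), (o243, o1563)], 52, .conjw 1 [7, 8, 3, 7, 6, 4, 5, 1, 2, 3, 4, 1, 2, 0, 1, 0]⟩,
  ⟨[(o10, o10), (o0, o0), (o215, o215), (o1965, o1965), (o14, o1), (o256, o251), (o12, o2192), (o154, o524), (o243, o1765)], 52, .bad [2, 3, 2] 1765 1765⟩,
  ⟨[(o10, o10), (o0, o0), (o215, o215), (o1965, o1965), (o14, o1), (o256, o251), (o12, o2631)], 52, .node 7 52 [⟨o243, [(243, [])], 1092⟩,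
      ⟨o253, [(253, [])], 1094⟩]⟩,
  ⟨[(o10, o10), (o0, o0), (o215, o215), (o1965, o1965), (o14, o1), (o256, o251), (o12, o2631), (o243, o243)], 52, .node 4 52 [⟨o429, [(429, [])], 1093⟩]⟩,
  ⟨[(o10, o10), (o0, o0), (o215, o215), (o1965, o1965), (o14, o1), (o256, o251), (o12, o2631), (o243, o243), (o154, o429)], 52, .conjw 2 [1, 2, 1, 0, 3, 2, 1, 4, 3, 2, 1, 0, 5, 4, 6, 5, 3, 4, 2, 3, 7, 8, 1, 2, 3, 7, 4, 5, 1, 2, 3, 4, 1, 2, 0, 1, 0]⟩,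
  ⟨[(o10, o10), (o0, o0), (o215, o215), (o1965, o1965), (o14, o1), (o256, o251), (o12, o2631), (o243, o253)], 52, .node 4 52 [⟨o429, [(429, [])], 1095⟩]⟩,
  ⟨[(o10, o10), (o0, o0), (o215, o215), (o1965, o1965), (o14, o1), (o256, o251), (o12, o2631), (o243, o253), (o154, o429)], 52, .conjw 1 [1, 6, 7, 3, 2, 1, 0, 4, 5, 6, 8, 7, 3, 2, 1, 0, 4, 5, 3, 4, 2, 3, 7, 8, 6, 5, 4, 1, 2, 3, 7, 4, 5, 2, 3, 4, 1, 2, 0, 1, 0]⟩,
  ⟨[(o10, o10), (o0, o0), (o215, o215), (o1965, o1965), (o14, o1), (o256, o251), (o12, o2666)], 52, .node 4 52 [⟨o155, [(155, [])], 1097⟩,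
      ⟨o430, [(430, [])], 1098⟩,
      ⟨o524, [(524, [])], 1103⟩]⟩,
  ⟨[(o10, o10), (o0, o0), (o215, o215), (o1965, o1965), (o14, o1), (o256, o251), (o12, o2666), (o154, o155)], 52, .node 7 52 []⟩,
  ⟨[(o10, o10), (o0, o0), (o215, o215), (o1965, o1965), (o14, o1), (o256, o251), (o12, o2666), (o154, o430)], 52, .node 7 52 [⟨o9, [(9, [])], 1099⟩,
      ⟨o244, [(244, [])], 1100⟩,
      ⟨o529, [(529, [])], 1101⟩,
      ⟨o628, [(628, [])], 1102⟩]⟩,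
  ⟨[(o10, o10), (o0, o0), (o215, o215), (o1965, o1965), (o14, o1), (o256, o251), (o12, o2666), (o154, o430), (o243, o9)], 52, .conjw 1 [1, 2, 1, 0, 3, 2, 1, 4, 3, 2, 1, 0, 5, 6, 4, 5, 3, 4, 2, 3, 7, 8, 1, 2, 3, 7, 4, 5, 1, 2, 3, 4, 1, 2, 0, 1, 0]⟩,
  ⟨[(o10, o10), (o0, o0), (o215, o215), (o1965, o1965), (o14, o1), (o256, o251), (o12, o2666), (o154, o430), (o243, o244)], 52, .conjw 2 [1, 2, 1, 3, 2, 6, 7, 3, 2, 4, 8, 7, 5, 6, 3, 4, 5, 2, 3, 4, 1, 2, 3, 7, 3, 4, 2, 3, 0, 1, 2, 0, 1, 0]⟩,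
  ⟨[(o10, o10), (o0, o0), (o215, o215), (o1965, o1965), (o14, o1), (o256, o251), (o12, o2666), (o154, o430), (o243, o529)], 52, .bad [3, 7, 3] 2666 2666⟩,
  ⟨[(o10, o10), (o0, o0), (o215, o215), (o1965, o1965), (o14, o1), (o256, o251), (o12, o2666), (o154, o430), (o243, o628)], 52, .bad [3, 7, 3] 2666 2666⟩,
  ⟨[(o10, o10), (o0, o0), (o215, o215), (o1965, o1965), (o14, o1), (o256, o251), (o12, o2666), (o154, o524)], 52, .node 7 52 []⟩,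
  ⟨[(o10, o10), (o0, o0), (o215, o215), (o1965, o1965), (o14, o1), (o256, o256)], 52, .node 2 52 [⟨o11, [(11, [])], 1105⟩,
      ⟨o12, [(12, [])], 1113⟩,
      ⟨o2031, [(2031, [])], 1121⟩,
      ⟨o2192, [(2192, [])], 1126⟩,
      ⟨o2631, [(2631, [])], 1134⟩,
      ⟨o2666, [(2666, [])], 1139⟩]⟩,
  ⟨[(o10, o10), (o0, o0), (o215, o215), (o1965, o1965), (o14, o1), (o256, o256), (o12, o11)], 52, .node 4 52 [⟨o67, [(67, [])], 1106⟩,
      ⟨o317, [(317, [])], 1111⟩,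
      ⟨o1976, [(1976, [])], 1112⟩]⟩,
  ⟨[(o10, o10), (o0, o0), (o215, o215), (o1965, o1965), (o14, o1), (o256, o256), (o12, o11), (o154, o67)], 52, .node 7 52 [⟨o9, [(9, [])], 1107⟩,
      ⟨o244, [(244, [])], 1108⟩,
      ⟨o629, [(629, [])], 1109⟩,
      ⟨o1765, [(1765, [])], 1110⟩]⟩,
  ⟨[(o10, o10), (o0, o0), (o215, o215), (o1965, o1965), (o14, o1), (o256, o256), (o12, o11), (o154, o67), (o243, o9)], 52, .inner [2, 3, 0, 2, 3, 2]⟩,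
  ⟨[(o10, o10), (o0, o0), (o215, o215), (o1965, o1965), (o14, o1), (o256, o256), (o12, o11), (o154, o67), (o243, o244)], 52, .inner [4, 3, 7, 8, 5, 4, 3, 7, 2, 3, 4, 5, 0, 2, 4, 5, 4, 3, 2, 7, 3, 4, 5, 8, 7, 3, 4]⟩,
  ⟨[(o10, o10), (o0, o0), (o215, o215), (o1965, o1965), (o14, o1), (o256, o256), (o12, o11), (o154, o67), (o243, o629)], 52, .conjw 1 [1, 0, 2, 1, 4, 3, 7, 3, 2, 1, 0, 4, 3, 2, 1, 7, 3, 4, 2, 3, 7, 8, 7, 5, 6, 3, 4, 5, 2, 3, 4, 1, 2, 3, 7, 3, 4, 0, 1, 2, 1]⟩,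
  ⟨[(o10, o10), (o0, o0), (o215, o215), (o1965, o1965), (o14, o1), (o256, o256), (o12, o11), (o154, o67), (o243, o1765)], 52, .conjw 2 [1, 2, 1, 0, 4, 7, 8, 3, 7, 5, 2, 3, 4, 1, 2, 3, 7, 8, 6, 5, 4, 3, 7, 2, 3, 4, 2, 1]⟩,
  ⟨[(o10, o10), (o0, o0), (o215, o215), (o1965, o1965), (o14, o1), (o256, o256), (o12, o11), (o154, o317)], 52, .node 7 52 []⟩,
  ⟨[(o10, o10), (o0, o0), (o215, o215), (o1965, o1965), (o14, o1), (o256, o256), (o12, o11), (o154, o1976)], 52, .node 7 52 []⟩,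
  ⟨[(o10, o10), (o0, o0), (o215, o215), (o1965, o1965), (o14, o1), (o256, o256), (o12, o12)], 52, .node 4 52 [⟨o154, [(154, [])], 1114⟩,
      ⟨o316, [(316, [])], 1119⟩,
      ⟨o525, [(525, [])], 1120⟩]⟩,
  ⟨[(o10, o10), (o0, o0), (o215, o215), (o1965, o1965), (o14, o1), (o256, o256), (o12, o12), (o154, o154)], 52, .node 7 52 [⟨o243, [(243, [])], 1115⟩,
      ⟨o253, [(253, [])], 1116⟩,
      ⟨o1674, [(1674, [])], 1117⟩,
      ⟨o1766, [(1766, [])], 1118⟩]⟩,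
  ⟨[(o10, o10), (o0, o0), (o215, o215), (o1965, o1965), (o14, o1), (o256, o256), (o12, o12), (o154, o154), (o243, o243)], 52, .inner [0]⟩,
  ⟨[(o10, o10), (o0, o0), (o215, o215), (o1965, o1965), (o14, o1), (o256, o256), (o12, o12), (o154, o154), (o243, o253)], 52, .inner [7, 8, 3, 7, 2, 3, 0, 2, 3, 2, 7, 3, 8, 7]⟩,
  ⟨[(o10, o10), (o0, o0), (o215, o215), (o1965, o1965), (o14, o1), (o256, o256), (o12, o12), (o154, o154), (o243, o1674)], 52, .conjw 2 [1, 2, 7, 3, 2, 1, 0, 4, 3, 2, 1, 8, 7, 3, 2, 4, 3, 7, 8, 5, 6, 4, 5, 3, 4, 2, 3, 7, 3, 4, 5, 1, 2, 3, 4, 0, 1, 0]⟩,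
  ⟨[(o10, o10), (o0, o0), (o215, o215), (o1965, o1965), (o14, o1), (o256, o256), (o12, o12), (o154, o154), (o243, o1766)], 52, .conjw 1 [7, 3, 2, 4, 3, 8, 7, 3, 2, 1, 0, 4, 3, 2, 1, 5, 4, 6, 5, 3, 4, 2, 3, 7, 8, 3, 4, 2, 3, 7, 5, 1, 2, 3, 4, 2, 3, 1, 2, 0, 1, 0]⟩,
  ⟨[(o10, o10), (o0, o0), (o215, o215), (o1965, o1965), (o14, o1), (o256, o256), (o12, o12), (o154, o316)], 52, .node 7 52 []⟩,
  ⟨[(o10, o10), (o0, o0), (o215, o215), (o1965, o1965), (o14, o1), (o256, o256), (o12, o12), (o154, o525)], 52, .node 7 52 []⟩,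
  ⟨[(o10, o10), (o0, o0), (o215, o215), (o1965, o1965), (o14, o1), (o256, o256), (o12, o2031)], 52, .node 7 52 [⟨o529, [(529, [])], 1122⟩,
      ⟨o628, [(628, [])], 1124⟩]⟩,
  ⟨[(o10, o10), (o0, o0), (o215, o215), (o1965, o1965), (o14, o1), (o256, o256), (o12, o2031), (o243, o529)], 52, .node 4 52 [⟨o1976, [(1976, [])], 1123⟩]⟩,
  ⟨[(o10, o10), (o0, o0), (o215, o215), (o1965, o1965), (o14, o1), (o256, o256), (o12, o2031), (o243, o529), (o154, o1976)], 52, .conjw 2 [1, 2, 1, 0, 4, 3, 2, 1, 7, 3, 2, 1, 4, 3, 7, 8, 5, 6, 4, 5, 3, 4, 2, 3, 7, 3, 4, 5, 1, 2, 3, 4, 2, 0, 1, 0]⟩,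
  ⟨[(o10, o10), (o0, o0), (o215, o215), (o1965, o1965), (o14, o1), (o256, o256), (o12, o2031), (o243, o628)], 52, .node 4 52 [⟨o1976, [(1976, [])], 1125⟩]⟩,
  ⟨[(o10, o10), (o0, o0), (o215, o215), (o1965, o1965), (o14, o1), (o256, o256), (o12, o2031), (o243, o628), (o154, o1976)], 52, .conjw 1 [1, 2, 1, 0, 3, 2, 1, 4, 3, 2, 7, 3, 2, 8, 7, 4, 5, 3, 4, 2, 3, 7, 8, 6, 5, 4, 3, 7, 1, 2, 3, 4, 3, 1, 2, 0, 1, 0]⟩,
  ⟨[(o10, o10), (o0, o0), (o215, o215), (o1965, o1965), (o14, o1), (o256, o256), (o12, o2192)], 52, .node 4 52 [⟨o154, [(154, [])], 1127⟩,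
      ⟨o316, [(316, [])], 1128⟩,
      ⟨o525, [(525, [])], 1129⟩]⟩,
  ⟨[(o10, o10), (o0, o0), (o215, o215), (o1965, o1965), (o14, o1), (o256, o256), (o12, o2192), (o154, o154)], 52, .node 7 52 []⟩,
  ⟨[(o10, o10), (o0, o0), (o215, o215), (o1965, o1965), (o14, o1), (o256, o256), (o12, o2192), (o154, o316)], 52, .node 7 52 []⟩,
  ⟨[(o10, o10), (o0, o0), (o215, o215), (o1965, o1965), (o14, o1), (o256, o256), (o12, o2192), (o154, o525)], 52, .node 7 52 [⟨o629, [(629, [])], 1130⟩,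
      ⟨o1297, [(1297, [])], 1131⟩,
      ⟨o1563, [(1563, [])], 1132⟩,
      ⟨o1765, [(1765, [])], 1133⟩]⟩,
  ⟨[(o10, o10), (o0, o0), (o215, o215), (o1965, o1965), (o14, o1), (o256, o256), (o12, o2192), (o154, o525), (o243, o629)], 52, .bad [2, 3, 2] 629 629⟩,
  ⟨[(o10, o10), (o0, o0), (o215, o215), (o1965, o1965), (o14, o1), (o256, o256), (o12, o2192), (o154, o525), (o243, o1297)], 52, .conjw 1 [2, 3, 4, 3, 2, 1, 0, 5, 6, 7, 3, 2, 1, 4, 5, 3, 4, 2, 3, 7, 8, 3, 4, 2, 3, 7, 5, 1, 2, 3, 4, 2, 3, 1, 2, 0, 1, 0]⟩,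
  ⟨[(o10, o10), (o0, o0), (o215, o215), (o1965, o1965), (o14, o1), (o256, o256), (o12, o2192), (o154, o525), (o243, o1563)], 52, .conjw 2 [1, 7, 3, 2, 1, 4, 3, 7, 5, 2, 3, 4, 0, 1, 2, 3, 7, 8, 6, 5, 4, 3, 7, 2, 3, 4, 2, 1]⟩,
  ⟨[(o10, o10), (o0, o0), (o215, o215), (o1965, o1965), (o14, o1), (o256, o256), (o12, o2192), (o154, o525), (o243, o1765)], 52, .bad [2, 3, 2] 1765 1765⟩,
  ⟨[(o10, o10), (o0, o0), (o215, o215), (o1965, o1965), (o14, o1), (o256, o256), (o12, o2631)], 52, .node 7 52 [⟨o243, [(243, [])], 1135⟩,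
      ⟨o253, [(253, [])], 1137⟩]⟩,
  ⟨[(o10, o10), (o0, o0), (o215, o215), (o1965, o1965), (o14, o1), (o256, o256), (o12, o2631), (o243, o243)], 52, .node 4 52 [⟨o317, [(317, [])], 1136⟩]⟩,
  ⟨[(o10, o10), (o0, o0), (o215, o215), (o1965, o1965), (o14, o1), (o256, o256), (o12, o2631), (o243, o243), (o154, o317)], 52, .conjw 1 [1, 4, 3, 2, 1, 0, 5, 4, 6, 5, 7, 3, 2, 1, 4, 8, 7, 3, 4, 2, 3, 7, 8, 3, 4, 1, 2, 3, 7, 5, 3, 4, 2, 3, 0, 1, 2, 0, 1, 0]⟩,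
  ⟨[(o10, o10), (o0, o0), (o215, o215), (o1965, o1965), (o14, o1), (o256, o256), (o12, o2631), (o243, o253)], 52, .node 4 52 [⟨o317, [(317, [])], 1138⟩]⟩,
  ⟨[(o10, o10), (o0, o0), (o215, o215), (o1965, o1965), (o14, o1), (o256, o256), (o12, o2631), (o243, o253), (o154, o317)], 52, .conjw 2 [2, 3, 4, 3, 2, 7, 3, 2, 1, 8, 7, 3, 4, 2, 3, 7, 8, 0, 1, 2, 3, 7, 5, 1, 2, 3, 4, 3, 2, 0, 1, 0]⟩,
  ⟨[(o10, o10), (o0, o0), (o215, o215), (o1965, o1965), (o14, o1), (o256, o256), (o12, o2666)], 52, .node 4 52 [⟨o154, [(154, [])], 1140⟩,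
      ⟨o316, [(316, [])], 1141⟩,
      ⟨o525, [(525, [])], 1146⟩]⟩,
  ⟨[(o10, o10), (o0, o0), (o215, o215), (o1965, o1965), (o14, o1), (o256, o256), (o12, o2666), (o154, o154)], 52, .node 7 52 []⟩,
  ⟨[(o10, o10), (o0, o0), (o215, o215), (o1965, o1965), (o14, o1), (o256, o256), (o12, o2666), (o154, o316)], 52, .node 7 52 [⟨o9, [(9, [])], 1142⟩,
      ⟨o244, [(244, [])], 1143⟩,
      ⟨o529, [(529, [])], 1144⟩,
      ⟨o628, [(628, [])], 1145⟩]⟩,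
  ⟨[(o10, o10), (o0, o0), (o215, o215), (o1965, o1965), (o14, o1), (o256, o256), (o12, o2666), (o154, o316), (o243, o9)], 52, .conjw 2 [2, 3, 4, 3, 7, 3, 2, 1, 8, 7, 3, 4, 2, 3, 7, 8, 0, 1, 2, 3, 7, 5, 4, 1, 2, 3, 0, 1, 2, 0, 1, 0]⟩,
  ⟨[(o10, o10), (o0, o0), (o215, o215), (o1965, o1965), (o14, o1), (o256, o256), (o12, o2666), (o154, o316), (o243, o244)], 52, .conjw 1 [2, 3, 4, 3, 2, 7, 3, 8, 7, 4, 5, 3, 4, 2, 3, 7, 8, 6, 5, 4, 3, 7, 5, 4, 1, 2, 3, 0, 1, 2, 1, 0]⟩,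
  ⟨[(o10, o10), (o0, o0), (o215, o215), (o1965, o1965), (o14, o1), (o256, o256), (o12, o2666), (o154, o316), (o243, o529)], 52, .bad [3, 7, 3] 2666 2666⟩,
  ⟨[(o10, o10), (o0, o0), (o215, o215), (o1965, o1965), (o14, o1), (o256, o256), (o12, o2666), (o154, o316), (o243, o628)], 52, .bad [3, 7, 3] 2666 2666⟩,
  ⟨[(o10, o10), (o0, o0), (o215, o215), (o1965, o1965), (o14, o1), (o256, o256), (o12, o2666), (o154, o525)], 52, .node 7 52 []⟩,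
  ⟨[(o10, o10), (o0, o0), (o215, o215), (o1965, o1965), (o14, o1), (o256, o287)], 52, .node 4 52 [⟨o902, [(902, [])], 1148⟩,
      ⟨o1294, [(1294, [])], 1153⟩,
      ⟨o1442, [(1442, [])], 1158⟩,
      ⟨o1529, [(1529, [])], 1163⟩]⟩,
  ⟨[(o10, o10), (o0, o0), (o215, o215), (o1965, o1965), (o14, o1), (o256, o287), (o154, o902)], 52, .node 7 52 [⟨o9, [(9, [])], 1149⟩,
      ⟨o244, [(244, [])], 1151⟩]⟩,
  ⟨[(o10, o10), (o0, o0), (o215, o215), (o1965, o1965), (o14, o1), (o256, o287), (o154, o902), (o243, o9)], 52, .node 2 52 [⟨o3122, [(3122, [])], 1150⟩]⟩,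
  ⟨[(o10, o10), (o0, o0), (o215, o215), (o1965, o1965), (o14, o1), (o256, o287), (o154, o902), (o243, o9), (o12, o3122)], 52, .conjw 1 [1, 0, 4, 3, 7, 3, 2, 1, 0, 4, 3, 2, 1, 5, 4, 7, 3, 4, 8, 7, 3, 4, 2, 3, 7, 8, 1, 2, 3, 7, 5, 6, 4, 5, 3, 4, 2, 3, 7, 3, 4, 0, 1, 2, 1]⟩,
  ⟨[(o10, o10), (o0, o0), (o215, o215), (o1965, o1965), (o14, o1), (o256, o287), (o154, o902), (o243, o244)], 52, .node 2 52 [⟨o3122, [(3122, [])], 1152⟩]⟩]

/-- Nodes. -/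
def nd9 : List ONode := [
  ⟨[(o10, o10), (o0, o0), (o215, o215), (o1965, o1965), (o14, o1), (o256, o287), (o154, o902), (o243, o244), (o12, o3122)], 52, .conjw 2 [4, 3, 7, 8, 5, 4, 3, 7, 6, 4, 5, 1, 2, 3, 4, 1, 2, 0, 1, 0]⟩,
  ⟨[(o10, o10), (o0, o0), (o215, o215), (o1965, o1965), (o14, o1), (o256, o287), (o154, o1294)], 52, .node 7 52 [⟨o243, [(243, [])], 1154⟩,
      ⟨o253, [(253, [])], 1156⟩]⟩,
  ⟨[(o10, o10), (o0, o0), (o215, o215), (o1965, o1965), (o14, o1), (o256, o287), (o154, o1294), (o243, o243)], 52, .node 2 52 [⟨o1528, [(1528, [])], 1155⟩]⟩,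
  ⟨[(o10, o10), (o0, o0), (o215, o215), (o1965, o1965), (o14, o1), (o256, o287), (o154, o1294), (o243, o243), (o12, o1528)], 52, .inner [6, 5, 1, 2, 3, 4, 0, 1, 2, 3, 7, 8, 3, 4, 2, 3, 7, 1, 2, 3, 0, 1, 0, 2, 1, 0, 3, 2, 1, 7, 3, 2, 4, 3, 8, 7, 3, 2, 1, 0, 4, 3, 2, 1, 5, 6]⟩,
  ⟨[(o10, o10), (o0, o0), (o215, o215), (o1965, o1965), (o14, o1), (o256, o287), (o154, o1294), (o243, o253)], 52, .node 2 52 [⟨o1528, [(1528, [])], 1157⟩]⟩,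
  ⟨[(o10, o10), (o0, o0), (o215, o215), (o1965, o1965), (o14, o1), (o256, o287), (o154, o1294), (o243, o253), (o12, o1528)], 52, .inner [2, 3, 7, 8, 3, 7, 1, 2, 3, 4, 0, 1, 2, 3, 7, 6, 0, 1, 2, 3, 4, 5, 2, 3, 0, 2, 4, 3, 2, 5, 4, 3, 2, 1, 0, 6, 7, 3, 2, 1, 0, 4, 3, 2, 1, 7, 3, 8, 7, 3, 2]⟩,
  ⟨[(o10, o10), (o0, o0), (o215, o215), (o1965, o1965), (o14, o1), (o256, o287), (o154, o1442)], 52, .node 7 52 [⟨o9, [(9, [])], 1159⟩,
      ⟨o244, [(244, [])], 1161⟩]⟩,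
  ⟨[(o10, o10), (o0, o0), (o215, o215), (o1965, o1965), (o14, o1), (o256, o287), (o154, o1442), (o243, o9)], 52, .node 2 52 [⟨o366, [(366, [])], 1160⟩]⟩,
  ⟨[(o10, o10), (o0, o0), (o215, o215), (o1965, o1965), (o14, o1), (o256, o287), (o154, o1442), (o243, o9), (o12, o366)], 52, .inner [2, 3, 7, 8, 1, 2, 3, 4, 0, 1, 2, 3, 7, 6, 2, 3, 4, 5, 2, 3, 0, 2, 4, 3, 2, 5, 4, 3, 2, 6, 7, 3, 2, 1, 0, 4, 3, 2, 1, 8, 7, 3, 2]⟩,
  ⟨[(o10, o10), (o0, o0), (o215, o215), (o1965, o1965), (o14, o1), (o256, o287), (o154, o1442), (o243, o244)], 52, .node 2 52 [⟨o366, [(366, [])], 1162⟩]⟩,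
  ⟨[(o10, o10), (o0, o0), (o215, o215), (o1965, o1965), (o14, o1), (o256, o287), (o154, o1442), (o243, o244), (o12, o366)], 52, .inner [2, 3, 7, 8, 4, 3, 7, 6, 4, 5, 2, 3, 4, 1, 2, 3, 7, 5, 0, 1, 2, 3, 0, 1, 0, 2, 4, 1, 0, 3, 2, 1, 0, 5, 7, 3, 2, 1, 4, 3, 2, 5, 4, 6, 7, 3, 4, 8, 7, 3, 2]⟩,
  ⟨[(o10, o10), (o0, o0), (o215, o215), (o1965, o1965), (o14, o1), (o256, o287), (o154, o1529)], 52, .node 7 52 [⟨o243, [(243, [])], 1164⟩,
      ⟨o253, [(253, [])], 1166⟩]⟩,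
  ⟨[(o10, o10), (o0, o0), (o215, o215), (o1965, o1965), (o14, o1), (o256, o287), (o154, o1529), (o243, o243)], 52, .node 2 52 [⟨o3121, [(3121, [])], 1165⟩]⟩,
  ⟨[(o10, o10), (o0, o0), (o215, o215), (o1965, o1965), (o14, o1), (o256, o287), (o154, o1529), (o243, o243), (o12, o3121)], 52, .conjw 2 [1, 2, 1, 0, 4, 3, 2, 1, 0, 5, 7, 3, 2, 1, 4, 3, 7, 8, 5, 6, 4, 5, 3, 4, 2, 3, 7, 3, 4, 5, 1, 2, 3, 4, 2, 0, 1, 0]⟩,
  ⟨[(o10, o10), (o0, o0), (o215, o215), (o1965, o1965), (o14, o1), (o256, o287), (o154, o1529), (o243, o253)], 52, .node 2 52 [⟨o3121, [(3121, [])], 1167⟩]⟩,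
  ⟨[(o10, o10), (o0, o0), (o215, o215), (o1965, o1965), (o14, o1), (o256, o287), (o154, o1529), (o243, o253), (o12, o3121)], 52, .conjw 1 [1, 2, 1, 0, 4, 3, 2, 1, 0, 5, 4, 3, 2, 1, 7, 3, 2, 8, 7, 4, 5, 3, 4, 2, 3, 7, 8, 6, 5, 4, 3, 7, 1, 2, 3, 4, 3, 1, 2, 0, 1, 0]⟩,
  ⟨[(o10, o10), (o0, o0), (o215, o215), (o1965, o1965), (o14, o1), (o256, o363)], 52, .node 7 52 [⟨o9, [(9, [])], 1169⟩,
      ⟨o243, [(243, [])], 1174⟩,
      ⟨o244, [(244, [])], 1179⟩,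
      ⟨o253, [(253, [])], 1184⟩]⟩,
  ⟨[(o10, o10), (o0, o0), (o215, o215), (o1965, o1965), (o14, o1), (o256, o363), (o243, o9)], 52, .node 2 52 [⟨o366, [(366, [])], 1170⟩,
      ⟨o3122, [(3122, [])], 1172⟩]⟩,
  ⟨[(o10, o10), (o0, o0), (o215, o215), (o1965, o1965), (o14, o1), (o256, o363), (o243, o9), (o12, o366)], 52, .node 4 52 [⟨o561, [(561, [])], 1171⟩]⟩,
  ⟨[(o10, o10), (o0, o0), (o215, o215), (o1965, o1965), (o14, o1), (o256, o363), (o243, o9), (o12, o366), (o154, o561)], 52, .inner [2, 1, 3, 7, 3, 2, 1, 0, 4, 8, 3, 7, 5, 6, 3, 4, 5, 2, 3, 4, 1, 2, 3, 7, 5, 6, 0, 1, 2, 3, 4, 5, 2, 3, 0, 1, 0, 2, 4, 1, 0, 3, 2, 5, 4, 3, 2, 1, 0, 6, 5, 7, 3, 2, 1, 4, 3, 2, 5, 4, 3, 6, 5, 7, 3, 8, 4, 0, 1, 2, 3, 7, 3, 1, 2]⟩,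
  ⟨[(o10, o10), (o0, o0), (o215, o215), (o1965, o1965), (o14, o1), (o256, o363), (o243, o9), (o12, o3122)], 52, .node 4 52 [⟨o484, [(484, [])], 1173⟩]⟩,
  ⟨[(o10, o10), (o0, o0), (o215, o215), (o1965, o1965), (o14, o1), (o256, o363), (o243, o9), (o12, o3122), (o154, o484)], 52, .conjw 2 [1, 2, 1, 3, 2, 7, 3, 2, 4, 8, 7, 5, 6, 3, 4, 5, 2, 3, 4, 1, 2, 3, 7, 6, 3, 4, 5, 2, 3, 4, 1, 0]⟩,
  ⟨[(o10, o10), (o0, o0), (o215, o215), (o1965, o1965), (o14, o1), (o256, o363), (o243, o243)], 52, .node 2 52 [⟨o1528, [(1528, [])], 1175⟩,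
      ⟨o3121, [(3121, [])], 1177⟩]⟩,
  ⟨[(o10, o10), (o0, o0), (o215, o215), (o1965, o1965), (o14, o1), (o256, o363), (o243, o243), (o12, o1528)], 52, .node 4 52 [⟨o560, [(560, [])], 1176⟩]⟩,
  ⟨[(o10, o10), (o0, o0), (o215, o215), (o1965, o1965), (o14, o1), (o256, o363), (o243, o243), (o12, o1528), (o154, o560)], 52, .inner [6, 5, 1, 2, 3, 4, 0, 1, 2, 3, 7, 8, 3, 4, 2, 3, 7, 5, 6, 1, 2, 3, 4, 5, 0, 1, 0, 2, 4, 1, 0, 5, 4, 3, 2, 1, 6, 5, 7, 3, 2, 4, 3, 8, 7, 3, 2, 1, 0, 4, 3, 2, 1, 5, 6]⟩,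
  ⟨[(o10, o10), (o0, o0), (o215, o215), (o1965, o1965), (o14, o1), (o256, o363), (o243, o243), (o12, o3121)], 52, .node 4 52 [⟨o483, [(483, [])], 1178⟩]⟩,
  ⟨[(o10, o10), (o0, o0), (o215, o215), (o1965, o1965), (o14, o1), (o256, o363), (o243, o243), (o12, o3121), (o154, o483)], 52, .conjw 1 [2, 1, 0, 3, 4, 3, 5, 4, 6, 7, 3, 2, 1, 4, 5, 3, 4, 2, 3, 7, 8, 3, 4, 2, 3, 7, 5, 1, 2, 3, 4, 2, 3, 1, 2, 0, 1, 0]⟩,
  ⟨[(o10, o10), (o0, o0), (o215, o215), (o1965, o1965), (o14, o1), (o256, o363), (o243, o244)], 52, .node 2 52 [⟨o366, [(366, [])], 1180⟩,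
      ⟨o3122, [(3122, [])], 1182⟩]⟩,
  ⟨[(o10, o10), (o0, o0), (o215, o215), (o1965, o1965), (o14, o1), (o256, o363), (o243, o244), (o12, o366)], 52, .node 4 52 [⟨o561, [(561, [])], 1181⟩]⟩,
  ⟨[(o10, o10), (o0, o0), (o215, o215), (o1965, o1965), (o14, o1), (o256, o363), (o243, o244), (o12, o366), (o154, o561)], 52, .inner [1, 0, 4, 3, 5, 6, 5, 4, 3, 7, 3, 8, 4, 2, 3, 7, 5, 1, 2, 3, 4, 0, 1, 2, 3, 7, 5, 6, 1, 2, 3, 4, 5, 1, 2, 3, 0, 1, 0, 2, 4, 1, 0, 3, 2, 1, 5, 4, 3, 2, 1, 6, 5, 7, 3, 2, 1, 0, 4, 3, 2, 1, 5, 7, 3, 2, 4, 8, 3, 7, 3, 4, 5, 6, 5, 3, 4, 0, 1]⟩,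
  ⟨[(o10, o10), (o0, o0), (o215, o215), (o1965, o1965), (o14, o1), (o256, o363), (o243, o244), (o12, o3122)], 52, .node 4 52 [⟨o484, [(484, [])], 1183⟩]⟩,
  ⟨[(o10, o10), (o0, o0), (o215, o215), (o1965, o1965), (o14, o1), (o256, o363), (o243, o244), (o12, o3122), (o154, o484)], 52, .conjw 1 [4, 3, 7, 8, 5, 4, 3, 7, 6, 4, 5, 1, 2, 3, 4, 1, 2, 0, 1, 0]⟩,
  ⟨[(o10, o10), (o0, o0), (o215, o215), (o1965, o1965), (o14, o1), (o256, o363), (o243, o253)], 52, .node 2 52 [⟨o1528, [(1528, [])], 1185⟩,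
      ⟨o3121, [(3121, [])], 1187⟩]⟩,
  ⟨[(o10, o10), (o0, o0), (o215, o215), (o1965, o1965), (o14, o1), (o256, o363), (o243, o253), (o12, o1528)], 52, .node 4 52 [⟨o560, [(560, [])], 1186⟩]⟩,
  ⟨[(o10, o10), (o0, o0), (o215, o215), (o1965, o1965), (o14, o1), (o256, o363), (o243, o253), (o12, o1528), (o154, o560)], 52, .inner [2, 1, 0, 3, 4, 5, 7, 8, 3, 4, 2, 3, 7, 5, 6, 4, 5, 3, 4, 1, 2, 3, 7, 5, 6, 0, 1, 2, 3, 4, 5, 3, 0, 1, 0, 2, 4, 1, 0, 3, 5, 4, 3, 2, 1, 0, 6, 5, 7, 3, 2, 1, 4, 3, 5, 4, 6, 5, 7, 3, 2, 4, 3, 8, 7, 5, 4, 3, 0, 1, 2]⟩,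
  ⟨[(o10, o10), (o0, o0), (o215, o215), (o1965, o1965), (o14, o1), (o256, o363), (o243, o253), (o12, o3121)], 52, .node 4 52 [⟨o483, [(483, [])], 1188⟩]⟩,
  ⟨[(o10, o10), (o0, o0), (o215, o215), (o1965, o1965), (o14, o1), (o256, o363), (o243, o253), (o12, o3121), (o154, o483)], 52, .conjw 2 [1, 2, 1, 3, 2, 7, 3, 2, 1, 8, 7, 4, 5, 6, 3, 4, 5, 2, 3, 4, 1, 2, 3, 7, 3, 4, 5, 2, 3, 4, 1, 0]⟩,
  ⟨[(o10, o10), (o0, o0), (o215, o215), (o1965, o1965), (o14, o14)], 51, .node 6 52 [⟨o251, [(251, [])], 1190⟩,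
      ⟨o256, [(256, [])], 1233⟩,
      ⟨o287, [(287, []), (485, [o215, o0, o2549, o312, o509, o3244, o1499, o3018, o535, o562]), (2150, [o0, o1677, o8, o2343, o1525, o985, o86, o3123, o1307, o1567])], 1276⟩,
      ⟨o363, [(363, []), (486, [o215, o0, o2549, o312, o509, o3244, o1499, o3018, o535, o562]), (2149, [o0, o1677, o8, o2343, o1525, o985, o86, o3123, o1307, o1567])], 1297⟩]⟩,
  ⟨[(o10, o10), (o0, o0), (o215, o215), (o1965, o1965), (o14, o14), (o256, o251)], 52, .node 2 52 [⟨o11, [(11, [])], 1191⟩,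
      ⟨o12, [(12, [])], 1199⟩,
      ⟨o2031, [(2031, [])], 1207⟩,
      ⟨o2192, [(2192, [])], 1212⟩,
      ⟨o2631, [(2631, [])], 1220⟩,
      ⟨o2666, [(2666, [])], 1225⟩]⟩,
  ⟨[(o10, o10), (o0, o0), (o215, o215), (o1965, o1965), (o14, o14), (o256, o251), (o12, o11)], 52, .node 4 52 [⟨o149, [(149, [])], 1192⟩,
      ⟨o429, [(429, [])], 1197⟩,
      ⟨o859, [(859, [])], 1198⟩]⟩,
  ⟨[(o10, o10), (o0, o0), (o215, o215), (o1965, o1965), (o14, o14), (o256, o251), (o12, o11), (o154, o149)], 52, .node 7 52 [⟨o9, [(9, [])], 1193⟩,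
      ⟨o244, [(244, [])], 1194⟩,
      ⟨o629, [(629, [])], 1195⟩,
      ⟨o1765, [(1765, [])], 1196⟩]⟩,
  ⟨[(o10, o10), (o0, o0), (o215, o215), (o1965, o1965), (o14, o14), (o256, o251), (o12, o11), (o154, o149), (o243, o9)], 52, .inner [2, 3, 4, 5, 1, 2, 3, 4, 0, 1, 2, 3, 0, 2, 3, 2, 1, 0, 4, 3, 2, 1, 5, 4, 3, 2]⟩,
  ⟨[(o10, o10), (o0, o0), (o215, o215), (o1965, o1965), (o14, o14), (o256, o251), (o12, o11), (o154, o149), (o243, o244)], 52, .inner [2, 3, 7, 8, 1, 2, 3, 7, 0, 1, 2, 3, 4, 5, 0, 2, 4, 5, 4, 3, 2, 1, 0, 7, 3, 2, 1, 8, 7, 3, 2]⟩,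
  ⟨[(o10, o10), (o0, o0), (o215, o215), (o1965, o1965), (o14, o14), (o256, o251), (o12, o11), (o154, o149), (o243, o629)], 52, .conjw 1 [4, 3, 7, 3, 2, 4, 3, 5, 4, 6, 7, 3, 2, 1, 8, 7, 3, 4, 5, 2, 3, 4, 0, 1, 2, 3, 7, 8, 3, 4, 2, 3, 7, 3, 4, 1, 2, 1, 0]⟩,
  ⟨[(o10, o10), (o0, o0), (o215, o215), (o1965, o1965), (o14, o14), (o256, o251), (o12, o11), (o154, o149), (o243, o1765)], 52, .conjw 2 [2, 1, 0, 4, 3, 7, 8, 3, 7, 5, 6, 4, 5, 3, 4, 2, 3, 7, 8, 1, 2, 3, 7, 4, 3, 1, 2, 1]⟩,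
  ⟨[(o10, o10), (o0, o0), (o215, o215), (o1965, o1965), (o14, o14), (o256, o251), (o12, o11), (o154, o429)], 52, .node 7 52 []⟩,
  ⟨[(o10, o10), (o0, o0), (o215, o215), (o1965, o1965), (o14, o14), (o256, o251), (o12, o11), (o154, o859)], 52, .node 7 52 []⟩,
  ⟨[(o10, o10), (o0, o0), (o215, o215), (o1965, o1965), (o14, o14), (o256, o251), (o12, o12)], 52, .node 4 52 [⟨o155, [(155, [])], 1200⟩,
      ⟨o430, [(430, [])], 1205⟩,
      ⟨o524, [(524, [])], 1206⟩]⟩,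
  ⟨[(o10, o10), (o0, o0), (o215, o215), (o1965, o1965), (o14, o14), (o256, o251), (o12, o12), (o154, o155)], 52, .node 7 52 [⟨o243, [(243, [])], 1201⟩,
      ⟨o253, [(253, [])], 1202⟩,
      ⟨o1674, [(1674, [])], 1203⟩,
      ⟨o1766, [(1766, [])], 1204⟩]⟩,
  ⟨[(o10, o10), (o0, o0), (o215, o215), (o1965, o1965), (o14, o14), (o256, o251), (o12, o12), (o154, o155), (o243, o243)], 52, .inner [4, 5, 3, 4, 2, 3, 1, 2, 0, 1, 0, 1, 0, 2, 1, 3, 2, 4, 3, 5, 4]⟩,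
  ⟨[(o10, o10), (o0, o0), (o215, o215), (o1965, o1965), (o14, o14), (o256, o251), (o12, o12), (o154, o155), (o243, o253)], 52, .inner [7, 8, 3, 7, 2, 3, 4, 5, 1, 2, 3, 4, 0, 1, 2, 3, 0, 2, 3, 2, 1, 0, 4, 3, 2, 1, 5, 4, 3, 2, 7, 3, 8, 7]⟩,
  ⟨[(o10, o10), (o0, o0), (o215, o215), (o1965, o1965), (o14, o14), (o256, o251), (o12, o12), (o154, o155), (o243, o1674)], 52, .conjw 2 [4, 7, 3, 2, 4, 3, 5, 4, 6, 5, 8, 7, 3, 2, 4, 3, 7, 8, 1, 2, 3, 4, 0, 1, 2, 3, 7, 5, 3, 4, 2, 3, 0, 1, 2, 0, 1, 0]⟩,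
  ⟨[(o10, o10), (o0, o0), (o215, o215), (o1965, o1965), (o14, o14), (o256, o251), (o12, o12), (o154, o155), (o243, o1766)], 52, .conjw 1 [4, 5, 7, 3, 2, 4, 3, 8, 7, 3, 2, 1, 0, 4, 3, 2, 1, 5, 4, 6, 5, 3, 4, 2, 3, 7, 8, 3, 4, 2, 3, 7, 5, 6, 3, 4, 5, 1, 2, 3, 4, 0, 1, 0]⟩,
  ⟨[(o10, o10), (o0, o0), (o215, o215), (o1965, o1965), (o14, o14), (o256, o251), (o12, o12), (o154, o430)], 52, .node 7 52 []⟩,
  ⟨[(o10, o10), (o0, o0), (o215, o215), (o1965, o1965), (o14, o14), (o256, o251), (o12, o12), (o154, o524)], 52, .node 7 52 []⟩,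
  ⟨[(o10, o10), (o0, o0), (o215, o215), (o1965, o1965), (o14, o14), (o256, o251), (o12, o2031)], 52, .node 7 52 [⟨o529, [(529, [])], 1208⟩,
      ⟨o628, [(628, [])], 1210⟩]⟩,
  ⟨[(o10, o10), (o0, o0), (o215, o215), (o1965, o1965), (o14, o14), (o256, o251), (o12, o2031), (o243, o529)], 52, .node 4 52 [⟨o859, [(859, [])], 1209⟩]⟩,
  ⟨[(o10, o10), (o0, o0), (o215, o215), (o1965, o1965), (o14, o14), (o256, o251), (o12, o2031), (o243, o529), (o154, o859)], 52, .conjw 2 [2, 4, 3, 5, 4, 6, 5, 7, 3, 2, 1, 0, 4, 3, 7, 8, 5, 2, 3, 4, 1, 2, 3, 7, 5, 2, 3, 4, 2, 3, 0, 1, 2, 0, 1, 0]⟩,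
  ⟨[(o10, o10), (o0, o0), (o215, o215), (o1965, o1965), (o14, o14), (o256, o251), (o12, o2031), (o243, o628)], 52, .node 4 52 [⟨o859, [(859, [])], 1211⟩]⟩,
  ⟨[(o10, o10), (o0, o0), (o215, o215), (o1965, o1965), (o14, o14), (o256, o251), (o12, o2031), (o243, o628), (o154, o859)], 52, .conjw 1 [4, 3, 2, 5, 4, 3, 6, 5, 4, 3, 7, 3, 2, 8, 7, 3, 4, 1, 2, 3, 7, 8, 0, 1, 2, 3, 7, 4, 5, 1, 2, 3, 4, 3, 2, 0, 1, 0]⟩,
  ⟨[(o10, o10), (o0, o0), (o215, o215), (o1965, o1965), (o14, o14), (o256, o251), (o12, o2192)], 52, .node 4 52 [⟨o155, [(155, [])], 1213⟩,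
      ⟨o430, [(430, [])], 1214⟩,
      ⟨o524, [(524, [])], 1215⟩]⟩,
  ⟨[(o10, o10), (o0, o0), (o215, o215), (o1965, o1965), (o14, o14), (o256, o251), (o12, o2192), (o154, o155)], 52, .node 7 52 []⟩,
  ⟨[(o10, o10), (o0, o0), (o215, o215), (o1965, o1965), (o14, o14), (o256, o251), (o12, o2192), (o154, o430)], 52, .node 7 52 []⟩,
  ⟨[(o10, o10), (o0, o0), (o215, o215), (o1965, o1965), (o14, o14), (o256, o251), (o12, o2192), (o154, o524)], 52, .node 7 52 [⟨o629, [(629, [])], 1216⟩,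
      ⟨o1297, [(1297, [])], 1217⟩,
      ⟨o1563, [(1563, [])], 1218⟩,
      ⟨o1765, [(1765, [])], 1219⟩]⟩,
  ⟨[(o10, o10), (o0, o0), (o215, o215), (o1965, o1965), (o14, o14), (o256, o251), (o12, o2192), (o154, o524), (o243, o629)], 52, .bad [2, 3, 2] 629 629⟩,
  ⟨[(o10, o10), (o0, o0), (o215, o215), (o1965, o1965), (o14, o14), (o256, o251), (o12, o2192), (o154, o524), (o243, o1297)], 52, .conjw 1 [2, 3, 4, 5, 6, 5, 4, 3, 2, 1, 0, 7, 3, 2, 1, 4, 5, 3, 4, 2, 3, 7, 8, 3, 4, 2, 3, 7, 3, 4, 5, 1, 2, 3, 4, 3, 2, 0, 1, 0]⟩,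
  ⟨[(o10, o10), (o0, o0), (o215, o215), (o1965, o1965), (o14, o14), (o256, o251), (o12, o2192), (o154, o524), (o243, o1563)], 52, .conjw 2 [6, 7, 3, 2, 1, 4, 3, 7, 5, 6, 4, 5, 3, 4, 2, 3, 7, 8, 0, 1, 2, 3, 7, 3, 4, 3, 2, 1]⟩,
  ⟨[(o10, o10), (o0, o0), (o215, o215), (o1965, o1965), (o14, o14), (o256, o251), (o12, o2192), (o154, o524), (o243, o1765)], 52, .bad [2, 3, 2] 1765 1765⟩,
  ⟨[(o10, o10), (o0, o0), (o215, o215), (o1965, o1965), (o14, o14), (o256, o251), (o12, o2631)], 52, .node 7 52 [⟨o243, [(243, [])], 1221⟩,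
      ⟨o253, [(253, [])], 1223⟩]⟩,
  ⟨[(o10, o10), (o0, o0), (o215, o215), (o1965, o1965), (o14, o14), (o256, o251), (o12, o2631), (o243, o243)], 52, .node 4 52 [⟨o429, [(429, [])], 1222⟩]⟩,
  ⟨[(o10, o10), (o0, o0), (o215, o215), (o1965, o1965), (o14, o14), (o256, o251), (o12, o2631), (o243, o243), (o154, o429)], 52, .conjw 1 [2, 1, 0, 3, 2, 1, 4, 5, 6, 5, 7, 3, 2, 4, 3, 8, 7, 5, 3, 4, 2, 3, 7, 8, 5, 4, 2, 3, 7, 6, 3, 4, 5, 1, 2, 3, 4, 0, 1, 0]⟩,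
  ⟨[(o10, o10), (o0, o0), (o215, o215), (o1965, o1965), (o14, o14), (o256, o251), (o12, o2631), (o243, o253)], 52, .node 4 52 [⟨o429, [(429, [])], 1224⟩]⟩,
  ⟨[(o10, o10), (o0, o0), (o215, o215), (o1965, o1965), (o14, o14), (o256, o251), (o12, o2631), (o243, o253), (o154, o429)], 52, .conjw 2 [2, 3, 6, 5, 4, 3, 2, 7, 3, 2, 4, 8, 7, 5, 3, 4, 2, 3, 7, 8, 6, 5, 4, 3, 7, 1, 2, 3, 4, 3, 2, 0, 1, 0]⟩,
  ⟨[(o10, o10), (o0, o0), (o215, o215), (o1965, o1965), (o14, o14), (o256, o251), (o12, o2666)], 52, .node 4 52 [⟨o155, [(155, [])], 1226⟩,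
      ⟨o430, [(430, [])], 1227⟩,
      ⟨o524, [(524, [])], 1232⟩]⟩,
  ⟨[(o10, o10), (o0, o0), (o215, o215), (o1965, o1965), (o14, o14), (o256, o251), (o12, o2666), (o154, o155)], 52, .node 7 52 []⟩,
  ⟨[(o10, o10), (o0, o0), (o215, o215), (o1965, o1965), (o14, o14), (o256, o251), (o12, o2666), (o154, o430)], 52, .node 7 52 [⟨o9, [(9, [])], 1228⟩,
      ⟨o244, [(244, [])], 1229⟩,
      ⟨o529, [(529, [])], 1230⟩,
      ⟨o628, [(628, [])], 1231⟩]⟩,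
  ⟨[(o10, o10), (o0, o0), (o215, o215), (o1965, o1965), (o14, o14), (o256, o251), (o12, o2666), (o154, o430), (o243, o9)], 52, .conjw 2 [2, 3, 6, 5, 4, 3, 2, 7, 3, 2, 4, 8, 7, 5, 3, 4, 2, 3, 7, 8, 6, 5, 4, 3, 7, 6, 1, 2, 3, 4, 5, 3, 4, 0]⟩,
  ⟨[(o10, o10), (o0, o0), (o215, o215), (o1965, o1965), (o14, o14), (o256, o251), (o12, o2666), (o154, o430), (o243, o244)], 52, .conjw 1 [2, 3, 6, 5, 4, 3, 7, 3, 2, 8, 7, 3, 4, 1, 2, 3, 7, 8, 0, 1, 2, 3, 7, 5, 6, 4, 5, 1, 2, 3, 4, 0, 1, 0]⟩,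
  ⟨[(o10, o10), (o0, o0), (o215, o215), (o1965, o1965), (o14, o14), (o256, o251), (o12, o2666), (o154, o430), (o243, o529)], 52, .bad [3, 7, 3] 2666 2666⟩,
  ⟨[(o10, o10), (o0, o0), (o215, o215), (o1965, o1965), (o14, o14), (o256, o251), (o12, o2666), (o154, o430), (o243, o628)], 52, .bad [3, 7, 3] 2666 2666⟩,
  ⟨[(o10, o10), (o0, o0), (o215, o215), (o1965, o1965), (o14, o14), (o256, o251), (o12, o2666), (o154, o524)], 52, .node 7 52 []⟩,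
  ⟨[(o10, o10), (o0, o0), (o215, o215), (o1965, o1965), (o14, o14), (o256, o256)], 52, .node 2 52 [⟨o11, [(11, [])], 1234⟩,
      ⟨o12, [(12, [])], 1242⟩,
      ⟨o2031, [(2031, [])], 1250⟩,
      ⟨o2192, [(2192, [])], 1255⟩,
      ⟨o2631, [(2631, [])], 1263⟩,
      ⟨o2666, [(2666, [])], 1268⟩]⟩,
  ⟨[(o10, o10), (o0, o0), (o215, o215), (o1965, o1965), (o14, o14), (o256, o256), (o12, o11)], 52, .node 4 52 [⟨o67, [(67, [])], 1235⟩,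
      ⟨o317, [(317, [])], 1240⟩,
      ⟨o1976, [(1976, [])], 1241⟩]⟩,
  ⟨[(o10, o10), (o0, o0), (o215, o215), (o1965, o1965), (o14, o14), (o256, o256), (o12, o11), (o154, o67)], 52, .node 7 52 [⟨o9, [(9, [])], 1236⟩,
      ⟨o244, [(244, [])], 1237⟩,
      ⟨o629, [(629, [])], 1238⟩,
      ⟨o1765, [(1765, [])], 1239⟩]⟩,
  ⟨[(o10, o10), (o0, o0), (o215, o215), (o1965, o1965), (o14, o14), (o256, o256), (o12, o11), (o154, o67), (o243, o9)], 52, .inner [2, 3, 1, 2, 0, 1, 0, 1, 0, 2, 1, 3, 2]⟩,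
  ⟨[(o10, o10), (o0, o0), (o215, o215), (o1965, o1965), (o14, o14), (o256, o256), (o12, o11), (o154, o67), (o243, o244)], 52, .inner [2, 3, 7, 8, 1, 2, 3, 7, 0, 1, 2, 3, 0, 2, 3, 2, 1, 0, 7, 3, 2, 1, 8, 7, 3, 2]⟩,
  ⟨[(o10, o10), (o0, o0), (o215, o215), (o1965, o1965), (o14, o14), (o256, o256), (o12, o11), (o154, o67), (o243, o629)], 52, .conjw 2 [2, 1, 7, 3, 2, 1, 0, 4, 3, 2, 7, 3, 4, 5, 6, 8, 7, 3, 4, 5, 2, 3, 4, 1, 2, 3, 7, 8, 3, 4, 2, 3, 7, 3, 4, 5, 4, 2, 0]⟩,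
  ⟨[(o10, o10), (o0, o0), (o215, o215), (o1965, o1965), (o14, o14), (o256, o256), (o12, o11), (o154, o67), (o243, o1765)], 52, .conjw 1 [2, 3, 7, 3, 2, 4, 3, 8, 7, 3, 2, 1, 0, 4, 3, 2, 1, 5, 4, 6, 5, 3, 4, 2, 3, 7, 8, 3, 4, 2, 3, 7, 5, 3, 4, 1, 2, 3, 0, 1, 2, 0, 1, 0]⟩,
  ⟨[(o10, o10), (o0, o0), (o215, o215), (o1965, o1965), (o14, o14), (o256, o256), (o12, o11), (o154, o317)], 52, .node 7 52 []⟩,
  ⟨[(o10, o10), (o0, o0), (o215, o215), (o1965, o1965), (o14, o14), (o256, o256), (o12, o11), (o154, o1976)], 52, .node 7 52 []⟩,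
  ⟨[(o10, o10), (o0, o0), (o215, o215), (o1965, o1965), (o14, o14), (o256, o256), (o12, o12)], 52, .node 4 52 [⟨o154, [(154, [])], 1243⟩,
      ⟨o316, [(316, [])], 1248⟩,
      ⟨o525, [(525, [])], 1249⟩]⟩,
  ⟨[(o10, o10), (o0, o0), (o215, o215), (o1965, o1965), (o14, o14), (o256, o256), (o12, o12), (o154, o154)], 52, .node 7 52 [⟨o243, [(243, [])], 1244⟩,
      ⟨o253, [(253, [])], 1245⟩,
      ⟨o1674, [(1674, [])], 1246⟩,
      ⟨o1766, [(1766, [])], 1247⟩]⟩,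
  ⟨[(o10, o10), (o0, o0), (o215, o215), (o1965, o1965), (o14, o14), (o256, o256), (o12, o12), (o154, o154), (o243, o243)], 52, .inner []⟩,
  ⟨[(o10, o10), (o0, o0), (o215, o215), (o1965, o1965), (o14, o14), (o256, o256), (o12, o12), (o154, o154), (o243, o253)], 52, .inner [7, 8, 3, 7, 2, 3, 1, 2, 0, 1, 0, 1, 0, 2, 1, 3, 2, 7, 3, 8, 7]⟩,
  ⟨[(o10, o10), (o0, o0), (o215, o215), (o1965, o1965), (o14, o14), (o256, o256), (o12, o12), (o154, o154), (o243, o1674)], 52, .conjw 1 [7, 3, 2, 1, 4, 8, 7, 3, 2, 1, 0, 4, 3, 5, 4, 6, 5, 7, 3, 2, 1, 8, 7, 3, 4, 2, 3, 7, 8, 2, 3, 4, 1, 2, 3, 7, 5, 3, 4, 2, 3, 1, 2, 0, 1, 0]⟩,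
  ⟨[(o10, o10), (o0, o0), (o215, o215), (o1965, o1965), (o14, o14), (o256, o256), (o12, o12), (o154, o154), (o243, o1766)], 52, .conjw 0 [7, 8, 3, 4, 2, 3, 7, 3, 4, 5, 6, 2, 3, 4, 5, 1, 2, 3, 4, 0, 1, 2, 3, 7, 8, 3, 4, 2, 3, 7, 5, 3, 4, 1, 2, 3, 0, 1, 2, 0, 1, 0]⟩,
  ⟨[(o10, o10), (o0, o0), (o215, o215), (o1965, o1965), (o14, o14), (o256, o256), (o12, o12), (o154, o316)], 52, .node 7 52 []⟩,
  ⟨[(o10, o10), (o0, o0), (o215, o215), (o1965, o1965), (o14, o14), (o256, o256), (o12, o12), (o154, o525)], 52, .node 7 52 []⟩,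
  ⟨[(o10, o10), (o0, o0), (o215, o215), (o1965, o1965), (o14, o14), (o256, o256), (o12, o2031)], 52, .node 7 52 [⟨o529, [(529, [])], 1251⟩,
      ⟨o628, [(628, [])], 1253⟩]⟩,
  ⟨[(o10, o10), (o0, o0), (o215, o215), (o1965, o1965), (o14, o14), (o256, o256), (o12, o2031), (o243, o529)], 52, .node 4 52 [⟨o1976, [(1976, [])], 1252⟩]⟩,
  ⟨[(o10, o10), (o0, o0), (o215, o215), (o1965, o1965), (o14, o14), (o256, o256), (o12, o2031), (o243, o529), (o154, o1976)], 52, .conjw 1 [2, 1, 3, 2, 4, 3, 2, 1, 0, 5, 4, 6, 5, 7, 3, 2, 1, 8, 7, 3, 4, 2, 3, 7, 8, 2, 3, 4, 1, 2, 3, 7, 5, 3, 4, 2, 3, 1, 2, 0, 1, 0]⟩,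
  ⟨[(o10, o10), (o0, o0), (o215, o215), (o1965, o1965), (o14, o14), (o256, o256), (o12, o2031), (o243, o628)], 52, .node 4 52 [⟨o1976, [(1976, [])], 1254⟩]⟩,
  ⟨[(o10, o10), (o0, o0), (o215, o215), (o1965, o1965), (o14, o14), (o256, o256), (o12, o2031), (o243, o628), (o154, o1976)], 52, .conjw 2 [2, 1, 0, 4, 3, 2, 7, 3, 2, 4, 3, 5, 6, 7, 8, 7, 3, 4, 5, 2, 3, 4, 1, 2, 3, 7, 8, 3, 4, 2, 3, 7, 6, 3, 4, 5, 4, 2, 0]⟩,
  ⟨[(o10, o10), (o0, o0), (o215, o215), (o1965, o1965), (o14, o14), (o256, o256), (o12, o2192)], 52, .node 4 52 [⟨o154, [(154, [])], 1256⟩,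
      ⟨o316, [(316, [])], 1257⟩,
      ⟨o525, [(525, [])], 1258⟩]⟩,
  ⟨[(o10, o10), (o0, o0), (o215, o215), (o1965, o1965), (o14, o14), (o256, o256), (o12, o2192), (o154, o154)], 52, .node 7 52 []⟩,
  ⟨[(o10, o10), (o0, o0), (o215, o215), (o1965, o1965), (o14, o14), (o256, o256), (o12, o2192), (o154, o316)], 52, .node 7 52 []⟩,
  ⟨[(o10, o10), (o0, o0), (o215, o215), (o1965, o1965), (o14, o14), (o256, o256), (o12, o2192), (o154, o525)], 52, .node 7 52 [⟨o629, [(629, [])], 1259⟩,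
      ⟨o1297, [(1297, [])], 1260⟩,
      ⟨o1563, [(1563, [])], 1261⟩,
      ⟨o1765, [(1765, [])], 1262⟩]⟩,
  ⟨[(o10, o10), (o0, o0), (o215, o215), (o1965, o1965), (o14, o14), (o256, o256), (o12, o2192), (o154, o525), (o243, o629)], 52, .bad [2, 3, 2] 629 629⟩,
  ⟨[(o10, o10), (o0, o0), (o215, o215), (o1965, o1965), (o14, o14), (o256, o256), (o12, o2192), (o154, o525), (o243, o1297)], 52, .conjw 0 [4, 2, 3, 7, 4, 5, 6, 2, 3, 4, 5, 1, 2, 3, 4, 0, 1, 2, 3, 7, 8, 3, 4, 2, 3, 7, 5, 3, 4, 1, 2, 3, 0, 1, 2, 0, 1, 0]⟩,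
  ⟨[(o10, o10), (o0, o0), (o215, o215), (o1965, o1965), (o14, o14), (o256, o256), (o12, o2192), (o154, o525), (o243, o1563)], 52, .conjw 1 [2, 3, 4, 5, 6, 7, 3, 2, 1, 0, 8, 7, 3, 2, 1, 4, 5, 3, 4, 2, 3, 7, 8, 3, 4, 2, 3, 7, 5, 3, 4, 1, 2, 3, 0, 1, 2, 0, 1, 0]⟩,
  ⟨[(o10, o10), (o0, o0), (o215, o215), (o1965, o1965), (o14, o14), (o256, o256), (o12, o2192), (o154, o525), (o243, o1765)], 52, .bad [2, 3, 2] 1765 1765⟩,
  ⟨[(o10, o10), (o0, o0), (o215, o215), (o1965, o1965), (o14, o14), (o256, o256), (o12, o2631)], 52, .node 7 52 [⟨o243, [(243, [])], 1264⟩,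
      ⟨o253, [(253, [])], 1266⟩]⟩,
  ⟨[(o10, o10), (o0, o0), (o215, o215), (o1965, o1965), (o14, o14), (o256, o256), (o12, o2631), (o243, o243)], 52, .node 4 52 [⟨o317, [(317, [])], 1265⟩]⟩,
  ⟨[(o10, o10), (o0, o0), (o215, o215), (o1965, o1965), (o14, o14), (o256, o256), (o12, o2631), (o243, o243), (o154, o317)], 52, .conjw 2 [2, 3, 4, 3, 2, 7, 3, 2, 1, 0, 4, 5, 6, 8, 7, 3, 2, 4, 5, 3, 4, 1, 2, 3, 7, 8, 6, 5, 4, 0, 1, 2, 3, 7, 2, 3, 4, 3, 2, 1]⟩,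
  ⟨[(o10, o10), (o0, o0), (o215, o215), (o1965, o1965), (o14, o14), (o256, o256), (o12, o2631), (o243, o253)], 52, .node 4 52 [⟨o317, [(317, [])], 1267⟩]⟩,
  ⟨[(o10, o10), (o0, o0), (o215, o215), (o1965, o1965), (o14, o14), (o256, o256), (o12, o2631), (o243, o253), (o154, o317)], 52, .conjw 1 [2, 3, 4, 3, 2, 7, 3, 8, 7, 2, 3, 4, 1, 2, 3, 7, 8, 0, 1, 2, 3, 7, 5, 1, 2, 3, 4, 3, 2, 0, 1, 0]⟩,
  ⟨[(o10, o10), (o0, o0), (o215, o215), (o1965, o1965), (o14, o14), (o256, o256), (o12, o2666)], 52, .node 4 52 [⟨o154, [(154, [])], 1269⟩,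
      ⟨o316, [(316, [])], 1270⟩,
      ⟨o525, [(525, [])], 1275⟩]⟩,
  ⟨[(o10, o10), (o0, o0), (o215, o215), (o1965, o1965), (o14, o14), (o256, o256), (o12, o2666), (o154, o154)], 52, .node 7 52 []⟩,
  ⟨[(o10, o10), (o0, o0), (o215, o215), (o1965, o1965), (o14, o14), (o256, o256), (o12, o2666), (o154, o316)], 52, .node 7 52 [⟨o9, [(9, [])], 1271⟩,
      ⟨o244, [(244, [])], 1272⟩,
      ⟨o529, [(529, [])], 1273⟩,
      ⟨o628, [(628, [])], 1274⟩]⟩,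
  ⟨[(o10, o10), (o0, o0), (o215, o215), (o1965, o1965), (o14, o14), (o256, o256), (o12, o2666), (o154, o316), (o243, o9)], 52, .conjw 1 [2, 3, 4, 3, 2, 7, 3, 8, 7, 2, 3, 4, 1, 2, 3, 7, 8, 0, 1, 2, 3, 7, 5, 4, 1, 2, 3, 0, 1, 2, 1, 0]⟩,
  ⟨[(o10, o10), (o0, o0), (o215, o215), (o1965, o1965), (o14, o14), (o256, o256), (o12, o2666), (o154, o316), (o243, o244)], 52, .conjw 0 [2, 3, 7, 8, 4, 3, 7, 2, 3, 4, 1, 2, 3, 7, 8, 0, 1, 2, 3, 7, 5, 3, 4, 1, 2, 3, 0, 1, 2, 0, 1, 0]⟩,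
  ⟨[(o10, o10), (o0, o0), (o215, o215), (o1965, o1965), (o14, o14), (o256, o256), (o12, o2666), (o154, o316), (o243, o529)], 52, .bad [3, 7, 3] 2666 2666⟩,
  ⟨[(o10, o10), (o0, o0), (o215, o215), (o1965, o1965), (o14, o14), (o256, o256), (o12, o2666), (o154, o316), (o243, o628)], 52, .bad [3, 7, 3] 2666 2666⟩,
  ⟨[(o10, o10), (o0, o0), (o215, o215), (o1965, o1965), (o14, o14), (o256, o256), (o12, o2666), (o154, o525)], 52, .node 7 52 []⟩,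
  ⟨[(o10, o10), (o0, o0), (o215, o215), (o1965, o1965), (o14, o14), (o256, o287)], 52, .node 4 52 [⟨o902, [(902, [])], 1277⟩,
      ⟨o1294, [(1294, [])], 1282⟩,
      ⟨o1442, [(1442, [])], 1287⟩,
      ⟨o1529, [(1529, [])], 1292⟩]⟩,
  ⟨[(o10, o10), (o0, o0), (o215, o215), (o1965, o1965), (o14, o14), (o256, o287), (o154, o902)], 52, .node 7 52 [⟨o9, [(9, [])], 1278⟩,
      ⟨o244, [(244, [])], 1280⟩]⟩,
  ⟨[(o10, o10), (o0, o0), (o215, o215), (o1965, o1965), (o14, o14), (o256, o287), (o154, o902), (o243, o9)], 52, .node 2 52 [⟨o3122, [(3122, [])], 1279⟩]⟩,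
  ⟨[(o10, o10), (o0, o0), (o215, o215), (o1965, o1965), (o14, o14), (o256, o287), (o154, o902), (o243, o9), (o12, o3122)], 52, .conjw 2 [2, 3, 4, 3, 2, 6, 5, 7, 3, 2, 1, 0, 4, 3, 7, 8, 5, 2, 3, 4, 1, 2, 3, 7, 5, 2, 3, 4, 2, 3, 0, 1, 2, 0, 1, 0]⟩]

end Cfsg.Agent.Spor.Cos.Fi22Outer.Tree
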