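import Cfsg.Agent.Lib.Spor.Cos.Fi22Outer.OuterPts

/-! Nodes of the tree. -/

set_option autoImplicit false
set_option maxRecDepth 100000
set_option maxHeartbeats 4000000

namespace Cfsg.Agent.Spor.Cos.Fi22Outer.Tree

/-- Nodes. -/
def nd10 : List ONode := [
  ⟨[(o10, o10), (o0, o0), (o215, o215), (o1965, o1965), (o14, o14), (o256, o287), (o154, o902), (o243, o244)], 52, .node 2 52 [⟨o3122, [(3122, [])], 1281⟩]⟩,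
  ⟨[(o10, o10), (o0, o0), (o215, o215), (o1965, o1965), (o14, o14), (o256, o287), (o154, o902), (o243, o244), (o12, o3122)], 52, .conjw 1 [2, 3, 6, 5, 4, 3, 7, 3, 2, 8, 7, 3, 4, 1, 2, 3, 7, 8, 0, 1, 2, 3, 7, 4, 5, 1, 2, 3, 4, 3, 2, 0, 1, 0]⟩,
  ⟨[(o10, o10), (o0, o0), (o215, o215), (o1965, o1965), (o14, o14), (o256, o287), (o154, o1294)], 52, .node 7 52 [⟨o243, [(243, [])], 1283⟩,
      ⟨o253, [(253, [])], 1285⟩]⟩,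
  ⟨[(o10, o10), (o0, o0), (o215, o215), (o1965, o1965), (o14, o14), (o256, o287), (o154, o1294), (o243, o243)], 52, .node 2 52 [⟨o1528, [(1528, [])], 1284⟩]⟩,
  ⟨[(o10, o10), (o0, o0), (o215, o215), (o1965, o1965), (o14, o14), (o256, o287), (o154, o1294), (o243, o243), (o12, o1528)], 52, .inner [2, 3, 7, 8, 1, 2, 3, 7, 6, 5, 4, 3, 2, 1, 0, 1, 2, 3, 4, 5, 6, 7, 3, 2, 1, 8, 7, 3, 2]⟩,
  ⟨[(o10, o10), (o0, o0), (o215, o215), (o1965, o1965), (o14, o14), (o256, o287), (o154, o1294), (o243, o253)], 52, .node 2 52 [⟨o1528, [(1528, [])], 1286⟩]⟩,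
  ⟨[(o10, o10), (o0, o0), (o215, o215), (o1965, o1965), (o14, o14), (o256, o287), (o154, o1294), (o243, o253), (o12, o1528)], 52, .inner [2, 3, 7, 8, 1, 2, 3, 7, 6, 5, 2, 3, 4, 1, 2, 3, 0, 1, 0, 2, 1, 0, 3, 2, 1, 4, 3, 2, 5, 6, 7, 3, 2, 1, 8, 7, 3, 2]⟩,
  ⟨[(o10, o10), (o0, o0), (o215, o215), (o1965, o1965), (o14, o14), (o256, o287), (o154, o1442)], 52, .node 7 52 [⟨o9, [(9, [])], 1288⟩,
      ⟨o244, [(244, [])], 1290⟩]⟩,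
  ⟨[(o10, o10), (o0, o0), (o215, o215), (o1965, o1965), (o14, o14), (o256, o287), (o154, o1442), (o243, o9)], 52, .node 2 52 [⟨o366, [(366, [])], 1289⟩]⟩,
  ⟨[(o10, o10), (o0, o0), (o215, o215), (o1965, o1965), (o14, o14), (o256, o287), (o154, o1442), (o243, o9), (o12, o366)], 52, .inner [2, 3, 7, 8, 1, 2, 3, 7, 6, 5, 4, 3, 0, 1, 0, 2, 1, 0, 3, 4, 5, 6, 7, 3, 2, 1, 8, 7, 3, 2]⟩,
  ⟨[(o10, o10), (o0, o0), (o215, o215), (o1965, o1965), (o14, o14), (o256, o287), (o154, o1442), (o243, o244)], 52, .node 2 52 [⟨o366, [(366, [])], 1291⟩]⟩,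
  ⟨[(o10, o10), (o0, o0), (o215, o215), (o1965, o1965), (o14, o14), (o256, o287), (o154, o1442), (o243, o244), (o12, o366)], 52, .inner [2, 3, 7, 8, 1, 2, 3, 7, 6, 5, 4, 3, 0, 1, 0, 2, 4, 1, 0, 3, 4, 5, 6, 7, 3, 2, 1, 8, 7, 3, 2]⟩,
  ⟨[(o10, o10), (o0, o0), (o215, o215), (o1965, o1965), (o14, o14), (o256, o287), (o154, o1529)], 52, .node 7 52 [⟨o243, [(243, [])], 1293⟩,
      ⟨o253, [(253, [])], 1295⟩]⟩,
  ⟨[(o10, o10), (o0, o0), (o215, o215), (o1965, o1965), (o14, o14), (o256, o287), (o154, o1529), (o243, o243)], 52, .node 2 52 [⟨o3121, [(3121, [])], 1294⟩]⟩,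
  ⟨[(o10, o10), (o0, o0), (o215, o215), (o1965, o1965), (o14, o14), (o256, o287), (o154, o1529), (o243, o243), (o12, o3121)], 52, .conjw 1 [2, 1, 0, 3, 2, 1, 4, 5, 6, 7, 3, 2, 4, 8, 7, 5, 3, 4, 2, 3, 7, 8, 5, 3, 4, 2, 3, 7, 3, 4, 5, 1, 2, 3, 4, 0, 1, 0]⟩,
  ⟨[(o10, o10), (o0, o0), (o215, o215), (o1965, o1965), (o14, o14), (o256, o287), (o154, o1529), (o243, o253)], 52, .node 2 52 [⟨o3121, [(3121, [])], 1296⟩]⟩,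
  ⟨[(o10, o10), (o0, o0), (o215, o215), (o1965, o1965), (o14, o14), (o256, o287), (o154, o1529), (o243, o253), (o12, o3121)], 52, .conjw 2 [2, 4, 6, 7, 3, 2, 4, 3, 5, 8, 7, 3, 2, 1, 4, 3, 7, 8, 5, 2, 3, 4, 0, 1, 2, 3, 7, 5, 3, 4, 2, 3, 0, 1, 2, 0, 1, 0]⟩,
  ⟨[(o10, o10), (o0, o0), (o215, o215), (o1965, o1965), (o14, o14), (o256, o363)], 52, .node 7 52 [⟨o9, [(9, [])], 1298⟩,
      ⟨o243, [(243, [])], 1303⟩,
      ⟨o244, [(244, [])], 1308⟩,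
      ⟨o253, [(253, [])], 1313⟩]⟩,
  ⟨[(o10, o10), (o0, o0), (o215, o215), (o1965, o1965), (o14, o14), (o256, o363), (o243, o9)], 52, .node 2 52 [⟨o366, [(366, [])], 1299⟩,
      ⟨o3122, [(3122, [])], 1301⟩]⟩,
  ⟨[(o10, o10), (o0, o0), (o215, o215), (o1965, o1965), (o14, o14), (o256, o363), (o243, o9), (o12, o366)], 52, .node 4 52 [⟨o561, [(561, [])], 1300⟩]⟩,
  ⟨[(o10, o10), (o0, o0), (o215, o215), (o1965, o1965), (o14, o14), (o256, o363), (o243, o9), (o12, o366), (o154, o561)], 52, .inner [2, 3, 7, 8, 1, 2, 3, 7, 4, 5, 6, 3, 4, 5, 4, 3, 0, 1, 0, 2, 4, 1, 0, 3, 4, 5, 4, 3, 6, 5, 4, 7, 3, 2, 1, 8, 7, 3, 2]⟩,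
  ⟨[(o10, o10), (o0, o0), (o215, o215), (o1965, o1965), (o14, o14), (o256, o363), (o243, o9), (o12, o3122)], 52, .node 4 52 [⟨o484, [(484, [])], 1302⟩]⟩,
  ⟨[(o10, o10), (o0, o0), (o215, o215), (o1965, o1965), (o14, o14), (o256, o363), (o243, o9), (o12, o3122), (o154, o484)], 52, .conjw 1 [2, 1, 0, 3, 2, 1, 4, 3, 5, 4, 6, 5, 7, 3, 8, 7, 4, 5, 3, 4, 2, 3, 7, 8, 6, 5, 4, 3, 7, 5, 4, 1, 2, 3, 0, 1, 2, 1, 0]⟩,
  ⟨[(o10, o10), (o0, o0), (o215, o215), (o1965, o1965), (o14, o14), (o256, o363), (o243, o243)], 52, .node 2 52 [⟨o1528, [(1528, [])], 1304⟩,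
      ⟨o3121, [(3121, [])], 1306⟩]⟩,
  ⟨[(o10, o10), (o0, o0), (o215, o215), (o1965, o1965), (o14, o14), (o256, o363), (o243, o243), (o12, o1528)], 52, .node 4 52 [⟨o560, [(560, [])], 1305⟩]⟩,
  ⟨[(o10, o10), (o0, o0), (o215, o215), (o1965, o1965), (o14, o14), (o256, o363), (o243, o243), (o12, o1528), (o154, o560)], 52, .inner [2, 3, 7, 8, 1, 2, 3, 7, 4, 5, 6, 3, 4, 5, 2, 3, 4, 1, 2, 3, 0, 1, 0, 2, 1, 0, 3, 2, 1, 4, 3, 2, 5, 4, 3, 6, 5, 4, 7, 3, 2, 1, 8, 7, 3, 2]⟩,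
  ⟨[(o10, o10), (o0, o0), (o215, o215), (o1965, o1965), (o14, o14), (o256, o363), (o243, o243), (o12, o3121)], 52, .node 4 52 [⟨o483, [(483, [])], 1307⟩]⟩,
  ⟨[(o10, o10), (o0, o0), (o215, o215), (o1965, o1965), (o14, o14), (o256, o363), (o243, o243), (o12, o3121), (o154, o483)], 52, .conjw 0 [4, 2, 3, 7, 4, 5, 6, 3, 4, 5, 1, 2, 3, 4, 0, 1, 2, 3, 7, 8, 3, 4, 1, 2, 3, 7, 5, 3, 4, 1, 2, 3, 0, 1, 2, 0, 1, 0]⟩,
  ⟨[(o10, o10), (o0, o0), (o215, o215), (o1965, o1965), (o14, o14), (o256, o363), (o243, o244)], 52, .node 2 52 [⟨o366, [(366, [])], 1309⟩,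
      ⟨o3122, [(3122, [])], 1311⟩]⟩,
  ⟨[(o10, o10), (o0, o0), (o215, o215), (o1965, o1965), (o14, o14), (o256, o363), (o243, o244), (o12, o366)], 52, .node 4 52 [⟨o561, [(561, [])], 1310⟩]⟩,
  ⟨[(o10, o10), (o0, o0), (o215, o215), (o1965, o1965), (o14, o14), (o256, o363), (o243, o244), (o12, o366), (o154, o561)], 52, .inner [6, 5, 4, 3, 7, 8, 5, 3, 4, 2, 3, 7, 6, 5, 1, 2, 3, 4, 0, 1, 2, 3, 7, 5, 6, 4, 5, 3, 4, 0, 1, 2, 3, 1, 0, 2, 1, 3, 2, 1, 0, 4, 3, 5, 4, 6, 5, 7, 3, 2, 1, 0, 4, 3, 2, 1, 5, 6, 7, 3, 2, 4, 3, 5, 8, 7, 3, 4, 5, 6]⟩,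
  ⟨[(o10, o10), (o0, o0), (o215, o215), (o1965, o1965), (o14, o14), (o256, o363), (o243, o244), (o12, o3122)], 52, .node 4 52 [⟨o484, [(484, [])], 1312⟩]⟩,
  ⟨[(o10, o10), (o0, o0), (o215, o215), (o1965, o1965), (o14, o14), (o256, o363), (o243, o244), (o12, o3122), (o154, o484)], 52, .conjw 2 [4, 3, 5, 4, 6, 7, 3, 2, 1, 4, 3, 7, 5, 6, 4, 5, 3, 4, 2, 3, 7, 8, 0, 1, 2, 3, 7, 3, 4, 3, 2, 1]⟩,
  ⟨[(o10, o10), (o0, o0), (o215, o215), (o1965, o1965), (o14, o14), (o256, o363), (o243, o253)], 52, .node 2 52 [⟨o1528, [(1528, [])], 1314⟩,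
      ⟨o3121, [(3121, [])], 1316⟩]⟩,
  ⟨[(o10, o10), (o0, o0), (o215, o215), (o1965, o1965), (o14, o14), (o256, o363), (o243, o253), (o12, o1528)], 52, .node 4 52 [⟨o560, [(560, [])], 1315⟩]⟩,
  ⟨[(o10, o10), (o0, o0), (o215, o215), (o1965, o1965), (o14, o14), (o256, o363), (o243, o253), (o12, o1528), (o154, o560)], 52, .inner [2, 3, 7, 8, 1, 2, 3, 7, 2, 3, 4, 5, 6, 1, 2, 3, 4, 5, 4, 3, 0, 1, 0, 2, 4, 1, 0, 3, 4, 5, 4, 3, 2, 1, 6, 5, 4, 3, 2, 7, 3, 2, 1, 8, 7, 3, 2]⟩,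
  ⟨[(o10, o10), (o0, o0), (o215, o215), (o1965, o1965), (o14, o14), (o256, o363), (o243, o253), (o12, o3121)], 52, .node 4 52 [⟨o483, [(483, [])], 1317⟩]⟩,
  ⟨[(o10, o10), (o0, o0), (o215, o215), (o1965, o1965), (o14, o14), (o256, o363), (o243, o253), (o12, o3121), (o154, o483)], 52, .conjw 1 [2, 1, 0, 3, 2, 1, 4, 3, 5, 4, 6, 5, 7, 3, 8, 7, 2, 3, 4, 1, 2, 3, 7, 8, 0, 1, 2, 3, 7, 5, 4, 1, 2, 3, 0, 1, 2, 1, 0]⟩,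
  ⟨[(o10, o10), (o0, o0), (o215, o215), (o1965, o1965), (o14, o72)], 51, .node 2 53 [⟨o189, [(189, [])], 1319⟩,
      ⟨o190, [(190, [])], 1328⟩,
      ⟨o252, [(252, [])], 1337⟩,
      ⟨o255, [(255, [])], 1350⟩,
      ⟨o522, [(522, [])], 1363⟩,
      ⟨o523, [(523, [])], 1372⟩,
      ⟨o1675, [(1675, [])], 1381⟩,
      ⟨o1676, [(1676, [])], 1394⟩]⟩,
  ⟨[(o10, o10), (o0, o0), (o215, o215), (o1965, o1965), (o14, o72), (o12, o189)], 53, .node 4 53 [⟨o560, [(560, [])], 1320⟩,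
      ⟨o1294, [(1294, [])], 1324⟩]⟩,
  ⟨[(o10, o10), (o0, o0), (o215, o215), (o1965, o1965), (o14, o72), (o12, o189), (o154, o560)], 53, .node 6 53 [⟨o949, [(949, [])], 1321⟩]⟩,
  ⟨[(o10, o10), (o0, o0), (o215, o215), (o1965, o1965), (o14, o72), (o12, o189), (o154, o560), (o256, o949)], 53, .node 7 53 [⟨o534, [(534, [])], 1322⟩,
      ⟨o1466, [(1466, [])], 1323⟩]⟩,
  ⟨[(o10, o10), (o0, o0), (o215, o215), (o1965, o1965), (o14, o72), (o12, o189), (o154, o560), (o256, o949), (o243, o534)], 53, .inner [1, 0, 2, 1, 0, 3, 2, 1, 4, 3, 7, 8, 2, 3, 7, 6, 4, 5, 3, 4, 2, 3, 7, 8, 6, 5, 4, 1, 2, 3, 7, 4, 2, 3, 0, 1, 0, 2, 4, 1, 0, 3, 2, 4, 7, 3, 2, 1, 4, 5, 6, 8, 7, 3, 2, 4, 3, 5, 4, 6, 7, 3, 2, 8, 7, 3, 4, 1, 2, 3, 0, 1, 2, 0, 1]⟩,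
  ⟨[(o10, o10), (o0, o0), (o215, o215), (o1965, o1965), (o14, o72), (o12, o189), (o154, o560), (o256, o949), (o243, o1466)], 53, .inner [4, 5, 3, 4, 2, 3, 7, 8, 4, 3, 7, 4, 5, 1, 2, 3, 4, 0, 1, 2, 3, 7, 5, 6, 4, 5, 3, 4, 0, 1, 2, 3, 0, 1, 0, 2, 1, 0, 3, 2, 1, 0, 4, 3, 5, 4, 6, 5, 7, 3, 2, 1, 0, 4, 3, 2, 1, 5, 4, 7, 3, 4, 8, 7, 3, 2, 4, 3, 5, 4]⟩,
  ⟨[(o10, o10), (o0, o0), (o215, o215), (o1965, o1965), (o14, o72), (o12, o189), (o154, o1294)], 53, .node 6 53 [⟨o1274, [(1274, [])], 1325⟩]⟩,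
  ⟨[(o10, o10), (o0, o0), (o215, o215), (o1965, o1965), (o14, o72), (o12, o189), (o154, o1294), (o256, o1274)], 53, .node 7 53 [⟨o534, [(534, [])], 1326⟩,
      ⟨o1466, [(1466, [])], 1327⟩]⟩,
  ⟨[(o10, o10), (o0, o0), (o215, o215), (o1965, o1965), (o14, o72), (o12, o189), (o154, o1294), (o256, o1274), (o243, o534)], 53, .inner [1, 4, 3, 5, 6, 5, 4, 3, 7, 3, 2, 4, 8, 3, 7, 3, 4, 5, 6, 2, 3, 4, 5, 1, 2, 3, 4, 0, 1, 2, 3, 7, 3, 4, 5, 2, 3, 1, 0, 2, 4, 1, 3, 2, 5, 4, 3, 7, 3, 2, 1, 0, 4, 3, 2, 1, 5, 4, 3, 2, 6, 5, 4, 3, 7, 3, 8, 4, 2, 3, 7, 3, 4, 5, 6, 5, 3, 4, 1]⟩,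
  ⟨[(o10, o10), (o0, o0), (o215, o215), (o1965, o1965), (o14, o72), (o12, o189), (o154, o1294), (o256, o1274), (o243, o1466)], 53, .inner [6, 5, 4, 3, 7, 8, 5, 6, 4, 5, 3, 4, 1, 2, 3, 7, 3, 4, 5, 6, 2, 3, 4, 5, 0, 1, 0, 2, 4, 1, 0, 5, 4, 3, 2, 6, 5, 4, 3, 7, 3, 2, 1, 4, 3, 5, 4, 6, 5, 8, 7, 3, 4, 5, 6]⟩,
  ⟨[(o10, o10), (o0, o0), (o215, o215), (o1965, o1965), (o14, o72), (o12, o190)], 53, .node 4 53 [⟨o561, [(561, [])], 1329⟩,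
      ⟨o1442, [(1442, [])], 1333⟩]⟩,
  ⟨[(o10, o10), (o0, o0), (o215, o215), (o1965, o1965), (o14, o72), (o12, o190), (o154, o561)], 53, .node 6 53 [⟨o949, [(949, [])], 1330⟩]⟩,
  ⟨[(o10, o10), (o0, o0), (o215, o215), (o1965, o1965), (o14, o72), (o12, o190), (o154, o561), (o256, o949)], 53, .node 7 53 [⟨o611, [(611, [])], 1331⟩,
      ⟨o1273, [(1273, [])], 1332⟩]⟩,
  ⟨[(o10, o10), (o0, o0), (o215, o215), (o1965, o1965), (o14, o72), (o12, o190), (o154, o561), (o256, o949), (o243, o611)], 53, .inner [4, 3, 2, 1, 5, 4, 3, 7, 8, 6, 3, 4, 5, 2, 3, 4, 0, 1, 2, 3, 7, 0, 1, 2, 3, 4, 5, 4, 3, 1, 0, 2, 4, 1, 3, 4, 5, 4, 3, 2, 1, 0, 7, 3, 2, 1, 0, 4, 3, 2, 5, 4, 3, 6, 8, 7, 3, 4, 5, 1, 2, 3, 4]⟩,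
  ⟨[(o10, o10), (o0, o0), (o215, o215), (o1965, o1965), (o14, o72), (o12, o190), (o154, o561), (o256, o949), (o243, o1273)], 53, .inner [6, 5, 4, 3, 7, 8, 5, 6, 4, 5, 3, 4, 1, 2, 3, 7, 0, 1, 2, 3, 0, 1, 0, 2, 4, 1, 0, 3, 2, 1, 0, 7, 3, 2, 1, 4, 3, 5, 4, 6, 5, 8, 7, 3, 4, 5, 6]⟩,
  ⟨[(o10, o10), (o0, o0), (o215, o215), (o1965, o1965), (o14, o72), (o12, o190), (o154, o1442)], 53, .node 6 53 [⟨o1274, [(1274, [])], 1334⟩]⟩,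
  ⟨[(o10, o10), (o0, o0), (o215, o215), (o1965, o1965), (o14, o72), (o12, o190), (o154, o1442), (o256, o1274)], 53, .node 7 53 [⟨o611, [(611, [])], 1335⟩,
      ⟨o1273, [(1273, [])], 1336⟩]⟩,
  ⟨[(o10, o10), (o0, o0), (o215, o215), (o1965, o1965), (o14, o72), (o12, o190), (o154, o1442), (o256, o1274), (o243, o611)], 53, .inner [2, 4, 5, 6, 5, 7, 8, 3, 7, 4, 5, 3, 4, 2, 3, 7, 8, 4, 5, 3, 4, 1, 2, 3, 7, 5, 0, 1, 2, 3, 0, 1, 0, 2, 4, 1, 0, 3, 2, 1, 0, 5, 7, 3, 2, 1, 4, 3, 5, 4, 8, 7, 3, 2, 4, 3, 5, 4, 7, 3, 8, 7, 5, 6, 5, 4, 2]⟩,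
  ⟨[(o10, o10), (o0, o0), (o215, o215), (o1965, o1965), (o14, o72), (o12, o190), (o154, o1442), (o256, o1274), (o243, o1273)], 53, .inner [6, 5, 4, 3, 7, 8, 5, 6, 4, 5, 3, 4, 1, 2, 3, 7, 3, 4, 2, 3, 0, 1, 0, 2, 1, 0, 3, 2, 4, 3, 7, 3, 2, 1, 4, 3, 5, 4, 6, 5, 8, 7, 3, 4, 5, 6]⟩,
  ⟨[(o10, o10), (o0, o0), (o215, o215), (o1965, o1965), (o14, o72), (o12, o252)], 53, .node 4 53 [⟨o67, [(67, [])], 1338⟩,
      ⟨o149, [(149, [])], 1344⟩]⟩,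
  ⟨[(o10, o10), (o0, o0), (o215, o215), (o1965, o1965), (o14, o72), (o12, o252), (o154, o67)], 53, .node 6 53 [⟨o143, [(143, [])], 1339⟩]⟩,
  ⟨[(o10, o10), (o0, o0), (o215, o215), (o1965, o1965), (o14, o72), (o12, o252), (o154, o67), (o256, o143)], 53, .node 7 53 [⟨o21, [(21, [])], 1340⟩,
      ⟨o88, [(88, [])], 1341⟩,
      ⟨o220, [(220, [])], 1342⟩,
      ⟨o1964, [(1964, [])], 1343⟩]⟩,
  ⟨[(o10, o10), (o0, o0), (o215, o215), (o1965, o1965), (o14, o72), (o12, o252), (o154, o67), (o256, o143), (o243, o21)], 53, .conjw 2 [1, 2, 3, 4, 5, 3, 4, 0]⟩,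
  ⟨[(o10, o10), (o0, o0), (o215, o215), (o1965, o1965), (o14, o72), (o12, o252), (o154, o67), (o256, o143), (o243, o88)], 53, .conjw 1 [1, 2, 3, 4, 5, 3, 4, 0]⟩,
  ⟨[(o10, o10), (o0, o0), (o215, o215), (o1965, o1965), (o14, o72), (o12, o252), (o154, o67), (o256, o143), (o243, o220)], 53, .inner [6, 5, 2, 3, 0, 2, 4, 3, 2, 5, 6]⟩,
  ⟨[(o10, o10), (o0, o0), (o215, o215), (o1965, o1965), (o14, o72), (o12, o252), (o154, o67), (o256, o143), (o243, o1964)], 53, .inner [2, 1, 0, 3, 6, 7, 8, 3, 4, 2, 3, 7, 3, 4, 5, 1, 2, 3, 4, 0, 1, 2, 3, 7, 3, 4, 5, 4, 2, 3, 0, 1, 0, 2, 4, 1, 0, 3, 2, 4, 5, 4, 3, 7, 3, 2, 1, 0, 4, 3, 2, 1, 5, 4, 3, 7, 3, 2, 4, 3, 8, 7, 6, 3, 0, 1, 2]⟩,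
  ⟨[(o10, o10), (o0, o0), (o215, o215), (o1965, o1965), (o14, o72), (o12, o252), (o154, o149)], 53, .node 6 53 [⟨o68, [(68, [])], 1345⟩]⟩,
  ⟨[(o10, o10), (o0, o0), (o215, o215), (o1965, o1965), (o14, o72), (o12, o252), (o154, o149), (o256, o68)], 53, .node 7 53 [⟨o21, [(21, [])], 1346⟩,
      ⟨o88, [(88, [])], 1347⟩,
      ⟨o220, [(220, [])], 1348⟩,
      ⟨o1964, [(1964, [])], 1349⟩]⟩,
  ⟨[(o10, o10), (o0, o0), (o215, o215), (o1965, o1965), (o14, o72), (o12, o252), (o154, o149), (o256, o68), (o243, o21)], 53, .conjw 1 [4, 1, 2, 3, 7, 8, 4, 2, 3, 7, 5, 0]⟩,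
  ⟨[(o10, o10), (o0, o0), (o215, o215), (o1965, o1965), (o14, o72), (o12, o252), (o154, o149), (o256, o68), (o243, o88)], 53, .conjw 0 [1, 2, 3, 4, 5, 3, 2, 0]⟩,
  ⟨[(o10, o10), (o0, o0), (o215, o215), (o1965, o1965), (o14, o72), (o12, o252), (o154, o149), (o256, o68), (o243, o220)], 53, .inner [4, 7, 8, 3, 7, 4, 5, 3, 4, 2, 3, 7, 8, 4, 1, 2, 3, 7, 5, 6, 4, 5, 3, 4, 0, 1, 2, 3, 7, 4, 5, 3, 4, 2, 3, 1, 0, 2, 1, 3, 2, 4, 3, 5, 4, 7, 3, 2, 1, 0, 4, 3, 5, 4, 6, 5, 7, 3, 2, 1, 4, 8, 7, 3, 2, 4, 3, 5, 4, 7, 3, 8, 7, 4]⟩,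
  ⟨[(o10, o10), (o0, o0), (o215, o215), (o1965, o1965), (o14, o72), (o12, o252), (o154, o149), (o256, o68), (o243, o1964)], 53, .inner [4, 7, 3, 2, 4, 5, 6, 8, 7, 3, 2, 4, 3, 7, 8, 1, 2, 3, 7, 5, 6, 4, 5, 3, 4, 0, 1, 2, 3, 7, 3, 4, 5, 1, 2, 3, 0, 1, 0, 2, 4, 1, 0, 3, 2, 1, 5, 4, 3, 7, 3, 2, 1, 0, 4, 3, 5, 4, 6, 5, 7, 3, 2, 1, 8, 7, 3, 4, 2, 3, 7, 8, 6, 5, 4, 2, 3, 7, 4]⟩,
  ⟨[(o10, o10), (o0, o0), (o215, o215), (o1965, o1965), (o14, o72), (o12, o255)], 53, .node 4 53 [⟨o154, [(154, [])], 1351⟩,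
      ⟨o155, [(155, [])], 1357⟩]⟩,
  ⟨[(o10, o10), (o0, o0), (o215, o215), (o1965, o1965), (o14, o72), (o12, o255), (o154, o154)], 53, .node 6 53 [⟨o143, [(143, [])], 1352⟩]⟩,
  ⟨[(o10, o10), (o0, o0), (o215, o215), (o1965, o1965), (o14, o72), (o12, o255), (o154, o154), (o256, o143)], 53, .node 7 53 [⟨o22, [(22, [])], 1353⟩,
      ⟨o87, [(87, [])], 1354⟩,
      ⟨o217, [(217, [])], 1355⟩,
      ⟨o1587, [(1587, [])], 1356⟩]⟩,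
  ⟨[(o10, o10), (o0, o0), (o215, o215), (o1965, o1965), (o14, o72), (o12, o255), (o154, o154), (o256, o143), (o243, o22)], 53, .conjw 1 [1, 0, 2, 1, 0, 3, 6, 5, 7, 3, 2, 1, 0, 4, 3, 2, 1, 7, 3, 4, 2, 3, 7, 8, 7, 5, 6, 3, 4, 5, 2, 3, 4, 1, 2, 3, 7, 3, 4, 0, 1, 2, 1]⟩,
  ⟨[(o10, o10), (o0, o0), (o215, o215), (o1965, o1965), (o14, o72), (o12, o255), (o154, o154), (o256, o143), (o243, o87)], 53, .conjw 2 [1, 7, 8, 3, 7, 2, 3, 4, 0, 1, 2, 3, 7, 8, 5, 4, 3, 7, 2, 3, 4, 3, 2, 1]⟩,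
  ⟨[(o10, o10), (o0, o0), (o215, o215), (o1965, o1965), (o14, o72), (o12, o255), (o154, o154), (o256, o143), (o243, o217)], 53, .inner [6, 5, 4, 3, 0, 2, 3, 4, 5, 6]⟩,
  ⟨[(o10, o10), (o0, o0), (o215, o215), (o1965, o1965), (o14, o72), (o12, o255), (o154, o154), (o256, o143), (o243, o1587)], 53, .inner [2, 3, 7, 8, 4, 3, 7, 6, 2, 3, 4, 5, 0, 2, 4, 5, 4, 3, 2, 6, 7, 3, 4, 8, 7, 3, 2]⟩,
  ⟨[(o10, o10), (o0, o0), (o215, o215), (o1965, o1965), (o14, o72), (o12, o255), (o154, o155)], 53, .node 6 53 [⟨o68, [(68, [])], 1358⟩]⟩,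
  ⟨[(o10, o10), (o0, o0), (o215, o215), (o1965, o1965), (o14, o72), (o12, o255), (o154, o155), (o256, o68)], 53, .node 7 53 [⟨o22, [(22, [])], 1359⟩,
      ⟨o87, [(87, [])], 1360⟩,
      ⟨o217, [(217, [])], 1361⟩,
      ⟨o1587, [(1587, [])], 1362⟩]⟩,
  ⟨[(o10, o10), (o0, o0), (o215, o215), (o1965, o1965), (o14, o72), (o12, o255), (o154, o155), (o256, o68), (o243, o22)], 53, .conjw 2 [1, 2, 3, 4, 5, 3, 2, 0]⟩,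
  ⟨[(o10, o10), (o0, o0), (o215, o215), (o1965, o1965), (o14, o72), (o12, o255), (o154, o155), (o256, o68), (o243, o87)], 53, .conjw 1 [1, 2, 3, 4, 5, 3, 2, 0]⟩,
  ⟨[(o10, o10), (o0, o0), (o215, o215), (o1965, o1965), (o14, o72), (o12, o255), (o154, o155), (o256, o68), (o243, o217)], 53, .inner [4, 5, 6, 3, 4, 5, 2, 3, 0, 2, 4, 3, 2, 5, 4, 3, 6, 5, 4]⟩,
  ⟨[(o10, o10), (o0, o0), (o215, o215), (o1965, o1965), (o14, o72), (o12, o255), (o154, o155), (o256, o68), (o243, o1587)], 53, .inner [1, 0, 4, 3, 5, 6, 5, 4, 3, 7, 8, 3, 4, 2, 3, 7, 3, 4, 5, 1, 2, 3, 4, 0, 1, 2, 3, 7, 3, 4, 5, 4, 2, 3, 0, 1, 0, 2, 4, 1, 0, 3, 2, 4, 5, 4, 3, 7, 3, 2, 1, 0, 4, 3, 2, 1, 5, 4, 3, 7, 3, 2, 4, 3, 8, 7, 3, 4, 5, 6, 5, 3, 4, 0, 1]⟩,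
  ⟨[(o10, o10), (o0, o0), (o215, o215), (o1965, o1965), (o14, o72), (o12, o522)], 53, .node 4 53 [⟨o561, [(561, [])], 1364⟩,
      ⟨o1442, [(1442, [])], 1368⟩]⟩,
  ⟨[(o10, o10), (o0, o0), (o215, o215), (o1965, o1965), (o14, o72), (o12, o522), (o154, o561)], 53, .node 6 53 [⟨o509, [(509, [])], 1365⟩]⟩,
  ⟨[(o10, o10), (o0, o0), (o215, o215), (o1965, o1965), (o14, o72), (o12, o522), (o154, o561), (o256, o509)], 53, .node 7 53 [⟨o220, [(220, [])], 1366⟩,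
      ⟨o1964, [(1964, [])], 1367⟩]⟩,
  ⟨[(o10, o10), (o0, o0), (o215, o215), (o1965, o1965), (o14, o72), (o12, o522), (o154, o561), (o256, o509), (o243, o220)], 53, .inner [1, 4, 6, 5, 4, 3, 7, 3, 2, 4, 8, 3, 7, 3, 4, 5, 6, 2, 3, 4, 5, 1, 2, 3, 4, 0, 1, 2, 3, 7, 3, 4, 5, 2, 3, 1, 0, 2, 4, 1, 3, 2, 5, 4, 3, 7, 3, 2, 1, 0, 4, 3, 2, 1, 5, 4, 3, 2, 6, 5, 4, 3, 7, 3, 8, 4, 2, 3, 7, 3, 4, 5, 6, 4, 1]⟩,
  ⟨[(o10, o10), (o0, o0), (o215, o215), (o1965, o1965), (o14, o72), (o12, o522), (o154, o561), (o256, o509), (o243, o1964)], 53, .inner [6, 5, 4, 3, 7, 8, 3, 4, 1, 2, 3, 7, 3, 4, 5, 6, 2, 3, 4, 5, 0, 1, 0, 2, 4, 1, 0, 5, 4, 3, 2, 6, 5, 4, 3, 7, 3, 2, 1, 4, 3, 8, 7, 3, 4, 5, 6]⟩,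
  ⟨[(o10, o10), (o0, o0), (o215, o215), (o1965, o1965), (o14, o72), (o12, o522), (o154, o1442)], 53, .node 6 53 [⟨o548, [(548, [])], 1369⟩]⟩,
  ⟨[(o10, o10), (o0, o0), (o215, o215), (o1965, o1965), (o14, o72), (o12, o522), (o154, o1442), (o256, o548)], 53, .node 7 53 [⟨o220, [(220, [])], 1370⟩,
      ⟨o1964, [(1964, [])], 1371⟩]⟩,
  ⟨[(o10, o10), (o0, o0), (o215, o215), (o1965, o1965), (o14, o72), (o12, o522), (o154, o1442), (o256, o548), (o243, o220)], 53, .inner [1, 0, 6, 5, 7, 8, 3, 7, 2, 3, 4, 1, 2, 3, 7, 8, 5, 2, 3, 4, 1, 2, 3, 7, 2, 3, 4, 5, 2, 3, 0, 2, 4, 3, 2, 5, 4, 3, 2, 7, 3, 2, 1, 4, 3, 2, 5, 8, 7, 3, 2, 1, 4, 3, 2, 7, 3, 8, 7, 5, 6, 0, 1]⟩,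
  ⟨[(o10, o10), (o0, o0), (o215, o215), (o1965, o1965), (o14, o72), (o12, o522), (o154, o1442), (o256, o548), (o243, o1964)], 53, .inner [6, 5, 4, 3, 7, 8, 3, 4, 1, 2, 3, 7, 3, 4, 2, 3, 0, 1, 0, 2, 1, 0, 3, 2, 4, 3, 7, 3, 2, 1, 4, 3, 8, 7, 3, 4, 5, 6]⟩,
  ⟨[(o10, o10), (o0, o0), (o215, o215), (o1965, o1965), (o14, o72), (o12, o523)], 53, .node 4 53 [⟨o560, [(560, [])], 1373⟩,
      ⟨o1294, [(1294, [])], 1377⟩]⟩,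
  ⟨[(o10, o10), (o0, o0), (o215, o215), (o1965, o1965), (o14, o72), (o12, o523), (o154, o560)], 53, .node 6 53 [⟨o509, [(509, [])], 1374⟩]⟩,
  ⟨[(o10, o10), (o0, o0), (o215, o215), (o1965, o1965), (o14, o72), (o12, o523), (o154, o560), (o256, o509)], 53, .node 7 53 [⟨o217, [(217, [])], 1375⟩,
      ⟨o1587, [(1587, [])], 1376⟩]⟩,
  ⟨[(o10, o10), (o0, o0), (o215, o215), (o1965, o1965), (o14, o72), (o12, o523), (o154, o560), (o256, o509), (o243, o217)], 53, .inner [2, 1, 0, 3, 4, 7, 3, 8, 4, 2, 3, 7, 3, 4, 5, 2, 3, 4, 1, 2, 3, 7, 6, 0, 1, 2, 3, 4, 5, 1, 2, 3, 0, 1, 0, 2, 4, 1, 0, 3, 2, 1, 5, 4, 3, 2, 1, 0, 6, 7, 3, 2, 1, 4, 3, 2, 5, 4, 3, 7, 3, 2, 4, 8, 3, 7, 4, 3, 0, 1, 2]⟩,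
  ⟨[(o10, o10), (o0, o0), (o215, o215), (o1965, o1965), (o14, o72), (o12, o523), (o154, o560), (o256, o509), (o243, o1587)], 53, .inner [2, 3, 7, 8, 4, 3, 7, 4, 5, 1, 2, 3, 4, 0, 1, 2, 3, 7, 5, 6, 4, 5, 3, 4, 0, 1, 2, 3, 0, 1, 0, 2, 1, 0, 3, 2, 1, 0, 4, 3, 5, 4, 6, 5, 7, 3, 2, 1, 0, 4, 3, 2, 1, 5, 4, 7, 3, 4, 8, 7, 3, 2]⟩,
  ⟨[(o10, o10), (o0, o0), (o215, o215), (o1965, o1965), (o14, o72), (o12, o523), (o154, o1294)], 53, .node 6 53 [⟨o548, [(548, [])], 1378⟩]⟩,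
  ⟨[(o10, o10), (o0, o0), (o215, o215), (o1965, o1965), (o14, o72), (o12, o523), (o154, o1294), (o256, o548)], 53, .node 7 53 [⟨o217, [(217, [])], 1379⟩,
      ⟨o1587, [(1587, [])], 1380⟩]⟩,
  ⟨[(o10, o10), (o0, o0), (o215, o215), (o1965, o1965), (o14, o72), (o12, o523), (o154, o1294), (o256, o548), (o243, o217)], 53, .inner [2, 3, 7, 8, 6, 3, 4, 5, 1, 2, 3, 4, 0, 1, 2, 3, 7, 0, 1, 2, 3, 4, 5, 4, 3, 1, 0, 2, 4, 1, 3, 4, 5, 4, 3, 2, 1, 0, 7, 3, 2, 1, 0, 4, 3, 2, 1, 5, 4, 3, 6, 8, 7, 3, 2]⟩,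
  ⟨[(o10, o10), (o0, o0), (o215, o215), (o1965, o1965), (o14, o72), (o12, o523), (o154, o1294), (o256, o548), (o243, o1587)], 53, .inner [6, 5, 4, 3, 7, 8, 3, 4, 1, 2, 3, 7, 0, 1, 2, 3, 0, 1, 0, 2, 4, 1, 0, 3, 2, 1, 0, 7, 3, 2, 1, 4, 3, 8, 7, 3, 4, 5, 6]⟩,
  ⟨[(o10, o10), (o0, o0), (o215, o215), (o1965, o1965), (o14, o72), (o12, o1675)], 53, .node 4 53 [⟨o154, [(154, [])], 1382⟩,
      ⟨o155, [(155, [])], 1388⟩]⟩,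
  ⟨[(o10, o10), (o0, o0), (o215, o215), (o1965, o1965), (o14, o72), (o12, o1675), (o154, o154)], 53, .node 6 53 [⟨o1571, [(1571, [])], 1383⟩]⟩,
  ⟨[(o10, o10), (o0, o0), (o215, o215), (o1965, o1965), (o14, o72), (o12, o1675), (o154, o154), (o256, o1571)], 53, .node 7 53 [⟨o534, [(534, [])], 1384⟩,
      ⟨o1301, [(1301, [])], 1385⟩,
      ⟨o1466, [(1466, [])], 1386⟩,
      ⟨o2024, [(2024, [])], 1387⟩]⟩,
  ⟨[(o10, o10), (o0, o0), (o215, o215), (o1965, o1965), (o14, o72), (o12, o1675), (o154, o154), (o256, o1571), (o243, o534)], 53, .inner [1, 2, 3, 7, 4, 5, 3, 4, 2, 3, 7, 8, 7, 3, 4, 2, 3, 7, 5, 6, 4, 5, 3, 4, 2, 3, 0, 1, 0, 2, 1, 0, 3, 2, 4, 3, 5, 4, 6, 5, 7, 3, 2, 4, 3, 7, 8, 7, 3, 2, 4, 3, 5, 4, 7, 3, 2, 1]⟩,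
  ⟨[(o10, o10), (o0, o0), (o215, o215), (o1965, o1965), (o14, o72), (o12, o1675), (o154, o154), (o256, o1571), (o243, o1301)], 53, .conjw 1 [1, 0, 2, 1, 0, 3, 2, 1, 6, 5, 7, 3, 8, 4, 2, 3, 7, 3, 4, 5, 2, 3, 4, 1, 2, 3, 7, 8, 7, 3, 4, 2, 3, 7, 0, 1, 0]⟩,
  ⟨[(o10, o10), (o0, o0), (o215, o215), (o1965, o1965), (o14, o72), (o12, o1675), (o154, o154), (o256, o1571), (o243, o1466)], 53, .inner [2, 1, 0, 3, 2, 4, 3, 7, 8, 1, 2, 3, 7, 6, 4, 5, 3, 4, 2, 3, 7, 8, 1, 2, 3, 7, 6, 5, 4, 3, 0, 1, 0, 2, 4, 1, 0, 3, 4, 5, 6, 7, 3, 2, 1, 8, 7, 3, 2, 4, 3, 5, 4, 6, 7, 3, 2, 1, 8, 7, 3, 4, 2, 3, 0, 1, 2]⟩,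
  ⟨[(o10, o10), (o0, o0), (o215, o215), (o1965, o1965), (o14, o72), (o12, o1675), (o154, o154), (o256, o1571), (o243, o2024)], 53, .conjw 0 [2, 3, 7, 6, 5, 1, 2, 3, 4, 0, 1, 2, 3, 7, 8, 7, 3, 4, 2, 3, 7, 5, 3, 4, 1, 2, 3, 0, 1, 2, 0, 1, 0]⟩,
  ⟨[(o10, o10), (o0, o0), (o215, o215), (o1965, o1965), (o14, o72), (o12, o1675), (o154, o155)], 53, .node 6 53 [⟨o1570, [(1570, [])], 1389⟩]⟩,
  ⟨[(o10, o10), (o0, o0), (o215, o215), (o1965, o1965), (o14, o72), (o12, o1675), (o154, o155), (o256, o1570)], 53, .node 7 53 [⟨o534, [(534, [])], 1390⟩,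
      ⟨o1301, [(1301, [])], 1391⟩,
      ⟨o1466, [(1466, [])], 1392⟩,
      ⟨o2024, [(2024, [])], 1393⟩]⟩,
  ⟨[(o10, o10), (o0, o0), (o215, o215), (o1965, o1965), (o14, o72), (o12, o1675), (o154, o155), (o256, o1570), (o243, o534)], 53, .inner [1, 6, 5, 4, 3, 7, 8, 3, 4, 2, 3, 7, 5, 6, 4, 5, 3, 4, 2, 3, 7, 5, 6, 4, 5, 1, 2, 3, 0, 1, 0, 2, 4, 1, 0, 3, 2, 1, 5, 4, 6, 5, 7, 3, 2, 4, 3, 5, 4, 6, 5, 7, 3, 2, 4, 3, 8, 7, 3, 4, 5, 6, 1]⟩,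
  ⟨[(o10, o10), (o0, o0), (o215, o215), (o1965, o1965), (o14, o72), (o12, o1675), (o154, o155), (o256, o1570), (o243, o1301)], 53, .conjw 2 [1, 0, 2, 1, 0, 3, 2, 1, 6, 5, 7, 3, 4, 2, 3, 7, 8, 7, 3, 4, 2, 3, 7, 5, 6, 1, 2, 3, 4, 5, 3, 4, 0]⟩,
  ⟨[(o10, o10), (o0, o0), (o215, o215), (o1965, o1965), (o14, o72), (o12, o1675), (o154, o155), (o256, o1570), (o243, o1466)], 53, .inner [1, 4, 6, 5, 4, 3, 7, 3, 2, 8, 4, 3, 7, 3, 4, 5, 1, 2, 3, 4, 0, 1, 2, 3, 7, 6, 0, 1, 2, 3, 4, 5, 2, 3, 0, 1, 0, 2, 4, 1, 0, 3, 2, 5, 4, 3, 2, 1, 0, 6, 7, 3, 2, 1, 0, 4, 3, 2, 1, 5, 4, 3, 7, 3, 4, 8, 2, 3, 7, 3, 4, 5, 6, 4, 1]⟩,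
  ⟨[(o10, o10), (o0, o0), (o215, o215), (o1965, o1965), (o14, o72), (o12, o1675), (o154, o155), (o256, o1570), (o243, o2024)], 53, .conjw 1 [1, 2, 1, 0, 3, 2, 1, 6, 7, 5, 3, 4, 2, 3, 7, 8, 7, 3, 4, 2, 3, 7, 5, 6, 4, 5, 1, 2, 3, 4, 0, 1, 0]⟩,
  ⟨[(o10, o10), (o0, o0), (o215, o215), (o1965, o1965), (o14, o72), (o12, o1676)], 53, .node 4 53 [⟨o67, [(67, [])], 1395⟩,
      ⟨o149, [(149, [])], 1401⟩]⟩,
  ⟨[(o10, o10), (o0, o0), (o215, o215), (o1965, o1965), (o14, o72), (o12, o1676), (o154, o67)], 53, .node 6 53 [⟨o1571, [(1571, [])], 1396⟩]⟩,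
  ⟨[(o10, o10), (o0, o0), (o215, o215), (o1965, o1965), (o14, o72), (o12, o1676), (o154, o67), (o256, o1571)], 53, .node 7 53 [⟨o611, [(611, [])], 1397⟩,
      ⟨o666, [(666, [])], 1398⟩,
      ⟨o1273, [(1273, [])], 1399⟩,
      ⟨o2722, [(2722, [])], 1400⟩]⟩,
  ⟨[(o10, o10), (o0, o0), (o215, o215), (o1965, o1965), (o14, o72), (o12, o1676), (o154, o67), (o256, o1571), (o243, o611)], 53, .inner [1, 2, 3, 7, 4, 5, 3, 4, 2, 3, 7, 8, 7, 3, 4, 2, 3, 7, 5, 6, 4, 5, 0, 1, 2, 3, 0, 1, 0, 2, 4, 1, 0, 3, 2, 1, 0, 5, 4, 6, 5, 7, 3, 2, 4, 3, 7, 8, 7, 3, 2, 4, 3, 5, 4, 7, 3, 2, 1]⟩,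
  ⟨[(o10, o10), (o0, o0), (o215, o215), (o1965, o1965), (o14, o72), (o12, o1676), (o154, o67), (o256, o1571), (o243, o666)], 53, .conjw 2 [1, 2, 1, 0, 3, 2, 1, 6, 5, 7, 3, 4, 2, 3, 7, 8, 7, 3, 4, 2, 3, 7, 5, 4, 1, 2, 3, 0, 1, 2, 0, 1, 0]⟩,
  ⟨[(o10, o10), (o0, o0), (o215, o215), (o1965, o1965), (o14, o72), (o12, o1676), (o154, o67), (o256, o1571), (o243, o1273)], 53, .inner [1, 4, 3, 5, 6, 5, 4, 3, 7, 3, 2, 8, 4, 3, 7, 3, 4, 5, 1, 2, 3, 4, 0, 1, 2, 3, 7, 6, 0, 1, 2, 3, 4, 5, 2, 3, 0, 1, 0, 2, 4, 1, 0, 3, 2, 5, 4, 3, 2, 1, 0, 6, 7, 3, 2, 1, 0, 4, 3, 2, 1, 5, 4, 3, 7, 3, 4, 8, 2, 3, 7, 3, 4, 5, 6, 5, 3, 4, 1]⟩,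
  ⟨[(o10, o10), (o0, o0), (o215, o215), (o1965, o1965), (o14, o72), (o12, o1676), (o154, o67), (o256, o1571), (o243, o2722)], 53, .conjw 1 [1, 0, 2, 1, 0, 3, 2, 1, 7, 6, 5, 3, 4, 2, 3, 7, 8, 7, 3, 4, 2, 3, 7, 5, 4, 1, 2, 3, 0, 1, 2, 1, 0]⟩,
  ⟨[(o10, o10), (o0, o0), (o215, o215), (o1965, o1965), (o14, o72), (o12, o1676), (o154, o149)], 53, .node 6 53 [⟨o1570, [(1570, [])], 1402⟩]⟩,
  ⟨[(o10, o10), (o0, o0), (o215, o215), (o1965, o1965), (o14, o72), (o12, o1676), (o154, o149), (o256, o1570)], 53, .node 7 53 [⟨o611, [(611, [])], 1403⟩,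
      ⟨o666, [(666, [])], 1404⟩,
      ⟨o1273, [(1273, [])], 1405⟩,
      ⟨o2722, [(2722, [])], 1406⟩]⟩,
  ⟨[(o10, o10), (o0, o0), (o215, o215), (o1965, o1965), (o14, o72), (o12, o1676), (o154, o149), (o256, o1570), (o243, o611)], 53, .inner [2, 3, 4, 3, 7, 3, 4, 5, 6, 2, 3, 4, 5, 1, 2, 3, 4, 0, 1, 2, 3, 7, 8, 7, 3, 4, 1, 2, 3, 7, 5, 6, 4, 5, 3, 4, 2, 3, 0, 1, 0, 2, 1, 0, 3, 2, 4, 3, 5, 4, 6, 5, 7, 3, 2, 1, 4, 3, 7, 8, 7, 3, 2, 1, 0, 4, 3, 2, 1, 5, 4, 3, 2, 6, 5, 4, 3, 7, 3, 4, 3, 2]⟩,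
  ⟨[(o10, o10), (o0, o0), (o215, o215), (o1965, o1965), (o14, o72), (o12, o1676), (o154, o149), (o256, o1570), (o243, o666)], 53, .conjw 1 [1, 0, 4, 3, 7, 8, 3, 7, 4, 5, 3, 4, 2, 3, 7, 8, 1, 2, 3, 7, 6, 4, 5, 3, 4, 0, 1, 2, 1, 0]⟩,
  ⟨[(o10, o10), (o0, o0), (o215, o215), (o1965, o1965), (o14, o72), (o12, o1676), (o154, o149), (o256, o1570), (o243, o1273)], 53, .inner [4, 7, 3, 2, 4, 5, 8, 7, 3, 2, 1, 0, 4, 3, 7, 8, 2, 3, 7, 5, 6, 4, 5, 3, 4, 1, 2, 3, 7, 4, 5, 6, 3, 4, 5, 2, 3, 1, 0, 2, 4, 1, 3, 2, 5, 4, 3, 6, 5, 4, 7, 3, 2, 1, 4, 3, 5, 4, 6, 5, 7, 3, 2, 8, 7, 3, 4, 0, 1, 2, 3, 7, 8, 5, 4, 2, 3, 7, 4]⟩,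
  ⟨[(o10, o10), (o0, o0), (o215, o215), (o1965, o1965), (o14, o72), (o12, o1676), (o154, o149), (o256, o1570), (o243, o2722)], 53, .conjw 2 [2, 3, 4, 3, 2, 5, 7, 3, 2, 1, 0, 4, 8, 7, 3, 4, 5, 2, 3, 4, 1, 2, 3, 7, 8, 6, 5, 4, 3, 7, 2, 3, 4, 5, 3, 4, 0]⟩,
  ⟨[(o10, o10), (o0, o0), (o215, o215), (o1965, o1965), (o14, o216)], 51, .node 2 53 [⟨o189, [(189, [])], 1408⟩,
      ⟨o190, [(190, [])], 1417⟩,
      ⟨o252, [(252, [])], 1426⟩,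
      ⟨o255, [(255, [])], 1439⟩,
      ⟨o522, [(522, [])], 1452⟩,
      ⟨o523, [(523, [])], 1461⟩,
      ⟨o1675, [(1675, [])], 1470⟩,
      ⟨o1676, [(1676, [])], 1483⟩]⟩]

/-- Nodes. -/
def nd11 : List ONode := [
  ⟨[(o10, o10), (o0, o0), (o215, o215), (o1965, o1965), (o14, o216), (o12, o189)], 53, .node 4 53 [⟨o560, [(560, [])], 1409⟩,
      ⟨o1294, [(1294, [])], 1413⟩]⟩,
  ⟨[(o10, o10), (o0, o0), (o215, o215), (o1965, o1965), (o14, o216), (o12, o189), (o154, o560)], 53, .node 6 53 [⟨o949, [(949, [])], 1410⟩]⟩,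
  ⟨[(o10, o10), (o0, o0), (o215, o215), (o1965, o1965), (o14, o216), (o12, o189), (o154, o560), (o256, o949)], 53, .node 7 53 [⟨o534, [(534, [])], 1411⟩,
      ⟨o1466, [(1466, [])], 1412⟩]⟩,
  ⟨[(o10, o10), (o0, o0), (o215, o215), (o1965, o1965), (o14, o216), (o12, o189), (o154, o560), (o256, o949), (o243, o534)], 53, .inner [4, 5, 3, 4, 2, 3, 7, 8, 6, 5, 3, 4, 1, 2, 3, 7, 4, 5, 6, 1, 2, 3, 4, 5, 0, 1, 0, 2, 4, 1, 0, 5, 4, 3, 2, 1, 6, 5, 4, 7, 3, 2, 1, 4, 3, 5, 6, 8, 7, 3, 2, 4, 3, 5, 4]⟩,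
  ⟨[(o10, o10), (o0, o0), (o215, o215), (o1965, o1965), (o14, o216), (o12, o189), (o154, o560), (o256, o949), (o243, o1466)], 53, .inner [2, 4, 3, 2, 1, 0, 5, 4, 3, 7, 3, 8, 7, 4, 5, 2, 3, 4, 1, 2, 3, 7, 3, 4, 5, 6, 0, 1, 2, 3, 4, 5, 0, 1, 2, 3, 0, 1, 0, 2, 4, 1, 0, 3, 2, 1, 0, 5, 4, 3, 2, 1, 0, 6, 5, 4, 3, 7, 3, 2, 1, 4, 3, 2, 5, 4, 7, 8, 3, 7, 3, 4, 5, 0, 1, 2, 3, 4, 2]⟩,
  ⟨[(o10, o10), (o0, o0), (o215, o215), (o1965, o1965), (o14, o216), (o12, o189), (o154, o1294)], 53, .node 6 53 [⟨o1274, [(1274, [])], 1414⟩]⟩,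
  ⟨[(o10, o10), (o0, o0), (o215, o215), (o1965, o1965), (o14, o216), (o12, o189), (o154, o1294), (o256, o1274)], 53, .node 7 53 [⟨o534, [(534, [])], 1415⟩,
      ⟨o1466, [(1466, [])], 1416⟩]⟩,
  ⟨[(o10, o10), (o0, o0), (o215, o215), (o1965, o1965), (o14, o216), (o12, o189), (o154, o1294), (o256, o1274), (o243, o534)], 53, .inner [2, 4, 3, 2, 1, 5, 4, 3, 2, 6, 7, 3, 8, 4, 2, 3, 7, 5, 6, 3, 4, 5, 1, 2, 3, 4, 0, 1, 2, 3, 7, 3, 4, 5, 1, 2, 3, 1, 0, 2, 4, 1, 3, 2, 1, 5, 4, 3, 7, 3, 2, 1, 0, 4, 3, 2, 1, 5, 4, 3, 6, 5, 7, 3, 2, 4, 8, 3, 7, 6, 2, 3, 4, 5, 1, 2, 3, 4, 2]⟩,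
  ⟨[(o10, o10), (o0, o0), (o215, o215), (o1965, o1965), (o14, o216), (o12, o189), (o154, o1294), (o256, o1274), (o243, o1466)], 53, .inner [1, 4, 6, 5, 4, 3, 2, 7, 3, 8, 4, 2, 3, 7, 5, 1, 2, 3, 4, 0, 1, 2, 3, 7, 5, 6, 1, 2, 3, 4, 5, 1, 2, 3, 0, 1, 0, 2, 4, 1, 0, 3, 2, 1, 5, 4, 3, 2, 1, 6, 5, 7, 3, 2, 1, 0, 4, 3, 2, 1, 5, 7, 3, 2, 4, 8, 3, 7, 2, 3, 4, 5, 6, 4, 1]⟩,
  ⟨[(o10, o10), (o0, o0), (o215, o215), (o1965, o1965), (o14, o216), (o12, o190)], 53, .node 4 53 [⟨o561, [(561, [])], 1418⟩,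
      ⟨o1442, [(1442, [])], 1422⟩]⟩,
  ⟨[(o10, o10), (o0, o0), (o215, o215), (o1965, o1965), (o14, o216), (o12, o190), (o154, o561)], 53, .node 6 53 [⟨o949, [(949, [])], 1419⟩]⟩,
  ⟨[(o10, o10), (o0, o0), (o215, o215), (o1965, o1965), (o14, o216), (o12, o190), (o154, o561), (o256, o949)], 53, .node 7 53 [⟨o611, [(611, [])], 1420⟩,
      ⟨o1273, [(1273, [])], 1421⟩]⟩,
  ⟨[(o10, o10), (o0, o0), (o215, o215), (o1965, o1965), (o14, o216), (o12, o190), (o154, o561), (o256, o949), (o243, o611)], 53, .inner [4, 5, 3, 4, 2, 3, 7, 8, 6, 5, 3, 4, 1, 2, 3, 7, 4, 1, 2, 3, 0, 1, 0, 2, 1, 0, 3, 2, 1, 4, 7, 3, 2, 1, 4, 3, 5, 6, 8, 7, 3, 2, 4, 3, 5, 4]⟩,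
  ⟨[(o10, o10), (o0, o0), (o215, o215), (o1965, o1965), (o14, o216), (o12, o190), (o154, o561), (o256, o949), (o243, o1273)], 53, .inner [6, 5, 4, 3, 7, 8, 3, 7, 5, 2, 3, 4, 1, 2, 3, 7, 6, 5, 4, 3, 0, 1, 0, 2, 4, 1, 0, 3, 4, 5, 6, 7, 3, 2, 1, 4, 3, 2, 5, 7, 3, 8, 7, 3, 4, 5, 6]⟩,
  ⟨[(o10, o10), (o0, o0), (o215, o215), (o1965, o1965), (o14, o216), (o12, o190), (o154, o1442)], 53, .node 6 53 [⟨o1274, [(1274, [])], 1423⟩]⟩,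
  ⟨[(o10, o10), (o0, o0), (o215, o215), (o1965, o1965), (o14, o216), (o12, o190), (o154, o1442), (o256, o1274)], 53, .node 7 53 [⟨o611, [(611, [])], 1424⟩,
      ⟨o1273, [(1273, [])], 1425⟩]⟩,
  ⟨[(o10, o10), (o0, o0), (o215, o215), (o1965, o1965), (o14, o216), (o12, o190), (o154, o1442), (o256, o1274), (o243, o611)], 53, .inner [2, 7, 8, 4, 3, 7, 5, 6, 4, 5, 3, 4, 2, 3, 7, 8, 7, 3, 4, 1, 2, 3, 7, 5, 4, 3, 0, 1, 0, 2, 4, 1, 0, 3, 4, 5, 7, 3, 2, 1, 4, 3, 7, 8, 7, 3, 2, 4, 3, 5, 4, 6, 5, 7, 3, 4, 8, 7, 2]⟩,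
  ⟨[(o10, o10), (o0, o0), (o215, o215), (o1965, o1965), (o14, o216), (o12, o190), (o154, o1442), (o256, o1274), (o243, o1273)], 53, .inner [1, 0, 4, 3, 6, 5, 4, 3, 7, 8, 3, 7, 6, 4, 5, 2, 3, 4, 1, 2, 3, 7, 1, 2, 3, 4, 5, 4, 3, 1, 0, 2, 4, 1, 3, 4, 5, 4, 3, 2, 1, 7, 3, 2, 1, 4, 3, 2, 5, 4, 6, 7, 3, 8, 7, 3, 4, 5, 6, 3, 4, 0, 1]⟩,
  ⟨[(o10, o10), (o0, o0), (o215, o215), (o1965, o1965), (o14, o216), (o12, o252)], 53, .node 4 53 [⟨o67, [(67, [])], 1427⟩,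
      ⟨o149, [(149, [])], 1433⟩]⟩,
  ⟨[(o10, o10), (o0, o0), (o215, o215), (o1965, o1965), (o14, o216), (o12, o252), (o154, o67)], 53, .node 6 53 [⟨o143, [(143, [])], 1428⟩]⟩,
  ⟨[(o10, o10), (o0, o0), (o215, o215), (o1965, o1965), (o14, o216), (o12, o252), (o154, o67), (o256, o143)], 53, .node 7 53 [⟨o21, [(21, [])], 1429⟩,
      ⟨o88, [(88, [])], 1430⟩,
      ⟨o220, [(220, [])], 1431⟩,
      ⟨o1964, [(1964, [])], 1432⟩]⟩,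
  ⟨[(o10, o10), (o0, o0), (o215, o215), (o1965, o1965), (o14, o216), (o12, o252), (o154, o67), (o256, o143), (o243, o21)], 53, .conjw 1 [4, 6, 7, 3, 2, 4, 3, 5, 4, 6, 5, 7, 3, 4, 2, 3, 7, 8, 7, 3, 4, 5, 1, 2, 3, 4, 0, 1, 2, 3, 7, 6, 5, 3, 4, 2, 1]⟩,
  ⟨[(o10, o10), (o0, o0), (o215, o215), (o1965, o1965), (o14, o216), (o12, o252), (o154, o67), (o256, o143), (o243, o88)], 53, .conjw 2 [1, 7, 8, 3, 7, 4, 5, 3, 4, 2, 3, 7, 8, 0, 1, 2, 3, 7, 4, 2, 3, 1, 2, 1]⟩,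
  ⟨[(o10, o10), (o0, o0), (o215, o215), (o1965, o1965), (o14, o216), (o12, o252), (o154, o67), (o256, o143), (o243, o220)], 53, .inner [6, 5, 1, 2, 3, 4, 0, 1, 2, 3, 0, 1, 0, 2, 1, 0, 3, 2, 1, 0, 4, 3, 2, 1, 5, 6]⟩,
  ⟨[(o10, o10), (o0, o0), (o215, o215), (o1965, o1965), (o14, o216), (o12, o252), (o154, o67), (o256, o143), (o243, o1964)], 53, .inner [2, 3, 7, 8, 4, 1, 2, 3, 7, 6, 0, 1, 2, 3, 4, 5, 0, 2, 4, 5, 4, 3, 2, 1, 0, 6, 7, 3, 2, 1, 4, 8, 7, 3, 2]⟩,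
  ⟨[(o10, o10), (o0, o0), (o215, o215), (o1965, o1965), (o14, o216), (o12, o252), (o154, o149)], 53, .node 6 53 [⟨o68, [(68, [])], 1434⟩]⟩,
  ⟨[(o10, o10), (o0, o0), (o215, o215), (o1965, o1965), (o14, o216), (o12, o252), (o154, o149), (o256, o68)], 53, .node 7 53 [⟨o21, [(21, [])], 1435⟩,
      ⟨o88, [(88, [])], 1436⟩,
      ⟨o220, [(220, [])], 1437⟩,
      ⟨o1964, [(1964, [])], 1438⟩]⟩,
  ⟨[(o10, o10), (o0, o0), (o215, o215), (o1965, o1965), (o14, o216), (o12, o252), (o154, o149), (o256, o68), (o243, o21)], 53, .conjw 2 [4, 1, 2, 3, 0, 1, 2, 1]⟩,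
  ⟨[(o10, o10), (o0, o0), (o215, o215), (o1965, o1965), (o14, o216), (o12, o252), (o154, o149), (o256, o68), (o243, o88)], 53, .conjw 1 [4, 1, 2, 3, 0, 1, 2, 1]⟩,
  ⟨[(o10, o10), (o0, o0), (o215, o215), (o1965, o1965), (o14, o216), (o12, o252), (o154, o149), (o256, o68), (o243, o220)], 53, .inner [1, 2, 3, 4, 5, 6, 0, 1, 2, 3, 4, 5, 4, 3, 0, 1, 0, 2, 4, 1, 0, 3, 4, 5, 4, 3, 2, 1, 0, 6, 5, 4, 3, 2, 1]⟩,
  ⟨[(o10, o10), (o0, o0), (o215, o215), (o1965, o1965), (o14, o216), (o12, o252), (o154, o149), (o256, o68), (o243, o1964)], 53, .inner [4, 3, 7, 3, 2, 4, 3, 5, 8, 7, 3, 4, 2, 3, 7, 8, 7, 6, 5, 2, 3, 4, 1, 2, 3, 7, 6, 0, 1, 2, 3, 4, 5, 1, 0, 2, 4, 1, 5, 4, 3, 2, 1, 0, 6, 7, 3, 2, 1, 4, 3, 2, 5, 6, 7, 8, 7, 3, 2, 4, 3, 7, 8, 5, 3, 4, 2, 3, 7, 3, 4]⟩,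
  ⟨[(o10, o10), (o0, o0), (o215, o215), (o1965, o1965), (o14, o216), (o12, o255)], 53, .node 4 53 [⟨o154, [(154, [])], 1440⟩,
      ⟨o155, [(155, [])], 1446⟩]⟩,
  ⟨[(o10, o10), (o0, o0), (o215, o215), (o1965, o1965), (o14, o216), (o12, o255), (o154, o154)], 53, .node 6 53 [⟨o143, [(143, [])], 1441⟩]⟩,
  ⟨[(o10, o10), (o0, o0), (o215, o215), (o1965, o1965), (o14, o216), (o12, o255), (o154, o154), (o256, o143)], 53, .node 7 53 [⟨o22, [(22, [])], 1442⟩,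
      ⟨o87, [(87, [])], 1443⟩,
      ⟨o217, [(217, [])], 1444⟩,
      ⟨o1587, [(1587, [])], 1445⟩]⟩,
  ⟨[(o10, o10), (o0, o0), (o215, o215), (o1965, o1965), (o14, o216), (o12, o255), (o154, o154), (o256, o143), (o243, o22)], 53, .conjw 2 [2, 3, 7, 3, 2, 4, 3, 5, 4, 6, 5, 8, 7, 3, 2, 4, 3, 7, 8, 1, 2, 3, 4, 0, 1, 2, 3, 7, 5, 3, 4, 2, 3, 1, 2, 0, 1, 0]⟩,
  ⟨[(o10, o10), (o0, o0), (o215, o215), (o1965, o1965), (o14, o216), (o12, o255), (o154, o154), (o256, o143), (o243, o87)], 53, .conjw 1 [2, 3, 4, 5, 7, 3, 2, 4, 3, 8, 7, 3, 2, 1, 0, 4, 3, 2, 1, 5, 4, 6, 5, 3, 4, 2, 3, 7, 8, 3, 4, 2, 3, 7, 3, 4, 5, 1, 2, 3, 4, 3, 2, 0, 1, 0]⟩,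
  ⟨[(o10, o10), (o0, o0), (o215, o215), (o1965, o1965), (o14, o216), (o12, o255), (o154, o154), (o256, o143), (o243, o217)], 53, .inner [6, 5, 4, 3, 1, 2, 0, 1, 0, 1, 0, 2, 1, 3, 4, 5, 6]⟩,
  ⟨[(o10, o10), (o0, o0), (o215, o215), (o1965, o1965), (o14, o216), (o12, o255), (o154, o154), (o256, o143), (o243, o1587)], 53, .inner [6, 5, 4, 3, 7, 8, 1, 2, 3, 7, 0, 1, 2, 3, 0, 2, 3, 2, 1, 0, 7, 3, 2, 1, 8, 7, 3, 4, 5, 6]⟩,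
  ⟨[(o10, o10), (o0, o0), (o215, o215), (o1965, o1965), (o14, o216), (o12, o255), (o154, o155)], 53, .node 6 53 [⟨o68, [(68, [])], 1447⟩]⟩,
  ⟨[(o10, o10), (o0, o0), (o215, o215), (o1965, o1965), (o14, o216), (o12, o255), (o154, o155), (o256, o68)], 53, .node 7 53 [⟨o22, [(22, [])], 1448⟩,
      ⟨o87, [(87, [])], 1449⟩,
      ⟨o217, [(217, [])], 1450⟩,
      ⟨o1587, [(1587, [])], 1451⟩]⟩,
  ⟨[(o10, o10), (o0, o0), (o215, o215), (o1965, o1965), (o14, o216), (o12, o255), (o154, o155), (o256, o68), (o243, o22)], 53, .conjw 1 [2, 7, 3, 4, 5, 6, 8, 7, 3, 2, 4, 3, 5, 4, 7, 8, 3, 7, 2, 3, 4, 1, 2, 3, 7, 8, 0, 1, 2, 3, 7, 4, 5, 3, 4, 3, 1, 2, 1, 0]⟩,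
  ⟨[(o10, o10), (o0, o0), (o215, o215), (o1965, o1965), (o14, o216), (o12, o255), (o154, o155), (o256, o68), (o243, o87)], 53, .conjw 2 [1, 7, 8, 3, 7, 4, 5, 3, 4, 2, 3, 7, 8, 0, 1, 2, 3, 7, 2, 3, 4, 3, 2, 1]⟩,
  ⟨[(o10, o10), (o0, o0), (o215, o215), (o1965, o1965), (o14, o216), (o12, o255), (o154, o155), (o256, o68), (o243, o217)], 53, .inner [4, 5, 6, 3, 4, 5, 1, 2, 3, 4, 0, 1, 2, 3, 0, 1, 0, 2, 1, 0, 3, 2, 1, 0, 4, 3, 2, 1, 5, 4, 3, 6, 5, 4]⟩,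
  ⟨[(o10, o10), (o0, o0), (o215, o215), (o1965, o1965), (o14, o216), (o12, o255), (o154, o155), (o256, o68), (o243, o1587)], 53, .inner [6, 5, 4, 3, 7, 8, 1, 2, 3, 7, 5, 6, 0, 1, 2, 3, 4, 5, 0, 2, 4, 5, 4, 3, 2, 1, 0, 6, 5, 7, 3, 2, 1, 8, 7, 3, 4, 5, 6]⟩,
  ⟨[(o10, o10), (o0, o0), (o215, o215), (o1965, o1965), (o14, o216), (o12, o522)], 53, .node 4 53 [⟨o561, [(561, [])], 1453⟩,
      ⟨o1442, [(1442, [])], 1457⟩]⟩,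
  ⟨[(o10, o10), (o0, o0), (o215, o215), (o1965, o1965), (o14, o216), (o12, o522), (o154, o561)], 53, .node 6 53 [⟨o509, [(509, [])], 1454⟩]⟩,
  ⟨[(o10, o10), (o0, o0), (o215, o215), (o1965, o1965), (o14, o216), (o12, o522), (o154, o561), (o256, o509)], 53, .node 7 53 [⟨o220, [(220, [])], 1455⟩,
      ⟨o1964, [(1964, [])], 1456⟩]⟩,
  ⟨[(o10, o10), (o0, o0), (o215, o215), (o1965, o1965), (o14, o216), (o12, o522), (o154, o561), (o256, o509), (o243, o220)], 53, .inner [2, 1, 3, 2, 4, 6, 7, 3, 8, 4, 2, 3, 7, 5, 6, 3, 4, 5, 1, 2, 3, 4, 0, 1, 2, 3, 7, 3, 4, 5, 1, 2, 3, 1, 0, 2, 4, 1, 3, 2, 1, 5, 4, 3, 7, 3, 2, 1, 0, 4, 3, 2, 1, 5, 4, 3, 6, 5, 7, 3, 2, 4, 8, 3, 7, 6, 4, 2, 3, 1, 2]⟩,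
  ⟨[(o10, o10), (o0, o0), (o215, o215), (o1965, o1965), (o14, o216), (o12, o522), (o154, o561), (o256, o509), (o243, o1964)], 53, .inner [1, 4, 3, 5, 6, 5, 4, 3, 2, 7, 3, 8, 4, 2, 3, 7, 5, 1, 2, 3, 4, 0, 1, 2, 3, 7, 5, 6, 1, 2, 3, 4, 5, 1, 2, 3, 0, 1, 0, 2, 4, 1, 0, 3, 2, 1, 5, 4, 3, 2, 1, 6, 5, 7, 3, 2, 1, 0, 4, 3, 2, 1, 5, 7, 3, 2, 4, 8, 3, 7, 2, 3, 4, 5, 6, 5, 3, 4, 1]⟩,
  ⟨[(o10, o10), (o0, o0), (o215, o215), (o1965, o1965), (o14, o216), (o12, o522), (o154, o1442)], 53, .node 6 53 [⟨o548, [(548, [])], 1458⟩]⟩,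
  ⟨[(o10, o10), (o0, o0), (o215, o215), (o1965, o1965), (o14, o216), (o12, o522), (o154, o1442), (o256, o548)], 53, .node 7 53 [⟨o220, [(220, [])], 1459⟩,
      ⟨o1964, [(1964, [])], 1460⟩]⟩,
  ⟨[(o10, o10), (o0, o0), (o215, o215), (o1965, o1965), (o14, o216), (o12, o522), (o154, o1442), (o256, o548), (o243, o220)], 53, .inner [6, 5, 1, 2, 3, 4, 0, 1, 2, 3, 7, 8, 5, 3, 4, 0, 1, 2, 3, 7, 2, 3, 4, 5, 2, 3, 0, 2, 4, 3, 2, 5, 4, 3, 2, 7, 3, 2, 1, 0, 4, 3, 5, 8, 7, 3, 2, 1, 0, 4, 3, 2, 1, 5, 6]⟩,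
  ⟨[(o10, o10), (o0, o0), (o215, o215), (o1965, o1965), (o14, o216), (o12, o522), (o154, o1442), (o256, o548), (o243, o1964)], 53, .inner [6, 5, 4, 3, 7, 8, 3, 7, 4, 5, 1, 2, 3, 4, 0, 1, 2, 3, 7, 1, 2, 3, 4, 5, 2, 3, 0, 2, 4, 3, 2, 5, 4, 3, 2, 1, 7, 3, 2, 1, 0, 4, 3, 2, 1, 5, 4, 7, 3, 8, 7, 3, 4, 5, 6]⟩,
  ⟨[(o10, o10), (o0, o0), (o215, o215), (o1965, o1965), (o14, o216), (o12, o523)], 53, .node 4 53 [⟨o560, [(560, [])], 1462⟩,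
      ⟨o1294, [(1294, [])], 1466⟩]⟩,
  ⟨[(o10, o10), (o0, o0), (o215, o215), (o1965, o1965), (o14, o216), (o12, o523), (o154, o560)], 53, .node 6 53 [⟨o509, [(509, [])], 1463⟩]⟩,
  ⟨[(o10, o10), (o0, o0), (o215, o215), (o1965, o1965), (o14, o216), (o12, o523), (o154, o560), (o256, o509)], 53, .node 7 53 [⟨o217, [(217, [])], 1464⟩,
      ⟨o1587, [(1587, [])], 1465⟩]⟩,
  ⟨[(o10, o10), (o0, o0), (o215, o215), (o1965, o1965), (o14, o216), (o12, o523), (o154, o560), (o256, o509), (o243, o217)], 53, .inner [2, 3, 7, 8, 6, 5, 3, 4, 1, 2, 3, 7, 4, 5, 6, 1, 2, 3, 4, 5, 0, 1, 0, 2, 4, 1, 0, 5, 4, 3, 2, 1, 6, 5, 4, 7, 3, 2, 1, 4, 3, 5, 6, 8, 7, 3, 2]⟩,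
  ⟨[(o10, o10), (o0, o0), (o215, o215), (o1965, o1965), (o14, o216), (o12, o523), (o154, o560), (o256, o509), (o243, o1587)], 53, .inner [2, 1, 0, 3, 4, 7, 3, 8, 7, 4, 5, 2, 3, 4, 1, 2, 3, 7, 3, 4, 5, 6, 0, 1, 2, 3, 4, 5, 0, 1, 2, 3, 0, 1, 0, 2, 4, 1, 0, 3, 2, 1, 0, 5, 4, 3, 2, 1, 0, 6, 5, 4, 3, 7, 3, 2, 1, 4, 3, 2, 5, 4, 7, 8, 3, 7, 4, 3, 0, 1, 2]⟩,
  ⟨[(o10, o10), (o0, o0), (o215, o215), (o1965, o1965), (o14, o216), (o12, o523), (o154, o1294)], 53, .node 6 53 [⟨o548, [(548, [])], 1467⟩]⟩,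
  ⟨[(o10, o10), (o0, o0), (o215, o215), (o1965, o1965), (o14, o216), (o12, o523), (o154, o1294), (o256, o548)], 53, .node 7 53 [⟨o217, [(217, [])], 1468⟩,
      ⟨o1587, [(1587, [])], 1469⟩]⟩,
  ⟨[(o10, o10), (o0, o0), (o215, o215), (o1965, o1965), (o14, o216), (o12, o523), (o154, o1294), (o256, o548), (o243, o217)], 53, .inner [2, 3, 7, 8, 6, 5, 3, 4, 1, 2, 3, 7, 4, 1, 2, 3, 0, 1, 0, 2, 1, 0, 3, 2, 1, 4, 7, 3, 2, 1, 4, 3, 5, 6, 8, 7, 3, 2]⟩,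
  ⟨[(o10, o10), (o0, o0), (o215, o215), (o1965, o1965), (o14, o216), (o12, o523), (o154, o1294), (o256, o548), (o243, o1587)], 53, .inner [6, 5, 4, 3, 7, 8, 5, 4, 3, 7, 2, 3, 4, 1, 2, 3, 7, 5, 4, 3, 0, 1, 0, 2, 4, 1, 0, 3, 4, 5, 7, 3, 2, 1, 4, 3, 2, 7, 3, 4, 5, 8, 7, 3, 4, 5, 6]⟩,
  ⟨[(o10, o10), (o0, o0), (o215, o215), (o1965, o1965), (o14, o216), (o12, o1675)], 53, .node 4 53 [⟨o154, [(154, [])], 1471⟩,
      ⟨o155, [(155, [])], 1477⟩]⟩,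
  ⟨[(o10, o10), (o0, o0), (o215, o215), (o1965, o1965), (o14, o216), (o12, o1675), (o154, o154)], 53, .node 6 53 [⟨o1571, [(1571, [])], 1472⟩]⟩,
  ⟨[(o10, o10), (o0, o0), (o215, o215), (o1965, o1965), (o14, o216), (o12, o1675), (o154, o154), (o256, o1571)], 53, .node 7 53 [⟨o534, [(534, [])], 1473⟩,
      ⟨o1301, [(1301, [])], 1474⟩,
      ⟨o1466, [(1466, [])], 1475⟩,
      ⟨o2024, [(2024, [])], 1476⟩]⟩,
  ⟨[(o10, o10), (o0, o0), (o215, o215), (o1965, o1965), (o14, o216), (o12, o1675), (o154, o154), (o256, o1571), (o243, o534)], 53, .inner [2, 7, 8, 6, 5, 4, 3, 7, 1, 2, 3, 4, 0, 1, 2, 3, 7, 8, 5, 4, 3, 7, 6, 5, 4, 3, 0, 1, 0, 2, 4, 1, 0, 3, 4, 5, 6, 7, 3, 4, 5, 8, 7, 3, 2, 1, 0, 4, 3, 2, 1, 7, 3, 4, 5, 6, 8, 7, 2]⟩,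
  ⟨[(o10, o10), (o0, o0), (o215, o215), (o1965, o1965), (o14, o216), (o12, o1675), (o154, o154), (o256, o1571), (o243, o1301)], 53, .conjw 2 [1, 0, 2, 1, 0, 3, 2, 1, 6, 5, 7, 3, 4, 2, 3, 7, 8, 7, 3, 4, 2, 3, 7, 5, 1, 2, 3, 4, 3, 2, 0, 1, 0]⟩,
  ⟨[(o10, o10), (o0, o0), (o215, o215), (o1965, o1965), (o14, o216), (o12, o1675), (o154, o154), (o256, o1571), (o243, o1466)], 53, .inner [6, 5, 4, 3, 7, 8, 3, 4, 5, 2, 3, 4, 1, 2, 3, 7, 4, 5, 6, 3, 4, 5, 2, 3, 4, 1, 2, 3, 0, 1, 0, 2, 1, 0, 3, 2, 1, 4, 3, 2, 5, 4, 3, 6, 5, 4, 7, 3, 2, 1, 4, 3, 2, 5, 4, 3, 8, 7, 3, 4, 5, 6]⟩,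
  ⟨[(o10, o10), (o0, o0), (o215, o215), (o1965, o1965), (o14, o216), (o12, o1675), (o154, o154), (o256, o1571), (o243, o2024)], 53, .conjw 1 [1, 0, 2, 1, 0, 3, 2, 1, 7, 6, 5, 3, 4, 2, 3, 7, 8, 7, 3, 4, 2, 3, 7, 5, 1, 2, 3, 4, 3, 2, 0, 1, 0]⟩,
  ⟨[(o10, o10), (o0, o0), (o215, o215), (o1965, o1965), (o14, o216), (o12, o1675), (o154, o155)], 53, .node 6 53 [⟨o1570, [(1570, [])], 1478⟩]⟩,
  ⟨[(o10, o10), (o0, o0), (o215, o215), (o1965, o1965), (o14, o216), (o12, o1675), (o154, o155), (o256, o1570)], 53, .node 7 53 [⟨o534, [(534, [])], 1479⟩,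
      ⟨o1301, [(1301, [])], 1480⟩,
      ⟨o1466, [(1466, [])], 1481⟩,
      ⟨o2024, [(2024, [])], 1482⟩]⟩,
  ⟨[(o10, o10), (o0, o0), (o215, o215), (o1965, o1965), (o14, o216), (o12, o1675), (o154, o155), (o256, o1570), (o243, o534)], 53, .inner [4, 7, 3, 2, 4, 3, 5, 8, 7, 3, 2, 1, 0, 4, 3, 7, 8, 2, 3, 7, 5, 6, 4, 5, 3, 4, 1, 2, 3, 7, 6, 1, 2, 3, 4, 5, 2, 3, 0, 1, 0, 2, 4, 1, 0, 3, 2, 5, 4, 3, 2, 1, 6, 7, 3, 2, 1, 4, 3, 5, 4, 6, 5, 7, 3, 2, 8, 7, 3, 4, 0, 1, 2, 3, 7, 8, 5, 3, 4, 2, 3, 7, 4]⟩,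
  ⟨[(o10, o10), (o0, o0), (o215, o215), (o1965, o1965), (o14, o216), (o12, o1675), (o154, o155), (o256, o1570), (o243, o1301)], 53, .conjw 1 [1, 0, 2, 3, 6, 5, 4, 3, 2, 7, 3, 2, 1, 0, 4, 8, 7, 3, 4, 5, 2, 3, 4, 1, 2, 3, 7, 8, 6, 5, 4, 3, 7, 4, 5, 2, 3, 4, 1, 2, 0, 1, 0]⟩,
  ⟨[(o10, o10), (o0, o0), (o215, o215), (o1965, o1965), (o14, o216), (o12, o1675), (o154, o155), (o256, o1570), (o243, o1466)], 53, .inner [1, 4, 3, 6, 5, 4, 3, 7, 8, 6, 3, 4, 5, 2, 3, 4, 1, 2, 3, 7, 5, 6, 2, 3, 4, 5, 4, 3, 0, 1, 0, 2, 4, 1, 0, 3, 4, 5, 4, 3, 2, 6, 5, 7, 3, 2, 1, 4, 3, 2, 5, 4, 3, 6, 8, 7, 3, 4, 5, 6, 3, 4, 1]⟩,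
  ⟨[(o10, o10), (o0, o0), (o215, o215), (o1965, o1965), (o14, o216), (o12, o1675), (o154, o155), (o256, o1570), (o243, o2024)], 53, .conjw 2 [1, 2, 3, 4, 3, 2, 5, 6, 7, 3, 2, 4, 3, 7, 8, 7, 3, 4, 5, 2, 3, 4, 1, 2, 3, 7, 8, 3, 4, 2, 3, 7, 5, 4, 1, 2, 0]⟩,
  ⟨[(o10, o10), (o0, o0), (o215, o215), (o1965, o1965), (o14, o216), (o12, o1676)], 53, .node 4 53 [⟨o67, [(67, [])], 1484⟩,
      ⟨o149, [(149, [])], 1490⟩]⟩,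
  ⟨[(o10, o10), (o0, o0), (o215, o215), (o1965, o1965), (o14, o216), (o12, o1676), (o154, o67)], 53, .node 6 53 [⟨o1571, [(1571, [])], 1485⟩]⟩,
  ⟨[(o10, o10), (o0, o0), (o215, o215), (o1965, o1965), (o14, o216), (o12, o1676), (o154, o67), (o256, o1571)], 53, .node 7 53 [⟨o611, [(611, [])], 1486⟩,
      ⟨o666, [(666, [])], 1487⟩,
      ⟨o1273, [(1273, [])], 1488⟩,
      ⟨o2722, [(2722, [])], 1489⟩]⟩,
  ⟨[(o10, o10), (o0, o0), (o215, o215), (o1965, o1965), (o14, o216), (o12, o1676), (o154, o67), (o256, o1571), (o243, o611)], 53, .inner [4, 3, 5, 7, 3, 2, 4, 3, 5, 8, 7, 3, 2, 1, 0, 4, 3, 7, 8, 2, 3, 7, 5, 6, 4, 5, 3, 4, 1, 2, 3, 7, 6, 1, 2, 3, 4, 5, 2, 3, 0, 1, 0, 2, 4, 1, 0, 3, 2, 5, 4, 3, 2, 1, 6, 7, 3, 2, 1, 4, 3, 5, 4, 6, 5, 7, 3, 2, 8, 7, 3, 4, 0, 1, 2, 3, 7, 8, 5, 3, 4, 2, 3, 7, 5, 3, 4]⟩,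
  ⟨[(o10, o10), (o0, o0), (o215, o215), (o1965, o1965), (o14, o216), (o12, o1676), (o154, o67), (o256, o1571), (o243, o666)], 53, .conjw 1 [1, 2, 1, 0, 3, 2, 1, 4, 3, 5, 4, 7, 3, 2, 4, 5, 6, 8, 7, 3, 4, 5, 2, 3, 4, 1, 2, 3, 7, 8, 0, 1, 2, 3, 7, 4, 5, 2, 3, 4, 1, 2, 0, 1, 0]⟩,
  ⟨[(o10, o10), (o0, o0), (o215, o215), (o1965, o1965), (o14, o216), (o12, o1676), (o154, o67), (o256, o1571), (o243, o1273)], 53, .inner [6, 5, 4, 3, 7, 8, 3, 4, 5, 2, 3, 4, 1, 2, 3, 7, 4, 5, 6, 3, 4, 5, 4, 3, 0, 1, 0, 2, 4, 1, 0, 3, 4, 5, 4, 3, 6, 5, 4, 7, 3, 2, 1, 4, 3, 2, 5, 4, 3, 8, 7, 3, 4, 5, 6]⟩,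
  ⟨[(o10, o10), (o0, o0), (o215, o215), (o1965, o1965), (o14, o216), (o12, o1676), (o154, o67), (o256, o1571), (o243, o2722)], 53, .conjw 2 [1, 2, 3, 4, 3, 5, 4, 6, 7, 3, 2, 4, 3, 7, 8, 7, 3, 4, 5, 2, 3, 4, 1, 2, 3, 7, 8, 3, 4, 2, 3, 7, 5, 4, 1, 2, 0]⟩,
  ⟨[(o10, o10), (o0, o0), (o215, o215), (o1965, o1965), (o14, o216), (o12, o1676), (o154, o149)], 53, .node 6 53 [⟨o1570, [(1570, [])], 1491⟩]⟩,
  ⟨[(o10, o10), (o0, o0), (o215, o215), (o1965, o1965), (o14, o216), (o12, o1676), (o154, o149), (o256, o1570)], 53, .node 7 53 [⟨o611, [(611, [])], 1492⟩,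
      ⟨o666, [(666, [])], 1493⟩,
      ⟨o1273, [(1273, [])], 1494⟩,
      ⟨o2722, [(2722, [])], 1495⟩]⟩,
  ⟨[(o10, o10), (o0, o0), (o215, o215), (o1965, o1965), (o14, o216), (o12, o1676), (o154, o149), (o256, o1570), (o243, o611)], 53, .inner [4, 6, 5, 4, 3, 7, 8, 3, 4, 2, 3, 7, 1, 2, 3, 4, 0, 1, 2, 3, 7, 5, 6, 4, 5, 1, 2, 3, 0, 1, 0, 2, 4, 1, 0, 3, 2, 1, 5, 4, 6, 5, 7, 3, 2, 1, 0, 4, 3, 2, 1, 7, 3, 2, 4, 3, 8, 7, 3, 4, 5, 6, 4]⟩,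
  ⟨[(o10, o10), (o0, o0), (o215, o215), (o1965, o1965), (o14, o216), (o12, o1676), (o154, o149), (o256, o1570), (o243, o666)], 53, .conjw 2 [1, 0, 7, 3, 4, 5, 8, 7, 3, 4, 2, 3, 7, 8, 1, 2, 3, 7, 6, 4, 5, 2, 3, 4, 0, 1, 2, 0, 1, 0]⟩,
  ⟨[(o10, o10), (o0, o0), (o215, o215), (o1965, o1965), (o14, o216), (o12, o1676), (o154, o149), (o256, o1570), (o243, o1273)], 53, .inner [1, 0, 4, 3, 6, 5, 4, 3, 2, 7, 8, 3, 4, 2, 3, 7, 5, 6, 3, 4, 5, 2, 3, 4, 1, 2, 3, 7, 1, 2, 3, 4, 5, 2, 3, 1, 0, 2, 4, 1, 3, 2, 5, 4, 3, 2, 1, 7, 3, 2, 1, 4, 3, 2, 5, 4, 3, 6, 5, 7, 3, 2, 4, 3, 8, 7, 2, 3, 4, 5, 6, 3, 4, 0, 1]⟩,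
  ⟨[(o10, o10), (o0, o0), (o215, o215), (o1965, o1965), (o14, o216), (o12, o1676), (o154, o149), (o256, o1570), (o243, o2722)], 53, .conjw 1 [2, 3, 4, 3, 7, 5, 3, 4, 2, 3, 7, 8, 7, 3, 4, 2, 3, 7, 5, 6, 4, 5, 1, 2, 3, 4, 0, 1, 0]⟩,
  ⟨[(o10, o10), (o0, o0), (o215, o215), (o1965, o1965), (o14, o370)], 51, .node 6 54 [⟨o210, [(210, [])], 1497⟩,
      ⟨o257, [(257, [])], 1534⟩,
      ⟨o602, [(602, [])], 1571⟩,
      ⟨o603, [(603, [])], 1595⟩,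
      ⟨o612, [(612, [])], 1623⟩,
      ⟨o2193, [(2193, [])], 1634⟩,
      ⟨o3501, [(3501, [])], 1658⟩,
      ⟨o3509, [(3509, [])], 1688⟩]⟩,
  ⟨[(o10, o10), (o0, o0), (o215, o215), (o1965, o1965), (o14, o370), (o256, o210)], 54, .node 2 54 [⟨o11, [(11, [])], 1498⟩,
      ⟨o12, [(12, [])], 1504⟩,
      ⟨o2031, [(2031, [])], 1512⟩,
      ⟨o2192, [(2192, [])], 1517⟩,
      ⟨o2631, [(2631, [])], 1525⟩,
      ⟨o2666, [(2666, [])], 1530⟩]⟩,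
  ⟨[(o10, o10), (o0, o0), (o215, o215), (o1965, o1965), (o14, o370), (o256, o210), (o12, o11)], 54, .node 4 54 [⟨o364, [(364, [])], 1499⟩,
      ⟨o549, [(549, [])], 1500⟩,
      ⟨o2384, [(2384, [])], 1501⟩]⟩,
  ⟨[(o10, o10), (o0, o0), (o215, o215), (o1965, o1965), (o14, o370), (o256, o210), (o12, o11), (o154, o364)], 54, .node 7 54 []⟩,
  ⟨[(o10, o10), (o0, o0), (o215, o215), (o1965, o1965), (o14, o370), (o256, o210), (o12, o11), (o154, o549)], 54, .node 7 54 []⟩,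
  ⟨[(o10, o10), (o0, o0), (o215, o215), (o1965, o1965), (o14, o370), (o256, o210), (o12, o11), (o154, o2384)], 54, .node 7 54 [⟨o217, [(217, [])], 1502⟩,
      ⟨o1587, [(1587, [])], 1503⟩]⟩,
  ⟨[(o10, o10), (o0, o0), (o215, o215), (o1965, o1965), (o14, o370), (o256, o210), (o12, o11), (o154, o2384), (o243, o217)], 54, .inner [4, 3, 2, 1, 0, 5, 4, 3, 7, 8, 3, 4, 2, 3, 7, 5, 6, 4, 5, 3, 4, 1, 2, 3, 7, 2, 3, 4, 5, 1, 2, 3, 0, 1, 0, 2, 4, 1, 0, 3, 2, 1, 5, 4, 3, 2, 7, 3, 2, 1, 4, 3, 5, 4, 6, 5, 7, 3, 2, 4, 3, 8, 7, 3, 4, 5, 0, 1, 2, 3, 4]⟩,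
  ⟨[(o10, o10), (o0, o0), (o215, o215), (o1965, o1965), (o14, o370), (o256, o210), (o12, o11), (o154, o2384), (o243, o1587)], 54, .inner [1, 4, 3, 6, 5, 4, 3, 7, 3, 8, 4, 2, 3, 7, 5, 6, 3, 4, 5, 1, 2, 3, 4, 0, 1, 2, 3, 7, 3, 4, 5, 1, 2, 3, 0, 1, 0, 2, 4, 1, 0, 3, 2, 1, 5, 4, 3, 7, 3, 2, 1, 0, 4, 3, 2, 1, 5, 4, 3, 6, 5, 7, 3, 2, 4, 8, 3, 7, 3, 4, 5, 6, 3, 4, 1]⟩,
  ⟨[(o10, o10), (o0, o0), (o215, o215), (o1965, o1965), (o14, o370), (o256, o210), (o12, o12)], 54, .node 4 54 [⟨o365, [(365, [])], 1505⟩,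
      ⟨o550, [(550, [])], 1506⟩,
      ⟨o2383, [(2383, [])], 1507⟩]⟩,
  ⟨[(o10, o10), (o0, o0), (o215, o215), (o1965, o1965), (o14, o370), (o256, o210), (o12, o12), (o154, o365)], 54, .node 7 54 []⟩,
  ⟨[(o10, o10), (o0, o0), (o215, o215), (o1965, o1965), (o14, o370), (o256, o210), (o12, o12), (o154, o550)], 54, .node 7 54 []⟩,
  ⟨[(o10, o10), (o0, o0), (o215, o215), (o1965, o1965), (o14, o370), (o256, o210), (o12, o12), (o154, o2383)], 54, .node 7 54 [⟨o220, [(220, [])], 1508⟩,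
      ⟨o1964, [(1964, [])], 1509⟩,
      ⟨o2142, [(2142, [])], 1510⟩,
      ⟨o2976, [(2976, [])], 1511⟩]⟩,
  ⟨[(o10, o10), (o0, o0), (o215, o215), (o1965, o1965), (o14, o370), (o256, o210), (o12, o12), (o154, o2383), (o243, o220)], 54, .inner [4, 5, 3, 4, 2, 3, 7, 8, 3, 4, 1, 2, 3, 7, 5, 6, 4, 5, 3, 4, 0, 1, 2, 3, 7, 4, 5, 3, 4, 2, 3, 1, 0, 2, 1, 3, 2, 4, 3, 5, 4, 7, 3, 2, 1, 0, 4, 3, 5, 4, 6, 5, 7, 3, 2, 1, 4, 3, 8, 7, 3, 2, 4, 3, 5, 4]⟩,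
  ⟨[(o10, o10), (o0, o0), (o215, o215), (o1965, o1965), (o14, o370), (o256, o210), (o12, o12), (o154, o2383), (o243, o1964)], 54, .inner [7, 8, 3, 7, 4, 5, 6, 3, 4, 5, 2, 3, 0, 2, 4, 3, 2, 5, 4, 3, 6, 5, 4, 7, 3, 8, 7]⟩,
  ⟨[(o10, o10), (o0, o0), (o215, o215), (o1965, o1965), (o14, o370), (o256, o210), (o12, o12), (o154, o2383), (o243, o2142)], 54, .bad [3, 7, 3] 2383 2383⟩,
  ⟨[(o10, o10), (o0, o0), (o215, o215), (o1965, o1965), (o14, o370), (o256, o210), (o12, o12), (o154, o2383), (o243, o2976)], 54, .bad [3, 7, 3] 2383 2383⟩,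
  ⟨[(o10, o10), (o0, o0), (o215, o215), (o1965, o1965), (o14, o370), (o256, o210), (o12, o2031)], 54, .node 7 54 [⟨o23, [(23, [])], 1513⟩,
      ⟨o24, [(24, [])], 1515⟩]⟩,
  ⟨[(o10, o10), (o0, o0), (o215, o215), (o1965, o1965), (o14, o370), (o256, o210), (o12, o2031), (o243, o23)], 54, .node 4 54 [⟨o364, [(364, [])], 1514⟩]⟩,
  ⟨[(o10, o10), (o0, o0), (o215, o215), (o1965, o1965), (o14, o370), (o256, o210), (o12, o2031), (o243, o23), (o154, o364)], 54, .conjw 2 [7, 8, 3, 7, 1, 2, 3, 4, 5, 3, 2, 0]⟩,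
  ⟨[(o10, o10), (o0, o0), (o215, o215), (o1965, o1965), (o14, o370), (o256, o210), (o12, o2031), (o243, o24)], 54, .node 4 54 [⟨o364, [(364, [])], 1516⟩]⟩,
  ⟨[(o10, o10), (o0, o0), (o215, o215), (o1965, o1965), (o14, o370), (o256, o210), (o12, o2031), (o243, o24), (o154, o364)], 54, .conjw 1 [7, 3, 4, 1, 2, 3, 7, 8, 5, 4, 3, 7, 3, 4, 5, 0]⟩,
  ⟨[(o10, o10), (o0, o0), (o215, o215), (o1965, o1965), (o14, o370), (o256, o210), (o12, o2192)], 54, .node 4 54 [⟨o365, [(365, [])], 1518⟩,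
      ⟨o550, [(550, [])], 1523⟩,
      ⟨o2383, [(2383, [])], 1524⟩]⟩,
  ⟨[(o10, o10), (o0, o0), (o215, o215), (o1965, o1965), (o14, o370), (o256, o210), (o12, o2192), (o154, o365)], 54, .node 7 54 [⟨o25, [(25, [])], 1519⟩,
      ⟨o186, [(186, [])], 1520⟩,
      ⟨o707, [(707, [])], 1521⟩,
      ⟨o2975, [(2975, [])], 1522⟩]⟩,
  ⟨[(o10, o10), (o0, o0), (o215, o215), (o1965, o1965), (o14, o370), (o256, o210), (o12, o2192), (o154, o365), (o243, o25)], 54, .conjw 0 [7, 8, 3, 7, 1, 2, 3, 4, 5, 3, 2, 0]⟩,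
  ⟨[(o10, o10), (o0, o0), (o215, o215), (o1965, o1965), (o14, o370), (o256, o210), (o12, o2192), (o154, o365), (o243, o186)], 54, .conjw 1 [7, 8, 3, 7, 1, 2, 3, 4, 5, 3, 2, 0]⟩,
  ⟨[(o10, o10), (o0, o0), (o215, o215), (o1965, o1965), (o14, o370), (o256, o210), (o12, o2192), (o154, o365), (o243, o707)], 54, .bad [3, 7, 3] 365 365⟩,
  ⟨[(o10, o10), (o0, o0), (o215, o215), (o1965, o1965), (o14, o370), (o256, o210), (o12, o2192), (o154, o365), (o243, o2975)], 54, .bad [3, 7, 3] 365 365⟩,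
  ⟨[(o10, o10), (o0, o0), (o215, o215), (o1965, o1965), (o14, o370), (o256, o210), (o12, o2192), (o154, o550)], 54, .node 7 54 []⟩,
  ⟨[(o10, o10), (o0, o0), (o215, o215), (o1965, o1965), (o14, o370), (o256, o210), (o12, o2192), (o154, o2383)], 54, .node 7 54 []⟩,
  ⟨[(o10, o10), (o0, o0), (o215, o215), (o1965, o1965), (o14, o370), (o256, o210), (o12, o2631)], 54, .node 7 54 [⟨o220, [(220, [])], 1526⟩,
      ⟨o1964, [(1964, [])], 1528⟩]⟩,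
  ⟨[(o10, o10), (o0, o0), (o215, o215), (o1965, o1965), (o14, o370), (o256, o210), (o12, o2631), (o243, o220)], 54, .node 4 54 [⟨o549, [(549, [])], 1527⟩]⟩,
  ⟨[(o10, o10), (o0, o0), (o215, o215), (o1965, o1965), (o14, o370), (o256, o210), (o12, o2631), (o243, o220), (o154, o549)], 54, .bad [3, 4, 3] 220 220⟩,
  ⟨[(o10, o10), (o0, o0), (o215, o215), (o1965, o1965), (o14, o370), (o256, o210), (o12, o2631), (o243, o1964)], 54, .node 4 54 [⟨o549, [(549, [])], 1529⟩]⟩,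
  ⟨[(o10, o10), (o0, o0), (o215, o215), (o1965, o1965), (o14, o370), (o256, o210), (o12, o2631), (o243, o1964), (o154, o549)], 54, .bad [3, 4, 3] 1964 1964⟩,
  ⟨[(o10, o10), (o0, o0), (o215, o215), (o1965, o1965), (o14, o370), (o256, o210), (o12, o2666)], 54, .node 4 54 [⟨o365, [(365, [])], 1531⟩,
      ⟨o550, [(550, [])], 1532⟩,
      ⟨o2383, [(2383, [])], 1533⟩]⟩,
  ⟨[(o10, o10), (o0, o0), (o215, o215), (o1965, o1965), (o14, o370), (o256, o210), (o12, o2666), (o154, o365)], 54, .node 7 54 []⟩,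
  ⟨[(o10, o10), (o0, o0), (o215, o215), (o1965, o1965), (o14, o370), (o256, o210), (o12, o2666), (o154, o550)], 54, .node 7 54 []⟩,
  ⟨[(o10, o10), (o0, o0), (o215, o215), (o1965, o1965), (o14, o370), (o256, o210), (o12, o2666), (o154, o2383)], 54, .node 7 54 []⟩,
  ⟨[(o10, o10), (o0, o0), (o215, o215), (o1965, o1965), (o14, o370), (o256, o257)], 54, .node 2 54 [⟨o11, [(11, [])], 1535⟩,
      ⟨o12, [(12, [])], 1541⟩,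
      ⟨o2031, [(2031, [])], 1549⟩,
      ⟨o2192, [(2192, [])], 1554⟩,
      ⟨o2631, [(2631, [])], 1562⟩,
      ⟨o2666, [(2666, [])], 1567⟩]⟩,
  ⟨[(o10, o10), (o0, o0), (o215, o215), (o1965, o1965), (o14, o370), (o256, o257), (o12, o11)], 54, .node 4 54 [⟨o109, [(109, [])], 1536⟩,
      ⟨o390, [(390, [])], 1537⟩,
      ⟨o2642, [(2642, [])], 1538⟩]⟩]

/-- Nodes. -/
def nd12 : List ONode := [
  ⟨[(o10, o10), (o0, o0), (o215, o215), (o1965, o1965), (o14, o370), (o256, o257), (o12, o11), (o154, o109)], 54, .node 7 54 []⟩,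
  ⟨[(o10, o10), (o0, o0), (o215, o215), (o1965, o1965), (o14, o370), (o256, o257), (o12, o11), (o154, o390)], 54, .node 7 54 []⟩,
  ⟨[(o10, o10), (o0, o0), (o215, o215), (o1965, o1965), (o14, o370), (o256, o257), (o12, o11), (o154, o2642)], 54, .node 7 54 [⟨o217, [(217, [])], 1539⟩,
      ⟨o1587, [(1587, [])], 1540⟩]⟩,
  ⟨[(o10, o10), (o0, o0), (o215, o215), (o1965, o1965), (o14, o370), (o256, o257), (o12, o11), (o154, o2642), (o243, o217)], 54, .inner [2, 3, 7, 8, 4, 1, 2, 3, 7, 6, 4, 5, 2, 3, 4, 0, 1, 2, 3, 7, 4, 5, 0, 1, 2, 3, 0, 1, 0, 2, 4, 1, 0, 3, 2, 1, 0, 5, 4, 7, 3, 2, 1, 0, 4, 3, 2, 5, 4, 6, 7, 3, 2, 1, 4, 8, 7, 3, 2]⟩,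
  ⟨[(o10, o10), (o0, o0), (o215, o215), (o1965, o1965), (o14, o370), (o256, o257), (o12, o11), (o154, o2642), (o243, o1587)], 54, .inner [2, 3, 7, 8, 3, 4, 2, 3, 7, 6, 2, 3, 4, 5, 2, 3, 0, 2, 4, 3, 2, 5, 4, 3, 2, 6, 7, 3, 2, 4, 3, 8, 7, 3, 2]⟩,
  ⟨[(o10, o10), (o0, o0), (o215, o215), (o1965, o1965), (o14, o370), (o256, o257), (o12, o12)], 54, .node 4 54 [⟨o108, [(108, [])], 1542⟩,
      ⟨o389, [(389, [])], 1543⟩,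
      ⟨o2550, [(2550, [])], 1544⟩]⟩,
  ⟨[(o10, o10), (o0, o0), (o215, o215), (o1965, o1965), (o14, o370), (o256, o257), (o12, o12), (o154, o108)], 54, .node 7 54 []⟩,
  ⟨[(o10, o10), (o0, o0), (o215, o215), (o1965, o1965), (o14, o370), (o256, o257), (o12, o12), (o154, o389)], 54, .node 7 54 []⟩,
  ⟨[(o10, o10), (o0, o0), (o215, o215), (o1965, o1965), (o14, o370), (o256, o257), (o12, o12), (o154, o2550)], 54, .node 7 54 [⟨o220, [(220, [])], 1545⟩,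
      ⟨o1964, [(1964, [])], 1546⟩,
      ⟨o2142, [(2142, [])], 1547⟩,
      ⟨o2976, [(2976, [])], 1548⟩]⟩,
  ⟨[(o10, o10), (o0, o0), (o215, o215), (o1965, o1965), (o14, o370), (o256, o257), (o12, o12), (o154, o2550), (o243, o220)], 54, .inner [7, 8, 3, 7, 6, 5, 2, 3, 0, 2, 4, 3, 2, 5, 6, 7, 3, 8, 7]⟩,
  ⟨[(o10, o10), (o0, o0), (o215, o215), (o1965, o1965), (o14, o370), (o256, o257), (o12, o12), (o154, o2550), (o243, o1964)], 54, .inner [7, 8, 3, 7, 6, 5, 4, 3, 0, 2, 3, 4, 5, 6, 7, 3, 8, 7]⟩,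
  ⟨[(o10, o10), (o0, o0), (o215, o215), (o1965, o1965), (o14, o370), (o256, o257), (o12, o12), (o154, o2550), (o243, o2142)], 54, .bad [3, 7, 3] 2550 2550⟩,
  ⟨[(o10, o10), (o0, o0), (o215, o215), (o1965, o1965), (o14, o370), (o256, o257), (o12, o12), (o154, o2550), (o243, o2976)], 54, .bad [3, 7, 3] 2550 2550⟩,
  ⟨[(o10, o10), (o0, o0), (o215, o215), (o1965, o1965), (o14, o370), (o256, o257), (o12, o2031)], 54, .node 7 54 [⟨o23, [(23, [])], 1550⟩,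
      ⟨o24, [(24, [])], 1552⟩]⟩,
  ⟨[(o10, o10), (o0, o0), (o215, o215), (o1965, o1965), (o14, o370), (o256, o257), (o12, o2031), (o243, o23)], 54, .node 4 54 [⟨o109, [(109, [])], 1551⟩]⟩,
  ⟨[(o10, o10), (o0, o0), (o215, o215), (o1965, o1965), (o14, o370), (o256, o257), (o12, o2031), (o243, o23), (o154, o109)], 54, .conjw 1 [1, 0, 2, 1, 0, 6, 5, 4, 7, 3, 2, 1, 4, 3, 2, 7, 3, 4, 8, 7, 3, 4, 2, 3, 7, 8, 5, 6, 4, 5, 3, 4, 1, 2, 3, 7, 3, 4, 3, 0, 1, 2, 1]⟩,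
  ⟨[(o10, o10), (o0, o0), (o215, o215), (o1965, o1965), (o14, o370), (o256, o257), (o12, o2031), (o243, o24)], 54, .node 4 54 [⟨o109, [(109, [])], 1553⟩]⟩,
  ⟨[(o10, o10), (o0, o0), (o215, o215), (o1965, o1965), (o14, o370), (o256, o257), (o12, o2031), (o243, o24), (o154, o109)], 54, .conjw 2 [7, 8, 3, 7, 1, 2, 3, 4, 5, 3, 4, 0]⟩,
  ⟨[(o10, o10), (o0, o0), (o215, o215), (o1965, o1965), (o14, o370), (o256, o257), (o12, o2192)], 54, .node 4 54 [⟨o108, [(108, [])], 1555⟩,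
      ⟨o389, [(389, [])], 1560⟩,
      ⟨o2550, [(2550, [])], 1561⟩]⟩,
  ⟨[(o10, o10), (o0, o0), (o215, o215), (o1965, o1965), (o14, o370), (o256, o257), (o12, o2192), (o154, o108)], 54, .node 7 54 [⟨o25, [(25, [])], 1556⟩,
      ⟨o186, [(186, [])], 1557⟩,
      ⟨o707, [(707, [])], 1558⟩,
      ⟨o2975, [(2975, [])], 1559⟩]⟩,
  ⟨[(o10, o10), (o0, o0), (o215, o215), (o1965, o1965), (o14, o370), (o256, o257), (o12, o2192), (o154, o108), (o243, o25)], 54, .conjw 1 [7, 8, 3, 7, 1, 2, 3, 4, 5, 3, 4, 0]⟩,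
  ⟨[(o10, o10), (o0, o0), (o215, o215), (o1965, o1965), (o14, o370), (o256, o257), (o12, o2192), (o154, o108), (o243, o186)], 54, .conjw 2 [1, 2, 3, 4, 0, 1, 2, 3, 7, 8, 5, 4, 3, 7, 2, 3, 4, 3, 2, 1]⟩,
  ⟨[(o10, o10), (o0, o0), (o215, o215), (o1965, o1965), (o14, o370), (o256, o257), (o12, o2192), (o154, o108), (o243, o707)], 54, .bad [3, 7, 3] 108 108⟩,
  ⟨[(o10, o10), (o0, o0), (o215, o215), (o1965, o1965), (o14, o370), (o256, o257), (o12, o2192), (o154, o108), (o243, o2975)], 54, .bad [3, 7, 3] 108 108⟩,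
  ⟨[(o10, o10), (o0, o0), (o215, o215), (o1965, o1965), (o14, o370), (o256, o257), (o12, o2192), (o154, o389)], 54, .node 7 54 []⟩,
  ⟨[(o10, o10), (o0, o0), (o215, o215), (o1965, o1965), (o14, o370), (o256, o257), (o12, o2192), (o154, o2550)], 54, .node 7 54 []⟩,
  ⟨[(o10, o10), (o0, o0), (o215, o215), (o1965, o1965), (o14, o370), (o256, o257), (o12, o2631)], 54, .node 7 54 [⟨o220, [(220, [])], 1563⟩,
      ⟨o1964, [(1964, [])], 1565⟩]⟩,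
  ⟨[(o10, o10), (o0, o0), (o215, o215), (o1965, o1965), (o14, o370), (o256, o257), (o12, o2631), (o243, o220)], 54, .node 4 54 [⟨o390, [(390, [])], 1564⟩]⟩,
  ⟨[(o10, o10), (o0, o0), (o215, o215), (o1965, o1965), (o14, o370), (o256, o257), (o12, o2631), (o243, o220), (o154, o390)], 54, .bad [3, 4, 3] 220 220⟩,
  ⟨[(o10, o10), (o0, o0), (o215, o215), (o1965, o1965), (o14, o370), (o256, o257), (o12, o2631), (o243, o1964)], 54, .node 4 54 [⟨o390, [(390, [])], 1566⟩]⟩,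
  ⟨[(o10, o10), (o0, o0), (o215, o215), (o1965, o1965), (o14, o370), (o256, o257), (o12, o2631), (o243, o1964), (o154, o390)], 54, .bad [3, 4, 3] 1964 1964⟩,
  ⟨[(o10, o10), (o0, o0), (o215, o215), (o1965, o1965), (o14, o370), (o256, o257), (o12, o2666)], 54, .node 4 54 [⟨o108, [(108, [])], 1568⟩,
      ⟨o389, [(389, [])], 1569⟩,
      ⟨o2550, [(2550, [])], 1570⟩]⟩,
  ⟨[(o10, o10), (o0, o0), (o215, o215), (o1965, o1965), (o14, o370), (o256, o257), (o12, o2666), (o154, o108)], 54, .node 7 54 []⟩,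
  ⟨[(o10, o10), (o0, o0), (o215, o215), (o1965, o1965), (o14, o370), (o256, o257), (o12, o2666), (o154, o389)], 54, .node 7 54 []⟩,
  ⟨[(o10, o10), (o0, o0), (o215, o215), (o1965, o1965), (o14, o370), (o256, o257), (o12, o2666), (o154, o2550)], 54, .node 7 54 []⟩,
  ⟨[(o10, o10), (o0, o0), (o215, o215), (o1965, o1965), (o14, o370), (o256, o602)], 54, .node 4 54 [⟨o393, [(393, [])], 1572⟩,
      ⟨o482, [(482, [])], 1577⟩,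
      ⟨o861, [(861, [])], 1582⟩,
      ⟨o904, [(904, [])], 1590⟩]⟩,
  ⟨[(o10, o10), (o0, o0), (o215, o215), (o1965, o1965), (o14, o370), (o256, o602), (o154, o393)], 54, .node 7 54 [⟨o220, [(220, [])], 1573⟩,
      ⟨o1964, [(1964, [])], 1575⟩]⟩,
  ⟨[(o10, o10), (o0, o0), (o215, o215), (o1965, o1965), (o14, o370), (o256, o602), (o154, o393), (o243, o220)], 54, .node 2 54 [⟨o1528, [(1528, [])], 1574⟩]⟩,
  ⟨[(o10, o10), (o0, o0), (o215, o215), (o1965, o1965), (o14, o370), (o256, o602), (o154, o393), (o243, o220), (o12, o1528)], 54, .inner [1, 4, 3, 6, 5, 4, 3, 2, 7, 3, 8, 4, 2, 3, 7, 5, 6, 3, 4, 5, 1, 2, 3, 4, 0, 1, 2, 3, 7, 3, 4, 5, 1, 2, 3, 1, 0, 2, 4, 1, 3, 2, 1, 5, 4, 3, 7, 3, 2, 1, 0, 4, 3, 2, 1, 5, 4, 3, 6, 5, 7, 3, 2, 4, 8, 3, 7, 2, 3, 4, 5, 6, 3, 4, 1]⟩,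
  ⟨[(o10, o10), (o0, o0), (o215, o215), (o1965, o1965), (o14, o370), (o256, o602), (o154, o393), (o243, o1964)], 54, .node 2 54 [⟨o1528, [(1528, [])], 1576⟩]⟩,
  ⟨[(o10, o10), (o0, o0), (o215, o215), (o1965, o1965), (o14, o370), (o256, o602), (o154, o393), (o243, o1964), (o12, o1528)], 54, .inner [2, 1, 3, 2, 4, 7, 3, 8, 4, 2, 3, 7, 5, 1, 2, 3, 4, 0, 1, 2, 3, 7, 5, 6, 1, 2, 3, 4, 5, 1, 2, 3, 0, 1, 0, 2, 4, 1, 0, 3, 2, 1, 5, 4, 3, 2, 1, 6, 5, 7, 3, 2, 1, 0, 4, 3, 2, 1, 5, 7, 3, 2, 4, 8, 3, 7, 4, 2, 3, 1, 2]⟩,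
  ⟨[(o10, o10), (o0, o0), (o215, o215), (o1965, o1965), (o14, o370), (o256, o602), (o154, o482)], 54, .node 7 54 [⟨o217, [(217, [])], 1578⟩,
      ⟨o1587, [(1587, [])], 1580⟩]⟩,
  ⟨[(o10, o10), (o0, o0), (o215, o215), (o1965, o1965), (o14, o370), (o256, o602), (o154, o482), (o243, o217)], 54, .node 2 54 [⟨o366, [(366, [])], 1579⟩]⟩,
  ⟨[(o10, o10), (o0, o0), (o215, o215), (o1965, o1965), (o14, o370), (o256, o602), (o154, o482), (o243, o217), (o12, o366)], 54, .inner [6, 5, 4, 3, 7, 8, 1, 2, 3, 7, 4, 5, 6, 3, 4, 5, 0, 1, 0, 2, 4, 1, 0, 5, 4, 3, 6, 5, 4, 7, 3, 2, 1, 8, 7, 3, 4, 5, 6]⟩,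
  ⟨[(o10, o10), (o0, o0), (o215, o215), (o1965, o1965), (o14, o370), (o256, o602), (o154, o482), (o243, o1587)], 54, .node 2 54 [⟨o366, [(366, [])], 1581⟩]⟩,
  ⟨[(o10, o10), (o0, o0), (o215, o215), (o1965, o1965), (o14, o370), (o256, o602), (o154, o482), (o243, o1587), (o12, o366)], 54, .inner [2, 3, 7, 8, 3, 4, 2, 3, 7, 5, 1, 2, 3, 4, 0, 1, 2, 3, 7, 5, 6, 4, 5, 3, 4, 0, 1, 2, 3, 1, 0, 2, 1, 3, 2, 1, 0, 4, 3, 5, 4, 6, 5, 7, 3, 2, 1, 0, 4, 3, 2, 1, 5, 7, 3, 2, 4, 3, 8, 7, 3, 2]⟩,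
  ⟨[(o10, o10), (o0, o0), (o215, o215), (o1965, o1965), (o14, o370), (o256, o602), (o154, o861)], 54, .node 2 54 [⟨o366, [(366, [])], 1583⟩,
      ⟨o1997, [(1997, [])], 1584⟩,
      ⟨o3121, [(3121, [])], 1585⟩]⟩,
  ⟨[(o10, o10), (o0, o0), (o215, o215), (o1965, o1965), (o14, o370), (o256, o602), (o154, o861), (o12, o366)], 54, .node 7 54 []⟩,
  ⟨[(o10, o10), (o0, o0), (o215, o215), (o1965, o1965), (o14, o370), (o256, o602), (o154, o861), (o12, o1997)], 54, .node 7 54 []⟩,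
  ⟨[(o10, o10), (o0, o0), (o215, o215), (o1965, o1965), (o14, o370), (o256, o602), (o154, o861), (o12, o3121)], 54, .node 7 54 [⟨o220, [(220, [])], 1586⟩,
      ⟨o1964, [(1964, [])], 1587⟩,
      ⟨o2202, [(2202, [])], 1588⟩,
      ⟨o3134, [(3134, [])], 1589⟩]⟩,
  ⟨[(o10, o10), (o0, o0), (o215, o215), (o1965, o1965), (o14, o370), (o256, o602), (o154, o861), (o12, o3121), (o243, o220)], 54, .bad [1, 2, 1] 602 602⟩,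
  ⟨[(o10, o10), (o0, o0), (o215, o215), (o1965, o1965), (o14, o370), (o256, o602), (o154, o861), (o12, o3121), (o243, o1964)], 54, .bad [1, 2, 1] 602 602⟩,
  ⟨[(o10, o10), (o0, o0), (o215, o215), (o1965, o1965), (o14, o370), (o256, o602), (o154, o861), (o12, o3121), (o243, o2202)], 54, .bad [1, 2, 1] 602 602⟩,
  ⟨[(o10, o10), (o0, o0), (o215, o215), (o1965, o1965), (o14, o370), (o256, o602), (o154, o861), (o12, o3121), (o243, o3134)], 54, .bad [1, 2, 1] 602 602⟩,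
  ⟨[(o10, o10), (o0, o0), (o215, o215), (o1965, o1965), (o14, o370), (o256, o602), (o154, o904)], 54, .node 7 54 [⟨o665, [(665, [])], 1591⟩,
      ⟨o3061, [(3061, [])], 1593⟩]⟩,
  ⟨[(o10, o10), (o0, o0), (o215, o215), (o1965, o1965), (o14, o370), (o256, o602), (o154, o904), (o243, o665)], 54, .node 2 54 [⟨o3122, [(3122, [])], 1592⟩]⟩,
  ⟨[(o10, o10), (o0, o0), (o215, o215), (o1965, o1965), (o14, o370), (o256, o602), (o154, o904), (o243, o665), (o12, o3122)], 54, .bad [1, 2, 1] 602 602⟩,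
  ⟨[(o10, o10), (o0, o0), (o215, o215), (o1965, o1965), (o14, o370), (o256, o602), (o154, o904), (o243, o3061)], 54, .node 2 54 [⟨o3122, [(3122, [])], 1594⟩]⟩,
  ⟨[(o10, o10), (o0, o0), (o215, o215), (o1965, o1965), (o14, o370), (o256, o602), (o154, o904), (o243, o3061), (o12, o3122)], 54, .bad [1, 2, 1] 602 602⟩,
  ⟨[(o10, o10), (o0, o0), (o215, o215), (o1965, o1965), (o14, o370), (o256, o603)], 54, .node 2 54 [⟨o366, [(366, [])], 1596⟩,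
      ⟨o1131, [(1131, [])], 1601⟩,
      ⟨o1528, [(1528, [])], 1602⟩,
      ⟨o1997, [(1997, [])], 1607⟩,
      ⟨o3121, [(3121, [])], 1610⟩,
      ⟨o3122, [(3122, [])], 1618⟩]⟩,
  ⟨[(o10, o10), (o0, o0), (o215, o215), (o1965, o1965), (o14, o370), (o256, o603), (o12, o366)], 54, .node 7 54 [⟨o217, [(217, [])], 1597⟩,
      ⟨o1587, [(1587, [])], 1599⟩]⟩,
  ⟨[(o10, o10), (o0, o0), (o215, o215), (o1965, o1965), (o14, o370), (o256, o603), (o12, o366), (o243, o217)], 54, .node 4 54 [⟨o1530, [(1530, [])], 1598⟩]⟩,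
  ⟨[(o10, o10), (o0, o0), (o215, o215), (o1965, o1965), (o14, o370), (o256, o603), (o12, o366), (o243, o217), (o154, o1530)], 54, .inner [6, 5, 4, 3, 7, 8, 1, 2, 3, 7, 4, 3, 0, 1, 0, 2, 1, 0, 3, 4, 7, 3, 2, 1, 8, 7, 3, 4, 5, 6]⟩,
  ⟨[(o10, o10), (o0, o0), (o215, o215), (o1965, o1965), (o14, o370), (o256, o603), (o12, o366), (o243, o1587)], 54, .node 4 54 [⟨o1530, [(1530, [])], 1600⟩]⟩,
  ⟨[(o10, o10), (o0, o0), (o215, o215), (o1965, o1965), (o14, o370), (o256, o603), (o12, o366), (o243, o1587), (o154, o1530)], 54, .inner [6, 5, 4, 3, 7, 8, 1, 2, 3, 7, 4, 3, 0, 1, 0, 2, 4, 1, 0, 3, 4, 7, 3, 2, 1, 8, 7, 3, 4, 5, 6]⟩,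
  ⟨[(o10, o10), (o0, o0), (o215, o215), (o1965, o1965), (o14, o370), (o256, o603), (o12, o1131)], 54, .node 7 54 []⟩,
  ⟨[(o10, o10), (o0, o0), (o215, o215), (o1965, o1965), (o14, o370), (o256, o603), (o12, o1528)], 54, .node 4 54 [⟨o599, [(599, [])], 1603⟩,
      ⟨o1226, [(1226, [])], 1606⟩]⟩,
  ⟨[(o10, o10), (o0, o0), (o215, o215), (o1965, o1965), (o14, o370), (o256, o603), (o12, o1528), (o154, o599)], 54, .node 7 54 [⟨o220, [(220, [])], 1604⟩,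
      ⟨o1964, [(1964, [])], 1605⟩]⟩,
  ⟨[(o10, o10), (o0, o0), (o215, o215), (o1965, o1965), (o14, o370), (o256, o603), (o12, o1528), (o154, o599), (o243, o220)], 54, .inner [6, 5, 1, 2, 3, 4, 0, 1, 2, 3, 7, 8, 5, 2, 3, 4, 1, 2, 3, 7, 2, 3, 4, 5, 2, 3, 0, 2, 4, 3, 2, 5, 4, 3, 2, 7, 3, 2, 1, 4, 3, 2, 5, 8, 7, 3, 2, 1, 0, 4, 3, 2, 1, 5, 6]⟩,
  ⟨[(o10, o10), (o0, o0), (o215, o215), (o1965, o1965), (o14, o370), (o256, o603), (o12, o1528), (o154, o599), (o243, o1964)], 54, .inner [2, 3, 7, 8, 3, 7, 6, 4, 5, 1, 2, 3, 4, 0, 1, 2, 3, 7, 1, 2, 3, 4, 5, 4, 3, 1, 0, 2, 4, 1, 3, 4, 5, 4, 3, 2, 1, 7, 3, 2, 1, 0, 4, 3, 2, 1, 5, 4, 6, 7, 3, 8, 7, 3, 2]⟩,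
  ⟨[(o10, o10), (o0, o0), (o215, o215), (o1965, o1965), (o14, o370), (o256, o603), (o12, o1528), (o154, o1226)], 54, .node 7 54 []⟩,
  ⟨[(o10, o10), (o0, o0), (o215, o215), (o1965, o1965), (o14, o370), (o256, o603), (o12, o1997)], 54, .node 7 54 [⟨o665, [(665, [])], 1608⟩,
      ⟨o3061, [(3061, [])], 1609⟩]⟩,
  ⟨[(o10, o10), (o0, o0), (o215, o215), (o1965, o1965), (o14, o370), (o256, o603), (o12, o1997), (o243, o665)], 54, .node 4 54 []⟩,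
  ⟨[(o10, o10), (o0, o0), (o215, o215), (o1965, o1965), (o14, o370), (o256, o603), (o12, o1997), (o243, o3061)], 54, .node 4 54 []⟩,
  ⟨[(o10, o10), (o0, o0), (o215, o215), (o1965, o1965), (o14, o370), (o256, o603), (o12, o3121)], 54, .node 4 54 [⟨o109, [(109, [])], 1611⟩,
      ⟨o1227, [(1227, [])], 1612⟩,
      ⟨o1530, [(1530, [])], 1617⟩]⟩,
  ⟨[(o10, o10), (o0, o0), (o215, o215), (o1965, o1965), (o14, o370), (o256, o603), (o12, o3121), (o154, o109)], 54, .node 7 54 []⟩,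
  ⟨[(o10, o10), (o0, o0), (o215, o215), (o1965, o1965), (o14, o370), (o256, o603), (o12, o3121), (o154, o1227)], 54, .node 7 54 [⟨o220, [(220, [])], 1613⟩,
      ⟨o1964, [(1964, [])], 1614⟩,
      ⟨o2202, [(2202, [])], 1615⟩,
      ⟨o3134, [(3134, [])], 1616⟩]⟩,
  ⟨[(o10, o10), (o0, o0), (o215, o215), (o1965, o1965), (o14, o370), (o256, o603), (o12, o3121), (o154, o1227), (o243, o220)], 54, .bad [1, 2, 1] 603 603⟩,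
  ⟨[(o10, o10), (o0, o0), (o215, o215), (o1965, o1965), (o14, o370), (o256, o603), (o12, o3121), (o154, o1227), (o243, o1964)], 54, .bad [1, 2, 1] 603 603⟩,
  ⟨[(o10, o10), (o0, o0), (o215, o215), (o1965, o1965), (o14, o370), (o256, o603), (o12, o3121), (o154, o1227), (o243, o2202)], 54, .bad [1, 2, 1] 603 603⟩,
  ⟨[(o10, o10), (o0, o0), (o215, o215), (o1965, o1965), (o14, o370), (o256, o603), (o12, o3121), (o154, o1227), (o243, o3134)], 54, .bad [1, 2, 1] 603 603⟩,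
  ⟨[(o10, o10), (o0, o0), (o215, o215), (o1965, o1965), (o14, o370), (o256, o603), (o12, o3121), (o154, o1530)], 54, .node 7 54 []⟩,
  ⟨[(o10, o10), (o0, o0), (o215, o215), (o1965, o1965), (o14, o370), (o256, o603), (o12, o3122)], 54, .node 4 54 [⟨o599, [(599, [])], 1619⟩,
      ⟨o1226, [(1226, [])], 1620⟩]⟩,
  ⟨[(o10, o10), (o0, o0), (o215, o215), (o1965, o1965), (o14, o370), (o256, o603), (o12, o3122), (o154, o599)], 54, .node 7 54 []⟩,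
  ⟨[(o10, o10), (o0, o0), (o215, o215), (o1965, o1965), (o14, o370), (o256, o603), (o12, o3122), (o154, o1226)], 54, .node 7 54 [⟨o665, [(665, [])], 1621⟩,
      ⟨o3061, [(3061, [])], 1622⟩]⟩,
  ⟨[(o10, o10), (o0, o0), (o215, o215), (o1965, o1965), (o14, o370), (o256, o603), (o12, o3122), (o154, o1226), (o243, o665)], 54, .bad [1, 2, 1] 603 603⟩,
  ⟨[(o10, o10), (o0, o0), (o215, o215), (o1965, o1965), (o14, o370), (o256, o603), (o12, o3122), (o154, o1226), (o243, o3061)], 54, .bad [1, 2, 1] 603 603⟩,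
  ⟨[(o10, o10), (o0, o0), (o215, o215), (o1965, o1965), (o14, o370), (o256, o612)], 54, .node 4 54 [⟨o2383, [(2383, [])], 1624⟩,
      ⟨o2384, [(2384, [])], 1629⟩]⟩,
  ⟨[(o10, o10), (o0, o0), (o215, o215), (o1965, o1965), (o14, o370), (o256, o612), (o154, o2383)], 54, .node 7 54 [⟨o611, [(611, [])], 1625⟩,
      ⟨o1273, [(1273, [])], 1627⟩]⟩,
  ⟨[(o10, o10), (o0, o0), (o215, o215), (o1965, o1965), (o14, o370), (o256, o612), (o154, o2383), (o243, o611)], 54, .node 2 54 [⟨o1568, [(1568, [])], 1626⟩]⟩,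
  ⟨[(o10, o10), (o0, o0), (o215, o215), (o1965, o1965), (o14, o370), (o256, o612), (o154, o2383), (o243, o611), (o12, o1568)], 54, .inner [4, 3, 5, 4, 6, 7, 3, 4, 2, 3, 7, 5, 6, 4, 5, 3, 4, 2, 3, 7, 8, 3, 4, 1, 2, 3, 7, 5, 4, 3, 0, 1, 0, 2, 4, 1, 0, 3, 4, 5, 7, 3, 2, 1, 4, 3, 8, 7, 3, 2, 4, 3, 5, 4, 6, 5, 7, 3, 2, 4, 3, 7, 6, 4, 5, 3, 4]⟩,
  ⟨[(o10, o10), (o0, o0), (o215, o215), (o1965, o1965), (o14, o370), (o256, o612), (o154, o2383), (o243, o1273)], 54, .node 2 54 [⟨o1568, [(1568, [])], 1628⟩]⟩,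
  ⟨[(o10, o10), (o0, o0), (o215, o215), (o1965, o1965), (o14, o370), (o256, o612), (o154, o2383), (o243, o1273), (o12, o1568)], 54, .inner [1, 4, 3, 6, 5, 4, 3, 2, 7, 3, 2, 1, 8, 4, 3, 7, 5, 6, 3, 4, 5, 2, 3, 4, 0, 1, 2, 3, 7, 6, 1, 2, 3, 4, 5, 2, 3, 1, 0, 2, 4, 1, 3, 2, 5, 4, 3, 2, 1, 6, 7, 3, 2, 1, 0, 4, 3, 2, 5, 4, 3, 6, 5, 7, 3, 4, 8, 1, 2, 3, 7, 2, 3, 4, 5, 6, 3, 4, 1]⟩,
  ⟨[(o10, o10), (o0, o0), (o215, o215), (o1965, o1965), (o14, o370), (o256, o612), (o154, o2384)], 54, .node 7 54 [⟨o534, [(534, [])], 1630⟩,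
      ⟨o1466, [(1466, [])], 1632⟩]⟩,
  ⟨[(o10, o10), (o0, o0), (o215, o215), (o1965, o1965), (o14, o370), (o256, o612), (o154, o2384), (o243, o534)], 54, .node 2 54 [⟨o1569, [(1569, [])], 1631⟩]⟩,
  ⟨[(o10, o10), (o0, o0), (o215, o215), (o1965, o1965), (o14, o370), (o256, o612), (o154, o2384), (o243, o534), (o12, o1569)], 54, .inner [6, 5, 4, 3, 7, 8, 3, 7, 5, 6, 4, 5, 3, 4, 1, 2, 3, 7, 6, 5, 3, 4, 2, 3, 0, 1, 0, 2, 1, 0, 3, 2, 4, 3, 5, 6, 7, 3, 2, 1, 4, 3, 5, 4, 6, 5, 7, 3, 8, 7, 3, 4, 5, 6]⟩,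
  ⟨[(o10, o10), (o0, o0), (o215, o215), (o1965, o1965), (o14, o370), (o256, o612), (o154, o2384), (o243, o1466)], 54, .node 2 54 [⟨o1569, [(1569, [])], 1633⟩]⟩,
  ⟨[(o10, o10), (o0, o0), (o215, o215), (o1965, o1965), (o14, o370), (o256, o612), (o154, o2384), (o243, o1466), (o12, o1569)], 54, .inner [1, 4, 3, 6, 5, 4, 3, 7, 8, 3, 7, 6, 4, 5, 3, 4, 2, 3, 7, 4, 5, 6, 2, 3, 4, 5, 4, 3, 0, 1, 0, 2, 4, 1, 0, 3, 4, 5, 4, 3, 2, 6, 5, 4, 7, 3, 2, 4, 3, 5, 4, 6, 7, 3, 8, 7, 3, 4, 5, 6, 3, 4, 1]⟩,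
  ⟨[(o10, o10), (o0, o0), (o215, o215), (o1965, o1965), (o14, o370), (o256, o2193)], 54, .node 2 54 [⟨o284, [(284, [])], 1635⟩,
      ⟨o285, [(285, [])], 1638⟩,
      ⟨o1302, [(1302, [])], 1639⟩,
      ⟨o1568, [(1568, [])], 1641⟩,
      ⟨o1569, [(1569, [])], 1645⟩,
      ⟨o2201, [(2201, [])], 1650⟩]⟩,
  ⟨[(o10, o10), (o0, o0), (o215, o215), (o1965, o1965), (o14, o370), (o256, o2193), (o12, o284)], 54, .node 7 54 [⟨o23, [(23, [])], 1636⟩,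
      ⟨o24, [(24, [])], 1637⟩]⟩,
  ⟨[(o10, o10), (o0, o0), (o215, o215), (o1965, o1965), (o14, o370), (o256, o2193), (o12, o284), (o243, o23)], 54, .node 4 54 []⟩,
  ⟨[(o10, o10), (o0, o0), (o215, o215), (o1965, o1965), (o14, o370), (o256, o2193), (o12, o284), (o243, o24)], 54, .node 4 54 []⟩,
  ⟨[(o10, o10), (o0, o0), (o215, o215), (o1965, o1965), (o14, o370), (o256, o2193), (o12, o285)], 54, .node 7 54 []⟩,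
  ⟨[(o10, o10), (o0, o0), (o215, o215), (o1965, o1965), (o14, o370), (o256, o2193), (o12, o1302)], 54, .node 4 54 [⟨o2550, [(2550, [])], 1640⟩]⟩,
  ⟨[(o10, o10), (o0, o0), (o215, o215), (o1965, o1965), (o14, o370), (o256, o2193), (o12, o1302), (o154, o2550)], 54, .node 7 54 []⟩,
  ⟨[(o10, o10), (o0, o0), (o215, o215), (o1965, o1965), (o14, o370), (o256, o2193), (o12, o1568)], 54, .node 4 54 [⟨o2550, [(2550, [])], 1642⟩]⟩,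
  ⟨[(o10, o10), (o0, o0), (o215, o215), (o1965, o1965), (o14, o370), (o256, o2193), (o12, o1568), (o154, o2550)], 54, .node 7 54 [⟨o611, [(611, [])], 1643⟩,
      ⟨o1273, [(1273, [])], 1644⟩]⟩,
  ⟨[(o10, o10), (o0, o0), (o215, o215), (o1965, o1965), (o14, o370), (o256, o2193), (o12, o1568), (o154, o2550), (o243, o611)], 54, .inner [4, 3, 6, 5, 4, 3, 7, 8, 3, 4, 2, 3, 7, 5, 1, 2, 3, 4, 0, 1, 2, 3, 7, 6, 1, 2, 3, 4, 5, 4, 3, 1, 0, 2, 4, 1, 3, 4, 5, 4, 3, 2, 1, 6, 7, 3, 2, 1, 0, 4, 3, 2, 1, 5, 7, 3, 2, 4, 3, 8, 7, 3, 4, 5, 6, 3, 4]⟩,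
  ⟨[(o10, o10), (o0, o0), (o215, o215), (o1965, o1965), (o14, o370), (o256, o2193), (o12, o1568), (o154, o2550), (o243, o1273)], 54, .inner [1, 0, 6, 7, 3, 2, 1, 0, 8, 7, 3, 2, 1, 4, 3, 7, 8, 2, 3, 7, 4, 5, 3, 4, 2, 3, 7, 8, 6, 5, 4, 1, 2, 3, 7, 4, 2, 3, 0, 1, 0, 2, 4, 1, 0, 3, 2, 4, 7, 3, 2, 1, 4, 5, 6, 8, 7, 3, 2, 4, 3, 5, 4, 7, 3, 2, 8, 7, 3, 4, 1, 2, 3, 7, 8, 0, 1, 2, 3, 7, 6, 0, 1]⟩,
  ⟨[(o10, o10), (o0, o0), (o215, o215), (o1965, o1965), (o14, o370), (o256, o2193), (o12, o1569)], 54, .node 7 54 [⟨o534, [(534, [])], 1646⟩,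
      ⟨o1466, [(1466, [])], 1648⟩]⟩,
  ⟨[(o10, o10), (o0, o0), (o215, o215), (o1965, o1965), (o14, o370), (o256, o2193), (o12, o1569), (o243, o534)], 54, .node 4 54 [⟨o2642, [(2642, [])], 1647⟩]⟩,
  ⟨[(o10, o10), (o0, o0), (o215, o215), (o1965, o1965), (o14, o370), (o256, o2193), (o12, o1569), (o243, o534), (o154, o2642)], 54, .inner [6, 5, 4, 3, 7, 8, 3, 7, 5, 6, 4, 5, 3, 4, 1, 2, 3, 7, 6, 5, 0, 1, 2, 3, 0, 1, 0, 2, 4, 1, 0, 3, 2, 1, 0, 5, 6, 7, 3, 2, 1, 4, 3, 5, 4, 6, 5, 7, 3, 8, 7, 3, 4, 5, 6]⟩,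
  ⟨[(o10, o10), (o0, o0), (o215, o215), (o1965, o1965), (o14, o370), (o256, o2193), (o12, o1569), (o243, o1466)], 54, .node 4 54 [⟨o2642, [(2642, [])], 1649⟩]⟩,
  ⟨[(o10, o10), (o0, o0), (o215, o215), (o1965, o1965), (o14, o370), (o256, o2193), (o12, o1569), (o243, o1466), (o154, o2642)], 54, .inner [4, 7, 8, 3, 7, 4, 5, 3, 4, 2, 3, 7, 8, 4, 3, 7, 5, 1, 2, 3, 4, 0, 1, 2, 3, 7, 5, 6, 4, 5, 3, 4, 0, 1, 2, 3, 0, 1, 0, 2, 1, 0, 3, 2, 1, 0, 4, 3, 5, 4, 6, 5, 7, 3, 2, 1, 0, 4, 3, 2, 1, 5, 7, 3, 4, 8, 7, 3, 2, 4, 3, 5, 4, 7, 3, 8, 7, 4]⟩,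
  ⟨[(o10, o10), (o0, o0), (o215, o215), (o1965, o1965), (o14, o370), (o256, o2193), (o12, o2201)], 54, .node 4 54 [⟨o904, [(904, [])], 1651⟩,
      ⟨o2642, [(2642, [])], 1656⟩,
      ⟨o3057, [(3057, [])], 1657⟩]⟩,
  ⟨[(o10, o10), (o0, o0), (o215, o215), (o1965, o1965), (o14, o370), (o256, o2193), (o12, o2201), (o154, o904)], 54, .node 7 54 [⟨o25, [(25, [])], 1652⟩,
      ⟨o186, [(186, [])], 1653⟩,
      ⟨o611, [(611, [])], 1654⟩,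
      ⟨o1273, [(1273, [])], 1655⟩]⟩,
  ⟨[(o10, o10), (o0, o0), (o215, o215), (o1965, o1965), (o14, o370), (o256, o2193), (o12, o2201), (o154, o904), (o243, o25)], 54, .bad [4, 5, 4] 2193 2193⟩,
  ⟨[(o10, o10), (o0, o0), (o215, o215), (o1965, o1965), (o14, o370), (o256, o2193), (o12, o2201), (o154, o904), (o243, o186)], 54, .bad [4, 5, 4] 2193 2193⟩,
  ⟨[(o10, o10), (o0, o0), (o215, o215), (o1965, o1965), (o14, o370), (o256, o2193), (o12, o2201), (o154, o904), (o243, o611)], 54, .bad [4, 5, 4] 2193 2193⟩,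
  ⟨[(o10, o10), (o0, o0), (o215, o215), (o1965, o1965), (o14, o370), (o256, o2193), (o12, o2201), (o154, o904), (o243, o1273)], 54, .bad [4, 5, 4] 2193 2193⟩,
  ⟨[(o10, o10), (o0, o0), (o215, o215), (o1965, o1965), (o14, o370), (o256, o2193), (o12, o2201), (o154, o2642)], 54, .node 7 54 []⟩,
  ⟨[(o10, o10), (o0, o0), (o215, o215), (o1965, o1965), (o14, o370), (o256, o2193), (o12, o2201), (o154, o3057)], 54, .node 7 54 []⟩,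
  ⟨[(o10, o10), (o0, o0), (o215, o215), (o1965, o1965), (o14, o370), (o256, o3501)], 54, .node 4 54 [⟨o599, [(599, [])], 1659⟩,
      ⟨o1530, [(1530, [])], 1667⟩,
      ⟨o3056, [(3056, [])], 1672⟩,
      ⟨o3057, [(3057, [])], 1680⟩]⟩,
  ⟨[(o10, o10), (o0, o0), (o215, o215), (o1965, o1965), (o14, o370), (o256, o3501), (o154, o599)], 54, .node 2 54 [⟨o477, [(477, [])], 1660⟩,
      ⟨o786, [(786, [])], 1661⟩,
      ⟨o3376, [(3376, [])], 1666⟩]⟩,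
  ⟨[(o10, o10), (o0, o0), (o215, o215), (o1965, o1965), (o14, o370), (o256, o3501), (o154, o599), (o12, o477)], 54, .node 7 54 []⟩,
  ⟨[(o10, o10), (o0, o0), (o215, o215), (o1965, o1965), (o14, o370), (o256, o3501), (o154, o599), (o12, o786)], 54, .node 7 54 [⟨o611, [(611, [])], 1662⟩,
      ⟨o707, [(707, [])], 1663⟩,
      ⟨o1273, [(1273, [])], 1664⟩,
      ⟨o2975, [(2975, [])], 1665⟩]⟩,
  ⟨[(o10, o10), (o0, o0), (o215, o215), (o1965, o1965), (o14, o370), (o256, o3501), (o154, o599), (o12, o786), (o243, o611)], 54, .inner [1, 0, 2, 3, 7, 8, 1, 2, 3, 7, 4, 5, 3, 4, 0, 1, 2, 3, 7, 8, 3, 7, 6, 4, 5, 3, 4, 1, 2, 3, 7, 6, 5, 4, 2, 3, 0, 1, 0, 2, 1, 0, 3, 2, 4, 5, 6, 7, 3, 2, 1, 4, 3, 5, 4, 6, 7, 3, 8, 7, 3, 2, 1, 0, 4, 3, 5, 4, 7, 3, 2, 1, 8, 7, 3, 2, 0, 1]⟩,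
  ⟨[(o10, o10), (o0, o0), (o215, o215), (o1965, o1965), (o14, o370), (o256, o3501), (o154, o599), (o12, o786), (o243, o707)], 54, .bad [3, 7, 3] 599 599⟩]

/-- Nodes. -/
def nd13 : List ONode := [
  ⟨[(o10, o10), (o0, o0), (o215, o215), (o1965, o1965), (o14, o370), (o256, o3501), (o154, o599), (o12, o786), (o243, o1273)], 54, .inner [6, 5, 4, 3, 7, 8, 1, 2, 3, 7, 5, 6, 4, 5, 3, 4, 2, 3, 7, 6, 5, 1, 2, 3, 0, 1, 0, 2, 4, 1, 0, 3, 2, 1, 5, 6, 7, 3, 2, 4, 3, 5, 4, 6, 5, 7, 3, 2, 1, 8, 7, 3, 4, 5, 6]⟩,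
  ⟨[(o10, o10), (o0, o0), (o215, o215), (o1965, o1965), (o14, o370), (o256, o3501), (o154, o599), (o12, o786), (o243, o2975)], 54, .bad [3, 7, 3] 599 599⟩,
  ⟨[(o10, o10), (o0, o0), (o215, o215), (o1965, o1965), (o14, o370), (o256, o3501), (o154, o599), (o12, o3376)], 54, .node 7 54 []⟩,
  ⟨[(o10, o10), (o0, o0), (o215, o215), (o1965, o1965), (o14, o370), (o256, o3501), (o154, o1530)], 54, .node 7 54 [⟨o534, [(534, [])], 1668⟩,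
      ⟨o1466, [(1466, [])], 1670⟩]⟩,
  ⟨[(o10, o10), (o0, o0), (o215, o215), (o1965, o1965), (o14, o370), (o256, o3501), (o154, o1530), (o243, o534)], 54, .node 2 54 [⟨o785, [(785, [])], 1669⟩]⟩,
  ⟨[(o10, o10), (o0, o0), (o215, o215), (o1965, o1965), (o14, o370), (o256, o3501), (o154, o1530), (o243, o534), (o12, o785)], 54, .inner [4, 3, 2, 1, 0, 5, 4, 3, 7, 8, 3, 4, 2, 3, 7, 5, 6, 4, 5, 3, 4, 1, 2, 3, 7, 4, 5, 6, 3, 4, 5, 2, 3, 1, 0, 2, 4, 1, 3, 2, 5, 4, 3, 6, 5, 4, 7, 3, 2, 1, 4, 3, 5, 4, 6, 5, 7, 3, 2, 4, 3, 8, 7, 3, 4, 5, 0, 1, 2, 3, 4]⟩,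
  ⟨[(o10, o10), (o0, o0), (o215, o215), (o1965, o1965), (o14, o370), (o256, o3501), (o154, o1530), (o243, o1466)], 54, .node 2 54 [⟨o785, [(785, [])], 1671⟩]⟩,
  ⟨[(o10, o10), (o0, o0), (o215, o215), (o1965, o1965), (o14, o370), (o256, o3501), (o154, o1530), (o243, o1466), (o12, o785)], 54, .inner [1, 4, 3, 6, 5, 4, 3, 2, 7, 8, 3, 4, 2, 3, 7, 5, 1, 2, 3, 4, 0, 1, 2, 3, 7, 6, 1, 2, 3, 4, 5, 1, 2, 3, 0, 1, 0, 2, 4, 1, 0, 3, 2, 1, 5, 4, 3, 2, 1, 6, 7, 3, 2, 1, 0, 4, 3, 2, 1, 5, 7, 3, 2, 4, 3, 8, 7, 2, 3, 4, 5, 6, 3, 4, 1]⟩,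
  ⟨[(o10, o10), (o0, o0), (o215, o215), (o1965, o1965), (o14, o370), (o256, o3501), (o154, o3056)], 54, .node 2 54 [⟨o477, [(477, [])], 1673⟩,
      ⟨o786, [(786, [])], 1674⟩,
      ⟨o3376, [(3376, [])], 1675⟩]⟩,
  ⟨[(o10, o10), (o0, o0), (o215, o215), (o1965, o1965), (o14, o370), (o256, o3501), (o154, o3056), (o12, o477)], 54, .node 7 54 []⟩,
  ⟨[(o10, o10), (o0, o0), (o215, o215), (o1965, o1965), (o14, o370), (o256, o3501), (o154, o3056), (o12, o786)], 54, .node 7 54 []⟩,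
  ⟨[(o10, o10), (o0, o0), (o215, o215), (o1965, o1965), (o14, o370), (o256, o3501), (o154, o3056), (o12, o3376)], 54, .node 7 54 [⟨o2142, [(2142, [])], 1676⟩,
      ⟨o2202, [(2202, [])], 1677⟩,
      ⟨o2976, [(2976, [])], 1678⟩,
      ⟨o3134, [(3134, [])], 1679⟩]⟩,
  ⟨[(o10, o10), (o0, o0), (o215, o215), (o1965, o1965), (o14, o370), (o256, o3501), (o154, o3056), (o12, o3376), (o243, o2142)], 54, .bad [2, 3, 7, 3, 2] 370 370⟩,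
  ⟨[(o10, o10), (o0, o0), (o215, o215), (o1965, o1965), (o14, o370), (o256, o3501), (o154, o3056), (o12, o3376), (o243, o2202)], 54, .conjw 2 [1, 0, 2, 1, 0, 3, 2, 1, 6, 5, 7, 3, 2, 4, 8, 7, 5, 3, 4, 2, 3, 7, 8, 6, 5, 4, 3, 7, 6, 1, 2, 3, 4, 5, 3, 4, 0]⟩,
  ⟨[(o10, o10), (o0, o0), (o215, o215), (o1965, o1965), (o14, o370), (o256, o3501), (o154, o3056), (o12, o3376), (o243, o2976)], 54, .bad [2, 3, 7, 3, 2] 370 370⟩,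
  ⟨[(o10, o10), (o0, o0), (o215, o215), (o1965, o1965), (o14, o370), (o256, o3501), (o154, o3056), (o12, o3376), (o243, o3134)], 54, .conjw 1 [1, 2, 1, 0, 6, 5, 7, 3, 2, 1, 4, 8, 7, 3, 4, 2, 3, 7, 8, 3, 4, 1, 2, 3, 7, 5, 6, 3, 4, 5, 2, 3, 4, 0, 1, 0]⟩,
  ⟨[(o10, o10), (o0, o0), (o215, o215), (o1965, o1965), (o14, o370), (o256, o3501), (o154, o3057)], 54, .node 2 54 [⟨o511, [(511, [])], 1681⟩,
      ⟨o785, [(785, [])], 1682⟩,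
      ⟨o3375, [(3375, [])], 1683⟩]⟩,
  ⟨[(o10, o10), (o0, o0), (o215, o215), (o1965, o1965), (o14, o370), (o256, o3501), (o154, o3057), (o12, o511)], 54, .node 7 54 []⟩,
  ⟨[(o10, o10), (o0, o0), (o215, o215), (o1965, o1965), (o14, o370), (o256, o3501), (o154, o3057), (o12, o785)], 54, .node 7 54 []⟩,
  ⟨[(o10, o10), (o0, o0), (o215, o215), (o1965, o1965), (o14, o370), (o256, o3501), (o154, o3057), (o12, o3375)], 54, .node 7 54 [⟨o665, [(665, [])], 1684⟩,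
      ⟨o707, [(707, [])], 1685⟩,
      ⟨o2975, [(2975, [])], 1686⟩,
      ⟨o3061, [(3061, [])], 1687⟩]⟩,
  ⟨[(o10, o10), (o0, o0), (o215, o215), (o1965, o1965), (o14, o370), (o256, o3501), (o154, o3057), (o12, o3375), (o243, o665)], 54, .conjw 1 [1, 4, 5, 3, 4, 2, 3, 7, 8, 0, 1, 2, 3, 7, 6, 4, 5, 2, 3, 4, 0, 1, 2, 0, 1, 0]⟩,
  ⟨[(o10, o10), (o0, o0), (o215, o215), (o1965, o1965), (o14, o370), (o256, o3501), (o154, o3057), (o12, o3375), (o243, o707)], 54, .bad [2, 3, 7, 3, 2] 370 370⟩,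
  ⟨[(o10, o10), (o0, o0), (o215, o215), (o1965, o1965), (o14, o370), (o256, o3501), (o154, o3057), (o12, o3375), (o243, o2975)], 54, .bad [2, 3, 7, 3, 2] 370 370⟩,
  ⟨[(o10, o10), (o0, o0), (o215, o215), (o1965, o1965), (o14, o370), (o256, o3501), (o154, o3057), (o12, o3375), (o243, o3061)], 54, .conjw 2 [1, 4, 5, 6, 5, 4, 7, 3, 2, 1, 8, 7, 3, 4, 5, 2, 3, 4, 0, 1, 2, 3, 7, 3, 4, 1, 2, 3, 0, 1, 2, 0, 1, 0]⟩,
  ⟨[(o10, o10), (o0, o0), (o215, o215), (o1965, o1965), (o14, o370), (o256, o3509)], 54, .node 2 54 [⟨o477, [(477, [])], 1689⟩,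
      ⟨o511, [(511, [])], 1695⟩,
      ⟨o785, [(785, [])], 1698⟩,
      ⟨o786, [(786, [])], 1703⟩,
      ⟨o3375, [(3375, [])], 1711⟩,
      ⟨o3376, [(3376, [])], 1718⟩]⟩,
  ⟨[(o10, o10), (o0, o0), (o215, o215), (o1965, o1965), (o14, o370), (o256, o3509), (o12, o477)], 54, .node 4 54 [⟨o390, [(390, [])], 1690⟩,
      ⟨o393, [(393, [])], 1693⟩,
      ⟨o2929, [(2929, [])], 1694⟩]⟩,
  ⟨[(o10, o10), (o0, o0), (o215, o215), (o1965, o1965), (o14, o370), (o256, o3509), (o12, o477), (o154, o390)], 54, .node 7 54 [⟨o665, [(665, [])], 1691⟩,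
      ⟨o3061, [(3061, [])], 1692⟩]⟩,
  ⟨[(o10, o10), (o0, o0), (o215, o215), (o1965, o1965), (o14, o370), (o256, o3509), (o12, o477), (o154, o390), (o243, o665)], 54, .bad [6, 3] 390 477⟩,
  ⟨[(o10, o10), (o0, o0), (o215, o215), (o1965, o1965), (o14, o370), (o256, o3509), (o12, o477), (o154, o390), (o243, o3061)], 54, .bad [6, 3] 390 477⟩,
  ⟨[(o10, o10), (o0, o0), (o215, o215), (o1965, o1965), (o14, o370), (o256, o3509), (o12, o477), (o154, o393)], 54, .node 7 54 []⟩,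
  ⟨[(o10, o10), (o0, o0), (o215, o215), (o1965, o1965), (o14, o370), (o256, o3509), (o12, o477), (o154, o2929)], 54, .node 7 54 []⟩,
  ⟨[(o10, o10), (o0, o0), (o215, o215), (o1965, o1965), (o14, o370), (o256, o3509), (o12, o511)], 54, .node 4 54 [⟨o482, [(482, [])], 1696⟩,
      ⟨o3055, [(3055, [])], 1697⟩]⟩,
  ⟨[(o10, o10), (o0, o0), (o215, o215), (o1965, o1965), (o14, o370), (o256, o3509), (o12, o511), (o154, o482)], 54, .node 7 54 []⟩,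
  ⟨[(o10, o10), (o0, o0), (o215, o215), (o1965, o1965), (o14, o370), (o256, o3509), (o12, o511), (o154, o3055)], 54, .node 7 54 []⟩,
  ⟨[(o10, o10), (o0, o0), (o215, o215), (o1965, o1965), (o14, o370), (o256, o3509), (o12, o785)], 54, .node 4 54 [⟨o482, [(482, [])], 1699⟩,
      ⟨o3055, [(3055, [])], 1702⟩]⟩,
  ⟨[(o10, o10), (o0, o0), (o215, o215), (o1965, o1965), (o14, o370), (o256, o3509), (o12, o785), (o154, o482)], 54, .node 7 54 [⟨o534, [(534, [])], 1700⟩,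
      ⟨o1466, [(1466, [])], 1701⟩]⟩,
  ⟨[(o10, o10), (o0, o0), (o215, o215), (o1965, o1965), (o14, o370), (o256, o3509), (o12, o785), (o154, o482), (o243, o534)], 54, .inner [1, 4, 3, 6, 5, 4, 3, 7, 3, 2, 1, 8, 4, 3, 7, 5, 6, 3, 4, 5, 2, 3, 4, 0, 1, 2, 3, 7, 6, 1, 2, 3, 4, 5, 2, 3, 0, 1, 0, 2, 4, 1, 0, 3, 2, 5, 4, 3, 2, 1, 6, 7, 3, 2, 1, 0, 4, 3, 2, 5, 4, 3, 6, 5, 7, 3, 4, 8, 1, 2, 3, 7, 3, 4, 5, 6, 3, 4, 1]⟩,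
  ⟨[(o10, o10), (o0, o0), (o215, o215), (o1965, o1965), (o14, o370), (o256, o3509), (o12, o785), (o154, o482), (o243, o1466)], 54, .inner [2, 3, 4, 3, 2, 7, 5, 3, 4, 2, 3, 7, 1, 2, 3, 4, 0, 1, 2, 3, 7, 8, 5, 4, 3, 7, 6, 5, 4, 3, 0, 1, 0, 2, 4, 1, 0, 3, 4, 5, 6, 7, 3, 4, 5, 8, 7, 3, 2, 1, 0, 4, 3, 2, 1, 7, 3, 2, 4, 3, 5, 7, 2, 3, 4, 3, 2]⟩,
  ⟨[(o10, o10), (o0, o0), (o215, o215), (o1965, o1965), (o14, o370), (o256, o3509), (o12, o785), (o154, o3055)], 54, .node 7 54 []⟩,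
  ⟨[(o10, o10), (o0, o0), (o215, o215), (o1965, o1965), (o14, o370), (o256, o3509), (o12, o786)], 54, .node 4 54 [⟨o390, [(390, [])], 1704⟩,
      ⟨o393, [(393, [])], 1705⟩,
      ⟨o2929, [(2929, [])], 1710⟩]⟩,
  ⟨[(o10, o10), (o0, o0), (o215, o215), (o1965, o1965), (o14, o370), (o256, o3509), (o12, o786), (o154, o390)], 54, .node 7 54 []⟩,
  ⟨[(o10, o10), (o0, o0), (o215, o215), (o1965, o1965), (o14, o370), (o256, o3509), (o12, o786), (o154, o393)], 54, .node 7 54 [⟨o611, [(611, [])], 1706⟩,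
      ⟨o707, [(707, [])], 1707⟩,
      ⟨o1273, [(1273, [])], 1708⟩,
      ⟨o2975, [(2975, [])], 1709⟩]⟩,
  ⟨[(o10, o10), (o0, o0), (o215, o215), (o1965, o1965), (o14, o370), (o256, o3509), (o12, o786), (o154, o393), (o243, o611)], 54, .inner [2, 4, 5, 3, 4, 2, 3, 7, 8, 3, 7, 2, 3, 4, 1, 2, 3, 7, 4, 5, 6, 3, 4, 5, 4, 3, 0, 1, 0, 2, 4, 1, 0, 3, 4, 5, 4, 3, 6, 5, 4, 7, 3, 2, 1, 4, 3, 2, 7, 3, 8, 7, 3, 2, 4, 3, 5, 4, 2]⟩,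
  ⟨[(o10, o10), (o0, o0), (o215, o215), (o1965, o1965), (o14, o370), (o256, o3509), (o12, o786), (o154, o393), (o243, o707)], 54, .bad [3, 7, 3] 393 393⟩,
  ⟨[(o10, o10), (o0, o0), (o215, o215), (o1965, o1965), (o14, o370), (o256, o3509), (o12, o786), (o154, o393), (o243, o1273)], 54, .inner [6, 5, 4, 3, 7, 8, 1, 2, 3, 7, 5, 6, 4, 5, 3, 4, 2, 3, 7, 6, 5, 3, 4, 2, 3, 1, 0, 2, 1, 3, 2, 4, 3, 5, 6, 7, 3, 2, 4, 3, 5, 4, 6, 5, 7, 3, 2, 1, 8, 7, 3, 4, 5, 6]⟩,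
  ⟨[(o10, o10), (o0, o0), (o215, o215), (o1965, o1965), (o14, o370), (o256, o3509), (o12, o786), (o154, o393), (o243, o2975)], 54, .bad [3, 7, 3] 393 393⟩,
  ⟨[(o10, o10), (o0, o0), (o215, o215), (o1965, o1965), (o14, o370), (o256, o3509), (o12, o786), (o154, o2929)], 54, .node 7 54 []⟩,
  ⟨[(o10, o10), (o0, o0), (o215, o215), (o1965, o1965), (o14, o370), (o256, o3509), (o12, o3375)], 54, .node 4 54 [⟨o482, [(482, [])], 1712⟩,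
      ⟨o3055, [(3055, [])], 1713⟩]⟩,
  ⟨[(o10, o10), (o0, o0), (o215, o215), (o1965, o1965), (o14, o370), (o256, o3509), (o12, o3375), (o154, o482)], 54, .node 7 54 []⟩,
  ⟨[(o10, o10), (o0, o0), (o215, o215), (o1965, o1965), (o14, o370), (o256, o3509), (o12, o3375), (o154, o3055)], 54, .node 7 54 [⟨o665, [(665, [])], 1714⟩,
      ⟨o707, [(707, [])], 1715⟩,
      ⟨o2975, [(2975, [])], 1716⟩,
      ⟨o3061, [(3061, [])], 1717⟩]⟩,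
  ⟨[(o10, o10), (o0, o0), (o215, o215), (o1965, o1965), (o14, o370), (o256, o3509), (o12, o3375), (o154, o3055), (o243, o665)], 54, .conjw 2 [1, 0, 4, 5, 6, 5, 4, 7, 3, 2, 1, 8, 7, 3, 4, 5, 2, 3, 4, 0, 1, 2, 3, 7, 1, 2, 3, 4, 5, 2, 3, 1, 2, 0]⟩,
  ⟨[(o10, o10), (o0, o0), (o215, o215), (o1965, o1965), (o14, o370), (o256, o3509), (o12, o3375), (o154, o3055), (o243, o707)], 54, .bad [2, 3, 7, 3, 2] 370 370⟩,
  ⟨[(o10, o10), (o0, o0), (o215, o215), (o1965, o1965), (o14, o370), (o256, o3509), (o12, o3375), (o154, o3055), (o243, o2975)], 54, .bad [2, 3, 7, 3, 2] 370 370⟩,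
  ⟨[(o10, o10), (o0, o0), (o215, o215), (o1965, o1965), (o14, o370), (o256, o3509), (o12, o3375), (o154, o3055), (o243, o3061)], 54, .conjw 1 [1, 0, 2, 1, 0, 3, 2, 1, 6, 5, 7, 3, 8, 7, 4, 5, 3, 4, 2, 3, 7, 8, 6, 5, 4, 3, 7, 5, 4, 1, 2, 3, 0, 1, 2, 1, 0]⟩,
  ⟨[(o10, o10), (o0, o0), (o215, o215), (o1965, o1965), (o14, o370), (o256, o3509), (o12, o3376)], 54, .node 4 54 [⟨o390, [(390, [])], 1719⟩,
      ⟨o393, [(393, [])], 1720⟩,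
      ⟨o2929, [(2929, [])], 1721⟩]⟩,
  ⟨[(o10, o10), (o0, o0), (o215, o215), (o1965, o1965), (o14, o370), (o256, o3509), (o12, o3376), (o154, o390)], 54, .node 7 54 []⟩,
  ⟨[(o10, o10), (o0, o0), (o215, o215), (o1965, o1965), (o14, o370), (o256, o3509), (o12, o3376), (o154, o393)], 54, .node 7 54 []⟩,
  ⟨[(o10, o10), (o0, o0), (o215, o215), (o1965, o1965), (o14, o370), (o256, o3509), (o12, o3376), (o154, o2929)], 54, .node 7 54 [⟨o2142, [(2142, [])], 1722⟩,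
      ⟨o2202, [(2202, [])], 1723⟩,
      ⟨o2976, [(2976, [])], 1724⟩,
      ⟨o3134, [(3134, [])], 1725⟩]⟩,
  ⟨[(o10, o10), (o0, o0), (o215, o215), (o1965, o1965), (o14, o370), (o256, o3509), (o12, o3376), (o154, o2929), (o243, o2142)], 54, .bad [2, 3, 7, 3, 2] 370 370⟩,
  ⟨[(o10, o10), (o0, o0), (o215, o215), (o1965, o1965), (o14, o370), (o256, o3509), (o12, o3376), (o154, o2929), (o243, o2202)], 54, .conjw 1 [1, 2, 1, 0, 6, 5, 7, 3, 2, 1, 4, 8, 7, 3, 4, 2, 3, 7, 8, 3, 4, 1, 2, 3, 7, 3, 4, 5, 2, 3, 4, 3, 2, 0, 1, 0]⟩,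
  ⟨[(o10, o10), (o0, o0), (o215, o215), (o1965, o1965), (o14, o370), (o256, o3509), (o12, o3376), (o154, o2929), (o243, o2976)], 54, .bad [2, 3, 7, 3, 2] 370 370⟩,
  ⟨[(o10, o10), (o0, o0), (o215, o215), (o1965, o1965), (o14, o370), (o256, o3509), (o12, o3376), (o154, o2929), (o243, o3134)], 54, .conjw 0 [7, 8, 2, 3, 7, 6, 5, 1, 2, 3, 4, 0, 1, 2, 3, 7, 8, 2, 3, 4, 1, 2, 3, 7, 5, 3, 4, 1, 2, 3, 0, 1, 2, 0, 1, 0]⟩,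
  ⟨[(o10, o10), (o0, o0), (o215, o215), (o1965, o1965), (o14, o422)], 51, .node 6 55 [⟨o68, [(68, [])], 1727⟩,
      ⟨o143, [(143, [])], 1742⟩,
      ⟨o509, [(509, [])], 1753⟩,
      ⟨o548, [(548, [])], 1772⟩,
      ⟨o949, [(949, [])], 1791⟩,
      ⟨o1274, [(1274, [])], 1808⟩,
      ⟨o1570, [(1570, [])], 1821⟩,
      ⟨o1571, [(1571, [])], 1840⟩]⟩,
  ⟨[(o10, o10), (o0, o0), (o215, o215), (o1965, o1965), (o14, o422), (o256, o68)], 55, .node 2 55 [⟨o1302, [(1302, [])], 1728⟩,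
      ⟨o1568, [(1568, [])], 1732⟩,
      ⟨o1569, [(1569, [])], 1734⟩,
      ⟨o2201, [(2201, [])], 1737⟩]⟩,
  ⟨[(o10, o10), (o0, o0), (o215, o215), (o1965, o1965), (o14, o422), (o256, o68), (o12, o1302)], 55, .node 4 55 [⟨o2183, [(2183, [])], 1729⟩]⟩,
  ⟨[(o10, o10), (o0, o0), (o215, o215), (o1965, o1965), (o14, o422), (o256, o68), (o12, o1302), (o154, o2183)], 55, .node 7 55 [⟨o184, [(184, [])], 1730⟩,
      ⟨o185, [(185, [])], 1731⟩]⟩,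
  ⟨[(o10, o10), (o0, o0), (o215, o215), (o1965, o1965), (o14, o422), (o256, o68), (o12, o1302), (o154, o2183), (o243, o184)], 55, .inner [2, 3, 7, 8, 1, 2, 3, 4, 0, 1, 2, 3, 7, 5, 6, 4, 5, 3, 0, 2, 4, 3, 5, 4, 6, 5, 7, 3, 2, 1, 0, 4, 3, 2, 1, 8, 7, 3, 2]⟩,
  ⟨[(o10, o10), (o0, o0), (o215, o215), (o1965, o1965), (o14, o422), (o256, o68), (o12, o1302), (o154, o2183), (o243, o185)], 55, .inner [2, 1, 3, 4, 7, 3, 2, 1, 4, 3, 2, 5, 8, 7, 3, 4, 5, 6, 2, 3, 4, 5, 1, 2, 3, 4, 0, 1, 2, 3, 7, 2, 3, 4, 5, 2, 3, 1, 0, 2, 4, 1, 3, 2, 5, 4, 3, 2, 7, 3, 2, 1, 0, 4, 3, 2, 1, 5, 4, 3, 2, 6, 5, 4, 3, 7, 8, 5, 2, 3, 4, 1, 2, 3, 7, 4, 3, 1, 2]⟩,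
  ⟨[(o10, o10), (o0, o0), (o215, o215), (o1965, o1965), (o14, o422), (o256, o68), (o12, o1568)], 55, .node 4 55 [⟨o2183, [(2183, [])], 1733⟩]⟩,
  ⟨[(o10, o10), (o0, o0), (o215, o215), (o1965, o1965), (o14, o422), (o256, o68), (o12, o1568), (o154, o2183)], 55, .node 7 55 []⟩,
  ⟨[(o10, o10), (o0, o0), (o215, o215), (o1965, o1965), (o14, o422), (o256, o68), (o12, o1569)], 55, .node 4 55 [⟨o2034, [(2034, [])], 1735⟩,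
      ⟨o3057, [(3057, [])], 1736⟩]⟩,
  ⟨[(o10, o10), (o0, o0), (o215, o215), (o1965, o1965), (o14, o422), (o256, o68), (o12, o1569), (o154, o2034)], 55, .node 7 55 []⟩,
  ⟨[(o10, o10), (o0, o0), (o215, o215), (o1965, o1965), (o14, o422), (o256, o68), (o12, o1569), (o154, o3057)], 55, .node 7 55 []⟩,
  ⟨[(o10, o10), (o0, o0), (o215, o215), (o1965, o1965), (o14, o422), (o256, o68), (o12, o2201)], 55, .node 4 55 [⟨o2034, [(2034, [])], 1738⟩,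
      ⟨o3057, [(3057, [])], 1741⟩]⟩,
  ⟨[(o10, o10), (o0, o0), (o215, o215), (o1965, o1965), (o14, o422), (o256, o68), (o12, o2201), (o154, o2034)], 55, .node 7 55 [⟨o26, [(26, [])], 1739⟩,
      ⟨o183, [(183, [])], 1740⟩]⟩,
  ⟨[(o10, o10), (o0, o0), (o215, o215), (o1965, o1965), (o14, o422), (o256, o68), (o12, o2201), (o154, o2034), (o243, o26)], 55, .inner [2, 7, 8, 4, 3, 7, 5, 6, 4, 5, 3, 4, 2, 3, 7, 8, 6, 5, 4, 1, 2, 3, 7, 4, 2, 3, 0, 1, 0, 2, 4, 1, 0, 3, 2, 4, 7, 3, 2, 1, 4, 5, 6, 8, 7, 3, 2, 4, 3, 5, 4, 6, 5, 7, 3, 4, 8, 7, 2]⟩,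
  ⟨[(o10, o10), (o0, o0), (o215, o215), (o1965, o1965), (o14, o422), (o256, o68), (o12, o2201), (o154, o2034), (o243, o183)], 55, .inner [2, 3, 7, 8, 1, 2, 3, 4, 0, 1, 2, 3, 7, 5, 6, 4, 5, 1, 2, 3, 4, 0, 1, 2, 3, 1, 0, 2, 1, 3, 2, 1, 0, 4, 3, 2, 1, 5, 4, 6, 5, 7, 3, 2, 1, 0, 4, 3, 2, 1, 8, 7, 3, 2]⟩,
  ⟨[(o10, o10), (o0, o0), (o215, o215), (o1965, o1965), (o14, o422), (o256, o68), (o12, o2201), (o154, o3057)], 55, .node 7 55 []⟩,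
  ⟨[(o10, o10), (o0, o0), (o215, o215), (o1965, o1965), (o14, o422), (o256, o143)], 55, .node 4 55 [⟨o2033, [(2033, [])], 1743⟩,
      ⟨o2200, [(2200, [])], 1748⟩]⟩,
  ⟨[(o10, o10), (o0, o0), (o215, o215), (o1965, o1965), (o14, o422), (o256, o143), (o154, o2033)], 55, .node 2 55 [⟨o1569, [(1569, [])], 1744⟩,
      ⟨o2201, [(2201, [])], 1745⟩]⟩,
  ⟨[(o10, o10), (o0, o0), (o215, o215), (o1965, o1965), (o14, o422), (o256, o143), (o154, o2033), (o12, o1569)], 55, .node 7 55 []⟩,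
  ⟨[(o10, o10), (o0, o0), (o215, o215), (o1965, o1965), (o14, o422), (o256, o143), (o154, o2033), (o12, o2201)], 55, .node 7 55 [⟨o26, [(26, [])], 1746⟩,
      ⟨o183, [(183, [])], 1747⟩]⟩,
  ⟨[(o10, o10), (o0, o0), (o215, o215), (o1965, o1965), (o14, o422), (o256, o143), (o154, o2033), (o12, o2201), (o243, o26)], 55, .inner [2, 1, 0, 3, 7, 8, 4, 3, 7, 6, 4, 5, 2, 3, 4, 1, 2, 3, 7, 6, 0, 1, 2, 3, 4, 5, 4, 3, 0, 1, 0, 2, 4, 1, 0, 3, 4, 5, 4, 3, 2, 1, 0, 6, 7, 3, 2, 1, 4, 3, 2, 5, 4, 6, 7, 3, 4, 8, 7, 3, 0, 1, 2]⟩,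
  ⟨[(o10, o10), (o0, o0), (o215, o215), (o1965, o1965), (o14, o422), (o256, o143), (o154, o2033), (o12, o2201), (o243, o183)], 55, .inner [2, 3, 7, 8, 1, 2, 3, 7, 4, 5, 2, 3, 4, 0, 1, 2, 3, 7, 6, 0, 1, 2, 3, 4, 5, 3, 0, 1, 0, 2, 4, 1, 0, 3, 5, 4, 3, 2, 1, 0, 6, 7, 3, 2, 1, 0, 4, 3, 2, 5, 4, 7, 3, 2, 1, 8, 7, 3, 2]⟩,
  ⟨[(o10, o10), (o0, o0), (o215, o215), (o1965, o1965), (o14, o422), (o256, o143), (o154, o2200)], 55, .node 2 55 [⟨o1302, [(1302, [])], 1749⟩,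
      ⟨o1568, [(1568, [])], 1752⟩]⟩,
  ⟨[(o10, o10), (o0, o0), (o215, o215), (o1965, o1965), (o14, o422), (o256, o143), (o154, o2200), (o12, o1302)], 55, .node 7 55 [⟨o184, [(184, [])], 1750⟩,
      ⟨o185, [(185, [])], 1751⟩]⟩,
  ⟨[(o10, o10), (o0, o0), (o215, o215), (o1965, o1965), (o14, o422), (o256, o143), (o154, o2200), (o12, o1302), (o243, o184)], 55, .inner [2, 1, 3, 7, 8, 3, 4, 2, 3, 7, 5, 6, 4, 5, 2, 3, 4, 1, 2, 3, 7, 6, 3, 4, 5, 1, 2, 3, 0, 1, 0, 2, 4, 1, 0, 3, 2, 1, 5, 4, 3, 6, 7, 3, 2, 1, 4, 3, 2, 5, 4, 6, 5, 7, 3, 2, 4, 3, 8, 7, 3, 1, 2]⟩,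
  ⟨[(o10, o10), (o0, o0), (o215, o215), (o1965, o1965), (o14, o422), (o256, o143), (o154, o2200), (o12, o1302), (o243, o185)], 55, .inner [2, 1, 0, 6, 5, 4, 7, 3, 2, 1, 0, 4, 3, 2, 8, 7, 3, 4, 2, 3, 7, 8, 5, 4, 3, 7, 6, 5, 2, 3, 4, 1, 2, 3, 7, 5, 6, 4, 5, 2, 3, 1, 0, 2, 4, 1, 3, 2, 5, 4, 6, 5, 7, 3, 2, 1, 4, 3, 2, 5, 6, 7, 3, 4, 5, 8, 7, 3, 2, 4, 3, 7, 8, 2, 3, 4, 0, 1, 2, 3, 7, 4, 5, 6, 0, 1, 2]⟩,
  ⟨[(o10, o10), (o0, o0), (o215, o215), (o1965, o1965), (o14, o422), (o256, o143), (o154, o2200), (o12, o1568)], 55, .node 7 55 []⟩,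
  ⟨[(o10, o10), (o0, o0), (o215, o215), (o1965, o1965), (o14, o422), (o256, o509)], 55, .node 2 55 [⟨o477, [(477, [])], 1754⟩,
      ⟨o511, [(511, [])], 1759⟩,
      ⟨o785, [(785, [])], 1766⟩,
      ⟨o786, [(786, [])], 1769⟩]⟩,
  ⟨[(o10, o10), (o0, o0), (o215, o215), (o1965, o1965), (o14, o422), (o256, o509), (o12, o477)], 55, .node 4 55 [⟨o52, [(52, [])], 1755⟩,
      ⟨o3056, [(3056, [])], 1758⟩]⟩,
  ⟨[(o10, o10), (o0, o0), (o215, o215), (o1965, o1965), (o14, o422), (o256, o509), (o12, o477), (o154, o52)], 55, .node 7 55 [⟨o184, [(184, [])], 1756⟩,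
      ⟨o185, [(185, [])], 1757⟩]⟩,
  ⟨[(o10, o10), (o0, o0), (o215, o215), (o1965, o1965), (o14, o422), (o256, o509), (o12, o477), (o154, o52), (o243, o184)], 55, .inner [2, 3, 7, 8, 4, 1, 2, 3, 7, 5, 4, 3, 0, 1, 0, 2, 1, 0, 3, 4, 5, 7, 3, 2, 1, 4, 8, 7, 3, 2]⟩,
  ⟨[(o10, o10), (o0, o0), (o215, o215), (o1965, o1965), (o14, o422), (o256, o509), (o12, o477), (o154, o52), (o243, o185)], 55, .inner [2, 3, 7, 8, 4, 1, 2, 3, 7, 5, 4, 3, 0, 1, 0, 2, 4, 1, 0, 3, 4, 5, 7, 3, 2, 1, 4, 8, 7, 3, 2]⟩,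
  ⟨[(o10, o10), (o0, o0), (o215, o215), (o1965, o1965), (o14, o422), (o256, o509), (o12, o477), (o154, o3056)], 55, .node 7 55 []⟩,
  ⟨[(o10, o10), (o0, o0), (o215, o215), (o1965, o1965), (o14, o422), (o256, o509), (o12, o511)], 55, .node 4 55 [⟨o53, [(53, [])], 1760⟩,
      ⟨o3057, [(3057, [])], 1765⟩]⟩,
  ⟨[(o10, o10), (o0, o0), (o215, o215), (o1965, o1965), (o14, o422), (o256, o509), (o12, o511), (o154, o53)], 55, .node 7 55 [⟨o26, [(26, [])], 1761⟩,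
      ⟨o183, [(183, [])], 1762⟩,
      ⟨o666, [(666, [])], 1763⟩,
      ⟨o2722, [(2722, [])], 1764⟩]⟩,
  ⟨[(o10, o10), (o0, o0), (o215, o215), (o1965, o1965), (o14, o422), (o256, o509), (o12, o511), (o154, o53), (o243, o26)], 55, .inner [2, 3, 7, 8, 4, 1, 2, 3, 7, 5, 2, 3, 4, 1, 2, 3, 0, 1, 0, 2, 1, 0, 3, 2, 1, 4, 3, 2, 5, 7, 3, 2, 1, 4, 8, 7, 3, 2]⟩,
  ⟨[(o10, o10), (o0, o0), (o215, o215), (o1965, o1965), (o14, o422), (o256, o509), (o12, o511), (o154, o53), (o243, o183)], 55, .inner [2, 3, 7, 8, 4, 1, 2, 3, 7, 5, 4, 3, 2, 1, 0, 1, 2, 3, 4, 5, 7, 3, 2, 1, 4, 8, 7, 3, 2]⟩,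
  ⟨[(o10, o10), (o0, o0), (o215, o215), (o1965, o1965), (o14, o422), (o256, o509), (o12, o511), (o154, o53), (o243, o666)], 55, .bad [3, 4, 3] 666 666⟩,
  ⟨[(o10, o10), (o0, o0), (o215, o215), (o1965, o1965), (o14, o422), (o256, o509), (o12, o511), (o154, o53), (o243, o2722)], 55, .bad [3, 4, 3] 2722 2722⟩,
  ⟨[(o10, o10), (o0, o0), (o215, o215), (o1965, o1965), (o14, o422), (o256, o509), (o12, o511), (o154, o3057)], 55, .node 7 55 []⟩,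
  ⟨[(o10, o10), (o0, o0), (o215, o215), (o1965, o1965), (o14, o422), (o256, o509), (o12, o785)], 55, .node 4 55 [⟨o53, [(53, [])], 1767⟩,
      ⟨o3057, [(3057, [])], 1768⟩]⟩,
  ⟨[(o10, o10), (o0, o0), (o215, o215), (o1965, o1965), (o14, o422), (o256, o509), (o12, o785), (o154, o53)], 55, .node 7 55 []⟩,
  ⟨[(o10, o10), (o0, o0), (o215, o215), (o1965, o1965), (o14, o422), (o256, o509), (o12, o785), (o154, o3057)], 55, .node 7 55 []⟩,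
  ⟨[(o10, o10), (o0, o0), (o215, o215), (o1965, o1965), (o14, o422), (o256, o509), (o12, o786)], 55, .node 4 55 [⟨o52, [(52, [])], 1770⟩,
      ⟨o3056, [(3056, [])], 1771⟩]⟩,
  ⟨[(o10, o10), (o0, o0), (o215, o215), (o1965, o1965), (o14, o422), (o256, o509), (o12, o786), (o154, o52)], 55, .node 7 55 []⟩,
  ⟨[(o10, o10), (o0, o0), (o215, o215), (o1965, o1965), (o14, o422), (o256, o509), (o12, o786), (o154, o3056)], 55, .node 7 55 []⟩,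
  ⟨[(o10, o10), (o0, o0), (o215, o215), (o1965, o1965), (o14, o422), (o256, o548)], 55, .node 2 55 [⟨o477, [(477, [])], 1773⟩,
      ⟨o511, [(511, [])], 1778⟩,
      ⟨o785, [(785, [])], 1785⟩,
      ⟨o786, [(786, [])], 1788⟩]⟩,
  ⟨[(o10, o10), (o0, o0), (o215, o215), (o1965, o1965), (o14, o422), (o256, o548), (o12, o477)], 55, .node 4 55 [⟨o295, [(295, [])], 1774⟩,
      ⟨o2929, [(2929, [])], 1777⟩]⟩,
  ⟨[(o10, o10), (o0, o0), (o215, o215), (o1965, o1965), (o14, o422), (o256, o548), (o12, o477), (o154, o295)], 55, .node 7 55 [⟨o184, [(184, [])], 1775⟩,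
      ⟨o185, [(185, [])], 1776⟩]⟩,
  ⟨[(o10, o10), (o0, o0), (o215, o215), (o1965, o1965), (o14, o422), (o256, o548), (o12, o477), (o154, o295), (o243, o184)], 55, .inner [7, 8, 3, 7, 4, 5, 3, 4, 2, 3, 7, 8, 4, 1, 2, 3, 7, 5, 4, 3, 0, 1, 0, 2, 4, 1, 0, 3, 4, 5, 7, 3, 2, 1, 4, 8, 7, 3, 2, 4, 3, 5, 4, 7, 3, 8, 7]⟩,
  ⟨[(o10, o10), (o0, o0), (o215, o215), (o1965, o1965), (o14, o422), (o256, o548), (o12, o477), (o154, o295), (o243, o185)], 55, .inner [2, 3, 7, 8, 3, 4, 2, 3, 7, 5, 1, 2, 3, 4, 0, 1, 2, 3, 7, 2, 3, 4, 5, 4, 3, 1, 0, 2, 4, 1, 3, 4, 5, 4, 3, 2, 7, 3, 2, 1, 0, 4, 3, 2, 1, 5, 7, 3, 2, 4, 3, 8, 7, 3, 2]⟩,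
  ⟨[(o10, o10), (o0, o0), (o215, o215), (o1965, o1965), (o14, o422), (o256, o548), (o12, o477), (o154, o2929)], 55, .node 7 55 []⟩,
  ⟨[(o10, o10), (o0, o0), (o215, o215), (o1965, o1965), (o14, o422), (o256, o548), (o12, o511)], 55, .node 4 55 [⟨o296, [(296, [])], 1779⟩,
      ⟨o3055, [(3055, [])], 1784⟩]⟩,
  ⟨[(o10, o10), (o0, o0), (o215, o215), (o1965, o1965), (o14, o422), (o256, o548), (o12, o511), (o154, o296)], 55, .node 7 55 [⟨o26, [(26, [])], 1780⟩,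
      ⟨o183, [(183, [])], 1781⟩,
      ⟨o666, [(666, [])], 1782⟩,
      ⟨o2722, [(2722, [])], 1783⟩]⟩,
  ⟨[(o10, o10), (o0, o0), (o215, o215), (o1965, o1965), (o14, o422), (o256, o548), (o12, o511), (o154, o296), (o243, o26)], 55, .inner [4, 5, 3, 4, 2, 3, 7, 8, 3, 7, 2, 3, 4, 1, 2, 3, 7, 5, 4, 3, 0, 1, 0, 2, 4, 1, 0, 3, 4, 5, 7, 3, 2, 1, 4, 3, 2, 7, 3, 8, 7, 3, 2, 4, 3, 5, 4]⟩,
  ⟨[(o10, o10), (o0, o0), (o215, o215), (o1965, o1965), (o14, o422), (o256, o548), (o12, o511), (o154, o296), (o243, o183)], 55, .inner [2, 3, 7, 8, 4, 5, 3, 4, 1, 2, 3, 7, 4, 1, 2, 3, 0, 1, 0, 2, 1, 0, 3, 2, 1, 4, 7, 3, 2, 1, 4, 3, 5, 4, 8, 7, 3, 2]⟩,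
  ⟨[(o10, o10), (o0, o0), (o215, o215), (o1965, o1965), (o14, o422), (o256, o548), (o12, o511), (o154, o296), (o243, o666)], 55, .bad [3, 4, 3] 666 666⟩,
  ⟨[(o10, o10), (o0, o0), (o215, o215), (o1965, o1965), (o14, o422), (o256, o548), (o12, o511), (o154, o296), (o243, o2722)], 55, .bad [3, 4, 3] 2722 2722⟩,
  ⟨[(o10, o10), (o0, o0), (o215, o215), (o1965, o1965), (o14, o422), (o256, o548), (o12, o511), (o154, o3055)], 55, .node 7 55 []⟩,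
  ⟨[(o10, o10), (o0, o0), (o215, o215), (o1965, o1965), (o14, o422), (o256, o548), (o12, o785)], 55, .node 4 55 [⟨o296, [(296, [])], 1786⟩,
      ⟨o3055, [(3055, [])], 1787⟩]⟩,
  ⟨[(o10, o10), (o0, o0), (o215, o215), (o1965, o1965), (o14, o422), (o256, o548), (o12, o785), (o154, o296)], 55, .node 7 55 []⟩,
  ⟨[(o10, o10), (o0, o0), (o215, o215), (o1965, o1965), (o14, o422), (o256, o548), (o12, o785), (o154, o3055)], 55, .node 7 55 []⟩,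
  ⟨[(o10, o10), (o0, o0), (o215, o215), (o1965, o1965), (o14, o422), (o256, o548), (o12, o786)], 55, .node 4 55 [⟨o295, [(295, [])], 1789⟩,
      ⟨o2929, [(2929, [])], 1790⟩]⟩,
  ⟨[(o10, o10), (o0, o0), (o215, o215), (o1965, o1965), (o14, o422), (o256, o548), (o12, o786), (o154, o295)], 55, .node 7 55 []⟩,
  ⟨[(o10, o10), (o0, o0), (o215, o215), (o1965, o1965), (o14, o422), (o256, o548), (o12, o786), (o154, o2929)], 55, .node 7 55 []⟩,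
  ⟨[(o10, o10), (o0, o0), (o215, o215), (o1965, o1965), (o14, o422), (o256, o949)], 55, .node 2 55 [⟨o366, [(366, [])], 1792⟩,
      ⟨o1528, [(1528, [])], 1795⟩,
      ⟨o3121, [(3121, [])], 1797⟩,
      ⟨o3122, [(3122, [])], 1804⟩]⟩]

/-- Nodes. -/
def nd14 : List ONode := [
  ⟨[(o10, o10), (o0, o0), (o215, o215), (o1965, o1965), (o14, o422), (o256, o949), (o12, o366)], 55, .node 4 55 [⟨o53, [(53, [])], 1793⟩,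
      ⟨o109, [(109, [])], 1794⟩]⟩,
  ⟨[(o10, o10), (o0, o0), (o215, o215), (o1965, o1965), (o14, o422), (o256, o949), (o12, o366), (o154, o53)], 55, .node 7 55 []⟩,
  ⟨[(o10, o10), (o0, o0), (o215, o215), (o1965, o1965), (o14, o422), (o256, o949), (o12, o366), (o154, o109)], 55, .node 7 55 []⟩,
  ⟨[(o10, o10), (o0, o0), (o215, o215), (o1965, o1965), (o14, o422), (o256, o949), (o12, o1528)], 55, .node 4 55 [⟨o52, [(52, [])], 1796⟩]⟩,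
  ⟨[(o10, o10), (o0, o0), (o215, o215), (o1965, o1965), (o14, o422), (o256, o949), (o12, o1528), (o154, o52)], 55, .node 7 55 []⟩,
  ⟨[(o10, o10), (o0, o0), (o215, o215), (o1965, o1965), (o14, o422), (o256, o949), (o12, o3121)], 55, .node 4 55 [⟨o53, [(53, [])], 1798⟩,
      ⟨o109, [(109, [])], 1803⟩]⟩,
  ⟨[(o10, o10), (o0, o0), (o215, o215), (o1965, o1965), (o14, o422), (o256, o949), (o12, o3121), (o154, o53)], 55, .node 7 55 [⟨o21, [(21, [])], 1799⟩,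
      ⟨o88, [(88, [])], 1800⟩,
      ⟨o1364, [(1364, [])], 1801⟩,
      ⟨o3383, [(3383, [])], 1802⟩]⟩,
  ⟨[(o10, o10), (o0, o0), (o215, o215), (o1965, o1965), (o14, o422), (o256, o949), (o12, o3121), (o154, o53), (o243, o21)], 55, .bad [3, 4, 3] 21 21⟩,
  ⟨[(o10, o10), (o0, o0), (o215, o215), (o1965, o1965), (o14, o422), (o256, o949), (o12, o3121), (o154, o53), (o243, o88)], 55, .bad [3, 4, 3] 88 88⟩,
  ⟨[(o10, o10), (o0, o0), (o215, o215), (o1965, o1965), (o14, o422), (o256, o949), (o12, o3121), (o154, o53), (o243, o1364)], 55, .inner [2, 1, 3, 2, 4, 3, 2, 5, 7, 8, 4, 3, 7, 2, 3, 4, 1, 2, 3, 7, 8, 5, 4, 0, 1, 2, 3, 7, 6, 3, 4, 5, 2, 3, 0, 2, 4, 3, 2, 5, 4, 3, 6, 7, 3, 2, 1, 0, 4, 5, 8, 7, 3, 2, 1, 4, 3, 2, 7, 3, 4, 8, 7, 5, 2, 3, 4, 2, 3, 1, 2]⟩,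
  ⟨[(o10, o10), (o0, o0), (o215, o215), (o1965, o1965), (o14, o422), (o256, o949), (o12, o3121), (o154, o53), (o243, o3383)], 55, .inner [7, 8, 6, 5, 4, 2, 3, 7, 1, 2, 3, 4, 0, 1, 2, 3, 7, 8, 5, 6, 4, 5, 3, 4, 2, 3, 7, 3, 4, 2, 3, 1, 0, 2, 1, 3, 2, 4, 3, 7, 3, 2, 4, 3, 5, 4, 6, 5, 8, 7, 3, 2, 1, 0, 4, 3, 2, 1, 7, 3, 2, 4, 5, 6, 8, 7]⟩,
  ⟨[(o10, o10), (o0, o0), (o215, o215), (o1965, o1965), (o14, o422), (o256, o949), (o12, o3121), (o154, o109)], 55, .node 7 55 []⟩,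
  ⟨[(o10, o10), (o0, o0), (o215, o215), (o1965, o1965), (o14, o422), (o256, o949), (o12, o3122)], 55, .node 4 55 [⟨o52, [(52, [])], 1805⟩]⟩,
  ⟨[(o10, o10), (o0, o0), (o215, o215), (o1965, o1965), (o14, o422), (o256, o949), (o12, o3122), (o154, o52)], 55, .node 7 55 [⟨o1363, [(1363, [])], 1806⟩,
      ⟨o3384, [(3384, [])], 1807⟩]⟩,
  ⟨[(o10, o10), (o0, o0), (o215, o215), (o1965, o1965), (o14, o422), (o256, o949), (o12, o3122), (o154, o52), (o243, o1363)], 55, .inner [2, 4, 5, 6, 7, 3, 2, 4, 5, 6, 8, 7, 3, 4, 2, 3, 7, 8, 5, 1, 2, 3, 4, 0, 1, 2, 3, 7, 6, 2, 3, 4, 5, 4, 3, 1, 0, 2, 4, 1, 3, 4, 5, 4, 3, 2, 6, 7, 3, 2, 1, 0, 4, 3, 2, 1, 5, 8, 7, 3, 2, 4, 3, 7, 8, 6, 5, 4, 2, 3, 7, 6, 5, 4, 2]⟩,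
  ⟨[(o10, o10), (o0, o0), (o215, o215), (o1965, o1965), (o14, o422), (o256, o949), (o12, o3122), (o154, o52), (o243, o3384)], 55, .inner [4, 3, 2, 6, 7, 8, 3, 7, 4, 5, 3, 4, 2, 3, 7, 8, 6, 4, 5, 3, 4, 1, 2, 3, 7, 6, 5, 4, 2, 3, 0, 1, 0, 2, 4, 1, 0, 3, 2, 4, 5, 6, 7, 3, 2, 1, 4, 3, 5, 4, 6, 8, 7, 3, 2, 4, 3, 5, 4, 7, 3, 8, 7, 6, 2, 3, 4]⟩,
  ⟨[(o10, o10), (o0, o0), (o215, o215), (o1965, o1965), (o14, o422), (o256, o1274)], 55, .node 4 55 [⟨o295, [(295, [])], 1809⟩,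
      ⟨o296, [(296, [])], 1814⟩]⟩,
  ⟨[(o10, o10), (o0, o0), (o215, o215), (o1965, o1965), (o14, o422), (o256, o1274), (o154, o295)], 55, .node 2 55 [⟨o1528, [(1528, [])], 1810⟩,
      ⟨o3122, [(3122, [])], 1811⟩]⟩,
  ⟨[(o10, o10), (o0, o0), (o215, o215), (o1965, o1965), (o14, o422), (o256, o1274), (o154, o295), (o12, o1528)], 55, .node 7 55 []⟩,
  ⟨[(o10, o10), (o0, o0), (o215, o215), (o1965, o1965), (o14, o422), (o256, o1274), (o154, o295), (o12, o3122)], 55, .node 7 55 [⟨o1363, [(1363, [])], 1812⟩,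
      ⟨o3384, [(3384, [])], 1813⟩]⟩,
  ⟨[(o10, o10), (o0, o0), (o215, o215), (o1965, o1965), (o14, o422), (o256, o1274), (o154, o295), (o12, o3122), (o243, o1363)], 55, .inner [1, 2, 1, 0, 3, 2, 1, 4, 3, 2, 1, 5, 4, 3, 6, 7, 8, 3, 4, 2, 3, 7, 5, 6, 3, 4, 5, 2, 3, 4, 1, 2, 3, 7, 6, 3, 4, 5, 1, 2, 3, 1, 0, 2, 4, 1, 3, 2, 1, 5, 4, 3, 6, 7, 3, 2, 1, 4, 3, 2, 5, 4, 3, 6, 5, 7, 3, 2, 4, 3, 8, 7, 6, 3, 4, 5, 1, 2, 3, 4, 1, 2, 3, 0, 1, 2, 1]⟩,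
  ⟨[(o10, o10), (o0, o0), (o215, o215), (o1965, o1965), (o14, o422), (o256, o1274), (o154, o295), (o12, o3122), (o243, o3384)], 55, .inner [1, 2, 1, 0, 3, 2, 1, 4, 3, 2, 1, 0, 5, 4, 3, 7, 8, 2, 3, 7, 6, 4, 5, 2, 3, 4, 1, 2, 3, 7, 5, 6, 1, 2, 3, 4, 5, 3, 0, 1, 0, 2, 4, 1, 0, 3, 5, 4, 3, 2, 1, 6, 5, 7, 3, 2, 1, 4, 3, 2, 5, 4, 6, 7, 3, 2, 8, 7, 3, 4, 5, 0, 1, 2, 3, 4, 1, 2, 3, 0, 1, 2, 1]⟩,
  ⟨[(o10, o10), (o0, o0), (o215, o215), (o1965, o1965), (o14, o422), (o256, o1274), (o154, o296)], 55, .node 2 55 [⟨o366, [(366, [])], 1815⟩,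
      ⟨o3121, [(3121, [])], 1816⟩]⟩,
  ⟨[(o10, o10), (o0, o0), (o215, o215), (o1965, o1965), (o14, o422), (o256, o1274), (o154, o296), (o12, o366)], 55, .node 7 55 []⟩,
  ⟨[(o10, o10), (o0, o0), (o215, o215), (o1965, o1965), (o14, o422), (o256, o1274), (o154, o296), (o12, o3121)], 55, .node 7 55 [⟨o21, [(21, [])], 1817⟩,
      ⟨o88, [(88, [])], 1818⟩,
      ⟨o1364, [(1364, [])], 1819⟩,
      ⟨o3383, [(3383, [])], 1820⟩]⟩,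
  ⟨[(o10, o10), (o0, o0), (o215, o215), (o1965, o1965), (o14, o422), (o256, o1274), (o154, o296), (o12, o3121), (o243, o21)], 55, .bad [3, 4, 3] 21 21⟩,
  ⟨[(o10, o10), (o0, o0), (o215, o215), (o1965, o1965), (o14, o422), (o256, o1274), (o154, o296), (o12, o3121), (o243, o88)], 55, .bad [3, 4, 3] 88 88⟩,
  ⟨[(o10, o10), (o0, o0), (o215, o215), (o1965, o1965), (o14, o422), (o256, o1274), (o154, o296), (o12, o3121), (o243, o1364)], 55, .inner [1, 2, 1, 0, 6, 5, 4, 3, 7, 8, 3, 7, 2, 3, 4, 1, 2, 3, 7, 8, 5, 2, 3, 4, 0, 1, 2, 3, 7, 6, 4, 5, 4, 3, 0, 1, 0, 2, 4, 1, 0, 3, 4, 5, 4, 6, 7, 3, 2, 1, 0, 4, 3, 2, 5, 8, 7, 3, 2, 1, 4, 3, 2, 7, 3, 8, 7, 3, 4, 5, 6, 0, 1, 2, 1]⟩,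
  ⟨[(o10, o10), (o0, o0), (o215, o215), (o1965, o1965), (o14, o422), (o256, o1274), (o154, o296), (o12, o3121), (o243, o3383)], 55, .inner [7, 8, 3, 7, 4, 5, 3, 4, 2, 3, 7, 8, 1, 2, 3, 4, 0, 1, 2, 3, 7, 5, 6, 4, 5, 3, 0, 2, 4, 3, 5, 4, 6, 5, 7, 3, 2, 1, 0, 4, 3, 2, 1, 8, 7, 3, 2, 4, 3, 5, 4, 7, 3, 8, 7]⟩,
  ⟨[(o10, o10), (o0, o0), (o215, o215), (o1965, o1965), (o14, o422), (o256, o1570)], 55, .node 2 55 [⟨o11, [(11, [])], 1822⟩,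
      ⟨o12, [(12, [])], 1825⟩,
      ⟨o2631, [(2631, [])], 1828⟩,
      ⟨o2666, [(2666, [])], 1833⟩]⟩,
  ⟨[(o10, o10), (o0, o0), (o215, o215), (o1965, o1965), (o14, o422), (o256, o1570), (o12, o11)], 55, .node 4 55 [⟨o109, [(109, [])], 1823⟩,
      ⟨o2034, [(2034, [])], 1824⟩]⟩,
  ⟨[(o10, o10), (o0, o0), (o215, o215), (o1965, o1965), (o14, o422), (o256, o1570), (o12, o11), (o154, o109)], 55, .node 7 55 []⟩,
  ⟨[(o10, o10), (o0, o0), (o215, o215), (o1965, o1965), (o14, o422), (o256, o1570), (o12, o11), (o154, o2034)], 55, .node 7 55 []⟩,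
  ⟨[(o10, o10), (o0, o0), (o215, o215), (o1965, o1965), (o14, o422), (o256, o1570), (o12, o12)], 55, .node 4 55 [⟨o108, [(108, [])], 1826⟩,
      ⟨o2183, [(2183, [])], 1827⟩]⟩,
  ⟨[(o10, o10), (o0, o0), (o215, o215), (o1965, o1965), (o14, o422), (o256, o1570), (o12, o12), (o154, o108)], 55, .node 7 55 []⟩,
  ⟨[(o10, o10), (o0, o0), (o215, o215), (o1965, o1965), (o14, o422), (o256, o1570), (o12, o12), (o154, o2183)], 55, .node 7 55 []⟩,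
  ⟨[(o10, o10), (o0, o0), (o215, o215), (o1965, o1965), (o14, o422), (o256, o1570), (o12, o2631)], 55, .node 4 55 [⟨o109, [(109, [])], 1829⟩,
      ⟨o2034, [(2034, [])], 1830⟩]⟩,
  ⟨[(o10, o10), (o0, o0), (o215, o215), (o1965, o1965), (o14, o422), (o256, o1570), (o12, o2631), (o154, o109)], 55, .node 7 55 []⟩,
  ⟨[(o10, o10), (o0, o0), (o215, o215), (o1965, o1965), (o14, o422), (o256, o1570), (o12, o2631), (o154, o2034)], 55, .node 7 55 [⟨o1364, [(1364, [])], 1831⟩,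
      ⟨o3383, [(3383, [])], 1832⟩]⟩,
  ⟨[(o10, o10), (o0, o0), (o215, o215), (o1965, o1965), (o14, o422), (o256, o1570), (o12, o2631), (o154, o2034), (o243, o1364)], 55, .inner [2, 4, 3, 2, 5, 4, 3, 6, 7, 8, 3, 4, 2, 3, 7, 5, 1, 2, 3, 4, 0, 1, 2, 3, 7, 6, 1, 2, 3, 4, 5, 4, 3, 1, 0, 2, 4, 1, 3, 4, 5, 4, 3, 2, 1, 6, 7, 3, 2, 1, 0, 4, 3, 2, 1, 5, 7, 3, 2, 4, 3, 8, 7, 6, 3, 4, 5, 2, 3, 4, 2]⟩,
  ⟨[(o10, o10), (o0, o0), (o215, o215), (o1965, o1965), (o14, o422), (o256, o1570), (o12, o2631), (o154, o2034), (o243, o3383)], 55, .inner [1, 2, 1, 3, 6, 5, 4, 3, 7, 3, 2, 8, 7, 3, 4, 1, 2, 3, 7, 8, 5, 2, 3, 4, 0, 1, 2, 3, 7, 5, 6, 3, 4, 5, 4, 3, 0, 1, 0, 2, 4, 1, 0, 3, 4, 5, 4, 3, 6, 5, 7, 3, 2, 1, 0, 4, 3, 2, 5, 8, 7, 3, 2, 1, 4, 3, 7, 8, 2, 3, 7, 3, 4, 5, 6, 3, 1, 2, 1]⟩,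
  ⟨[(o10, o10), (o0, o0), (o215, o215), (o1965, o1965), (o14, o422), (o256, o1570), (o12, o2666)], 55, .node 4 55 [⟨o108, [(108, [])], 1834⟩,
      ⟨o2183, [(2183, [])], 1835⟩]⟩,
  ⟨[(o10, o10), (o0, o0), (o215, o215), (o1965, o1965), (o14, o422), (o256, o1570), (o12, o2666), (o154, o108)], 55, .node 7 55 []⟩,
  ⟨[(o10, o10), (o0, o0), (o215, o215), (o1965, o1965), (o14, o422), (o256, o1570), (o12, o2666), (o154, o2183)], 55, .node 7 55 [⟨o666, [(666, [])], 1836⟩,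
      ⟨o1363, [(1363, [])], 1837⟩,
      ⟨o2722, [(2722, [])], 1838⟩,
      ⟨o3384, [(3384, [])], 1839⟩]⟩,
  ⟨[(o10, o10), (o0, o0), (o215, o215), (o1965, o1965), (o14, o422), (o256, o1570), (o12, o2666), (o154, o2183), (o243, o666)], 55, .bad [3, 7, 3] 2666 2666⟩,
  ⟨[(o10, o10), (o0, o0), (o215, o215), (o1965, o1965), (o14, o422), (o256, o1570), (o12, o2666), (o154, o2183), (o243, o1363)], 55, .inner [2, 3, 4, 3, 2, 7, 3, 4, 2, 3, 7, 5, 6, 4, 5, 3, 4, 2, 3, 7, 8, 3, 4, 1, 2, 3, 7, 5, 4, 3, 0, 1, 0, 2, 4, 1, 0, 3, 4, 5, 7, 3, 2, 1, 4, 3, 8, 7, 3, 2, 4, 3, 5, 4, 6, 5, 7, 3, 2, 4, 3, 7, 2, 3, 4, 3, 2]⟩,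
  ⟨[(o10, o10), (o0, o0), (o215, o215), (o1965, o1965), (o14, o422), (o256, o1570), (o12, o2666), (o154, o2183), (o243, o2722)], 55, .bad [3, 7, 3] 2666 2666⟩,
  ⟨[(o10, o10), (o0, o0), (o215, o215), (o1965, o1965), (o14, o422), (o256, o1570), (o12, o2666), (o154, o2183), (o243, o3384)], 55, .inner [1, 0, 6, 5, 7, 3, 2, 1, 0, 4, 3, 2, 8, 7, 3, 4, 2, 3, 7, 8, 5, 4, 3, 7, 6, 5, 2, 3, 4, 1, 2, 3, 7, 2, 3, 4, 5, 4, 3, 1, 0, 2, 4, 1, 3, 4, 5, 4, 3, 2, 7, 3, 2, 1, 4, 3, 2, 5, 6, 7, 3, 4, 5, 8, 7, 3, 2, 4, 3, 7, 8, 2, 3, 4, 0, 1, 2, 3, 7, 5, 6, 0, 1]⟩,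
  ⟨[(o10, o10), (o0, o0), (o215, o215), (o1965, o1965), (o14, o422), (o256, o1571)], 55, .node 2 55 [⟨o11, [(11, [])], 1841⟩,
      ⟨o12, [(12, [])], 1844⟩,
      ⟨o2631, [(2631, [])], 1847⟩,
      ⟨o2666, [(2666, [])], 1852⟩]⟩,
  ⟨[(o10, o10), (o0, o0), (o215, o215), (o1965, o1965), (o14, o422), (o256, o1571), (o12, o11)], 55, .node 4 55 [⟨o364, [(364, [])], 1842⟩,
      ⟨o2033, [(2033, [])], 1843⟩]⟩,
  ⟨[(o10, o10), (o0, o0), (o215, o215), (o1965, o1965), (o14, o422), (o256, o1571), (o12, o11), (o154, o364)], 55, .node 7 55 []⟩,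
  ⟨[(o10, o10), (o0, o0), (o215, o215), (o1965, o1965), (o14, o422), (o256, o1571), (o12, o11), (o154, o2033)], 55, .node 7 55 []⟩,
  ⟨[(o10, o10), (o0, o0), (o215, o215), (o1965, o1965), (o14, o422), (o256, o1571), (o12, o12)], 55, .node 4 55 [⟨o365, [(365, [])], 1845⟩,
      ⟨o2200, [(2200, [])], 1846⟩]⟩,
  ⟨[(o10, o10), (o0, o0), (o215, o215), (o1965, o1965), (o14, o422), (o256, o1571), (o12, o12), (o154, o365)], 55, .node 7 55 []⟩,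
  ⟨[(o10, o10), (o0, o0), (o215, o215), (o1965, o1965), (o14, o422), (o256, o1571), (o12, o12), (o154, o2200)], 55, .node 7 55 []⟩,
  ⟨[(o10, o10), (o0, o0), (o215, o215), (o1965, o1965), (o14, o422), (o256, o1571), (o12, o2631)], 55, .node 4 55 [⟨o364, [(364, [])], 1848⟩,
      ⟨o2033, [(2033, [])], 1849⟩]⟩,
  ⟨[(o10, o10), (o0, o0), (o215, o215), (o1965, o1965), (o14, o422), (o256, o1571), (o12, o2631), (o154, o364)], 55, .node 7 55 []⟩,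
  ⟨[(o10, o10), (o0, o0), (o215, o215), (o1965, o1965), (o14, o422), (o256, o1571), (o12, o2631), (o154, o2033)], 55, .node 7 55 [⟨o1364, [(1364, [])], 1850⟩,
      ⟨o3383, [(3383, [])], 1851⟩]⟩,
  ⟨[(o10, o10), (o0, o0), (o215, o215), (o1965, o1965), (o14, o422), (o256, o1571), (o12, o2631), (o154, o2033), (o243, o1364)], 55, .inner [4, 3, 2, 1, 0, 5, 4, 3, 7, 8, 2, 3, 7, 4, 5, 2, 3, 4, 1, 2, 3, 7, 5, 6, 1, 2, 3, 4, 5, 3, 0, 1, 0, 2, 4, 1, 0, 3, 5, 4, 3, 2, 1, 6, 5, 7, 3, 2, 1, 4, 3, 2, 5, 4, 7, 3, 2, 8, 7, 3, 4, 5, 0, 1, 2, 3, 4]⟩,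
  ⟨[(o10, o10), (o0, o0), (o215, o215), (o1965, o1965), (o14, o422), (o256, o1571), (o12, o2631), (o154, o2033), (o243, o3383)], 55, .inner [4, 3, 2, 1, 5, 4, 3, 7, 8, 3, 4, 2, 3, 7, 5, 6, 3, 4, 5, 2, 3, 4, 1, 2, 3, 7, 6, 3, 4, 5, 1, 2, 3, 1, 0, 2, 4, 1, 3, 2, 1, 5, 4, 3, 6, 7, 3, 2, 1, 4, 3, 2, 5, 4, 3, 6, 5, 7, 3, 2, 4, 3, 8, 7, 3, 4, 5, 1, 2, 3, 4]⟩,
  ⟨[(o10, o10), (o0, o0), (o215, o215), (o1965, o1965), (o14, o422), (o256, o1571), (o12, o2666)], 55, .node 4 55 [⟨o365, [(365, [])], 1853⟩,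
      ⟨o2200, [(2200, [])], 1854⟩]⟩,
  ⟨[(o10, o10), (o0, o0), (o215, o215), (o1965, o1965), (o14, o422), (o256, o1571), (o12, o2666), (o154, o365)], 55, .node 7 55 []⟩,
  ⟨[(o10, o10), (o0, o0), (o215, o215), (o1965, o1965), (o14, o422), (o256, o1571), (o12, o2666), (o154, o2200)], 55, .node 7 55 [⟨o666, [(666, [])], 1855⟩,
      ⟨o1363, [(1363, [])], 1856⟩,
      ⟨o2722, [(2722, [])], 1857⟩,
      ⟨o3384, [(3384, [])], 1858⟩]⟩,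
  ⟨[(o10, o10), (o0, o0), (o215, o215), (o1965, o1965), (o14, o422), (o256, o1571), (o12, o2666), (o154, o2200), (o243, o666)], 55, .bad [3, 7, 3] 2666 2666⟩,
  ⟨[(o10, o10), (o0, o0), (o215, o215), (o1965, o1965), (o14, o422), (o256, o1571), (o12, o2666), (o154, o2200), (o243, o1363)], 55, .inner [2, 3, 4, 5, 1, 2, 3, 4, 0, 1, 2, 3, 7, 8, 3, 7, 4, 5, 3, 4, 1, 2, 3, 7, 6, 5, 4, 3, 0, 1, 0, 2, 1, 0, 3, 4, 5, 6, 7, 3, 2, 1, 4, 3, 5, 4, 7, 3, 8, 7, 3, 2, 1, 0, 4, 3, 2, 1, 5, 4, 3, 2]⟩,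
  ⟨[(o10, o10), (o0, o0), (o215, o215), (o1965, o1965), (o14, o422), (o256, o1571), (o12, o2666), (o154, o2200), (o243, o2722)], 55, .bad [3, 7, 3] 2666 2666⟩,
  ⟨[(o10, o10), (o0, o0), (o215, o215), (o1965, o1965), (o14, o422), (o256, o1571), (o12, o2666), (o154, o2200), (o243, o3384)], 55, .inner [4, 5, 3, 4, 2, 3, 7, 8, 3, 7, 1, 2, 3, 4, 0, 1, 2, 3, 7, 5, 6, 4, 5, 3, 0, 1, 0, 2, 4, 1, 0, 3, 5, 4, 6, 5, 7, 3, 2, 1, 0, 4, 3, 2, 1, 7, 3, 8, 7, 3, 2, 4, 3, 5, 4]⟩,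
  ⟨[(o10, o10), (o0, o0), (o215, o215), (o1965, o1965), (o14, o520)], 51, .node 2 56 [⟨o189, [(189, [])], 1860⟩,
      ⟨o190, [(190, [])], 1869⟩,
      ⟨o252, [(252, [])], 1879⟩,
      ⟨o255, [(255, [])], 1889⟩,
      ⟨o522, [(522, [])], 1898⟩,
      ⟨o523, [(523, [])], 1909⟩,
      ⟨o1675, [(1675, [])], 1920⟩,
      ⟨o1676, [(1676, [])], 1931⟩]⟩,
  ⟨[(o10, o10), (o0, o0), (o215, o215), (o1965, o1965), (o14, o520), (o12, o189)], 56, .node 4 56 [⟨o393, [(393, [])], 1861⟩,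
      ⟨o599, [(599, [])], 1865⟩]⟩,
  ⟨[(o10, o10), (o0, o0), (o215, o215), (o1965, o1965), (o14, o520), (o12, o189), (o154, o393)], 56, .node 6 56 [⟨o3341, [(3341, [])], 1862⟩]⟩,
  ⟨[(o10, o10), (o0, o0), (o215, o215), (o1965, o1965), (o14, o520), (o12, o189), (o154, o393), (o256, o3341)], 56, .node 7 56 [⟨o784, [(784, [])], 1863⟩,
      ⟨o1483, [(1483, [])], 1864⟩]⟩,
  ⟨[(o10, o10), (o0, o0), (o215, o215), (o1965, o1965), (o14, o520), (o12, o189), (o154, o393), (o256, o3341), (o243, o784)], 56, .inner [1, 0, 4, 6, 5, 4, 3, 7, 3, 8, 4, 2, 3, 7, 3, 4, 5, 1, 2, 3, 4, 0, 1, 2, 3, 7, 5, 6, 2, 3, 4, 5, 2, 3, 0, 1, 0, 2, 4, 1, 0, 3, 2, 5, 4, 3, 2, 6, 5, 7, 3, 2, 1, 0, 4, 3, 2, 1, 5, 4, 3, 7, 3, 2, 4, 8, 3, 7, 3, 4, 5, 6, 4, 0, 1]⟩,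
  ⟨[(o10, o10), (o0, o0), (o215, o215), (o1965, o1965), (o14, o520), (o12, o189), (o154, o393), (o256, o3341), (o243, o1483)], 56, .inner [1, 4, 3, 5, 6, 5, 4, 3, 7, 8, 2, 3, 7, 4, 5, 2, 3, 4, 1, 2, 3, 7, 6, 2, 3, 4, 5, 4, 3, 1, 0, 2, 4, 1, 3, 4, 5, 4, 3, 2, 6, 7, 3, 2, 1, 4, 3, 2, 5, 4, 7, 3, 2, 8, 7, 3, 4, 5, 6, 5, 3, 4, 1]⟩,
  ⟨[(o10, o10), (o0, o0), (o215, o215), (o1965, o1965), (o14, o520), (o12, o189), (o154, o599)], 56, .node 6 56 [⟨o3137, [(3137, [])], 1866⟩]⟩,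
  ⟨[(o10, o10), (o0, o0), (o215, o215), (o1965, o1965), (o14, o520), (o12, o189), (o154, o599), (o256, o3137)], 56, .node 7 56 [⟨o784, [(784, [])], 1867⟩,
      ⟨o1483, [(1483, [])], 1868⟩]⟩,
  ⟨[(o10, o10), (o0, o0), (o215, o215), (o1965, o1965), (o14, o520), (o12, o189), (o154, o599), (o256, o3137), (o243, o784)], 56, .inner [2, 1, 0, 3, 4, 3, 2, 1, 5, 4, 7, 3, 2, 1, 4, 8, 7, 3, 4, 2, 3, 7, 8, 3, 7, 5, 6, 4, 5, 3, 4, 1, 2, 3, 7, 4, 5, 1, 2, 3, 0, 1, 0, 2, 4, 1, 0, 3, 2, 1, 5, 4, 7, 3, 2, 1, 4, 3, 5, 4, 6, 5, 7, 3, 8, 7, 3, 2, 4, 3, 7, 8, 4, 1, 2, 3, 7, 4, 5, 1, 2, 3, 4, 3, 0, 1, 2]⟩,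
  ⟨[(o10, o10), (o0, o0), (o215, o215), (o1965, o1965), (o14, o520), (o12, o189), (o154, o599), (o256, o3137), (o243, o1483)], 56, .inner [6, 5, 4, 3, 7, 8, 3, 4, 5, 1, 2, 3, 4, 0, 1, 2, 3, 7, 5, 6, 4, 5, 4, 3, 0, 1, 0, 2, 4, 1, 0, 3, 4, 5, 4, 6, 5, 7, 3, 2, 1, 0, 4, 3, 2, 1, 5, 4, 3, 8, 7, 3, 4, 5, 6]⟩,
  ⟨[(o10, o10), (o0, o0), (o215, o215), (o1965, o1965), (o14, o520), (o12, o190)], 56, .node 6 56 [⟨o3137, [(3137, [])], 1870⟩,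
      ⟨o3341, [(3341, [])], 1875⟩]⟩,
  ⟨[(o10, o10), (o0, o0), (o215, o215), (o1965, o1965), (o14, o520), (o12, o190), (o256, o3137)], 56, .node 4 56 [⟨o1530, [(1530, [])], 1871⟩,
      ⟨o3367, [(3367, [])], 1874⟩]⟩,
  ⟨[(o10, o10), (o0, o0), (o215, o215), (o1965, o1965), (o14, o520), (o12, o190), (o256, o3137), (o154, o1530)], 56, .node 7 56 [⟨o1566, [(1566, [])], 1872⟩,
      ⟨o1762, [(1762, [])], 1873⟩]⟩,
  ⟨[(o10, o10), (o0, o0), (o215, o215), (o1965, o1965), (o14, o520), (o12, o190), (o256, o3137), (o154, o1530), (o243, o1566)], 56, .inner [6, 5, 4, 3, 7, 8, 3, 4, 5, 1, 2, 3, 4, 0, 1, 2, 3, 7, 5, 6, 4, 5, 2, 3, 4, 1, 2, 3, 0, 1, 0, 2, 1, 0, 3, 2, 1, 4, 3, 2, 5, 4, 6, 5, 7, 3, 2, 1, 0, 4, 3, 2, 1, 5, 4, 3, 8, 7, 3, 4, 5, 6]⟩,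
  ⟨[(o10, o10), (o0, o0), (o215, o215), (o1965, o1965), (o14, o520), (o12, o190), (o256, o3137), (o154, o1530), (o243, o1762)], 56, .inner [1, 0, 2, 1, 0, 6, 7, 8, 5, 4, 3, 7, 2, 3, 4, 1, 2, 3, 7, 8, 5, 4, 0, 1, 2, 3, 7, 6, 4, 5, 2, 3, 0, 2, 4, 3, 2, 5, 4, 6, 7, 3, 2, 1, 0, 4, 5, 8, 7, 3, 2, 1, 4, 3, 2, 7, 3, 4, 5, 8, 7, 6, 0, 1, 2, 0, 1]⟩,
  ⟨[(o10, o10), (o0, o0), (o215, o215), (o1965, o1965), (o14, o520), (o12, o190), (o256, o3137), (o154, o3367)], 56, .node 7 56 []⟩,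
  ⟨[(o10, o10), (o0, o0), (o215, o215), (o1965, o1965), (o14, o520), (o12, o190), (o256, o3341)], 56, .node 4 56 [⟨o482, [(482, [])], 1876⟩]⟩,
  ⟨[(o10, o10), (o0, o0), (o215, o215), (o1965, o1965), (o14, o520), (o12, o190), (o256, o3341), (o154, o482)], 56, .node 7 56 [⟨o1566, [(1566, [])], 1877⟩,
      ⟨o1762, [(1762, [])], 1878⟩]⟩,
  ⟨[(o10, o10), (o0, o0), (o215, o215), (o1965, o1965), (o14, o520), (o12, o190), (o256, o3341), (o154, o482), (o243, o1566)], 56, .inner [1, 0, 6, 5, 4, 3, 7, 8, 3, 4, 2, 3, 7, 5, 6, 4, 5, 3, 4, 1, 2, 3, 7, 6, 1, 2, 3, 4, 5, 3, 0, 1, 0, 2, 4, 1, 0, 3, 5, 4, 3, 2, 1, 6, 7, 3, 2, 1, 4, 3, 5, 4, 6, 5, 7, 3, 2, 4, 3, 8, 7, 3, 4, 5, 6, 0, 1]⟩,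
  ⟨[(o10, o10), (o0, o0), (o215, o215), (o1965, o1965), (o14, o520), (o12, o190), (o256, o3341), (o154, o482), (o243, o1762)], 56, .inner [4, 3, 2, 5, 4, 3, 7, 8, 3, 4, 2, 3, 7, 5, 1, 2, 3, 4, 0, 1, 2, 3, 7, 5, 6, 4, 5, 2, 3, 1, 0, 2, 4, 1, 3, 2, 5, 4, 6, 5, 7, 3, 2, 1, 0, 4, 3, 2, 1, 5, 7, 3, 2, 4, 3, 8, 7, 3, 4, 5, 2, 3, 4]⟩,
  ⟨[(o10, o10), (o0, o0), (o215, o215), (o1965, o1965), (o14, o520), (o12, o252)], 56, .node 6 56 [⟨o2630, [(2630, [])], 1880⟩,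
      ⟨o2641, [(2641, [])], 1885⟩]⟩,
  ⟨[(o10, o10), (o0, o0), (o215, o215), (o1965, o1965), (o14, o520), (o12, o252), (o256, o2630)], 56, .node 4 56 [⟨o860, [(860, [])], 1881⟩,
      ⟨o2642, [(2642, [])], 1882⟩]⟩,
  ⟨[(o10, o10), (o0, o0), (o215, o215), (o1965, o1965), (o14, o520), (o12, o252), (o256, o2630), (o154, o860)], 56, .node 7 56 []⟩,
  ⟨[(o10, o10), (o0, o0), (o215, o215), (o1965, o1965), (o14, o520), (o12, o252), (o256, o2630), (o154, o2642)], 56, .node 7 56 [⟨o243, [(243, [])], 1883⟩,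
      ⟨o253, [(253, [])], 1884⟩]⟩,
  ⟨[(o10, o10), (o0, o0), (o215, o215), (o1965, o1965), (o14, o520), (o12, o252), (o256, o2630), (o154, o2642), (o243, o243)], 56, .inner [6, 5, 1, 2, 3, 4, 0, 1, 2, 3, 7, 8, 3, 4, 2, 3, 7, 3, 4, 2, 3, 1, 0, 2, 1, 3, 2, 4, 3, 7, 3, 2, 4, 3, 8, 7, 3, 2, 1, 0, 4, 3, 2, 1, 5, 6]⟩,
  ⟨[(o10, o10), (o0, o0), (o215, o215), (o1965, o1965), (o14, o520), (o12, o252), (o256, o2630), (o154, o2642), (o243, o253)], 56, .inner [1, 2, 3, 6, 7, 8, 5, 4, 3, 7, 2, 3, 4, 1, 2, 3, 7, 8, 5, 4, 0, 1, 2, 3, 7, 2, 3, 4, 5, 3, 0, 2, 4, 3, 5, 4, 3, 2, 7, 3, 2, 1, 0, 4, 5, 8, 7, 3, 2, 1, 4, 3, 2, 7, 3, 4, 5, 8, 7, 6, 3, 2, 1]⟩,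
  ⟨[(o10, o10), (o0, o0), (o215, o215), (o1965, o1965), (o14, o520), (o12, o252), (o256, o2641)], 56, .node 4 56 [⟨o2384, [(2384, [])], 1886⟩]⟩,
  ⟨[(o10, o10), (o0, o0), (o215, o215), (o1965, o1965), (o14, o520), (o12, o252), (o256, o2641), (o154, o2384)], 56, .node 7 56 [⟨o243, [(243, [])], 1887⟩,
      ⟨o253, [(253, [])], 1888⟩]⟩,
  ⟨[(o10, o10), (o0, o0), (o215, o215), (o1965, o1965), (o14, o520), (o12, o252), (o256, o2641), (o154, o2384), (o243, o243)], 56, .inner [4, 5, 3, 4, 2, 3, 7, 8, 3, 4, 2, 3, 7, 5, 6, 4, 5, 3, 0, 2, 4, 3, 5, 4, 6, 5, 7, 3, 2, 4, 3, 8, 7, 3, 2, 4, 3, 5, 4]⟩,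
  ⟨[(o10, o10), (o0, o0), (o215, o215), (o1965, o1965), (o14, o520), (o12, o252), (o256, o2641), (o154, o2384), (o243, o253)], 56, .inner [4, 7, 3, 2, 4, 3, 5, 8, 7, 3, 2, 4, 3, 7, 8, 1, 2, 3, 7, 5, 6, 4, 5, 3, 4, 0, 1, 2, 3, 7, 3, 4, 5, 1, 2, 3, 0, 1, 0, 2, 4, 1, 0, 3, 2, 1, 5, 4, 3, 7, 3, 2, 1, 0, 4, 3, 5, 4, 6, 5, 7, 3, 2, 1, 8, 7, 3, 4, 2, 3, 7, 8, 5, 3, 4, 2, 3, 7, 4]⟩,
  ⟨[(o10, o10), (o0, o0), (o215, o215), (o1965, o1965), (o14, o520), (o12, o255)], 56, .node 4 56 [⟨o2383, [(2383, [])], 1890⟩,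
      ⟨o2550, [(2550, [])], 1894⟩]⟩,
  ⟨[(o10, o10), (o0, o0), (o215, o215), (o1965, o1965), (o14, o520), (o12, o255), (o154, o2383)], 56, .node 6 56 [⟨o2641, [(2641, [])], 1891⟩]⟩,
  ⟨[(o10, o10), (o0, o0), (o215, o215), (o1965, o1965), (o14, o520), (o12, o255), (o154, o2383), (o256, o2641)], 56, .node 7 56 [⟨o9, [(9, [])], 1892⟩,
      ⟨o244, [(244, [])], 1893⟩]⟩,
  ⟨[(o10, o10), (o0, o0), (o215, o215), (o1965, o1965), (o14, o520), (o12, o255), (o154, o2383), (o256, o2641), (o243, o9)], 56, .inner [2, 3, 4, 3, 2, 1, 0, 5, 4, 3, 7, 8, 3, 4, 2, 3, 7, 5, 6, 4, 5, 3, 4, 1, 2, 3, 7, 4, 5, 1, 2, 3, 0, 1, 0, 2, 4, 1, 0, 3, 2, 1, 5, 4, 7, 3, 2, 1, 4, 3, 5, 4, 6, 5, 7, 3, 2, 4, 3, 8, 7, 3, 4, 5, 0, 1, 2, 3, 4, 3, 2]⟩,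
  ⟨[(o10, o10), (o0, o0), (o215, o215), (o1965, o1965), (o14, o520), (o12, o255), (o154, o2383), (o256, o2641), (o243, o244)], 56, .inner [2, 1, 3, 4, 6, 7, 3, 8, 4, 2, 3, 7, 5, 6, 3, 4, 5, 1, 2, 3, 4, 0, 1, 2, 3, 7, 3, 4, 5, 1, 2, 3, 0, 1, 0, 2, 4, 1, 0, 3, 2, 1, 5, 4, 3, 7, 3, 2, 1, 0, 4, 3, 2, 1, 5, 4, 3, 6, 5, 7, 3, 2, 4, 8, 3, 7, 6, 4, 3, 1, 2]⟩,
  ⟨[(o10, o10), (o0, o0), (o215, o215), (o1965, o1965), (o14, o520), (o12, o255), (o154, o2550)], 56, .node 6 56 [⟨o2630, [(2630, [])], 1895⟩]⟩,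
  ⟨[(o10, o10), (o0, o0), (o215, o215), (o1965, o1965), (o14, o520), (o12, o255), (o154, o2550), (o256, o2630)], 56, .node 7 56 [⟨o9, [(9, [])], 1896⟩,
      ⟨o244, [(244, [])], 1897⟩]⟩,
  ⟨[(o10, o10), (o0, o0), (o215, o215), (o1965, o1965), (o14, o520), (o12, o255), (o154, o2550), (o256, o2630), (o243, o9)], 56, .inner [1, 0, 4, 6, 5, 4, 3, 7, 8, 4, 2, 3, 7, 4, 5, 2, 3, 4, 1, 2, 3, 7, 4, 5, 0, 1, 2, 3, 0, 1, 0, 2, 4, 1, 0, 3, 2, 1, 0, 5, 4, 7, 3, 2, 1, 4, 3, 2, 5, 4, 7, 3, 2, 4, 8, 7, 3, 4, 5, 6, 4, 0, 1]⟩,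
  ⟨[(o10, o10), (o0, o0), (o215, o215), (o1965, o1965), (o14, o520), (o12, o255), (o154, o2550), (o256, o2630), (o243, o244)], 56, .inner [6, 5, 4, 3, 7, 8, 5, 3, 4, 2, 3, 7, 2, 3, 4, 5, 2, 3, 0, 2, 4, 3, 2, 5, 4, 3, 2, 7, 3, 2, 4, 3, 5, 8, 7, 3, 4, 5, 6]⟩,
  ⟨[(o10, o10), (o0, o0), (o215, o215), (o1965, o1965), (o14, o520), (o12, o522)], 56, .node 6 56 [⟨o318, [(318, [])], 1899⟩,
      ⟨o428, [(428, [])], 1904⟩]⟩,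
  ⟨[(o10, o10), (o0, o0), (o215, o215), (o1965, o1965), (o14, o520), (o12, o522), (o256, o318)], 56, .node 4 56 [⟨o482, [(482, [])], 1900⟩,
      ⟨o601, [(601, [])], 1903⟩]⟩,
  ⟨[(o10, o10), (o0, o0), (o215, o215), (o1965, o1965), (o14, o520), (o12, o522), (o256, o318), (o154, o482)], 56, .node 7 56 [⟨o243, [(243, [])], 1901⟩,
      ⟨o253, [(253, [])], 1902⟩]⟩,
  ⟨[(o10, o10), (o0, o0), (o215, o215), (o1965, o1965), (o14, o520), (o12, o522), (o256, o318), (o154, o482), (o243, o243)], 56, .inner [6, 5, 4, 3, 7, 8, 1, 2, 3, 7, 4, 5, 6, 3, 4, 5, 2, 3, 4, 1, 2, 3, 0, 2, 3, 2, 1, 4, 3, 2, 5, 4, 3, 6, 5, 4, 7, 3, 2, 1, 8, 7, 3, 4, 5, 6]⟩,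
  ⟨[(o10, o10), (o0, o0), (o215, o215), (o1965, o1965), (o14, o520), (o12, o522), (o256, o318), (o154, o482), (o243, o253)], 56, .inner [6, 5, 4, 3, 7, 8, 1, 2, 3, 7, 2, 3, 4, 5, 6, 1, 2, 3, 4, 5, 0, 1, 0, 2, 4, 1, 0, 5, 4, 3, 2, 1, 6, 5, 4, 3, 2, 7, 3, 2, 1, 8, 7, 3, 4, 5, 6]⟩,
  ⟨[(o10, o10), (o0, o0), (o215, o215), (o1965, o1965), (o14, o520), (o12, o522), (o256, o318), (o154, o601)], 56, .node 7 56 []⟩,
  ⟨[(o10, o10), (o0, o0), (o215, o215), (o1965, o1965), (o14, o520), (o12, o522), (o256, o428)], 56, .node 4 56 [⟨o860, [(860, [])], 1905⟩,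
      ⟨o1530, [(1530, [])], 1906⟩]⟩,
  ⟨[(o10, o10), (o0, o0), (o215, o215), (o1965, o1965), (o14, o520), (o12, o522), (o256, o428), (o154, o860)], 56, .node 7 56 []⟩,
  ⟨[(o10, o10), (o0, o0), (o215, o215), (o1965, o1965), (o14, o520), (o12, o522), (o256, o428), (o154, o1530)], 56, .node 7 56 [⟨o243, [(243, [])], 1907⟩,
      ⟨o253, [(253, [])], 1908⟩]⟩,
  ⟨[(o10, o10), (o0, o0), (o215, o215), (o1965, o1965), (o14, o520), (o12, o522), (o256, o428), (o154, o1530), (o243, o243)], 56, .inner [6, 5, 4, 3, 7, 8, 1, 2, 3, 7, 4, 3, 2, 1, 0, 1, 2, 3, 4, 7, 3, 2, 1, 8, 7, 3, 4, 5, 6]⟩,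
  ⟨[(o10, o10), (o0, o0), (o215, o215), (o1965, o1965), (o14, o520), (o12, o522), (o256, o428), (o154, o1530), (o243, o253)], 56, .inner [6, 5, 4, 3, 7, 8, 1, 2, 3, 7, 2, 3, 4, 1, 2, 3, 0, 1, 0, 2, 1, 0, 3, 2, 1, 4, 3, 2, 7, 3, 2, 1, 8, 7, 3, 4, 5, 6]⟩,
  ⟨[(o10, o10), (o0, o0), (o215, o215), (o1965, o1965), (o14, o520), (o12, o523)], 56, .node 6 56 [⟨o318, [(318, [])], 1910⟩,
      ⟨o428, [(428, [])], 1915⟩]⟩,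
  ⟨[(o10, o10), (o0, o0), (o215, o215), (o1965, o1965), (o14, o520), (o12, o523), (o256, o318)], 56, .node 4 56 [⟨o393, [(393, [])], 1911⟩,
      ⟨o600, [(600, [])], 1914⟩]⟩,
  ⟨[(o10, o10), (o0, o0), (o215, o215), (o1965, o1965), (o14, o520), (o12, o523), (o256, o318), (o154, o393)], 56, .node 7 56 [⟨o9, [(9, [])], 1912⟩,
      ⟨o244, [(244, [])], 1913⟩]⟩,
  ⟨[(o10, o10), (o0, o0), (o215, o215), (o1965, o1965), (o14, o520), (o12, o523), (o256, o318), (o154, o393), (o243, o9)], 56, .inner [6, 5, 4, 3, 7, 8, 3, 4, 1, 2, 3, 7, 4, 5, 6, 1, 2, 3, 4, 5, 0, 1, 0, 2, 4, 1, 0, 5, 4, 3, 2, 1, 6, 5, 4, 7, 3, 2, 1, 4, 3, 8, 7, 3, 4, 5, 6]⟩,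
  ⟨[(o10, o10), (o0, o0), (o215, o215), (o1965, o1965), (o14, o520), (o12, o523), (o256, o318), (o154, o393), (o243, o244)], 56, .inner [4, 3, 2, 6, 7, 3, 2, 4, 3, 5, 8, 7, 3, 4, 2, 3, 7, 8, 6, 5, 1, 2, 3, 4, 0, 1, 2, 3, 7, 5, 6, 4, 5, 2, 3, 1, 0, 2, 4, 1, 3, 2, 5, 4, 6, 5, 7, 3, 2, 1, 0, 4, 3, 2, 1, 5, 6, 8, 7, 3, 2, 4, 3, 7, 8, 5, 3, 4, 2, 3, 7, 6, 2, 3, 4]⟩,
  ⟨[(o10, o10), (o0, o0), (o215, o215), (o1965, o1965), (o14, o520), (o12, o523), (o256, o318), (o154, o600)], 56, .node 7 56 []⟩,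
  ⟨[(o10, o10), (o0, o0), (o215, o215), (o1965, o1965), (o14, o520), (o12, o523), (o256, o428)], 56, .node 4 56 [⟨o599, [(599, [])], 1916⟩,
      ⟨o903, [(903, [])], 1919⟩]⟩,
  ⟨[(o10, o10), (o0, o0), (o215, o215), (o1965, o1965), (o14, o520), (o12, o523), (o256, o428), (o154, o599)], 56, .node 7 56 [⟨o9, [(9, [])], 1917⟩,
      ⟨o244, [(244, [])], 1918⟩]⟩,
  ⟨[(o10, o10), (o0, o0), (o215, o215), (o1965, o1965), (o14, o520), (o12, o523), (o256, o428), (o154, o599), (o243, o9)], 56, .inner [6, 5, 4, 3, 7, 8, 3, 4, 1, 2, 3, 7, 4, 1, 2, 3, 0, 1, 0, 2, 1, 0, 3, 2, 1, 4, 7, 3, 2, 1, 4, 3, 8, 7, 3, 4, 5, 6]⟩,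
  ⟨[(o10, o10), (o0, o0), (o215, o215), (o1965, o1965), (o14, o520), (o12, o523), (o256, o428), (o154, o599), (o243, o244)], 56, .inner [2, 3, 7, 8, 4, 3, 7, 2, 3, 4, 1, 2, 3, 7, 6, 5, 4, 3, 0, 1, 0, 2, 4, 1, 0, 3, 4, 5, 6, 7, 3, 2, 1, 4, 3, 2, 7, 3, 4, 8, 7, 3, 2]⟩,
  ⟨[(o10, o10), (o0, o0), (o215, o215), (o1965, o1965), (o14, o520), (o12, o523), (o256, o428), (o154, o903)], 56, .node 7 56 []⟩]

/-- Nodes. -/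
def nd15 : List ONode := [
  ⟨[(o10, o10), (o0, o0), (o215, o215), (o1965, o1965), (o14, o520), (o12, o1675)], 56, .node 6 56 [⟨o2185, [(2185, [])], 1921⟩,
      ⟨o2408, [(2408, [])], 1926⟩]⟩,
  ⟨[(o10, o10), (o0, o0), (o215, o215), (o1965, o1965), (o14, o520), (o12, o1675), (o256, o2185)], 56, .node 4 56 [⟨o2550, [(2550, [])], 1922⟩,
      ⟨o3370, [(3370, [])], 1925⟩]⟩,
  ⟨[(o10, o10), (o0, o0), (o215, o215), (o1965, o1965), (o14, o520), (o12, o1675), (o256, o2185), (o154, o2550)], 56, .node 7 56 [⟨o784, [(784, [])], 1923⟩,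
      ⟨o1483, [(1483, [])], 1924⟩]⟩,
  ⟨[(o10, o10), (o0, o0), (o215, o215), (o1965, o1965), (o14, o520), (o12, o1675), (o256, o2185), (o154, o2550), (o243, o784)], 56, .inner [1, 0, 4, 5, 6, 5, 4, 3, 7, 8, 2, 3, 7, 4, 5, 2, 3, 4, 1, 2, 3, 7, 5, 6, 1, 2, 3, 4, 5, 3, 0, 1, 0, 2, 4, 1, 0, 3, 5, 4, 3, 2, 1, 6, 5, 7, 3, 2, 1, 4, 3, 2, 5, 4, 7, 3, 2, 8, 7, 3, 4, 5, 6, 5, 4, 0, 1]⟩,
  ⟨[(o10, o10), (o0, o0), (o215, o215), (o1965, o1965), (o14, o520), (o12, o1675), (o256, o2185), (o154, o2550), (o243, o1483)], 56, .inner [1, 4, 5, 6, 5, 4, 3, 7, 8, 3, 4, 2, 3, 7, 5, 6, 3, 4, 5, 2, 3, 4, 1, 2, 3, 7, 6, 3, 4, 5, 1, 2, 3, 1, 0, 2, 4, 1, 3, 2, 1, 5, 4, 3, 6, 7, 3, 2, 1, 4, 3, 2, 5, 4, 3, 6, 5, 7, 3, 2, 4, 3, 8, 7, 3, 4, 5, 6, 5, 4, 1]⟩,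
  ⟨[(o10, o10), (o0, o0), (o215, o215), (o1965, o1965), (o14, o520), (o12, o1675), (o256, o2185), (o154, o3370)], 56, .node 7 56 []⟩,
  ⟨[(o10, o10), (o0, o0), (o215, o215), (o1965, o1965), (o14, o520), (o12, o1675), (o256, o2408)], 56, .node 4 56 [⟨o2383, [(2383, [])], 1927⟩,
      ⟨o3369, [(3369, [])], 1930⟩]⟩,
  ⟨[(o10, o10), (o0, o0), (o215, o215), (o1965, o1965), (o14, o520), (o12, o1675), (o256, o2408), (o154, o2383)], 56, .node 7 56 [⟨o784, [(784, [])], 1928⟩,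
      ⟨o1483, [(1483, [])], 1929⟩]⟩,
  ⟨[(o10, o10), (o0, o0), (o215, o215), (o1965, o1965), (o14, o520), (o12, o1675), (o256, o2408), (o154, o2383), (o243, o784)], 56, .inner [6, 5, 4, 3, 7, 8, 3, 7, 5, 1, 2, 3, 4, 0, 1, 2, 3, 7, 5, 6, 4, 5, 2, 3, 4, 1, 2, 3, 0, 1, 0, 2, 1, 0, 3, 2, 1, 4, 3, 2, 5, 4, 6, 5, 7, 3, 2, 1, 0, 4, 3, 2, 1, 5, 7, 3, 8, 7, 3, 4, 5, 6]⟩,
  ⟨[(o10, o10), (o0, o0), (o215, o215), (o1965, o1965), (o14, o520), (o12, o1675), (o256, o2408), (o154, o2383), (o243, o1483)], 56, .inner [6, 5, 4, 3, 7, 8, 3, 7, 5, 1, 2, 3, 4, 0, 1, 2, 3, 7, 5, 6, 4, 5, 4, 3, 0, 1, 0, 2, 4, 1, 0, 3, 4, 5, 4, 6, 5, 7, 3, 2, 1, 0, 4, 3, 2, 1, 5, 7, 3, 8, 7, 3, 4, 5, 6]⟩,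
  ⟨[(o10, o10), (o0, o0), (o215, o215), (o1965, o1965), (o14, o520), (o12, o1675), (o256, o2408), (o154, o3369)], 56, .node 7 56 []⟩,
  ⟨[(o10, o10), (o0, o0), (o215, o215), (o1965, o1965), (o14, o520), (o12, o1676)], 56, .node 6 56 [⟨o2185, [(2185, [])], 1932⟩,
      ⟨o2408, [(2408, [])], 1937⟩]⟩,
  ⟨[(o10, o10), (o0, o0), (o215, o215), (o1965, o1965), (o14, o520), (o12, o1676), (o256, o2185)], 56, .node 4 56 [⟨o2642, [(2642, [])], 1933⟩,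
      ⟨o3367, [(3367, [])], 1936⟩]⟩,
  ⟨[(o10, o10), (o0, o0), (o215, o215), (o1965, o1965), (o14, o520), (o12, o1676), (o256, o2185), (o154, o2642)], 56, .node 7 56 [⟨o1566, [(1566, [])], 1934⟩,
      ⟨o1762, [(1762, [])], 1935⟩]⟩,
  ⟨[(o10, o10), (o0, o0), (o215, o215), (o1965, o1965), (o14, o520), (o12, o1676), (o256, o2185), (o154, o2642), (o243, o1566)], 56, .inner [1, 0, 4, 6, 5, 4, 3, 7, 8, 3, 4, 2, 3, 7, 4, 5, 1, 2, 3, 4, 0, 1, 2, 3, 7, 5, 6, 3, 4, 5, 2, 3, 0, 1, 0, 2, 4, 1, 0, 3, 2, 5, 4, 3, 6, 5, 7, 3, 2, 1, 0, 4, 3, 2, 1, 5, 4, 7, 3, 2, 4, 3, 8, 7, 3, 4, 5, 6, 4, 0, 1]⟩,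
  ⟨[(o10, o10), (o0, o0), (o215, o215), (o1965, o1965), (o14, o520), (o12, o1676), (o256, o2185), (o154, o2642), (o243, o1762)], 56, .inner [4, 5, 7, 3, 2, 4, 3, 5, 8, 7, 3, 4, 2, 3, 7, 8, 7, 5, 1, 2, 3, 4, 0, 1, 2, 3, 7, 5, 6, 4, 5, 2, 3, 1, 0, 2, 4, 1, 3, 2, 5, 4, 6, 5, 7, 3, 2, 1, 0, 4, 3, 2, 1, 5, 7, 8, 7, 3, 2, 4, 3, 7, 8, 5, 3, 4, 2, 3, 7, 5, 4]⟩,
  ⟨[(o10, o10), (o0, o0), (o215, o215), (o1965, o1965), (o14, o520), (o12, o1676), (o256, o2185), (o154, o3367)], 56, .node 7 56 []⟩,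
  ⟨[(o10, o10), (o0, o0), (o215, o215), (o1965, o1965), (o14, o520), (o12, o1676), (o256, o2408)], 56, .node 4 56 [⟨o2384, [(2384, [])], 1938⟩,
      ⟨o3138, [(3138, [])], 1941⟩]⟩,
  ⟨[(o10, o10), (o0, o0), (o215, o215), (o1965, o1965), (o14, o520), (o12, o1676), (o256, o2408), (o154, o2384)], 56, .node 7 56 [⟨o1566, [(1566, [])], 1939⟩,
      ⟨o1762, [(1762, [])], 1940⟩]⟩,
  ⟨[(o10, o10), (o0, o0), (o215, o215), (o1965, o1965), (o14, o520), (o12, o1676), (o256, o2408), (o154, o2384), (o243, o1566)], 56, .inner [1, 2, 1, 6, 5, 7, 3, 2, 1, 0, 4, 3, 2, 1, 7, 3, 2, 4, 3, 7, 8, 5, 4, 3, 7, 6, 3, 4, 5, 2, 3, 4, 1, 2, 3, 7, 6, 2, 3, 4, 5, 1, 2, 3, 0, 1, 0, 2, 4, 1, 0, 3, 2, 1, 5, 4, 3, 2, 6, 7, 3, 2, 1, 4, 3, 2, 5, 4, 3, 6, 7, 3, 4, 5, 8, 7, 3, 4, 2, 3, 7, 1, 2, 3, 4, 0, 1, 2, 3, 7, 5, 6, 1, 2, 1]⟩,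
  ⟨[(o10, o10), (o0, o0), (o215, o215), (o1965, o1965), (o14, o520), (o12, o1676), (o256, o2408), (o154, o2384), (o243, o1762)], 56, .inner [1, 0, 6, 5, 4, 3, 7, 3, 4, 2, 3, 7, 1, 2, 3, 4, 0, 1, 2, 3, 7, 8, 5, 4, 2, 3, 7, 6, 4, 5, 2, 3, 0, 2, 4, 3, 2, 5, 4, 6, 7, 3, 2, 4, 5, 8, 7, 3, 2, 1, 0, 4, 3, 2, 1, 7, 3, 2, 4, 3, 7, 3, 4, 5, 6, 0, 1]⟩,
  ⟨[(o10, o10), (o0, o0), (o215, o215), (o1965, o1965), (o14, o520), (o12, o1676), (o256, o2408), (o154, o3138)], 56, .node 7 56 []⟩,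
  ⟨[(o10, o10), (o0, o0), (o215, o215), (o1965, o1965), (o14, o557)], 51, .node 6 55 [⟨o68, [(68, [])], 1943⟩,
      ⟨o143, [(143, [])], 1958⟩,
      ⟨o509, [(509, [])], 1969⟩,
      ⟨o548, [(548, [])], 1988⟩,
      ⟨o949, [(949, [])], 2007⟩,
      ⟨o1274, [(1274, [])], 2024⟩,
      ⟨o1570, [(1570, [])], 2037⟩,
      ⟨o1571, [(1571, [])], 2056⟩]⟩,
  ⟨[(o10, o10), (o0, o0), (o215, o215), (o1965, o1965), (o14, o557), (o256, o68)], 55, .node 2 55 [⟨o1302, [(1302, [])], 1944⟩,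
      ⟨o1568, [(1568, [])], 1948⟩,
      ⟨o1569, [(1569, [])], 1950⟩,
      ⟨o2201, [(2201, [])], 1953⟩]⟩,
  ⟨[(o10, o10), (o0, o0), (o215, o215), (o1965, o1965), (o14, o557), (o256, o68), (o12, o1302)], 55, .node 4 55 [⟨o2183, [(2183, [])], 1945⟩]⟩,
  ⟨[(o10, o10), (o0, o0), (o215, o215), (o1965, o1965), (o14, o557), (o256, o68), (o12, o1302), (o154, o2183)], 55, .node 7 55 [⟨o184, [(184, [])], 1946⟩,
      ⟨o185, [(185, [])], 1947⟩]⟩,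
  ⟨[(o10, o10), (o0, o0), (o215, o215), (o1965, o1965), (o14, o557), (o256, o68), (o12, o1302), (o154, o2183), (o243, o184)], 55, .inner [4, 5, 6, 3, 4, 5, 1, 2, 3, 4, 0, 1, 2, 3, 7, 8, 5, 6, 4, 5, 3, 4, 2, 3, 7, 3, 4, 2, 3, 1, 0, 2, 1, 3, 2, 4, 3, 7, 3, 2, 4, 3, 5, 4, 6, 5, 8, 7, 3, 2, 1, 0, 4, 3, 2, 1, 5, 4, 3, 6, 5, 4]⟩,
  ⟨[(o10, o10), (o0, o0), (o215, o215), (o1965, o1965), (o14, o557), (o256, o68), (o12, o1302), (o154, o2183), (o243, o185)], 55, .inner [1, 0, 2, 1, 3, 2, 4, 5, 6, 5, 4, 3, 7, 8, 3, 4, 2, 3, 7, 3, 4, 5, 2, 3, 4, 1, 2, 3, 7, 2, 3, 4, 5, 1, 2, 3, 0, 1, 0, 2, 4, 1, 0, 3, 2, 1, 5, 4, 3, 2, 7, 3, 2, 1, 4, 3, 2, 5, 4, 3, 7, 3, 2, 4, 3, 8, 7, 3, 4, 5, 6, 5, 4, 2, 3, 1, 2, 0, 1]⟩,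
  ⟨[(o10, o10), (o0, o0), (o215, o215), (o1965, o1965), (o14, o557), (o256, o68), (o12, o1568)], 55, .node 4 55 [⟨o2183, [(2183, [])], 1949⟩]⟩,
  ⟨[(o10, o10), (o0, o0), (o215, o215), (o1965, o1965), (o14, o557), (o256, o68), (o12, o1568), (o154, o2183)], 55, .node 7 55 []⟩,
  ⟨[(o10, o10), (o0, o0), (o215, o215), (o1965, o1965), (o14, o557), (o256, o68), (o12, o1569)], 55, .node 4 55 [⟨o2034, [(2034, [])], 1951⟩,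
      ⟨o3057, [(3057, [])], 1952⟩]⟩,
  ⟨[(o10, o10), (o0, o0), (o215, o215), (o1965, o1965), (o14, o557), (o256, o68), (o12, o1569), (o154, o2034)], 55, .node 7 55 []⟩,
  ⟨[(o10, o10), (o0, o0), (o215, o215), (o1965, o1965), (o14, o557), (o256, o68), (o12, o1569), (o154, o3057)], 55, .node 7 55 []⟩,
  ⟨[(o10, o10), (o0, o0), (o215, o215), (o1965, o1965), (o14, o557), (o256, o68), (o12, o2201)], 55, .node 4 55 [⟨o2034, [(2034, [])], 1954⟩,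
      ⟨o3057, [(3057, [])], 1957⟩]⟩,
  ⟨[(o10, o10), (o0, o0), (o215, o215), (o1965, o1965), (o14, o557), (o256, o68), (o12, o2201), (o154, o2034)], 55, .node 7 55 [⟨o26, [(26, [])], 1955⟩,
      ⟨o183, [(183, [])], 1956⟩]⟩,
  ⟨[(o10, o10), (o0, o0), (o215, o215), (o1965, o1965), (o14, o557), (o256, o68), (o12, o2201), (o154, o2034), (o243, o26)], 55, .inner [2, 1, 3, 7, 8, 3, 4, 2, 3, 7, 5, 6, 4, 5, 3, 4, 2, 3, 7, 1, 2, 3, 4, 5, 0, 1, 2, 3, 0, 1, 0, 2, 4, 1, 0, 3, 2, 1, 0, 5, 4, 3, 2, 1, 7, 3, 2, 4, 3, 5, 4, 6, 5, 7, 3, 2, 4, 3, 8, 7, 3, 1, 2]⟩,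
  ⟨[(o10, o10), (o0, o0), (o215, o215), (o1965, o1965), (o14, o557), (o256, o68), (o12, o2201), (o154, o2034), (o243, o183)], 55, .inner [1, 0, 2, 4, 5, 6, 3, 4, 5, 2, 3, 4, 1, 2, 3, 7, 8, 6, 4, 5, 3, 4, 2, 3, 7, 1, 2, 3, 0, 1, 0, 2, 4, 1, 0, 3, 2, 1, 7, 3, 2, 4, 3, 5, 4, 6, 8, 7, 3, 2, 1, 4, 3, 2, 5, 4, 3, 6, 5, 4, 2, 0, 1]⟩,
  ⟨[(o10, o10), (o0, o0), (o215, o215), (o1965, o1965), (o14, o557), (o256, o68), (o12, o2201), (o154, o3057)], 55, .node 7 55 []⟩,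
  ⟨[(o10, o10), (o0, o0), (o215, o215), (o1965, o1965), (o14, o557), (o256, o143)], 55, .node 4 55 [⟨o2033, [(2033, [])], 1959⟩,
      ⟨o2200, [(2200, [])], 1964⟩]⟩,
  ⟨[(o10, o10), (o0, o0), (o215, o215), (o1965, o1965), (o14, o557), (o256, o143), (o154, o2033)], 55, .node 2 55 [⟨o1569, [(1569, [])], 1960⟩,
      ⟨o2201, [(2201, [])], 1961⟩]⟩,
  ⟨[(o10, o10), (o0, o0), (o215, o215), (o1965, o1965), (o14, o557), (o256, o143), (o154, o2033), (o12, o1569)], 55, .node 7 55 []⟩,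
  ⟨[(o10, o10), (o0, o0), (o215, o215), (o1965, o1965), (o14, o557), (o256, o143), (o154, o2033), (o12, o2201)], 55, .node 7 55 [⟨o26, [(26, [])], 1962⟩,
      ⟨o183, [(183, [])], 1963⟩]⟩,
  ⟨[(o10, o10), (o0, o0), (o215, o215), (o1965, o1965), (o14, o557), (o256, o143), (o154, o2033), (o12, o2201), (o243, o26)], 55, .inner [2, 3, 7, 8, 3, 7, 6, 4, 5, 3, 4, 1, 2, 3, 7, 6, 5, 3, 4, 1, 2, 3, 0, 1, 0, 2, 1, 0, 3, 2, 1, 4, 3, 5, 6, 7, 3, 2, 1, 4, 3, 5, 4, 6, 7, 3, 8, 7, 3, 2]⟩,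
  ⟨[(o10, o10), (o0, o0), (o215, o215), (o1965, o1965), (o14, o557), (o256, o143), (o154, o2033), (o12, o2201), (o243, o183)], 55, .inner [2, 3, 7, 8, 3, 7, 6, 4, 5, 3, 4, 1, 2, 3, 7, 3, 4, 5, 6, 1, 2, 3, 4, 5, 4, 3, 0, 1, 0, 2, 4, 1, 0, 3, 4, 5, 4, 3, 2, 1, 6, 5, 4, 3, 7, 3, 2, 1, 4, 3, 5, 4, 6, 7, 3, 8, 7, 3, 2]⟩,
  ⟨[(o10, o10), (o0, o0), (o215, o215), (o1965, o1965), (o14, o557), (o256, o143), (o154, o2200)], 55, .node 2 55 [⟨o1302, [(1302, [])], 1965⟩,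
      ⟨o1568, [(1568, [])], 1968⟩]⟩,
  ⟨[(o10, o10), (o0, o0), (o215, o215), (o1965, o1965), (o14, o557), (o256, o143), (o154, o2200), (o12, o1302)], 55, .node 7 55 [⟨o184, [(184, [])], 1966⟩,
      ⟨o185, [(185, [])], 1967⟩]⟩,
  ⟨[(o10, o10), (o0, o0), (o215, o215), (o1965, o1965), (o14, o557), (o256, o143), (o154, o2200), (o12, o1302), (o243, o184)], 55, .inner [1, 0, 2, 1, 3, 2, 4, 6, 5, 4, 3, 7, 8, 2, 3, 7, 6, 4, 5, 2, 3, 4, 1, 2, 3, 7, 4, 5, 0, 1, 2, 3, 0, 1, 0, 2, 4, 1, 0, 3, 2, 1, 0, 5, 4, 7, 3, 2, 1, 4, 3, 2, 5, 4, 6, 7, 3, 2, 8, 7, 3, 4, 5, 6, 4, 2, 3, 1, 2, 0, 1]⟩,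
  ⟨[(o10, o10), (o0, o0), (o215, o215), (o1965, o1965), (o14, o557), (o256, o143), (o154, o2200), (o12, o1302), (o243, o185)], 55, .inner [6, 5, 1, 2, 3, 4, 0, 1, 2, 3, 7, 8, 5, 3, 4, 0, 1, 2, 3, 7, 6, 3, 4, 5, 2, 3, 0, 2, 4, 3, 2, 5, 4, 3, 6, 7, 3, 2, 1, 0, 4, 3, 5, 8, 7, 3, 2, 1, 0, 4, 3, 2, 1, 5, 6]⟩,
  ⟨[(o10, o10), (o0, o0), (o215, o215), (o1965, o1965), (o14, o557), (o256, o143), (o154, o2200), (o12, o1568)], 55, .node 7 55 []⟩,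
  ⟨[(o10, o10), (o0, o0), (o215, o215), (o1965, o1965), (o14, o557), (o256, o509)], 55, .node 2 55 [⟨o477, [(477, [])], 1970⟩,
      ⟨o511, [(511, [])], 1975⟩,
      ⟨o785, [(785, [])], 1982⟩,
      ⟨o786, [(786, [])], 1985⟩]⟩,
  ⟨[(o10, o10), (o0, o0), (o215, o215), (o1965, o1965), (o14, o557), (o256, o509), (o12, o477)], 55, .node 4 55 [⟨o52, [(52, [])], 1971⟩,
      ⟨o3056, [(3056, [])], 1974⟩]⟩,
  ⟨[(o10, o10), (o0, o0), (o215, o215), (o1965, o1965), (o14, o557), (o256, o509), (o12, o477), (o154, o52)], 55, .node 7 55 [⟨o184, [(184, [])], 1972⟩,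
      ⟨o185, [(185, [])], 1973⟩]⟩,
  ⟨[(o10, o10), (o0, o0), (o215, o215), (o1965, o1965), (o14, o557), (o256, o509), (o12, o477), (o154, o52), (o243, o184)], 55, .inner [2, 3, 7, 8, 1, 2, 3, 4, 0, 1, 2, 3, 7, 3, 4, 5, 2, 3, 0, 2, 4, 3, 2, 5, 4, 3, 7, 3, 2, 1, 0, 4, 3, 2, 1, 8, 7, 3, 2]⟩,
  ⟨[(o10, o10), (o0, o0), (o215, o215), (o1965, o1965), (o14, o557), (o256, o509), (o12, o477), (o154, o52), (o243, o185)], 55, .inner [2, 3, 7, 8, 3, 7, 4, 5, 2, 3, 4, 1, 2, 3, 7, 5, 0, 1, 2, 3, 0, 1, 0, 2, 4, 1, 0, 3, 2, 1, 0, 5, 7, 3, 2, 1, 4, 3, 2, 5, 4, 7, 3, 8, 7, 3, 2]⟩,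
  ⟨[(o10, o10), (o0, o0), (o215, o215), (o1965, o1965), (o14, o557), (o256, o509), (o12, o477), (o154, o3056)], 55, .node 7 55 []⟩,
  ⟨[(o10, o10), (o0, o0), (o215, o215), (o1965, o1965), (o14, o557), (o256, o509), (o12, o511)], 55, .node 4 55 [⟨o53, [(53, [])], 1976⟩,
      ⟨o3057, [(3057, [])], 1981⟩]⟩,
  ⟨[(o10, o10), (o0, o0), (o215, o215), (o1965, o1965), (o14, o557), (o256, o509), (o12, o511), (o154, o53)], 55, .node 7 55 [⟨o26, [(26, [])], 1977⟩,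
      ⟨o183, [(183, [])], 1978⟩,
      ⟨o666, [(666, [])], 1979⟩,
      ⟨o2722, [(2722, [])], 1980⟩]⟩,
  ⟨[(o10, o10), (o0, o0), (o215, o215), (o1965, o1965), (o14, o557), (o256, o509), (o12, o511), (o154, o53), (o243, o26)], 55, .inner [2, 3, 7, 8, 4, 3, 7, 1, 2, 3, 4, 0, 1, 2, 3, 7, 0, 1, 2, 3, 4, 5, 2, 3, 0, 2, 4, 3, 2, 5, 4, 3, 2, 1, 0, 7, 3, 2, 1, 0, 4, 3, 2, 1, 7, 3, 4, 8, 7, 3, 2]⟩,
  ⟨[(o10, o10), (o0, o0), (o215, o215), (o1965, o1965), (o14, o557), (o256, o509), (o12, o511), (o154, o53), (o243, o183)], 55, .inner [2, 3, 7, 8, 1, 2, 3, 4, 0, 1, 2, 3, 7, 3, 4, 5, 1, 2, 3, 4, 0, 1, 2, 3, 0, 1, 0, 2, 1, 0, 3, 2, 1, 0, 4, 3, 2, 1, 5, 4, 3, 7, 3, 2, 1, 0, 4, 3, 2, 1, 8, 7, 3, 2]⟩,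
  ⟨[(o10, o10), (o0, o0), (o215, o215), (o1965, o1965), (o14, o557), (o256, o509), (o12, o511), (o154, o53), (o243, o666)], 55, .bad [3, 4, 3] 666 666⟩,
  ⟨[(o10, o10), (o0, o0), (o215, o215), (o1965, o1965), (o14, o557), (o256, o509), (o12, o511), (o154, o53), (o243, o2722)], 55, .bad [3, 4, 3] 2722 2722⟩,
  ⟨[(o10, o10), (o0, o0), (o215, o215), (o1965, o1965), (o14, o557), (o256, o509), (o12, o511), (o154, o3057)], 55, .node 7 55 []⟩,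
  ⟨[(o10, o10), (o0, o0), (o215, o215), (o1965, o1965), (o14, o557), (o256, o509), (o12, o785)], 55, .node 4 55 [⟨o53, [(53, [])], 1983⟩,
      ⟨o3057, [(3057, [])], 1984⟩]⟩,
  ⟨[(o10, o10), (o0, o0), (o215, o215), (o1965, o1965), (o14, o557), (o256, o509), (o12, o785), (o154, o53)], 55, .node 7 55 []⟩,
  ⟨[(o10, o10), (o0, o0), (o215, o215), (o1965, o1965), (o14, o557), (o256, o509), (o12, o785), (o154, o3057)], 55, .node 7 55 []⟩,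
  ⟨[(o10, o10), (o0, o0), (o215, o215), (o1965, o1965), (o14, o557), (o256, o509), (o12, o786)], 55, .node 4 55 [⟨o52, [(52, [])], 1986⟩,
      ⟨o3056, [(3056, [])], 1987⟩]⟩,
  ⟨[(o10, o10), (o0, o0), (o215, o215), (o1965, o1965), (o14, o557), (o256, o509), (o12, o786), (o154, o52)], 55, .node 7 55 []⟩,
  ⟨[(o10, o10), (o0, o0), (o215, o215), (o1965, o1965), (o14, o557), (o256, o509), (o12, o786), (o154, o3056)], 55, .node 7 55 []⟩,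
  ⟨[(o10, o10), (o0, o0), (o215, o215), (o1965, o1965), (o14, o557), (o256, o548)], 55, .node 2 55 [⟨o477, [(477, [])], 1989⟩,
      ⟨o511, [(511, [])], 1994⟩,
      ⟨o785, [(785, [])], 2001⟩,
      ⟨o786, [(786, [])], 2004⟩]⟩,
  ⟨[(o10, o10), (o0, o0), (o215, o215), (o1965, o1965), (o14, o557), (o256, o548), (o12, o477)], 55, .node 4 55 [⟨o295, [(295, [])], 1990⟩,
      ⟨o2929, [(2929, [])], 1993⟩]⟩,
  ⟨[(o10, o10), (o0, o0), (o215, o215), (o1965, o1965), (o14, o557), (o256, o548), (o12, o477), (o154, o295)], 55, .node 7 55 [⟨o184, [(184, [])], 1991⟩,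
      ⟨o185, [(185, [])], 1992⟩]⟩,
  ⟨[(o10, o10), (o0, o0), (o215, o215), (o1965, o1965), (o14, o557), (o256, o548), (o12, o477), (o154, o295), (o243, o184)], 55, .inner [2, 1, 3, 7, 8, 3, 4, 2, 3, 7, 3, 4, 5, 2, 3, 4, 1, 2, 3, 7, 1, 2, 3, 4, 5, 1, 2, 3, 0, 1, 0, 2, 4, 1, 0, 3, 2, 1, 5, 4, 3, 2, 1, 7, 3, 2, 1, 4, 3, 2, 5, 4, 3, 7, 3, 2, 4, 3, 8, 7, 3, 1, 2]⟩,
  ⟨[(o10, o10), (o0, o0), (o215, o215), (o1965, o1965), (o14, o557), (o256, o548), (o12, o477), (o154, o295), (o243, o185)], 55, .inner [2, 3, 7, 8, 3, 7, 4, 5, 2, 3, 4, 1, 2, 3, 7, 5, 3, 4, 2, 3, 0, 1, 0, 2, 1, 0, 3, 2, 4, 3, 5, 7, 3, 2, 1, 4, 3, 2, 5, 4, 7, 3, 8, 7, 3, 2]⟩,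
  ⟨[(o10, o10), (o0, o0), (o215, o215), (o1965, o1965), (o14, o557), (o256, o548), (o12, o477), (o154, o2929)], 55, .node 7 55 []⟩,
  ⟨[(o10, o10), (o0, o0), (o215, o215), (o1965, o1965), (o14, o557), (o256, o548), (o12, o511)], 55, .node 4 55 [⟨o296, [(296, [])], 1995⟩,
      ⟨o3055, [(3055, [])], 2000⟩]⟩,
  ⟨[(o10, o10), (o0, o0), (o215, o215), (o1965, o1965), (o14, o557), (o256, o548), (o12, o511), (o154, o296)], 55, .node 7 55 [⟨o26, [(26, [])], 1996⟩,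
      ⟨o183, [(183, [])], 1997⟩,
      ⟨o666, [(666, [])], 1998⟩,
      ⟨o2722, [(2722, [])], 1999⟩]⟩,
  ⟨[(o10, o10), (o0, o0), (o215, o215), (o1965, o1965), (o14, o557), (o256, o548), (o12, o511), (o154, o296), (o243, o26)], 55, .inner [4, 5, 3, 4, 2, 3, 7, 8, 4, 5, 3, 4, 1, 2, 3, 7, 0, 1, 2, 3, 0, 1, 0, 2, 4, 1, 0, 3, 2, 1, 0, 7, 3, 2, 1, 4, 3, 5, 4, 8, 7, 3, 2, 4, 3, 5, 4]⟩,
  ⟨[(o10, o10), (o0, o0), (o215, o215), (o1965, o1965), (o14, o557), (o256, o548), (o12, o511), (o154, o296), (o243, o183)], 55, .inner [2, 3, 7, 8, 3, 4, 5, 1, 2, 3, 4, 0, 1, 2, 3, 7, 0, 1, 2, 3, 4, 5, 4, 3, 0, 1, 0, 2, 4, 1, 0, 3, 4, 5, 4, 3, 2, 1, 0, 7, 3, 2, 1, 0, 4, 3, 2, 1, 5, 4, 3, 8, 7, 3, 2]⟩,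
  ⟨[(o10, o10), (o0, o0), (o215, o215), (o1965, o1965), (o14, o557), (o256, o548), (o12, o511), (o154, o296), (o243, o666)], 55, .bad [3, 4, 3] 666 666⟩,
  ⟨[(o10, o10), (o0, o0), (o215, o215), (o1965, o1965), (o14, o557), (o256, o548), (o12, o511), (o154, o296), (o243, o2722)], 55, .bad [3, 4, 3] 2722 2722⟩,
  ⟨[(o10, o10), (o0, o0), (o215, o215), (o1965, o1965), (o14, o557), (o256, o548), (o12, o511), (o154, o3055)], 55, .node 7 55 []⟩,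
  ⟨[(o10, o10), (o0, o0), (o215, o215), (o1965, o1965), (o14, o557), (o256, o548), (o12, o785)], 55, .node 4 55 [⟨o296, [(296, [])], 2002⟩,
      ⟨o3055, [(3055, [])], 2003⟩]⟩,
  ⟨[(o10, o10), (o0, o0), (o215, o215), (o1965, o1965), (o14, o557), (o256, o548), (o12, o785), (o154, o296)], 55, .node 7 55 []⟩,
  ⟨[(o10, o10), (o0, o0), (o215, o215), (o1965, o1965), (o14, o557), (o256, o548), (o12, o785), (o154, o3055)], 55, .node 7 55 []⟩,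
  ⟨[(o10, o10), (o0, o0), (o215, o215), (o1965, o1965), (o14, o557), (o256, o548), (o12, o786)], 55, .node 4 55 [⟨o295, [(295, [])], 2005⟩,
      ⟨o2929, [(2929, [])], 2006⟩]⟩,
  ⟨[(o10, o10), (o0, o0), (o215, o215), (o1965, o1965), (o14, o557), (o256, o548), (o12, o786), (o154, o295)], 55, .node 7 55 []⟩,
  ⟨[(o10, o10), (o0, o0), (o215, o215), (o1965, o1965), (o14, o557), (o256, o548), (o12, o786), (o154, o2929)], 55, .node 7 55 []⟩,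
  ⟨[(o10, o10), (o0, o0), (o215, o215), (o1965, o1965), (o14, o557), (o256, o949)], 55, .node 2 55 [⟨o366, [(366, [])], 2008⟩,
      ⟨o1528, [(1528, [])], 2011⟩,
      ⟨o3121, [(3121, [])], 2013⟩,
      ⟨o3122, [(3122, [])], 2020⟩]⟩,
  ⟨[(o10, o10), (o0, o0), (o215, o215), (o1965, o1965), (o14, o557), (o256, o949), (o12, o366)], 55, .node 4 55 [⟨o53, [(53, [])], 2009⟩,
      ⟨o109, [(109, [])], 2010⟩]⟩,
  ⟨[(o10, o10), (o0, o0), (o215, o215), (o1965, o1965), (o14, o557), (o256, o949), (o12, o366), (o154, o53)], 55, .node 7 55 []⟩,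
  ⟨[(o10, o10), (o0, o0), (o215, o215), (o1965, o1965), (o14, o557), (o256, o949), (o12, o366), (o154, o109)], 55, .node 7 55 []⟩,
  ⟨[(o10, o10), (o0, o0), (o215, o215), (o1965, o1965), (o14, o557), (o256, o949), (o12, o1528)], 55, .node 4 55 [⟨o52, [(52, [])], 2012⟩]⟩,
  ⟨[(o10, o10), (o0, o0), (o215, o215), (o1965, o1965), (o14, o557), (o256, o949), (o12, o1528), (o154, o52)], 55, .node 7 55 []⟩,
  ⟨[(o10, o10), (o0, o0), (o215, o215), (o1965, o1965), (o14, o557), (o256, o949), (o12, o3121)], 55, .node 4 55 [⟨o53, [(53, [])], 2014⟩,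
      ⟨o109, [(109, [])], 2019⟩]⟩,
  ⟨[(o10, o10), (o0, o0), (o215, o215), (o1965, o1965), (o14, o557), (o256, o949), (o12, o3121), (o154, o53)], 55, .node 7 55 [⟨o21, [(21, [])], 2015⟩,
      ⟨o88, [(88, [])], 2016⟩,
      ⟨o1364, [(1364, [])], 2017⟩,
      ⟨o3383, [(3383, [])], 2018⟩]⟩,
  ⟨[(o10, o10), (o0, o0), (o215, o215), (o1965, o1965), (o14, o557), (o256, o949), (o12, o3121), (o154, o53), (o243, o21)], 55, .bad [3, 4, 3] 21 21⟩,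
  ⟨[(o10, o10), (o0, o0), (o215, o215), (o1965, o1965), (o14, o557), (o256, o949), (o12, o3121), (o154, o53), (o243, o88)], 55, .bad [3, 4, 3] 88 88⟩,
  ⟨[(o10, o10), (o0, o0), (o215, o215), (o1965, o1965), (o14, o557), (o256, o949), (o12, o3121), (o154, o53), (o243, o1364)], 55, .inner [1, 0, 2, 3, 6, 5, 7, 8, 3, 7, 2, 3, 4, 1, 2, 3, 7, 8, 5, 2, 3, 4, 0, 1, 2, 3, 7, 6, 4, 5, 4, 3, 0, 1, 0, 2, 4, 1, 0, 3, 4, 5, 4, 6, 7, 3, 2, 1, 0, 4, 3, 2, 5, 8, 7, 3, 2, 1, 4, 3, 2, 7, 3, 8, 7, 5, 6, 3, 2, 0, 1]⟩,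
  ⟨[(o10, o10), (o0, o0), (o215, o215), (o1965, o1965), (o14, o557), (o256, o949), (o12, o3121), (o154, o53), (o243, o3383)], 55, .inner [1, 0, 6, 7, 8, 3, 7, 5, 2, 3, 4, 1, 2, 3, 7, 8, 5, 6, 4, 5, 3, 4, 2, 3, 7, 1, 2, 3, 0, 1, 0, 2, 4, 1, 0, 3, 2, 1, 7, 3, 2, 4, 3, 5, 4, 6, 5, 8, 7, 3, 2, 1, 4, 3, 2, 5, 7, 3, 8, 7, 6, 0, 1]⟩,
  ⟨[(o10, o10), (o0, o0), (o215, o215), (o1965, o1965), (o14, o557), (o256, o949), (o12, o3121), (o154, o109)], 55, .node 7 55 []⟩,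
  ⟨[(o10, o10), (o0, o0), (o215, o215), (o1965, o1965), (o14, o557), (o256, o949), (o12, o3122)], 55, .node 4 55 [⟨o52, [(52, [])], 2021⟩]⟩,
  ⟨[(o10, o10), (o0, o0), (o215, o215), (o1965, o1965), (o14, o557), (o256, o949), (o12, o3122), (o154, o52)], 55, .node 7 55 [⟨o1363, [(1363, [])], 2022⟩,
      ⟨o3384, [(3384, [])], 2023⟩]⟩,
  ⟨[(o10, o10), (o0, o0), (o215, o215), (o1965, o1965), (o14, o557), (o256, o949), (o12, o3122), (o154, o52), (o243, o1363)], 55, .inner [7, 8, 3, 7, 4, 5, 3, 4, 2, 3, 7, 8, 3, 7, 6, 4, 5, 3, 4, 1, 2, 3, 7, 6, 5, 3, 4, 1, 2, 3, 0, 1, 0, 2, 1, 0, 3, 2, 1, 4, 3, 5, 6, 7, 3, 2, 1, 4, 3, 5, 4, 6, 7, 3, 8, 7, 3, 2, 4, 3, 5, 4, 7, 3, 8, 7]⟩,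
  ⟨[(o10, o10), (o0, o0), (o215, o215), (o1965, o1965), (o14, o557), (o256, o949), (o12, o3122), (o154, o52), (o243, o3384)], 55, .inner [1, 0, 2, 1, 0, 3, 2, 4, 5, 3, 4, 1, 2, 3, 7, 8, 3, 7, 6, 4, 5, 3, 4, 1, 2, 3, 7, 6, 5, 4, 2, 3, 0, 1, 0, 2, 4, 1, 0, 3, 2, 4, 5, 6, 7, 3, 2, 1, 4, 3, 5, 4, 6, 7, 3, 8, 7, 3, 2, 1, 4, 3, 5, 4, 2, 3, 0, 1, 2, 0, 1]⟩,
  ⟨[(o10, o10), (o0, o0), (o215, o215), (o1965, o1965), (o14, o557), (o256, o1274)], 55, .node 4 55 [⟨o295, [(295, [])], 2025⟩,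
      ⟨o296, [(296, [])], 2030⟩]⟩,
  ⟨[(o10, o10), (o0, o0), (o215, o215), (o1965, o1965), (o14, o557), (o256, o1274), (o154, o295)], 55, .node 2 55 [⟨o1528, [(1528, [])], 2026⟩,
      ⟨o3122, [(3122, [])], 2027⟩]⟩,
  ⟨[(o10, o10), (o0, o0), (o215, o215), (o1965, o1965), (o14, o557), (o256, o1274), (o154, o295), (o12, o1528)], 55, .node 7 55 []⟩,
  ⟨[(o10, o10), (o0, o0), (o215, o215), (o1965, o1965), (o14, o557), (o256, o1274), (o154, o295), (o12, o3122)], 55, .node 7 55 [⟨o1363, [(1363, [])], 2028⟩,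
      ⟨o3384, [(3384, [])], 2029⟩]⟩,
  ⟨[(o10, o10), (o0, o0), (o215, o215), (o1965, o1965), (o14, o557), (o256, o1274), (o154, o295), (o12, o3122), (o243, o1363)], 55, .inner [1, 0, 7, 3, 2, 4, 5, 6, 8, 7, 3, 4, 5, 2, 3, 4, 1, 2, 3, 7, 8, 3, 4, 0, 1, 2, 3, 7, 6, 3, 4, 5, 2, 3, 0, 2, 4, 3, 2, 5, 4, 3, 6, 7, 3, 2, 1, 0, 4, 3, 8, 7, 3, 2, 1, 4, 3, 2, 5, 4, 3, 7, 8, 6, 5, 4, 2, 3, 7, 0, 1]⟩,
  ⟨[(o10, o10), (o0, o0), (o215, o215), (o1965, o1965), (o14, o557), (o256, o1274), (o154, o295), (o12, o3122), (o243, o3384)], 55, .inner [1, 0, 4, 3, 2, 1, 5, 4, 3, 2, 6, 5, 4, 3, 7, 8, 3, 4, 2, 3, 7, 5, 6, 4, 5, 3, 4, 1, 2, 3, 7, 6, 1, 2, 3, 4, 5, 3, 0, 1, 0, 2, 4, 1, 0, 3, 5, 4, 3, 2, 1, 6, 7, 3, 2, 1, 4, 3, 5, 4, 6, 5, 7, 3, 2, 4, 3, 8, 7, 3, 4, 5, 6, 2, 3, 4, 5, 1, 2, 3, 4, 0, 1]⟩,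
  ⟨[(o10, o10), (o0, o0), (o215, o215), (o1965, o1965), (o14, o557), (o256, o1274), (o154, o296)], 55, .node 2 55 [⟨o366, [(366, [])], 2031⟩,
      ⟨o3121, [(3121, [])], 2032⟩]⟩,
  ⟨[(o10, o10), (o0, o0), (o215, o215), (o1965, o1965), (o14, o557), (o256, o1274), (o154, o296), (o12, o366)], 55, .node 7 55 []⟩,
  ⟨[(o10, o10), (o0, o0), (o215, o215), (o1965, o1965), (o14, o557), (o256, o1274), (o154, o296), (o12, o3121)], 55, .node 7 55 [⟨o21, [(21, [])], 2033⟩,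
      ⟨o88, [(88, [])], 2034⟩,
      ⟨o1364, [(1364, [])], 2035⟩,
      ⟨o3383, [(3383, [])], 2036⟩]⟩,
  ⟨[(o10, o10), (o0, o0), (o215, o215), (o1965, o1965), (o14, o557), (o256, o1274), (o154, o296), (o12, o3121), (o243, o21)], 55, .bad [3, 4, 3] 21 21⟩,
  ⟨[(o10, o10), (o0, o0), (o215, o215), (o1965, o1965), (o14, o557), (o256, o1274), (o154, o296), (o12, o3121), (o243, o88)], 55, .bad [3, 4, 3] 88 88⟩,
  ⟨[(o10, o10), (o0, o0), (o215, o215), (o1965, o1965), (o14, o557), (o256, o1274), (o154, o296), (o12, o3121), (o243, o1364)], 55, .inner [1, 4, 3, 2, 5, 4, 3, 6, 7, 8, 5, 4, 3, 7, 2, 3, 4, 1, 2, 3, 7, 8, 5, 4, 0, 1, 2, 3, 7, 6, 4, 5, 2, 3, 0, 2, 4, 3, 2, 5, 4, 6, 7, 3, 2, 1, 0, 4, 5, 8, 7, 3, 2, 1, 4, 3, 2, 7, 3, 4, 5, 8, 7, 6, 3, 4, 5, 2, 3, 4, 1]⟩,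
  ⟨[(o10, o10), (o0, o0), (o215, o215), (o1965, o1965), (o14, o557), (o256, o1274), (o154, o296), (o12, o3121), (o243, o3383)], 55, .inner [7, 8, 3, 7, 6, 5, 1, 2, 3, 4, 0, 1, 2, 3, 7, 8, 5, 6, 4, 5, 3, 4, 2, 3, 7, 3, 4, 2, 3, 1, 0, 2, 1, 3, 2, 4, 3, 7, 3, 2, 4, 3, 5, 4, 6, 5, 8, 7, 3, 2, 1, 0, 4, 3, 2, 1, 5, 6, 7, 3, 8, 7]⟩,
  ⟨[(o10, o10), (o0, o0), (o215, o215), (o1965, o1965), (o14, o557), (o256, o1570)], 55, .node 2 55 [⟨o11, [(11, [])], 2038⟩,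
      ⟨o12, [(12, [])], 2041⟩,
      ⟨o2631, [(2631, [])], 2044⟩,
      ⟨o2666, [(2666, [])], 2049⟩]⟩,
  ⟨[(o10, o10), (o0, o0), (o215, o215), (o1965, o1965), (o14, o557), (o256, o1570), (o12, o11)], 55, .node 4 55 [⟨o109, [(109, [])], 2039⟩,
      ⟨o2034, [(2034, [])], 2040⟩]⟩,
  ⟨[(o10, o10), (o0, o0), (o215, o215), (o1965, o1965), (o14, o557), (o256, o1570), (o12, o11), (o154, o109)], 55, .node 7 55 []⟩,
  ⟨[(o10, o10), (o0, o0), (o215, o215), (o1965, o1965), (o14, o557), (o256, o1570), (o12, o11), (o154, o2034)], 55, .node 7 55 []⟩,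
  ⟨[(o10, o10), (o0, o0), (o215, o215), (o1965, o1965), (o14, o557), (o256, o1570), (o12, o12)], 55, .node 4 55 [⟨o108, [(108, [])], 2042⟩,
      ⟨o2183, [(2183, [])], 2043⟩]⟩,
  ⟨[(o10, o10), (o0, o0), (o215, o215), (o1965, o1965), (o14, o557), (o256, o1570), (o12, o12), (o154, o108)], 55, .node 7 55 []⟩,
  ⟨[(o10, o10), (o0, o0), (o215, o215), (o1965, o1965), (o14, o557), (o256, o1570), (o12, o12), (o154, o2183)], 55, .node 7 55 []⟩,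
  ⟨[(o10, o10), (o0, o0), (o215, o215), (o1965, o1965), (o14, o557), (o256, o1570), (o12, o2631)], 55, .node 4 55 [⟨o109, [(109, [])], 2045⟩,
      ⟨o2034, [(2034, [])], 2046⟩]⟩,
  ⟨[(o10, o10), (o0, o0), (o215, o215), (o1965, o1965), (o14, o557), (o256, o1570), (o12, o2631), (o154, o109)], 55, .node 7 55 []⟩,
  ⟨[(o10, o10), (o0, o0), (o215, o215), (o1965, o1965), (o14, o557), (o256, o1570), (o12, o2631), (o154, o2034)], 55, .node 7 55 [⟨o1364, [(1364, [])], 2047⟩,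
      ⟨o3383, [(3383, [])], 2048⟩]⟩,
  ⟨[(o10, o10), (o0, o0), (o215, o215), (o1965, o1965), (o14, o557), (o256, o1570), (o12, o2631), (o154, o2034), (o243, o1364)], 55, .inner [4, 5, 3, 4, 2, 3, 7, 8, 6, 3, 4, 5, 2, 3, 4, 1, 2, 3, 7, 6, 5, 3, 4, 1, 2, 3, 0, 1, 0, 2, 1, 0, 3, 2, 1, 4, 3, 5, 6, 7, 3, 2, 1, 4, 3, 2, 5, 4, 3, 6, 8, 7, 3, 2, 4, 3, 5, 4]⟩]

/-- Nodes. -/
def nd16 : List ONode := [
  ⟨[(o10, o10), (o0, o0), (o215, o215), (o1965, o1965), (o14, o557), (o256, o1570), (o12, o2631), (o154, o2034), (o243, o3383)], 55, .inner [4, 3, 2, 6, 7, 3, 8, 7, 4, 5, 3, 4, 2, 3, 7, 8, 6, 5, 4, 1, 2, 3, 7, 4, 5, 6, 2, 3, 4, 5, 0, 1, 0, 2, 4, 1, 0, 5, 4, 3, 2, 6, 5, 4, 7, 3, 2, 1, 4, 5, 6, 8, 7, 3, 2, 4, 3, 5, 4, 7, 8, 3, 7, 6, 2, 3, 4]⟩,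
  ⟨[(o10, o10), (o0, o0), (o215, o215), (o1965, o1965), (o14, o557), (o256, o1570), (o12, o2666)], 55, .node 4 55 [⟨o108, [(108, [])], 2050⟩,
      ⟨o2183, [(2183, [])], 2051⟩]⟩,
  ⟨[(o10, o10), (o0, o0), (o215, o215), (o1965, o1965), (o14, o557), (o256, o1570), (o12, o2666), (o154, o108)], 55, .node 7 55 []⟩,
  ⟨[(o10, o10), (o0, o0), (o215, o215), (o1965, o1965), (o14, o557), (o256, o1570), (o12, o2666), (o154, o2183)], 55, .node 7 55 [⟨o666, [(666, [])], 2052⟩,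
      ⟨o1363, [(1363, [])], 2053⟩,
      ⟨o2722, [(2722, [])], 2054⟩,
      ⟨o3384, [(3384, [])], 2055⟩]⟩,
  ⟨[(o10, o10), (o0, o0), (o215, o215), (o1965, o1965), (o14, o557), (o256, o1570), (o12, o2666), (o154, o2183), (o243, o666)], 55, .bad [3, 7, 3] 2666 2666⟩,
  ⟨[(o10, o10), (o0, o0), (o215, o215), (o1965, o1965), (o14, o557), (o256, o1570), (o12, o2666), (o154, o2183), (o243, o1363)], 55, .inner [4, 3, 2, 1, 5, 4, 3, 7, 8, 3, 4, 2, 3, 7, 5, 6, 4, 5, 3, 4, 1, 2, 3, 7, 1, 2, 3, 4, 5, 1, 2, 3, 0, 1, 0, 2, 4, 1, 0, 3, 2, 1, 5, 4, 3, 2, 1, 7, 3, 2, 1, 4, 3, 5, 4, 6, 5, 7, 3, 2, 4, 3, 8, 7, 3, 4, 5, 1, 2, 3, 4]⟩,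
  ⟨[(o10, o10), (o0, o0), (o215, o215), (o1965, o1965), (o14, o557), (o256, o1570), (o12, o2666), (o154, o2183), (o243, o2722)], 55, .bad [3, 7, 3] 2666 2666⟩,
  ⟨[(o10, o10), (o0, o0), (o215, o215), (o1965, o1965), (o14, o557), (o256, o1570), (o12, o2666), (o154, o2183), (o243, o3384)], 55, .inner [1, 0, 2, 1, 6, 5, 7, 3, 2, 1, 4, 3, 7, 8, 7, 3, 4, 2, 3, 7, 8, 5, 6, 4, 5, 3, 4, 1, 2, 3, 7, 6, 1, 2, 3, 4, 5, 3, 0, 1, 0, 2, 4, 1, 0, 3, 5, 4, 3, 2, 1, 6, 7, 3, 2, 1, 4, 3, 5, 4, 6, 5, 8, 7, 3, 2, 4, 3, 7, 8, 7, 3, 4, 1, 2, 3, 7, 5, 6, 1, 2, 0, 1]⟩,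
  ⟨[(o10, o10), (o0, o0), (o215, o215), (o1965, o1965), (o14, o557), (o256, o1571)], 55, .node 2 55 [⟨o11, [(11, [])], 2057⟩,
      ⟨o12, [(12, [])], 2060⟩,
      ⟨o2631, [(2631, [])], 2063⟩,
      ⟨o2666, [(2666, [])], 2068⟩]⟩,
  ⟨[(o10, o10), (o0, o0), (o215, o215), (o1965, o1965), (o14, o557), (o256, o1571), (o12, o11)], 55, .node 4 55 [⟨o364, [(364, [])], 2058⟩,
      ⟨o2033, [(2033, [])], 2059⟩]⟩,
  ⟨[(o10, o10), (o0, o0), (o215, o215), (o1965, o1965), (o14, o557), (o256, o1571), (o12, o11), (o154, o364)], 55, .node 7 55 []⟩,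
  ⟨[(o10, o10), (o0, o0), (o215, o215), (o1965, o1965), (o14, o557), (o256, o1571), (o12, o11), (o154, o2033)], 55, .node 7 55 []⟩,
  ⟨[(o10, o10), (o0, o0), (o215, o215), (o1965, o1965), (o14, o557), (o256, o1571), (o12, o12)], 55, .node 4 55 [⟨o365, [(365, [])], 2061⟩,
      ⟨o2200, [(2200, [])], 2062⟩]⟩,
  ⟨[(o10, o10), (o0, o0), (o215, o215), (o1965, o1965), (o14, o557), (o256, o1571), (o12, o12), (o154, o365)], 55, .node 7 55 []⟩,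
  ⟨[(o10, o10), (o0, o0), (o215, o215), (o1965, o1965), (o14, o557), (o256, o1571), (o12, o12), (o154, o2200)], 55, .node 7 55 []⟩,
  ⟨[(o10, o10), (o0, o0), (o215, o215), (o1965, o1965), (o14, o557), (o256, o1571), (o12, o2631)], 55, .node 4 55 [⟨o364, [(364, [])], 2064⟩,
      ⟨o2033, [(2033, [])], 2065⟩]⟩,
  ⟨[(o10, o10), (o0, o0), (o215, o215), (o1965, o1965), (o14, o557), (o256, o1571), (o12, o2631), (o154, o364)], 55, .node 7 55 []⟩,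
  ⟨[(o10, o10), (o0, o0), (o215, o215), (o1965, o1965), (o14, o557), (o256, o1571), (o12, o2631), (o154, o2033)], 55, .node 7 55 [⟨o1364, [(1364, [])], 2066⟩,
      ⟨o3383, [(3383, [])], 2067⟩]⟩,
  ⟨[(o10, o10), (o0, o0), (o215, o215), (o1965, o1965), (o14, o557), (o256, o1571), (o12, o2631), (o154, o2033), (o243, o1364)], 55, .inner [2, 4, 3, 2, 5, 4, 3, 7, 8, 6, 3, 4, 5, 2, 3, 4, 1, 2, 3, 7, 3, 4, 5, 6, 2, 3, 4, 5, 4, 3, 0, 1, 0, 2, 4, 1, 0, 3, 4, 5, 4, 3, 2, 6, 5, 4, 3, 7, 3, 2, 1, 4, 3, 2, 5, 4, 3, 6, 8, 7, 3, 4, 5, 2, 3, 4, 2]⟩,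
  ⟨[(o10, o10), (o0, o0), (o215, o215), (o1965, o1965), (o14, o557), (o256, o1571), (o12, o2631), (o154, o2033), (o243, o3383)], 55, .inner [1, 2, 3, 6, 5, 4, 7, 8, 3, 7, 2, 3, 4, 1, 2, 3, 7, 8, 5, 2, 3, 4, 0, 1, 2, 3, 7, 6, 4, 5, 4, 3, 0, 1, 0, 2, 4, 1, 0, 3, 4, 5, 4, 6, 7, 3, 2, 1, 0, 4, 3, 2, 5, 8, 7, 3, 2, 1, 4, 3, 2, 7, 3, 8, 7, 4, 5, 6, 3, 2, 1]⟩,
  ⟨[(o10, o10), (o0, o0), (o215, o215), (o1965, o1965), (o14, o557), (o256, o1571), (o12, o2666)], 55, .node 4 55 [⟨o365, [(365, [])], 2069⟩,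
      ⟨o2200, [(2200, [])], 2070⟩]⟩,
  ⟨[(o10, o10), (o0, o0), (o215, o215), (o1965, o1965), (o14, o557), (o256, o1571), (o12, o2666), (o154, o365)], 55, .node 7 55 []⟩,
  ⟨[(o10, o10), (o0, o0), (o215, o215), (o1965, o1965), (o14, o557), (o256, o1571), (o12, o2666), (o154, o2200)], 55, .node 7 55 [⟨o666, [(666, [])], 2071⟩,
      ⟨o1363, [(1363, [])], 2072⟩,
      ⟨o2722, [(2722, [])], 2073⟩,
      ⟨o3384, [(3384, [])], 2074⟩]⟩,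
  ⟨[(o10, o10), (o0, o0), (o215, o215), (o1965, o1965), (o14, o557), (o256, o1571), (o12, o2666), (o154, o2200), (o243, o666)], 55, .bad [3, 7, 3] 2666 2666⟩,
  ⟨[(o10, o10), (o0, o0), (o215, o215), (o1965, o1965), (o14, o557), (o256, o1571), (o12, o2666), (o154, o2200), (o243, o1363)], 55, .inner [2, 1, 0, 3, 4, 5, 2, 3, 4, 1, 2, 3, 7, 8, 3, 7, 4, 5, 3, 4, 1, 2, 3, 7, 6, 5, 4, 3, 0, 1, 0, 2, 4, 1, 0, 3, 4, 5, 6, 7, 3, 2, 1, 4, 3, 5, 4, 7, 3, 8, 7, 3, 2, 1, 4, 3, 2, 5, 4, 3, 0, 1, 2]⟩,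
  ⟨[(o10, o10), (o0, o0), (o215, o215), (o1965, o1965), (o14, o557), (o256, o1571), (o12, o2666), (o154, o2200), (o243, o2722)], 55, .bad [3, 7, 3] 2666 2666⟩,
  ⟨[(o10, o10), (o0, o0), (o215, o215), (o1965, o1965), (o14, o557), (o256, o1571), (o12, o2666), (o154, o2200), (o243, o3384)], 55, .inner [4, 3, 7, 8, 2, 3, 7, 6, 4, 5, 3, 4, 2, 3, 7, 8, 4, 5, 1, 2, 3, 4, 0, 1, 2, 3, 7, 5, 6, 4, 5, 3, 4, 2, 3, 1, 0, 2, 1, 3, 2, 4, 3, 5, 4, 6, 5, 7, 3, 2, 1, 0, 4, 3, 2, 1, 5, 4, 8, 7, 3, 2, 4, 3, 5, 4, 6, 7, 3, 2, 8, 7, 3, 4]⟩,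
  ⟨[(o10, o10), (o0, o0), (o215, o215), (o1965, o1965), (o14, o1099)], 51, .node 6 57 [⟨o251, [(251, [])], 2076⟩,
      ⟨o256, [(256, [])], 2097⟩,
      ⟨o287, [(287, [])], 2118⟩,
      ⟨o363, [(363, [])], 2139⟩,
      ⟨o485, [(485, [])], 2160⟩,
      ⟨o486, [(486, [])], 2177⟩,
      ⟨o2149, [(2149, [])], 2194⟩,
      ⟨o2150, [(2150, [])], 2209⟩]⟩,
  ⟨[(o10, o10), (o0, o0), (o215, o215), (o1965, o1965), (o14, o1099), (o256, o251)], 57, .node 2 57 [⟨o11, [(11, [])], 2077⟩,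
      ⟨o12, [(12, [])], 2082⟩,
      ⟨o2631, [(2631, [])], 2087⟩,
      ⟨o2666, [(2666, [])], 2092⟩]⟩,
  ⟨[(o10, o10), (o0, o0), (o215, o215), (o1965, o1965), (o14, o1099), (o256, o251), (o12, o11)], 57, .node 7 57 [⟨o9, [(9, [])], 2078⟩,
      ⟨o244, [(244, [])], 2080⟩]⟩,
  ⟨[(o10, o10), (o0, o0), (o215, o215), (o1965, o1965), (o14, o1099), (o256, o251), (o12, o11), (o243, o9)], 57, .node 4 57 [⟨o3119, [(3119, [])], 2079⟩]⟩,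
  ⟨[(o10, o10), (o0, o0), (o215, o215), (o1965, o1965), (o14, o1099), (o256, o251), (o12, o11), (o243, o9), (o154, o3119)], 57, .conjw 2 [1, 4, 3, 6, 5, 4, 7, 3, 2, 1, 8, 7, 3, 4, 5, 2, 3, 4, 0, 1, 2, 3, 7, 3, 4, 1, 2, 3, 0, 1, 2, 0, 1, 0]⟩,
  ⟨[(o10, o10), (o0, o0), (o215, o215), (o1965, o1965), (o14, o1099), (o256, o251), (o12, o11), (o243, o244)], 57, .node 4 57 [⟨o3119, [(3119, [])], 2081⟩]⟩,
  ⟨[(o10, o10), (o0, o0), (o215, o215), (o1965, o1965), (o14, o1099), (o256, o251), (o12, o11), (o243, o244), (o154, o3119)], 57, .conjw 1 [1, 2, 3, 7, 8, 0, 1, 2, 3, 7, 6, 4, 5, 2, 3, 4, 0, 1, 2, 0, 1, 0]⟩,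
  ⟨[(o10, o10), (o0, o0), (o215, o215), (o1965, o1965), (o14, o1099), (o256, o251), (o12, o12)], 57, .node 7 57 [⟨o243, [(243, [])], 2083⟩,
      ⟨o253, [(253, [])], 2085⟩]⟩,
  ⟨[(o10, o10), (o0, o0), (o215, o215), (o1965, o1965), (o14, o1099), (o256, o251), (o12, o12), (o243, o243)], 57, .node 4 57 [⟨o3120, [(3120, [])], 2084⟩]⟩,
  ⟨[(o10, o10), (o0, o0), (o215, o215), (o1965, o1965), (o14, o1099), (o256, o251), (o12, o12), (o243, o243), (o154, o3120)], 57, .conjw 1 [1, 0, 4, 3, 2, 1, 0, 5, 4, 3, 2, 1, 6, 5, 7, 3, 8, 7, 4, 5, 3, 4, 2, 3, 7, 8, 6, 5, 4, 3, 7, 5, 4, 1, 2, 3, 0, 1, 2, 1, 0]⟩,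
  ⟨[(o10, o10), (o0, o0), (o215, o215), (o1965, o1965), (o14, o1099), (o256, o251), (o12, o12), (o243, o253)], 57, .node 4 57 [⟨o3120, [(3120, [])], 2086⟩]⟩,
  ⟨[(o10, o10), (o0, o0), (o215, o215), (o1965, o1965), (o14, o1099), (o256, o251), (o12, o12), (o243, o253), (o154, o3120)], 57, .conjw 2 [1, 0, 2, 1, 3, 2, 6, 7, 3, 2, 1, 4, 3, 7, 5, 6, 4, 5, 3, 4, 2, 3, 7, 8, 0, 1, 2, 3, 7, 3, 4, 3, 2, 1]⟩,
  ⟨[(o10, o10), (o0, o0), (o215, o215), (o1965, o1965), (o14, o1099), (o256, o251), (o12, o2631)], 57, .node 7 57 [⟨o243, [(243, [])], 2088⟩,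
      ⟨o253, [(253, [])], 2090⟩]⟩,
  ⟨[(o10, o10), (o0, o0), (o215, o215), (o1965, o1965), (o14, o1099), (o256, o251), (o12, o2631), (o243, o243)], 57, .node 4 57 [⟨o2642, [(2642, [])], 2089⟩]⟩,
  ⟨[(o10, o10), (o0, o0), (o215, o215), (o1965, o1965), (o14, o1099), (o256, o251), (o12, o2631), (o243, o243), (o154, o2642)], 57, .inner [4, 5, 3, 4, 2, 3, 7, 8, 3, 4, 2, 3, 7, 6, 2, 3, 4, 5, 2, 3, 0, 2, 4, 3, 2, 5, 4, 3, 2, 6, 7, 3, 2, 4, 3, 8, 7, 3, 2, 4, 3, 5, 4]⟩,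
  ⟨[(o10, o10), (o0, o0), (o215, o215), (o1965, o1965), (o14, o1099), (o256, o251), (o12, o2631), (o243, o253)], 57, .node 4 57 [⟨o2642, [(2642, [])], 2091⟩]⟩,
  ⟨[(o10, o10), (o0, o0), (o215, o215), (o1965, o1965), (o14, o1099), (o256, o251), (o12, o2631), (o243, o253), (o154, o2642)], 57, .inner [2, 4, 3, 2, 1, 5, 4, 3, 7, 8, 2, 3, 7, 6, 4, 5, 2, 3, 4, 0, 1, 2, 3, 7, 4, 5, 0, 1, 2, 3, 0, 1, 0, 2, 4, 1, 0, 3, 2, 1, 0, 5, 4, 7, 3, 2, 1, 0, 4, 3, 2, 5, 4, 6, 7, 3, 2, 8, 7, 3, 4, 5, 1, 2, 3, 4, 2]⟩,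
  ⟨[(o10, o10), (o0, o0), (o215, o215), (o1965, o1965), (o14, o1099), (o256, o251), (o12, o2666)], 57, .node 7 57 [⟨o9, [(9, [])], 2093⟩,
      ⟨o244, [(244, [])], 2095⟩]⟩,
  ⟨[(o10, o10), (o0, o0), (o215, o215), (o1965, o1965), (o14, o1099), (o256, o251), (o12, o2666), (o243, o9)], 57, .node 4 57 [⟨o2550, [(2550, [])], 2094⟩]⟩,
  ⟨[(o10, o10), (o0, o0), (o215, o215), (o1965, o1965), (o14, o1099), (o256, o251), (o12, o2666), (o243, o9), (o154, o2550)], 57, .inner [1, 4, 5, 6, 5, 4, 3, 7, 3, 8, 4, 2, 3, 7, 5, 6, 3, 4, 5, 1, 2, 3, 4, 0, 1, 2, 3, 7, 3, 4, 5, 1, 2, 3, 0, 1, 0, 2, 4, 1, 0, 3, 2, 1, 5, 4, 3, 7, 3, 2, 1, 0, 4, 3, 2, 1, 5, 4, 3, 6, 5, 7, 3, 2, 4, 8, 3, 7, 3, 4, 5, 6, 5, 4, 1]⟩,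
  ⟨[(o10, o10), (o0, o0), (o215, o215), (o1965, o1965), (o14, o1099), (o256, o251), (o12, o2666), (o243, o244)], 57, .node 4 57 [⟨o2550, [(2550, [])], 2096⟩]⟩,
  ⟨[(o10, o10), (o0, o0), (o215, o215), (o1965, o1965), (o14, o1099), (o256, o251), (o12, o2666), (o243, o244), (o154, o2550)], 57, .inner [2, 1, 0, 3, 7, 8, 3, 4, 2, 3, 7, 5, 6, 4, 5, 3, 4, 1, 2, 3, 7, 2, 3, 4, 5, 1, 2, 3, 0, 1, 0, 2, 4, 1, 0, 3, 2, 1, 5, 4, 3, 2, 7, 3, 2, 1, 4, 3, 5, 4, 6, 5, 7, 3, 2, 4, 3, 8, 7, 3, 0, 1, 2]⟩,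
  ⟨[(o10, o10), (o0, o0), (o215, o215), (o1965, o1965), (o14, o1099), (o256, o256)], 57, .node 2 57 [⟨o11, [(11, [])], 2098⟩,
      ⟨o12, [(12, [])], 2103⟩,
      ⟨o2631, [(2631, [])], 2108⟩,
      ⟨o2666, [(2666, [])], 2113⟩]⟩,
  ⟨[(o10, o10), (o0, o0), (o215, o215), (o1965, o1965), (o14, o1099), (o256, o256), (o12, o11)], 57, .node 7 57 [⟨o9, [(9, [])], 2099⟩,
      ⟨o244, [(244, [])], 2101⟩]⟩,
  ⟨[(o10, o10), (o0, o0), (o215, o215), (o1965, o1965), (o14, o1099), (o256, o256), (o12, o11), (o243, o9)], 57, .node 4 57 [⟨o3431, [(3431, [])], 2100⟩]⟩,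
  ⟨[(o10, o10), (o0, o0), (o215, o215), (o1965, o1965), (o14, o1099), (o256, o256), (o12, o11), (o243, o9), (o154, o3431)], 57, .conjw 1 [1, 4, 3, 2, 1, 0, 5, 4, 6, 5, 7, 3, 2, 1, 4, 8, 7, 3, 4, 2, 3, 7, 8, 3, 4, 1, 2, 3, 7, 5, 6, 3, 4, 5, 2, 3, 4, 0, 1, 0]⟩,
  ⟨[(o10, o10), (o0, o0), (o215, o215), (o1965, o1965), (o14, o1099), (o256, o256), (o12, o11), (o243, o244)], 57, .node 4 57 [⟨o3431, [(3431, [])], 2102⟩]⟩,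
  ⟨[(o10, o10), (o0, o0), (o215, o215), (o1965, o1965), (o14, o1099), (o256, o256), (o12, o11), (o243, o244), (o154, o3431)], 57, .conjw 2 [1, 0, 2, 1, 0, 3, 2, 7, 3, 2, 1, 4, 3, 7, 5, 2, 3, 4, 0, 1, 2, 3, 7, 8, 6, 5, 4, 3, 7, 2, 3, 4, 2, 1]⟩,
  ⟨[(o10, o10), (o0, o0), (o215, o215), (o1965, o1965), (o14, o1099), (o256, o256), (o12, o12)], 57, .node 7 57 [⟨o243, [(243, [])], 2104⟩,
      ⟨o253, [(253, [])], 2106⟩]⟩,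
  ⟨[(o10, o10), (o0, o0), (o215, o215), (o1965, o1965), (o14, o1099), (o256, o256), (o12, o12), (o243, o243)], 57, .node 4 57 [⟨o3432, [(3432, [])], 2105⟩]⟩,
  ⟨[(o10, o10), (o0, o0), (o215, o215), (o1965, o1965), (o14, o1099), (o256, o256), (o12, o12), (o243, o243), (o154, o3432)], 57, .conjw 0 [4, 3, 7, 8, 5, 4, 2, 3, 7, 6, 5, 1, 2, 3, 4, 0, 1, 2, 3, 7, 8, 2, 3, 4, 1, 2, 3, 7, 5, 3, 4, 1, 2, 3, 0, 1, 2, 0, 1, 0]⟩,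
  ⟨[(o10, o10), (o0, o0), (o215, o215), (o1965, o1965), (o14, o1099), (o256, o256), (o12, o12), (o243, o253)], 57, .node 4 57 [⟨o3432, [(3432, [])], 2107⟩]⟩,
  ⟨[(o10, o10), (o0, o0), (o215, o215), (o1965, o1965), (o14, o1099), (o256, o256), (o12, o12), (o243, o253), (o154, o3432)], 57, .conjw 1 [1, 4, 3, 2, 1, 0, 5, 4, 6, 5, 7, 3, 2, 1, 4, 8, 7, 3, 4, 2, 3, 7, 8, 3, 4, 1, 2, 3, 7, 3, 4, 5, 2, 3, 4, 3, 2, 0, 1, 0]⟩,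
  ⟨[(o10, o10), (o0, o0), (o215, o215), (o1965, o1965), (o14, o1099), (o256, o256), (o12, o2631)], 57, .node 7 57 [⟨o243, [(243, [])], 2109⟩,
      ⟨o253, [(253, [])], 2111⟩]⟩,
  ⟨[(o10, o10), (o0, o0), (o215, o215), (o1965, o1965), (o14, o1099), (o256, o256), (o12, o2631), (o243, o243)], 57, .node 4 57 [⟨o2384, [(2384, [])], 2110⟩]⟩,
  ⟨[(o10, o10), (o0, o0), (o215, o215), (o1965, o1965), (o14, o1099), (o256, o256), (o12, o2631), (o243, o243), (o154, o2384)], 57, .inner [4, 3, 7, 8, 5, 4, 3, 7, 6, 5, 4, 3, 0, 2, 3, 4, 5, 6, 7, 3, 4, 5, 8, 7, 3, 4]⟩,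
  ⟨[(o10, o10), (o0, o0), (o215, o215), (o1965, o1965), (o14, o1099), (o256, o256), (o12, o2631), (o243, o253)], 57, .node 4 57 [⟨o2384, [(2384, [])], 2112⟩]⟩,
  ⟨[(o10, o10), (o0, o0), (o215, o215), (o1965, o1965), (o14, o1099), (o256, o256), (o12, o2631), (o243, o253), (o154, o2384)], 57, .inner [4, 3, 7, 8, 5, 4, 3, 7, 6, 5, 2, 3, 0, 2, 4, 3, 2, 5, 6, 7, 3, 4, 5, 8, 7, 3, 4]⟩,
  ⟨[(o10, o10), (o0, o0), (o215, o215), (o1965, o1965), (o14, o1099), (o256, o256), (o12, o2666)], 57, .node 7 57 [⟨o9, [(9, [])], 2114⟩,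
      ⟨o244, [(244, [])], 2116⟩]⟩,
  ⟨[(o10, o10), (o0, o0), (o215, o215), (o1965, o1965), (o14, o1099), (o256, o256), (o12, o2666), (o243, o9)], 57, .node 4 57 [⟨o2383, [(2383, [])], 2115⟩]⟩,
  ⟨[(o10, o10), (o0, o0), (o215, o215), (o1965, o1965), (o14, o1099), (o256, o256), (o12, o2666), (o243, o9), (o154, o2383)], 57, .inner [4, 3, 7, 8, 5, 4, 3, 7, 4, 5, 6, 3, 4, 5, 2, 3, 0, 2, 4, 3, 2, 5, 4, 3, 6, 5, 4, 7, 3, 4, 5, 8, 7, 3, 4]⟩,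
  ⟨[(o10, o10), (o0, o0), (o215, o215), (o1965, o1965), (o14, o1099), (o256, o256), (o12, o2666), (o243, o244)], 57, .node 4 57 [⟨o2383, [(2383, [])], 2117⟩]⟩,
  ⟨[(o10, o10), (o0, o0), (o215, o215), (o1965, o1965), (o14, o1099), (o256, o256), (o12, o2666), (o243, o244), (o154, o2383)], 57, .inner [2, 3, 7, 8, 3, 4, 1, 2, 3, 7, 5, 6, 4, 5, 3, 4, 0, 1, 2, 3, 7, 4, 5, 3, 4, 2, 3, 1, 0, 2, 1, 3, 2, 4, 3, 5, 4, 7, 3, 2, 1, 0, 4, 3, 5, 4, 6, 5, 7, 3, 2, 1, 4, 3, 8, 7, 3, 2]⟩,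
  ⟨[(o10, o10), (o0, o0), (o215, o215), (o1965, o1965), (o14, o1099), (o256, o287)], 57, .node 2 57 [⟨o366, [(366, [])], 2119⟩,
      ⟨o1528, [(1528, [])], 2124⟩,
      ⟨o3121, [(3121, [])], 2129⟩,
      ⟨o3122, [(3122, [])], 2134⟩]⟩,
  ⟨[(o10, o10), (o0, o0), (o215, o215), (o1965, o1965), (o14, o1099), (o256, o287), (o12, o366)], 57, .node 4 57 [⟨o54, [(54, [])], 2120⟩,
      ⟨o482, [(482, [])], 2123⟩]⟩,
  ⟨[(o10, o10), (o0, o0), (o215, o215), (o1965, o1965), (o14, o1099), (o256, o287), (o12, o366), (o154, o54)], 57, .node 7 57 [⟨o9, [(9, [])], 2121⟩,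
      ⟨o244, [(244, [])], 2122⟩]⟩,
  ⟨[(o10, o10), (o0, o0), (o215, o215), (o1965, o1965), (o14, o1099), (o256, o287), (o12, o366), (o154, o54), (o243, o9)], 57, .conjw 2 [4, 3, 7, 8, 5, 4, 3, 7, 1, 2, 3, 4, 5, 3, 2, 0]⟩,
  ⟨[(o10, o10), (o0, o0), (o215, o215), (o1965, o1965), (o14, o1099), (o256, o287), (o12, o366), (o154, o54), (o243, o244)], 57, .conjw 1 [1, 2, 3, 7, 8, 0, 1, 2, 3, 7, 4, 5, 2, 3, 4, 1]⟩,
  ⟨[(o10, o10), (o0, o0), (o215, o215), (o1965, o1965), (o14, o1099), (o256, o287), (o12, o366), (o154, o482)], 57, .node 7 57 []⟩,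
  ⟨[(o10, o10), (o0, o0), (o215, o215), (o1965, o1965), (o14, o1099), (o256, o287), (o12, o1528)], 57, .node 4 57 [⟨o110, [(110, [])], 2125⟩,
      ⟨o393, [(393, [])], 2128⟩]⟩,
  ⟨[(o10, o10), (o0, o0), (o215, o215), (o1965, o1965), (o14, o1099), (o256, o287), (o12, o1528), (o154, o110)], 57, .node 7 57 [⟨o243, [(243, [])], 2126⟩,
      ⟨o253, [(253, [])], 2127⟩]⟩,
  ⟨[(o10, o10), (o0, o0), (o215, o215), (o1965, o1965), (o14, o1099), (o256, o287), (o12, o1528), (o154, o110), (o243, o243)], 57, .conjw 1 [2, 1, 0, 3, 2, 1, 4, 5, 6, 5, 4, 7, 3, 2, 1, 0, 8, 7, 3, 2, 1, 4, 5, 3, 4, 2, 3, 7, 8, 3, 4, 2, 3, 7, 5, 6, 3, 4, 5, 1, 2, 3, 4, 0, 1, 0]⟩,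
  ⟨[(o10, o10), (o0, o0), (o215, o215), (o1965, o1965), (o14, o1099), (o256, o287), (o12, o1528), (o154, o110), (o243, o253)], 57, .conjw 2 [4, 3, 7, 8, 5, 4, 3, 7, 1, 2, 3, 4, 5, 3, 4, 0]⟩,
  ⟨[(o10, o10), (o0, o0), (o215, o215), (o1965, o1965), (o14, o1099), (o256, o287), (o12, o1528), (o154, o393)], 57, .node 7 57 []⟩,
  ⟨[(o10, o10), (o0, o0), (o215, o215), (o1965, o1965), (o14, o1099), (o256, o287), (o12, o3121)], 57, .node 4 57 [⟨o54, [(54, [])], 2130⟩,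
      ⟨o482, [(482, [])], 2131⟩]⟩,
  ⟨[(o10, o10), (o0, o0), (o215, o215), (o1965, o1965), (o14, o1099), (o256, o287), (o12, o3121), (o154, o54)], 57, .node 7 57 []⟩,
  ⟨[(o10, o10), (o0, o0), (o215, o215), (o1965, o1965), (o14, o1099), (o256, o287), (o12, o3121), (o154, o482)], 57, .node 7 57 [⟨o243, [(243, [])], 2132⟩,
      ⟨o253, [(253, [])], 2133⟩]⟩,
  ⟨[(o10, o10), (o0, o0), (o215, o215), (o1965, o1965), (o14, o1099), (o256, o287), (o12, o3121), (o154, o482), (o243, o243)], 57, .inner [2, 3, 7, 4, 5, 3, 4, 2, 3, 7, 1, 2, 3, 4, 0, 1, 2, 3, 7, 8, 5, 4, 3, 7, 6, 5, 2, 3, 0, 2, 4, 3, 2, 5, 6, 7, 3, 4, 5, 8, 7, 3, 2, 1, 0, 4, 3, 2, 1, 7, 3, 2, 4, 3, 5, 4, 7, 3, 2]⟩,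
  ⟨[(o10, o10), (o0, o0), (o215, o215), (o1965, o1965), (o14, o1099), (o256, o287), (o12, o3121), (o154, o482), (o243, o253)], 57, .inner [1, 4, 5, 6, 5, 4, 3, 7, 3, 2, 1, 8, 4, 3, 7, 5, 6, 3, 4, 5, 2, 3, 4, 0, 1, 2, 3, 7, 6, 1, 2, 3, 4, 5, 2, 3, 0, 1, 0, 2, 4, 1, 0, 3, 2, 5, 4, 3, 2, 1, 6, 7, 3, 2, 1, 0, 4, 3, 2, 5, 4, 3, 6, 5, 7, 3, 4, 8, 1, 2, 3, 7, 3, 4, 5, 6, 5, 4, 1]⟩,
  ⟨[(o10, o10), (o0, o0), (o215, o215), (o1965, o1965), (o14, o1099), (o256, o287), (o12, o3122)], 57, .node 4 57 [⟨o110, [(110, [])], 2135⟩,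
      ⟨o393, [(393, [])], 2136⟩]⟩,
  ⟨[(o10, o10), (o0, o0), (o215, o215), (o1965, o1965), (o14, o1099), (o256, o287), (o12, o3122), (o154, o110)], 57, .node 7 57 []⟩,
  ⟨[(o10, o10), (o0, o0), (o215, o215), (o1965, o1965), (o14, o1099), (o256, o287), (o12, o3122), (o154, o393)], 57, .node 7 57 [⟨o9, [(9, [])], 2137⟩,
      ⟨o244, [(244, [])], 2138⟩]⟩,
  ⟨[(o10, o10), (o0, o0), (o215, o215), (o1965, o1965), (o14, o1099), (o256, o287), (o12, o3122), (o154, o393), (o243, o9)], 57, .inner [1, 4, 5, 6, 5, 4, 3, 2, 7, 8, 3, 4, 2, 3, 7, 5, 1, 2, 3, 4, 0, 1, 2, 3, 7, 6, 1, 2, 3, 4, 5, 1, 2, 3, 0, 1, 0, 2, 4, 1, 0, 3, 2, 1, 5, 4, 3, 2, 1, 6, 7, 3, 2, 1, 0, 4, 3, 2, 1, 5, 7, 3, 2, 4, 3, 8, 7, 2, 3, 4, 5, 6, 5, 4, 1]⟩,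
  ⟨[(o10, o10), (o0, o0), (o215, o215), (o1965, o1965), (o14, o1099), (o256, o287), (o12, o3122), (o154, o393), (o243, o244)], 57, .inner [2, 1, 0, 3, 7, 8, 3, 4, 2, 3, 7, 5, 6, 4, 5, 3, 4, 1, 2, 3, 7, 4, 5, 6, 3, 4, 5, 2, 3, 1, 0, 2, 4, 1, 3, 2, 5, 4, 3, 6, 5, 4, 7, 3, 2, 1, 4, 3, 5, 4, 6, 5, 7, 3, 2, 4, 3, 8, 7, 3, 0, 1, 2]⟩,
  ⟨[(o10, o10), (o0, o0), (o215, o215), (o1965, o1965), (o14, o1099), (o256, o363)], 57, .node 2 57 [⟨o366, [(366, [])], 2140⟩,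
      ⟨o1528, [(1528, [])], 2145⟩,
      ⟨o3121, [(3121, [])], 2150⟩,
      ⟨o3122, [(3122, [])], 2155⟩]⟩,
  ⟨[(o10, o10), (o0, o0), (o215, o215), (o1965, o1965), (o14, o1099), (o256, o363), (o12, o366)], 57, .node 7 57 [⟨o9, [(9, [])], 2141⟩,
      ⟨o244, [(244, [])], 2143⟩]⟩,
  ⟨[(o10, o10), (o0, o0), (o215, o215), (o1965, o1965), (o14, o1099), (o256, o363), (o12, o366), (o243, o9)], 57, .node 4 57 [⟨o112, [(112, [])], 2142⟩]⟩,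
  ⟨[(o10, o10), (o0, o0), (o215, o215), (o1965, o1965), (o14, o1099), (o256, o363), (o12, o366), (o243, o9), (o154, o112)], 57, .conjw 1 [4, 3, 7, 8, 5, 4, 3, 7, 1, 2, 3, 4, 5, 3, 2, 0]⟩,
  ⟨[(o10, o10), (o0, o0), (o215, o215), (o1965, o1965), (o14, o1099), (o256, o363), (o12, o366), (o243, o244)], 57, .node 4 57 [⟨o112, [(112, [])], 2144⟩]⟩,
  ⟨[(o10, o10), (o0, o0), (o215, o215), (o1965, o1965), (o14, o1099), (o256, o363), (o12, o366), (o243, o244), (o154, o112)], 57, .conjw 0 [4, 3, 7, 8, 5, 4, 3, 7, 1, 2, 3, 4, 5, 3, 2, 0]⟩,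
  ⟨[(o10, o10), (o0, o0), (o215, o215), (o1965, o1965), (o14, o1099), (o256, o363), (o12, o1528)], 57, .node 4 57 [⟨o111, [(111, [])], 2146⟩,
      ⟨o599, [(599, [])], 2149⟩]⟩,
  ⟨[(o10, o10), (o0, o0), (o215, o215), (o1965, o1965), (o14, o1099), (o256, o363), (o12, o1528), (o154, o111)], 57, .node 7 57 [⟨o243, [(243, [])], 2147⟩,
      ⟨o253, [(253, [])], 2148⟩]⟩,
  ⟨[(o10, o10), (o0, o0), (o215, o215), (o1965, o1965), (o14, o1099), (o256, o363), (o12, o1528), (o154, o111), (o243, o243)], 57, .conjw 2 [1, 4, 5, 2, 3, 4, 0, 1, 2, 3, 7, 8, 5, 4, 1, 2, 3, 7, 2, 3, 4, 3, 2, 1]⟩,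
  ⟨[(o10, o10), (o0, o0), (o215, o215), (o1965, o1965), (o14, o1099), (o256, o363), (o12, o1528), (o154, o111), (o243, o253)], 57, .conjw 1 [4, 3, 7, 8, 5, 4, 3, 7, 1, 2, 3, 4, 5, 3, 4, 0]⟩,
  ⟨[(o10, o10), (o0, o0), (o215, o215), (o1965, o1965), (o14, o1099), (o256, o363), (o12, o1528), (o154, o599)], 57, .node 7 57 []⟩,
  ⟨[(o10, o10), (o0, o0), (o215, o215), (o1965, o1965), (o14, o1099), (o256, o363), (o12, o3121)], 57, .node 7 57 [⟨o243, [(243, [])], 2151⟩,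
      ⟨o253, [(253, [])], 2153⟩]⟩,
  ⟨[(o10, o10), (o0, o0), (o215, o215), (o1965, o1965), (o14, o1099), (o256, o363), (o12, o3121), (o243, o243)], 57, .node 4 57 [⟨o1530, [(1530, [])], 2152⟩]⟩,
  ⟨[(o10, o10), (o0, o0), (o215, o215), (o1965, o1965), (o14, o1099), (o256, o363), (o12, o3121), (o243, o243), (o154, o1530)], 57, .inner [6, 5, 4, 3, 7, 8, 1, 2, 3, 7, 4, 5, 3, 4, 2, 3, 7, 6, 5, 4, 3, 1, 0, 2, 1, 3, 4, 5, 6, 7, 3, 2, 4, 3, 5, 4, 7, 3, 2, 1, 8, 7, 3, 4, 5, 6]⟩,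
  ⟨[(o10, o10), (o0, o0), (o215, o215), (o1965, o1965), (o14, o1099), (o256, o363), (o12, o3121), (o243, o253)], 57, .node 4 57 [⟨o1530, [(1530, [])], 2154⟩]⟩,
  ⟨[(o10, o10), (o0, o0), (o215, o215), (o1965, o1965), (o14, o1099), (o256, o363), (o12, o3121), (o243, o253), (o154, o1530)], 57, .inner [2, 3, 7, 8, 4, 3, 7, 2, 3, 4, 1, 2, 3, 7, 4, 5, 6, 3, 4, 5, 4, 3, 0, 1, 0, 2, 4, 1, 0, 3, 4, 5, 4, 3, 6, 5, 4, 7, 3, 2, 1, 4, 3, 2, 7, 3, 4, 8, 7, 3, 2]⟩,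
  ⟨[(o10, o10), (o0, o0), (o215, o215), (o1965, o1965), (o14, o1099), (o256, o363), (o12, o3122)], 57, .node 4 57 [⟨o111, [(111, [])], 2156⟩,
      ⟨o599, [(599, [])], 2157⟩]⟩,
  ⟨[(o10, o10), (o0, o0), (o215, o215), (o1965, o1965), (o14, o1099), (o256, o363), (o12, o3122), (o154, o111)], 57, .node 7 57 []⟩,
  ⟨[(o10, o10), (o0, o0), (o215, o215), (o1965, o1965), (o14, o1099), (o256, o363), (o12, o3122), (o154, o599)], 57, .node 7 57 [⟨o9, [(9, [])], 2158⟩,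
      ⟨o244, [(244, [])], 2159⟩]⟩,
  ⟨[(o10, o10), (o0, o0), (o215, o215), (o1965, o1965), (o14, o1099), (o256, o363), (o12, o3122), (o154, o599), (o243, o9)], 57, .inner [6, 5, 4, 3, 7, 8, 1, 2, 3, 7, 4, 5, 3, 4, 2, 3, 7, 6, 5, 4, 3, 1, 0, 2, 4, 1, 3, 4, 5, 6, 7, 3, 2, 4, 3, 5, 4, 7, 3, 2, 1, 8, 7, 3, 4, 5, 6]⟩,
  ⟨[(o10, o10), (o0, o0), (o215, o215), (o1965, o1965), (o14, o1099), (o256, o363), (o12, o3122), (o154, o599), (o243, o244)], 57, .inner [4, 3, 2, 6, 5, 7, 8, 3, 7, 4, 5, 3, 4, 2, 3, 7, 8, 4, 3, 7, 6, 5, 1, 2, 3, 4, 0, 1, 2, 3, 7, 5, 6, 4, 5, 3, 4, 2, 3, 1, 0, 2, 1, 3, 2, 4, 3, 5, 4, 6, 5, 7, 3, 2, 1, 0, 4, 3, 2, 1, 5, 6, 7, 3, 4, 8, 7, 3, 2, 4, 3, 5, 4, 7, 3, 8, 7, 5, 6, 2, 3, 4]⟩,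
  ⟨[(o10, o10), (o0, o0), (o215, o215), (o1965, o1965), (o14, o1099), (o256, o485)], 57, .node 2 57 [⟨o477, [(477, [])], 2161⟩,
      ⟨o511, [(511, [])], 2166⟩,
      ⟨o785, [(785, [])], 2171⟩,
      ⟨o786, [(786, [])], 2174⟩]⟩,
  ⟨[(o10, o10), (o0, o0), (o215, o215), (o1965, o1965), (o14, o1099), (o256, o485), (o12, o477)], 57, .node 4 57 [⟨o599, [(599, [])], 2162⟩,
      ⟨o1481, [(1481, [])], 2165⟩]⟩,
  ⟨[(o10, o10), (o0, o0), (o215, o215), (o1965, o1965), (o14, o1099), (o256, o485), (o12, o477), (o154, o599)], 57, .node 7 57 [⟨o784, [(784, [])], 2163⟩,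
      ⟨o1483, [(1483, [])], 2164⟩]⟩,
  ⟨[(o10, o10), (o0, o0), (o215, o215), (o1965, o1965), (o14, o1099), (o256, o485), (o12, o477), (o154, o599), (o243, o784)], 57, .inner [4, 3, 2, 1, 5, 4, 3, 7, 8, 3, 7, 6, 4, 5, 2, 3, 4, 0, 1, 2, 3, 7, 1, 2, 3, 4, 5, 4, 3, 1, 0, 2, 4, 1, 3, 4, 5, 4, 3, 2, 1, 7, 3, 2, 1, 0, 4, 3, 2, 5, 4, 6, 7, 3, 8, 7, 3, 4, 5, 1, 2, 3, 4]⟩,
  ⟨[(o10, o10), (o0, o0), (o215, o215), (o1965, o1965), (o14, o1099), (o256, o485), (o12, o477), (o154, o599), (o243, o1483)], 57, .inner [2, 7, 8, 4, 3, 7, 5, 6, 4, 5, 3, 4, 2, 3, 7, 8, 2, 3, 4, 1, 2, 3, 7, 5, 4, 3, 0, 1, 0, 2, 4, 1, 0, 3, 4, 5, 7, 3, 2, 1, 4, 3, 2, 8, 7, 3, 2, 4, 3, 5, 4, 6, 5, 7, 3, 4, 8, 7, 2]⟩,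
  ⟨[(o10, o10), (o0, o0), (o215, o215), (o1965, o1965), (o14, o1099), (o256, o485), (o12, o477), (o154, o1481)], 57, .node 7 57 []⟩,
  ⟨[(o10, o10), (o0, o0), (o215, o215), (o1965, o1965), (o14, o1099), (o256, o485), (o12, o511)], 57, .node 4 57 [⟨o391, [(391, [])], 2167⟩,
      ⟨o1530, [(1530, [])], 2168⟩]⟩,
  ⟨[(o10, o10), (o0, o0), (o215, o215), (o1965, o1965), (o14, o1099), (o256, o485), (o12, o511), (o154, o391)], 57, .node 7 57 []⟩,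
  ⟨[(o10, o10), (o0, o0), (o215, o215), (o1965, o1965), (o14, o1099), (o256, o485), (o12, o511), (o154, o1530)], 57, .node 7 57 [⟨o1566, [(1566, [])], 2169⟩,
      ⟨o1762, [(1762, [])], 2170⟩]⟩,
  ⟨[(o10, o10), (o0, o0), (o215, o215), (o1965, o1965), (o14, o1099), (o256, o485), (o12, o511), (o154, o1530), (o243, o1566)], 57, .inner [1, 4, 5, 6, 5, 4, 3, 2, 7, 3, 8, 4, 2, 3, 7, 5, 6, 3, 4, 5, 1, 2, 3, 4, 0, 1, 2, 3, 7, 3, 4, 5, 1, 2, 3, 1, 0, 2, 4, 1, 3, 2, 1, 5, 4, 3, 7, 3, 2, 1, 0, 4, 3, 2, 1, 5, 4, 3, 6, 5, 7, 3, 2, 4, 8, 3, 7, 2, 3, 4, 5, 6, 5, 4, 1]⟩,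
  ⟨[(o10, o10), (o0, o0), (o215, o215), (o1965, o1965), (o14, o1099), (o256, o485), (o12, o511), (o154, o1530), (o243, o1762)], 57, .inner [1, 0, 2, 1, 0, 3, 2, 6, 5, 4, 3, 7, 8, 3, 4, 2, 3, 7, 5, 6, 4, 5, 3, 4, 1, 2, 3, 7, 6, 4, 5, 1, 2, 3, 0, 1, 0, 2, 4, 1, 0, 3, 2, 1, 5, 4, 6, 7, 3, 2, 1, 4, 3, 5, 4, 6, 5, 7, 3, 2, 4, 3, 8, 7, 3, 4, 5, 6, 2, 3, 0, 1, 2, 0, 1]⟩,
  ⟨[(o10, o10), (o0, o0), (o215, o215), (o1965, o1965), (o14, o1099), (o256, o485), (o12, o785)], 57, .node 4 57 [⟨o391, [(391, [])], 2172⟩,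
      ⟨o1530, [(1530, [])], 2173⟩]⟩,
  ⟨[(o10, o10), (o0, o0), (o215, o215), (o1965, o1965), (o14, o1099), (o256, o485), (o12, o785), (o154, o391)], 57, .node 7 57 []⟩,
  ⟨[(o10, o10), (o0, o0), (o215, o215), (o1965, o1965), (o14, o1099), (o256, o485), (o12, o785), (o154, o1530)], 57, .node 7 57 []⟩,
  ⟨[(o10, o10), (o0, o0), (o215, o215), (o1965, o1965), (o14, o1099), (o256, o485), (o12, o786)], 57, .node 4 57 [⟨o599, [(599, [])], 2175⟩,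
      ⟨o1481, [(1481, [])], 2176⟩]⟩,
  ⟨[(o10, o10), (o0, o0), (o215, o215), (o1965, o1965), (o14, o1099), (o256, o485), (o12, o786), (o154, o599)], 57, .node 7 57 []⟩]

/-- Nodes. -/
def nd17 : List ONode := [
  ⟨[(o10, o10), (o0, o0), (o215, o215), (o1965, o1965), (o14, o1099), (o256, o485), (o12, o786), (o154, o1481)], 57, .node 7 57 []⟩,
  ⟨[(o10, o10), (o0, o0), (o215, o215), (o1965, o1965), (o14, o1099), (o256, o486)], 57, .node 2 57 [⟨o477, [(477, [])], 2178⟩,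
      ⟨o511, [(511, [])], 2183⟩,
      ⟨o785, [(785, [])], 2188⟩,
      ⟨o786, [(786, [])], 2191⟩]⟩,
  ⟨[(o10, o10), (o0, o0), (o215, o215), (o1965, o1965), (o14, o1099), (o256, o486), (o12, o477)], 57, .node 7 57 [⟨o784, [(784, [])], 2179⟩,
      ⟨o1483, [(1483, [])], 2181⟩]⟩,
  ⟨[(o10, o10), (o0, o0), (o215, o215), (o1965, o1965), (o14, o1099), (o256, o486), (o12, o477), (o243, o784)], 57, .node 4 57 [⟨o393, [(393, [])], 2180⟩]⟩,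
  ⟨[(o10, o10), (o0, o0), (o215, o215), (o1965, o1965), (o14, o1099), (o256, o486), (o12, o477), (o243, o784), (o154, o393)], 57, .inner [6, 5, 4, 3, 7, 8, 5, 4, 1, 2, 3, 7, 6, 5, 4, 3, 0, 1, 0, 2, 4, 1, 0, 3, 4, 5, 6, 7, 3, 2, 1, 4, 5, 8, 7, 3, 4, 5, 6]⟩,
  ⟨[(o10, o10), (o0, o0), (o215, o215), (o1965, o1965), (o14, o1099), (o256, o486), (o12, o477), (o243, o1483)], 57, .node 4 57 [⟨o393, [(393, [])], 2182⟩]⟩,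
  ⟨[(o10, o10), (o0, o0), (o215, o215), (o1965, o1965), (o14, o1099), (o256, o486), (o12, o477), (o243, o1483), (o154, o393)], 57, .inner [6, 5, 4, 3, 7, 8, 5, 4, 1, 2, 3, 7, 6, 5, 4, 3, 0, 1, 0, 2, 1, 0, 3, 4, 5, 6, 7, 3, 2, 1, 4, 5, 8, 7, 3, 4, 5, 6]⟩,
  ⟨[(o10, o10), (o0, o0), (o215, o215), (o1965, o1965), (o14, o1099), (o256, o486), (o12, o511)], 57, .node 4 57 [⟨o392, [(392, [])], 2184⟩,
      ⟨o482, [(482, [])], 2185⟩]⟩,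
  ⟨[(o10, o10), (o0, o0), (o215, o215), (o1965, o1965), (o14, o1099), (o256, o486), (o12, o511), (o154, o392)], 57, .node 7 57 []⟩,
  ⟨[(o10, o10), (o0, o0), (o215, o215), (o1965, o1965), (o14, o1099), (o256, o486), (o12, o511), (o154, o482)], 57, .node 7 57 [⟨o1566, [(1566, [])], 2186⟩,
      ⟨o1762, [(1762, [])], 2187⟩]⟩,
  ⟨[(o10, o10), (o0, o0), (o215, o215), (o1965, o1965), (o14, o1099), (o256, o486), (o12, o511), (o154, o482), (o243, o1566)], 57, .inner [6, 5, 4, 3, 7, 8, 5, 4, 1, 2, 3, 7, 4, 5, 6, 3, 4, 5, 4, 3, 0, 1, 0, 2, 4, 1, 0, 3, 4, 5, 4, 3, 6, 5, 4, 7, 3, 2, 1, 4, 5, 8, 7, 3, 4, 5, 6]⟩,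
  ⟨[(o10, o10), (o0, o0), (o215, o215), (o1965, o1965), (o14, o1099), (o256, o486), (o12, o511), (o154, o482), (o243, o1762)], 57, .inner [4, 5, 3, 4, 2, 3, 7, 8, 3, 4, 2, 3, 7, 5, 1, 2, 3, 4, 0, 1, 2, 3, 7, 5, 6, 4, 5, 3, 4, 0, 1, 2, 3, 1, 0, 2, 1, 3, 2, 1, 0, 4, 3, 5, 4, 6, 5, 7, 3, 2, 1, 0, 4, 3, 2, 1, 5, 7, 3, 2, 4, 3, 8, 7, 3, 2, 4, 3, 5, 4]⟩,
  ⟨[(o10, o10), (o0, o0), (o215, o215), (o1965, o1965), (o14, o1099), (o256, o486), (o12, o785)], 57, .node 4 57 [⟨o392, [(392, [])], 2189⟩,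
      ⟨o482, [(482, [])], 2190⟩]⟩,
  ⟨[(o10, o10), (o0, o0), (o215, o215), (o1965, o1965), (o14, o1099), (o256, o486), (o12, o785), (o154, o392)], 57, .node 7 57 []⟩,
  ⟨[(o10, o10), (o0, o0), (o215, o215), (o1965, o1965), (o14, o1099), (o256, o486), (o12, o785), (o154, o482)], 57, .node 7 57 []⟩,
  ⟨[(o10, o10), (o0, o0), (o215, o215), (o1965, o1965), (o14, o1099), (o256, o486), (o12, o786)], 57, .node 7 57 [⟨o1566, [(1566, [])], 2192⟩,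
      ⟨o1762, [(1762, [])], 2193⟩]⟩,
  ⟨[(o10, o10), (o0, o0), (o215, o215), (o1965, o1965), (o14, o1099), (o256, o486), (o12, o786), (o243, o1566)], 57, .node 4 57 []⟩,
  ⟨[(o10, o10), (o0, o0), (o215, o215), (o1965, o1965), (o14, o1099), (o256, o486), (o12, o786), (o243, o1762)], 57, .node 4 57 []⟩,
  ⟨[(o10, o10), (o0, o0), (o215, o215), (o1965, o1965), (o14, o1099), (o256, o2149)], 57, .node 2 57 [⟨o1302, [(1302, [])], 2195⟩,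
      ⟨o1568, [(1568, [])], 2199⟩,
      ⟨o1569, [(1569, [])], 2201⟩,
      ⟨o2201, [(2201, [])], 2204⟩]⟩,
  ⟨[(o10, o10), (o0, o0), (o215, o215), (o1965, o1965), (o14, o1099), (o256, o2149), (o12, o1302)], 57, .node 4 57 [⟨o2550, [(2550, [])], 2196⟩]⟩,
  ⟨[(o10, o10), (o0, o0), (o215, o215), (o1965, o1965), (o14, o1099), (o256, o2149), (o12, o1302), (o154, o2550)], 57, .node 7 57 [⟨o784, [(784, [])], 2197⟩,
      ⟨o1483, [(1483, [])], 2198⟩]⟩,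
  ⟨[(o10, o10), (o0, o0), (o215, o215), (o1965, o1965), (o14, o1099), (o256, o2149), (o12, o1302), (o154, o2550), (o243, o784)], 57, .inner [6, 5, 4, 3, 7, 8, 3, 7, 4, 5, 3, 4, 1, 2, 3, 7, 4, 5, 6, 3, 4, 5, 4, 3, 0, 1, 0, 2, 4, 1, 0, 3, 4, 5, 4, 3, 6, 5, 4, 7, 3, 2, 1, 4, 3, 5, 4, 7, 3, 8, 7, 3, 4, 5, 6]⟩,
  ⟨[(o10, o10), (o0, o0), (o215, o215), (o1965, o1965), (o14, o1099), (o256, o2149), (o12, o1302), (o154, o2550), (o243, o1483)], 57, .inner [6, 5, 4, 3, 7, 8, 3, 7, 4, 5, 3, 4, 1, 2, 3, 7, 6, 5, 4, 3, 0, 1, 0, 2, 1, 0, 3, 4, 5, 6, 7, 3, 2, 1, 4, 3, 5, 4, 7, 3, 8, 7, 3, 4, 5, 6]⟩,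
  ⟨[(o10, o10), (o0, o0), (o215, o215), (o1965, o1965), (o14, o1099), (o256, o2149), (o12, o1568)], 57, .node 4 57 [⟨o2550, [(2550, [])], 2200⟩]⟩,
  ⟨[(o10, o10), (o0, o0), (o215, o215), (o1965, o1965), (o14, o1099), (o256, o2149), (o12, o1568), (o154, o2550)], 57, .node 7 57 []⟩,
  ⟨[(o10, o10), (o0, o0), (o215, o215), (o1965, o1965), (o14, o1099), (o256, o2149), (o12, o1569)], 57, .node 7 57 [⟨o784, [(784, [])], 2202⟩,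
      ⟨o1483, [(1483, [])], 2203⟩]⟩,
  ⟨[(o10, o10), (o0, o0), (o215, o215), (o1965, o1965), (o14, o1099), (o256, o2149), (o12, o1569), (o243, o784)], 57, .node 4 57 []⟩,
  ⟨[(o10, o10), (o0, o0), (o215, o215), (o1965, o1965), (o14, o1099), (o256, o2149), (o12, o1569), (o243, o1483)], 57, .node 4 57 []⟩,
  ⟨[(o10, o10), (o0, o0), (o215, o215), (o1965, o1965), (o14, o1099), (o256, o2149), (o12, o2201)], 57, .node 7 57 [⟨o1566, [(1566, [])], 2205⟩,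
      ⟨o1762, [(1762, [])], 2207⟩]⟩,
  ⟨[(o10, o10), (o0, o0), (o215, o215), (o1965, o1965), (o14, o1099), (o256, o2149), (o12, o2201), (o243, o1566)], 57, .node 4 57 [⟨o2642, [(2642, [])], 2206⟩]⟩,
  ⟨[(o10, o10), (o0, o0), (o215, o215), (o1965, o1965), (o14, o1099), (o256, o2149), (o12, o2201), (o243, o1566), (o154, o2642)], 57, .inner [6, 5, 4, 3, 7, 8, 3, 7, 4, 5, 3, 4, 1, 2, 3, 7, 6, 5, 4, 3, 0, 1, 0, 2, 4, 1, 0, 3, 4, 5, 6, 7, 3, 2, 1, 4, 3, 5, 4, 7, 3, 8, 7, 3, 4, 5, 6]⟩,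
  ⟨[(o10, o10), (o0, o0), (o215, o215), (o1965, o1965), (o14, o1099), (o256, o2149), (o12, o2201), (o243, o1762)], 57, .node 4 57 [⟨o2642, [(2642, [])], 2208⟩]⟩,
  ⟨[(o10, o10), (o0, o0), (o215, o215), (o1965, o1965), (o14, o1099), (o256, o2149), (o12, o2201), (o243, o1762), (o154, o2642)], 57, .inner [4, 3, 2, 7, 8, 3, 4, 1, 2, 3, 7, 3, 4, 5, 2, 3, 4, 0, 1, 2, 3, 7, 8, 4, 5, 3, 4, 2, 3, 7, 6, 5, 3, 4, 2, 3, 0, 1, 0, 2, 1, 0, 3, 2, 4, 3, 5, 6, 7, 3, 2, 4, 3, 5, 4, 8, 7, 3, 2, 1, 0, 4, 3, 2, 5, 4, 3, 7, 3, 2, 1, 4, 3, 8, 7, 2, 3, 4]⟩,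
  ⟨[(o10, o10), (o0, o0), (o215, o215), (o1965, o1965), (o14, o1099), (o256, o2150)], 57, .node 4 57 [⟨o2383, [(2383, [])], 2210⟩,
      ⟨o2384, [(2384, [])], 2215⟩]⟩,
  ⟨[(o10, o10), (o0, o0), (o215, o215), (o1965, o1965), (o14, o1099), (o256, o2150), (o154, o2383)], 57, .node 2 57 [⟨o1302, [(1302, [])], 2211⟩,
      ⟨o1568, [(1568, [])], 2214⟩]⟩,
  ⟨[(o10, o10), (o0, o0), (o215, o215), (o1965, o1965), (o14, o1099), (o256, o2150), (o154, o2383), (o12, o1302)], 57, .node 7 57 [⟨o784, [(784, [])], 2212⟩,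
      ⟨o1483, [(1483, [])], 2213⟩]⟩,
  ⟨[(o10, o10), (o0, o0), (o215, o215), (o1965, o1965), (o14, o1099), (o256, o2150), (o154, o2383), (o12, o1302), (o243, o784)], 57, .inner [1, 4, 5, 6, 5, 4, 3, 2, 7, 3, 2, 1, 8, 4, 3, 7, 5, 6, 3, 4, 5, 2, 3, 4, 0, 1, 2, 3, 7, 6, 1, 2, 3, 4, 5, 2, 3, 1, 0, 2, 4, 1, 3, 2, 5, 4, 3, 2, 1, 6, 7, 3, 2, 1, 0, 4, 3, 2, 5, 4, 3, 6, 5, 7, 3, 4, 8, 1, 2, 3, 7, 2, 3, 4, 5, 6, 5, 4, 1]⟩,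
  ⟨[(o10, o10), (o0, o0), (o215, o215), (o1965, o1965), (o14, o1099), (o256, o2150), (o154, o2383), (o12, o1302), (o243, o1483)], 57, .inner [6, 7, 3, 4, 2, 3, 7, 5, 6, 4, 5, 3, 4, 2, 3, 7, 8, 3, 4, 1, 2, 3, 7, 5, 4, 3, 0, 1, 0, 2, 4, 1, 0, 3, 4, 5, 7, 3, 2, 1, 4, 3, 8, 7, 3, 2, 4, 3, 5, 4, 6, 5, 7, 3, 2, 4, 3, 7, 6]⟩,
  ⟨[(o10, o10), (o0, o0), (o215, o215), (o1965, o1965), (o14, o1099), (o256, o2150), (o154, o2383), (o12, o1568)], 57, .node 7 57 []⟩,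
  ⟨[(o10, o10), (o0, o0), (o215, o215), (o1965, o1965), (o14, o1099), (o256, o2150), (o154, o2384)], 57, .node 2 57 [⟨o1569, [(1569, [])], 2216⟩,
      ⟨o2201, [(2201, [])], 2217⟩]⟩,
  ⟨[(o10, o10), (o0, o0), (o215, o215), (o1965, o1965), (o14, o1099), (o256, o2150), (o154, o2384), (o12, o1569)], 57, .node 7 57 []⟩,
  ⟨[(o10, o10), (o0, o0), (o215, o215), (o1965, o1965), (o14, o1099), (o256, o2150), (o154, o2384), (o12, o2201)], 57, .node 7 57 [⟨o1566, [(1566, [])], 2218⟩,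
      ⟨o1762, [(1762, [])], 2219⟩]⟩,
  ⟨[(o10, o10), (o0, o0), (o215, o215), (o1965, o1965), (o14, o1099), (o256, o2150), (o154, o2384), (o12, o2201), (o243, o1566)], 57, .inner [4, 5, 6, 5, 4, 3, 7, 8, 3, 4, 2, 3, 7, 5, 1, 2, 3, 4, 0, 1, 2, 3, 7, 6, 1, 2, 3, 4, 5, 4, 3, 1, 0, 2, 4, 1, 3, 4, 5, 4, 3, 2, 1, 6, 7, 3, 2, 1, 0, 4, 3, 2, 1, 5, 7, 3, 2, 4, 3, 8, 7, 3, 4, 5, 6, 5, 4]⟩,
  ⟨[(o10, o10), (o0, o0), (o215, o215), (o1965, o1965), (o14, o1099), (o256, o2150), (o154, o2384), (o12, o2201), (o243, o1762)], 57, .inner [1, 0, 2, 1, 6, 5, 7, 3, 2, 1, 0, 4, 3, 8, 7, 3, 4, 2, 3, 7, 8, 7, 5, 6, 4, 5, 3, 4, 1, 2, 3, 7, 6, 4, 5, 1, 2, 3, 0, 1, 0, 2, 4, 1, 0, 3, 2, 1, 5, 4, 6, 7, 3, 2, 1, 4, 3, 5, 4, 6, 5, 7, 8, 7, 3, 2, 4, 3, 7, 8, 3, 4, 0, 1, 2, 3, 7, 5, 6, 1, 2, 0, 1]⟩,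
  ⟨[(o10, o10), (o0, o0), (o215, o215), (o1965, o1965), (o14, o1678)], 51, .node 2 58 [⟨o189, [(189, [])], 2221⟩,
      ⟨o190, [(190, [])], 2232⟩,
      ⟨o252, [(252, [])], 2243⟩,
      ⟨o255, [(255, [])], 2258⟩,
      ⟨o522, [(522, [])], 2271⟩,
      ⟨o523, [(523, [])], 2282⟩,
      ⟨o1675, [(1675, [])], 2293⟩,
      ⟨o1676, [(1676, [])], 2310⟩]⟩,
  ⟨[(o10, o10), (o0, o0), (o215, o215), (o1965, o1965), (o14, o1678), (o12, o189)], 58, .node 6 58 [⟨o287, [(287, [])], 2222⟩,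
      ⟨o363, [(363, [])], 2227⟩]⟩,
  ⟨[(o10, o10), (o0, o0), (o215, o215), (o1965, o1965), (o14, o1678), (o12, o189), (o256, o287)], 58, .node 4 58 [⟨o2896, [(2896, [])], 2223⟩,
      ⟨o3435, [(3435, [])], 2224⟩]⟩,
  ⟨[(o10, o10), (o0, o0), (o215, o215), (o1965, o1965), (o14, o1678), (o12, o189), (o256, o287), (o154, o2896)], 58, .node 7 58 []⟩,
  ⟨[(o10, o10), (o0, o0), (o215, o215), (o1965, o1965), (o14, o1678), (o12, o189), (o256, o287), (o154, o3435)], 58, .node 7 58 [⟨o586, [(586, [])], 2225⟩,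
      ⟨o1299, [(1299, [])], 2226⟩]⟩,
  ⟨[(o10, o10), (o0, o0), (o215, o215), (o1965, o1965), (o14, o1678), (o12, o189), (o256, o287), (o154, o3435), (o243, o586)], 58, .inner [2, 1, 3, 2, 4, 6, 7, 8, 3, 4, 2, 3, 7, 5, 1, 2, 3, 4, 0, 1, 2, 3, 7, 6, 1, 2, 3, 4, 5, 1, 2, 3, 0, 1, 0, 2, 4, 1, 0, 3, 2, 1, 5, 4, 3, 2, 1, 6, 7, 3, 2, 1, 0, 4, 3, 2, 1, 5, 7, 3, 2, 4, 3, 8, 7, 6, 4, 2, 3, 1, 2]⟩,
  ⟨[(o10, o10), (o0, o0), (o215, o215), (o1965, o1965), (o14, o1678), (o12, o189), (o256, o287), (o154, o3435), (o243, o1299)], 58, .inner [2, 4, 3, 2, 1, 0, 5, 4, 3, 6, 7, 8, 3, 4, 2, 3, 7, 5, 6, 4, 5, 3, 4, 1, 2, 3, 7, 4, 5, 6, 3, 4, 5, 2, 3, 1, 0, 2, 4, 1, 3, 2, 5, 4, 3, 6, 5, 4, 7, 3, 2, 1, 4, 3, 5, 4, 6, 5, 7, 3, 2, 4, 3, 8, 7, 6, 3, 4, 5, 0, 1, 2, 3, 4, 2]⟩,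
  ⟨[(o10, o10), (o0, o0), (o215, o215), (o1965, o1965), (o14, o1678), (o12, o189), (o256, o363)], 58, .node 4 58 [⟨o2893, [(2893, [])], 2228⟩,
      ⟨o2928, [(2928, [])], 2229⟩]⟩,
  ⟨[(o10, o10), (o0, o0), (o215, o215), (o1965, o1965), (o14, o1678), (o12, o189), (o256, o363), (o154, o2893)], 58, .node 7 58 []⟩,
  ⟨[(o10, o10), (o0, o0), (o215, o215), (o1965, o1965), (o14, o1678), (o12, o189), (o256, o363), (o154, o2928)], 58, .node 7 58 [⟨o586, [(586, [])], 2230⟩,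
      ⟨o1299, [(1299, [])], 2231⟩]⟩,
  ⟨[(o10, o10), (o0, o0), (o215, o215), (o1965, o1965), (o14, o1678), (o12, o189), (o256, o363), (o154, o2928), (o243, o586)], 58, .inner [2, 1, 0, 3, 2, 7, 3, 4, 1, 2, 3, 7, 5, 6, 4, 5, 3, 4, 2, 3, 7, 8, 4, 1, 2, 3, 7, 4, 2, 3, 0, 1, 0, 2, 4, 1, 0, 3, 2, 4, 7, 3, 2, 1, 4, 8, 7, 3, 2, 4, 3, 5, 4, 6, 5, 7, 3, 2, 1, 4, 3, 7, 2, 3, 0, 1, 2]⟩,
  ⟨[(o10, o10), (o0, o0), (o215, o215), (o1965, o1965), (o14, o1678), (o12, o189), (o256, o363), (o154, o2928), (o243, o1299)], 58, .inner [2, 1, 3, 4, 6, 7, 3, 2, 1, 8, 4, 3, 7, 5, 6, 3, 4, 5, 2, 3, 4, 0, 1, 2, 3, 7, 6, 1, 2, 3, 4, 5, 2, 3, 0, 1, 0, 2, 4, 1, 0, 3, 2, 5, 4, 3, 2, 1, 6, 7, 3, 2, 1, 0, 4, 3, 2, 5, 4, 3, 6, 5, 7, 3, 4, 8, 1, 2, 3, 7, 6, 4, 3, 1, 2]⟩,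
  ⟨[(o10, o10), (o0, o0), (o215, o215), (o1965, o1965), (o14, o1678), (o12, o190)], 58, .node 6 58 [⟨o287, [(287, [])], 2233⟩,
      ⟨o363, [(363, [])], 2238⟩]⟩,
  ⟨[(o10, o10), (o0, o0), (o215, o215), (o1965, o1965), (o14, o1678), (o12, o190), (o256, o287)], 58, .node 4 58 [⟨o2895, [(2895, [])], 2234⟩,
      ⟨o3434, [(3434, [])], 2235⟩]⟩,
  ⟨[(o10, o10), (o0, o0), (o215, o215), (o1965, o1965), (o14, o1678), (o12, o190), (o256, o287), (o154, o2895)], 58, .node 7 58 []⟩,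
  ⟨[(o10, o10), (o0, o0), (o215, o215), (o1965, o1965), (o14, o1678), (o12, o190), (o256, o287), (o154, o3434)], 58, .node 7 58 [⟨o1298, [(1298, [])], 2236⟩,
      ⟨o1734, [(1734, [])], 2237⟩]⟩,
  ⟨[(o10, o10), (o0, o0), (o215, o215), (o1965, o1965), (o14, o1678), (o12, o190), (o256, o287), (o154, o3434), (o243, o1298)], 58, .inner [1, 0, 2, 1, 7, 8, 3, 7, 6, 5, 2, 3, 4, 1, 2, 3, 7, 8, 5, 4, 0, 1, 2, 3, 7, 6, 4, 5, 2, 3, 0, 2, 4, 3, 2, 5, 4, 6, 7, 3, 2, 1, 0, 4, 5, 8, 7, 3, 2, 1, 4, 3, 2, 5, 6, 7, 3, 8, 7, 1, 2, 0, 1]⟩,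
  ⟨[(o10, o10), (o0, o0), (o215, o215), (o1965, o1965), (o14, o1678), (o12, o190), (o256, o287), (o154, o3434), (o243, o1734)], 58, .inner [2, 3, 7, 8, 6, 3, 4, 5, 1, 2, 3, 4, 0, 1, 2, 3, 7, 5, 6, 4, 5, 3, 4, 1, 2, 3, 0, 1, 0, 2, 1, 0, 3, 2, 1, 4, 3, 5, 4, 6, 5, 7, 3, 2, 1, 0, 4, 3, 2, 1, 5, 4, 3, 6, 8, 7, 3, 2]⟩,
  ⟨[(o10, o10), (o0, o0), (o215, o215), (o1965, o1965), (o14, o1678), (o12, o190), (o256, o363)], 58, .node 7 58 [⟨o1298, [(1298, [])], 2239⟩,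
      ⟨o1734, [(1734, [])], 2241⟩]⟩,
  ⟨[(o10, o10), (o0, o0), (o215, o215), (o1965, o1965), (o14, o1678), (o12, o190), (o256, o363), (o243, o1298)], 58, .node 4 58 [⟨o2927, [(2927, [])], 2240⟩]⟩,
  ⟨[(o10, o10), (o0, o0), (o215, o215), (o1965, o1965), (o14, o1678), (o12, o190), (o256, o363), (o243, o1298), (o154, o2927)], 58, .inner [4, 3, 2, 5, 4, 3, 7, 8, 3, 4, 2, 3, 7, 6, 5, 1, 2, 3, 4, 0, 1, 2, 3, 7, 5, 6, 4, 5, 2, 3, 0, 1, 0, 2, 4, 1, 0, 3, 2, 5, 4, 6, 5, 7, 3, 2, 1, 0, 4, 3, 2, 1, 5, 6, 7, 3, 2, 4, 3, 8, 7, 3, 4, 5, 2, 3, 4]⟩,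
  ⟨[(o10, o10), (o0, o0), (o215, o215), (o1965, o1965), (o14, o1678), (o12, o190), (o256, o363), (o243, o1734)], 58, .node 4 58 [⟨o2927, [(2927, [])], 2242⟩]⟩,
  ⟨[(o10, o10), (o0, o0), (o215, o215), (o1965, o1965), (o14, o1678), (o12, o190), (o256, o363), (o243, o1734), (o154, o2927)], 58, .inner [2, 1, 0, 3, 2, 7, 8, 3, 4, 2, 3, 7, 5, 6, 4, 5, 3, 4, 1, 2, 3, 7, 1, 2, 3, 4, 5, 1, 2, 3, 0, 1, 0, 2, 4, 1, 0, 3, 2, 1, 5, 4, 3, 2, 1, 7, 3, 2, 1, 4, 3, 5, 4, 6, 5, 7, 3, 2, 4, 3, 8, 7, 2, 3, 0, 1, 2]⟩,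
  ⟨[(o10, o10), (o0, o0), (o215, o215), (o1965, o1965), (o14, o1678), (o12, o252)], 58, .node 6 58 [⟨o2149, [(2149, [])], 2244⟩,
      ⟨o2150, [(2150, [])], 2252⟩]⟩,
  ⟨[(o10, o10), (o0, o0), (o215, o215), (o1965, o1965), (o14, o1678), (o12, o252), (o256, o2149)], 58, .node 4 58 [⟨o1743, [(1743, [])], 2245⟩,
      ⟨o2896, [(2896, [])], 2250⟩,
      ⟨o3057, [(3057, [])], 2251⟩]⟩,
  ⟨[(o10, o10), (o0, o0), (o215, o215), (o1965, o1965), (o14, o1678), (o12, o252), (o256, o2149), (o154, o1743)], 58, .node 7 58 [⟨o1614, [(1614, [])], 2246⟩,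
      ⟨o1851, [(1851, [])], 2247⟩,
      ⟨o2142, [(2142, [])], 2248⟩,
      ⟨o2976, [(2976, [])], 2249⟩]⟩,
  ⟨[(o10, o10), (o0, o0), (o215, o215), (o1965, o1965), (o14, o1678), (o12, o252), (o256, o2149), (o154, o1743), (o243, o1614)], 58, .inner [4, 3, 2, 6, 7, 3, 2, 8, 7, 4, 5, 3, 4, 2, 3, 7, 8, 3, 7, 6, 5, 2, 3, 4, 1, 2, 3, 7, 5, 4, 2, 3, 0, 1, 0, 2, 4, 1, 0, 3, 2, 4, 5, 7, 3, 2, 1, 4, 3, 2, 5, 6, 7, 3, 8, 7, 3, 2, 4, 3, 5, 4, 7, 8, 2, 3, 7, 6, 2, 3, 4]⟩,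
  ⟨[(o10, o10), (o0, o0), (o215, o215), (o1965, o1965), (o14, o1678), (o12, o252), (o256, o2149), (o154, o1743), (o243, o1851)], 58, .inner [1, 7, 4, 5, 2, 3, 4, 0, 1, 2, 3, 7, 8, 7, 3, 4, 2, 3, 7, 5, 6, 4, 5, 1, 2, 3, 0, 1, 0, 2, 4, 1, 0, 3, 2, 1, 5, 4, 6, 5, 7, 3, 2, 4, 3, 7, 8, 7, 3, 2, 1, 0, 4, 3, 2, 5, 4, 7, 1]⟩,
  ⟨[(o10, o10), (o0, o0), (o215, o215), (o1965, o1965), (o14, o1678), (o12, o252), (o256, o2149), (o154, o1743), (o243, o2142)], 58, .conjw 2 [6, 5, 7, 3, 4, 2, 3, 7, 8, 7, 3, 4, 2, 3, 7, 5, 4, 1, 2, 3, 0, 1, 2, 1, 0]⟩,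
  ⟨[(o10, o10), (o0, o0), (o215, o215), (o1965, o1965), (o14, o1678), (o12, o252), (o256, o2149), (o154, o1743), (o243, o2976)], 58, .conjw 1 [7, 6, 5, 3, 4, 2, 3, 7, 8, 7, 3, 4, 2, 3, 7, 5, 4, 1, 2, 3, 0, 1, 2, 1, 0]⟩,
  ⟨[(o10, o10), (o0, o0), (o215, o215), (o1965, o1965), (o14, o1678), (o12, o252), (o256, o2149), (o154, o2896)], 58, .node 7 58 []⟩,
  ⟨[(o10, o10), (o0, o0), (o215, o215), (o1965, o1965), (o14, o1678), (o12, o252), (o256, o2149), (o154, o3057)], 58, .node 7 58 []⟩,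
  ⟨[(o10, o10), (o0, o0), (o215, o215), (o1965, o1965), (o14, o1678), (o12, o252), (o256, o2150)], 58, .node 4 58 [⟨o2022, [(2022, [])], 2253⟩]⟩,
  ⟨[(o10, o10), (o0, o0), (o215, o215), (o1965, o1965), (o14, o1678), (o12, o252), (o256, o2150), (o154, o2022)], 58, .node 7 58 [⟨o1614, [(1614, [])], 2254⟩,
      ⟨o1851, [(1851, [])], 2255⟩,
      ⟨o2142, [(2142, [])], 2256⟩,
      ⟨o2976, [(2976, [])], 2257⟩]⟩,
  ⟨[(o10, o10), (o0, o0), (o215, o215), (o1965, o1965), (o14, o1678), (o12, o252), (o256, o2150), (o154, o2022), (o243, o1614)], 58, .inner [4, 3, 2, 6, 7, 3, 2, 4, 5, 8, 7, 3, 2, 1, 0, 4, 3, 7, 8, 2, 3, 7, 5, 6, 4, 5, 3, 4, 1, 2, 3, 7, 4, 5, 6, 3, 4, 5, 2, 3, 0, 1, 0, 2, 4, 1, 0, 3, 2, 5, 4, 3, 6, 5, 4, 7, 3, 2, 1, 4, 3, 5, 4, 6, 5, 7, 3, 2, 8, 7, 3, 4, 0, 1, 2, 3, 7, 8, 5, 4, 2, 3, 7, 6, 2, 3, 4]⟩,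
  ⟨[(o10, o10), (o0, o0), (o215, o215), (o1965, o1965), (o14, o1678), (o12, o252), (o256, o2150), (o154, o2022), (o243, o1851)], 58, .inner [6, 7, 3, 4, 5, 6, 2, 3, 4, 5, 1, 2, 3, 4, 0, 1, 2, 3, 7, 8, 7, 3, 4, 1, 2, 3, 7, 5, 6, 4, 5, 3, 4, 2, 3, 1, 0, 2, 1, 3, 2, 4, 3, 5, 4, 6, 5, 7, 3, 2, 1, 4, 3, 7, 8, 7, 3, 2, 1, 0, 4, 3, 2, 1, 5, 4, 3, 2, 6, 5, 4, 3, 7, 6]⟩,
  ⟨[(o10, o10), (o0, o0), (o215, o215), (o1965, o1965), (o14, o1678), (o12, o252), (o256, o2150), (o154, o2022), (o243, o2142)], 58, .conjw 1 [4, 3, 2, 1, 0, 6, 7, 8, 3, 7, 4, 5, 3, 4, 2, 3, 7, 8, 1, 2, 3, 7, 6, 4, 5, 3, 4, 0, 1, 2, 1, 0]⟩,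
  ⟨[(o10, o10), (o0, o0), (o215, o215), (o1965, o1965), (o14, o1678), (o12, o252), (o256, o2150), (o154, o2022), (o243, o2976)], 58, .conjw 2 [6, 5, 7, 3, 2, 1, 0, 4, 8, 7, 3, 4, 5, 2, 3, 4, 1, 2, 3, 7, 8, 6, 5, 4, 3, 7, 2, 3, 4, 5, 3, 4, 0]⟩,
  ⟨[(o10, o10), (o0, o0), (o215, o215), (o1965, o1965), (o14, o1678), (o12, o255)], 58, .node 4 58 [⟨o1367, [(1367, [])], 2259⟩,
      ⟨o1744, [(1744, [])], 2265⟩]⟩,
  ⟨[(o10, o10), (o0, o0), (o215, o215), (o1965, o1965), (o14, o1678), (o12, o255), (o154, o1367)], 58, .node 6 58 [⟨o2150, [(2150, [])], 2260⟩]⟩,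
  ⟨[(o10, o10), (o0, o0), (o215, o215), (o1965, o1965), (o14, o1678), (o12, o255), (o154, o1367), (o256, o2150)], 58, .node 7 58 [⟨o707, [(707, [])], 2261⟩,
      ⟨o1613, [(1613, [])], 2262⟩,
      ⟨o1852, [(1852, [])], 2263⟩,
      ⟨o2975, [(2975, [])], 2264⟩]⟩,
  ⟨[(o10, o10), (o0, o0), (o215, o215), (o1965, o1965), (o14, o1678), (o12, o255), (o154, o1367), (o256, o2150), (o243, o707)], 58, .conjw 2 [1, 0, 2, 1, 3, 2, 7, 3, 4, 5, 8, 7, 3, 4, 2, 3, 7, 8, 1, 2, 3, 7, 6, 4, 5, 2, 3, 4, 0, 1, 2, 0, 1, 0]⟩,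
  ⟨[(o10, o10), (o0, o0), (o215, o215), (o1965, o1965), (o14, o1678), (o12, o255), (o154, o1367), (o256, o2150), (o243, o1613)], 58, .inner [2, 4, 3, 2, 1, 5, 4, 3, 7, 3, 2, 8, 4, 3, 7, 3, 4, 5, 1, 2, 3, 4, 0, 1, 2, 3, 7, 6, 0, 1, 2, 3, 4, 5, 2, 3, 0, 1, 0, 2, 4, 1, 0, 3, 2, 5, 4, 3, 2, 1, 0, 6, 7, 3, 2, 1, 0, 4, 3, 2, 1, 5, 4, 3, 7, 3, 4, 8, 2, 3, 7, 3, 4, 5, 1, 2, 3, 4, 2]⟩,
  ⟨[(o10, o10), (o0, o0), (o215, o215), (o1965, o1965), (o14, o1678), (o12, o255), (o154, o1367), (o256, o2150), (o243, o1852)], 58, .inner [1, 2, 3, 4, 3, 2, 1, 7, 6, 5, 3, 4, 2, 3, 7, 8, 7, 3, 4, 2, 3, 7, 4, 5, 6, 3, 4, 5, 0, 1, 2, 3, 0, 1, 0, 2, 4, 1, 0, 3, 2, 1, 0, 5, 4, 3, 6, 5, 4, 7, 3, 2, 4, 3, 7, 8, 7, 3, 2, 4, 3, 5, 6, 7, 1, 2, 3, 4, 3, 2, 1]⟩,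
  ⟨[(o10, o10), (o0, o0), (o215, o215), (o1965, o1965), (o14, o1678), (o12, o255), (o154, o1367), (o256, o2150), (o243, o2975)], 58, .conjw 1 [2, 1, 0, 3, 2, 1, 4, 3, 7, 5, 3, 4, 2, 3, 7, 8, 7, 3, 4, 2, 3, 7, 5, 6, 4, 5, 1, 2, 3, 4, 0, 1, 0]⟩,
  ⟨[(o10, o10), (o0, o0), (o215, o215), (o1965, o1965), (o14, o1678), (o12, o255), (o154, o1744)], 58, .node 6 58 [⟨o2149, [(2149, [])], 2266⟩]⟩,
  ⟨[(o10, o10), (o0, o0), (o215, o215), (o1965, o1965), (o14, o1678), (o12, o255), (o154, o1744), (o256, o2149)], 58, .node 7 58 [⟨o707, [(707, [])], 2267⟩,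
      ⟨o1613, [(1613, [])], 2268⟩,
      ⟨o1852, [(1852, [])], 2269⟩,
      ⟨o2975, [(2975, [])], 2270⟩]⟩,
  ⟨[(o10, o10), (o0, o0), (o215, o215), (o1965, o1965), (o14, o1678), (o12, o255), (o154, o1744), (o256, o2149), (o243, o707)], 58, .conjw 1 [2, 4, 3, 5, 4, 7, 3, 2, 4, 5, 6, 8, 7, 3, 4, 5, 2, 3, 4, 1, 2, 3, 7, 8, 0, 1, 2, 3, 7, 4, 5, 2, 3, 4, 1, 2, 0, 1, 0]⟩,
  ⟨[(o10, o10), (o0, o0), (o215, o215), (o1965, o1965), (o14, o1678), (o12, o255), (o154, o1744), (o256, o2149), (o243, o1613)], 58, .inner [4, 3, 2, 5, 4, 3, 7, 8, 6, 3, 4, 5, 1, 2, 3, 4, 0, 1, 2, 3, 7, 6, 2, 3, 4, 5, 4, 3, 0, 1, 0, 2, 4, 1, 0, 3, 4, 5, 4, 3, 2, 6, 7, 3, 2, 1, 0, 4, 3, 2, 1, 5, 4, 3, 6, 8, 7, 3, 4, 5, 2, 3, 4]⟩,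
  ⟨[(o10, o10), (o0, o0), (o215, o215), (o1965, o1965), (o14, o1678), (o12, o255), (o154, o1744), (o256, o2149), (o243, o1852)], 58, .inner [1, 0, 4, 3, 2, 1, 7, 3, 2, 1, 4, 3, 2, 5, 7, 8, 7, 3, 4, 5, 2, 3, 4, 1, 2, 3, 7, 8, 6, 5, 3, 4, 0, 1, 2, 3, 7, 4, 5, 4, 2, 3, 0, 1, 0, 2, 4, 1, 0, 3, 2, 4, 5, 4, 7, 3, 2, 1, 0, 4, 3, 5, 6, 8, 7, 3, 2, 1, 4, 3, 2, 5, 4, 3, 7, 8, 7, 5, 2, 3, 4, 1, 2, 3, 7, 1, 2, 3, 4, 0, 1]⟩,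
  ⟨[(o10, o10), (o0, o0), (o215, o215), (o1965, o1965), (o14, o1678), (o12, o255), (o154, o1744), (o256, o2149), (o243, o2975)], 58, .conjw 2 [6, 5, 7, 3, 2, 4, 5, 6, 8, 7, 3, 4, 5, 2, 3, 4, 1, 2, 3, 7, 8, 0, 1, 2, 3, 7, 2, 3, 4, 3, 2, 1, 0]⟩,
  ⟨[(o10, o10), (o0, o0), (o215, o215), (o1965, o1965), (o14, o1678), (o12, o522)], 58, .node 6 58 [⟨o485, [(485, [])], 2272⟩,
      ⟨o486, [(486, [])], 2277⟩]⟩,
  ⟨[(o10, o10), (o0, o0), (o215, o215), (o1965, o1965), (o14, o1678), (o12, o522), (o256, o485)], 58, .node 4 58 [⟨o2927, [(2927, [])], 2273⟩,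
      ⟨o3057, [(3057, [])], 2276⟩]⟩,
  ⟨[(o10, o10), (o0, o0), (o215, o215), (o1965, o1965), (o14, o1678), (o12, o522), (o256, o485), (o154, o2927)], 58, .node 7 58 [⟨o1614, [(1614, [])], 2274⟩,
      ⟨o1851, [(1851, [])], 2275⟩]⟩,
  ⟨[(o10, o10), (o0, o0), (o215, o215), (o1965, o1965), (o14, o1678), (o12, o522), (o256, o485), (o154, o2927), (o243, o1614)], 58, .inner [4, 3, 7, 3, 2, 4, 3, 5, 8, 7, 3, 2, 4, 3, 7, 8, 1, 2, 3, 7, 4, 5, 3, 4, 0, 1, 2, 3, 7, 4, 5, 6, 3, 4, 5, 2, 3, 1, 0, 2, 4, 1, 3, 2, 5, 4, 3, 6, 5, 4, 7, 3, 2, 1, 0, 4, 3, 5, 4, 7, 3, 2, 1, 8, 7, 3, 4, 2, 3, 7, 8, 5, 3, 4, 2, 3, 7, 3, 4]⟩,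
  ⟨[(o10, o10), (o0, o0), (o215, o215), (o1965, o1965), (o14, o1678), (o12, o522), (o256, o485), (o154, o2927), (o243, o1851)], 58, .inner [1, 0, 2, 1, 3, 2, 4, 6, 5, 4, 3, 7, 8, 3, 4, 2, 3, 7, 4, 5, 1, 2, 3, 4, 0, 1, 2, 3, 7, 5, 6, 3, 4, 5, 2, 3, 0, 1, 0, 2, 4, 1, 0, 3, 2, 5, 4, 3, 6, 5, 7, 3, 2, 1, 0, 4, 3, 2, 1, 5, 4, 7, 3, 2, 4, 3, 8, 7, 3, 4, 5, 6, 4, 2, 3, 1, 2, 0, 1]⟩,
  ⟨[(o10, o10), (o0, o0), (o215, o215), (o1965, o1965), (o14, o1678), (o12, o522), (o256, o485), (o154, o3057)], 58, .node 7 58 []⟩,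
  ⟨[(o10, o10), (o0, o0), (o215, o215), (o1965, o1965), (o14, o1678), (o12, o522), (o256, o486)], 58, .node 4 58 [⟨o3055, [(3055, [])], 2278⟩,
      ⟨o3434, [(3434, [])], 2279⟩]⟩,
  ⟨[(o10, o10), (o0, o0), (o215, o215), (o1965, o1965), (o14, o1678), (o12, o522), (o256, o486), (o154, o3055)], 58, .node 7 58 []⟩,
  ⟨[(o10, o10), (o0, o0), (o215, o215), (o1965, o1965), (o14, o1678), (o12, o522), (o256, o486), (o154, o3434)], 58, .node 7 58 [⟨o1614, [(1614, [])], 2280⟩,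
      ⟨o1851, [(1851, [])], 2281⟩]⟩,
  ⟨[(o10, o10), (o0, o0), (o215, o215), (o1965, o1965), (o14, o1678), (o12, o522), (o256, o486), (o154, o3434), (o243, o1614)], 58, .inner [2, 3, 4, 3, 2, 1, 0, 7, 6, 3, 4, 5, 2, 3, 4, 1, 2, 3, 7, 8, 3, 4, 2, 3, 7, 5, 6, 4, 5, 1, 2, 3, 0, 1, 0, 2, 4, 1, 0, 3, 2, 1, 5, 4, 6, 5, 7, 3, 2, 4, 3, 8, 7, 3, 2, 1, 4, 3, 2, 5, 4, 3, 6, 7, 0, 1, 2, 3, 4, 3, 2]⟩,
  ⟨[(o10, o10), (o0, o0), (o215, o215), (o1965, o1965), (o14, o1678), (o12, o522), (o256, o486), (o154, o3434), (o243, o1851)], 58, .inner [4, 3, 5, 4, 7, 3, 2, 4, 3, 5, 6, 7, 8, 7, 3, 4, 2, 3, 7, 8, 1, 2, 3, 7, 4, 5, 3, 4, 0, 1, 2, 3, 7, 6, 1, 2, 3, 4, 5, 3, 0, 1, 0, 2, 4, 1, 0, 3, 5, 4, 3, 2, 1, 6, 7, 3, 2, 1, 0, 4, 3, 5, 4, 7, 3, 2, 1, 8, 7, 3, 2, 4, 3, 7, 8, 7, 6, 5, 3, 4, 2, 3, 7, 4, 5, 3, 4]⟩,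
  ⟨[(o10, o10), (o0, o0), (o215, o215), (o1965, o1965), (o14, o1678), (o12, o523)], 58, .node 6 58 [⟨o485, [(485, [])], 2283⟩,
      ⟨o486, [(486, [])], 2288⟩]⟩,
  ⟨[(o10, o10), (o0, o0), (o215, o215), (o1965, o1965), (o14, o1678), (o12, o523), (o256, o485)], 58, .node 4 58 [⟨o2928, [(2928, [])], 2284⟩,
      ⟨o3056, [(3056, [])], 2287⟩]⟩,
  ⟨[(o10, o10), (o0, o0), (o215, o215), (o1965, o1965), (o14, o1678), (o12, o523), (o256, o485), (o154, o2928)], 58, .node 7 58 [⟨o1613, [(1613, [])], 2285⟩,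
      ⟨o1852, [(1852, [])], 2286⟩]⟩,
  ⟨[(o10, o10), (o0, o0), (o215, o215), (o1965, o1965), (o14, o1678), (o12, o523), (o256, o485), (o154, o2928), (o243, o1613)], 58, .inner [4, 2, 3, 7, 8, 4, 2, 3, 7, 5, 1, 2, 3, 4, 0, 1, 2, 3, 7, 8, 5, 6, 4, 5, 3, 4, 2, 3, 7, 3, 4, 2, 3, 1, 0, 2, 1, 3, 2, 4, 3, 7, 3, 2, 4, 3, 5, 4, 6, 5, 8, 7, 3, 2, 1, 0, 4, 3, 2, 1, 5, 7, 3, 2, 4, 8, 7, 3, 2, 4]⟩,
  ⟨[(o10, o10), (o0, o0), (o215, o215), (o1965, o1965), (o14, o1678), (o12, o523), (o256, o485), (o154, o2928), (o243, o1852)], 58, .inner [1, 4, 3, 2, 1, 5, 4, 3, 6, 5, 7, 8, 4, 3, 7, 2, 3, 4, 1, 2, 3, 7, 8, 5, 4, 0, 1, 2, 3, 7, 6, 3, 4, 5, 2, 3, 0, 2, 4, 3, 2, 5, 4, 3, 6, 7, 3, 2, 1, 0, 4, 5, 8, 7, 3, 2, 1, 4, 3, 2, 7, 3, 4, 8, 7, 5, 6, 3, 4, 5, 1, 2, 3, 4, 1]⟩,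
  ⟨[(o10, o10), (o0, o0), (o215, o215), (o1965, o1965), (o14, o1678), (o12, o523), (o256, o485), (o154, o3056)], 58, .node 7 58 []⟩,
  ⟨[(o10, o10), (o0, o0), (o215, o215), (o1965, o1965), (o14, o1678), (o12, o523), (o256, o486)], 58, .node 7 58 [⟨o1613, [(1613, [])], 2289⟩,
      ⟨o1852, [(1852, [])], 2291⟩]⟩,
  ⟨[(o10, o10), (o0, o0), (o215, o215), (o1965, o1965), (o14, o1678), (o12, o523), (o256, o486), (o243, o1613)], 58, .node 4 58 [⟨o3435, [(3435, [])], 2290⟩]⟩,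
  ⟨[(o10, o10), (o0, o0), (o215, o215), (o1965, o1965), (o14, o1678), (o12, o523), (o256, o486), (o243, o1613), (o154, o3435)], 58, .inner [4, 5, 7, 8, 3, 7, 4, 5, 3, 4, 2, 3, 7, 8, 6, 4, 5, 3, 4, 1, 2, 3, 7, 6, 5, 4, 2, 3, 0, 1, 0, 2, 4, 1, 0, 3, 2, 4, 5, 6, 7, 3, 2, 1, 4, 3, 5, 4, 6, 8, 7, 3, 2, 4, 3, 5, 4, 7, 3, 8, 7, 5, 4]⟩,
  ⟨[(o10, o10), (o0, o0), (o215, o215), (o1965, o1965), (o14, o1678), (o12, o523), (o256, o486), (o243, o1852)], 58, .node 4 58 [⟨o3435, [(3435, [])], 2292⟩]⟩,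
  ⟨[(o10, o10), (o0, o0), (o215, o215), (o1965, o1965), (o14, o1678), (o12, o523), (o256, o486), (o243, o1852), (o154, o3435)], 58, .inner [4, 7, 3, 2, 4, 3, 5, 7, 8, 7, 3, 4, 2, 3, 7, 8, 5, 1, 2, 3, 4, 0, 1, 2, 3, 7, 6, 2, 3, 4, 5, 4, 3, 1, 0, 2, 4, 1, 3, 4, 5, 4, 3, 2, 6, 7, 3, 2, 1, 0, 4, 3, 2, 1, 5, 8, 7, 3, 2, 4, 3, 7, 8, 7, 5, 3, 4, 2, 3, 7, 4]⟩,
  ⟨[(o10, o10), (o0, o0), (o215, o215), (o1965, o1965), (o14, o1678), (o12, o1675)], 58, .node 6 58 [⟨o251, [(251, [])], 2294⟩,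
      ⟨o256, [(256, [])], 2302⟩]⟩,
  ⟨[(o10, o10), (o0, o0), (o215, o215), (o1965, o1965), (o14, o1678), (o12, o1675), (o256, o251)], 58, .node 4 58 [⟨o108, [(108, [])], 2295⟩,
      ⟨o1207, [(1207, [])], 2296⟩,
      ⟨o1744, [(1744, [])], 2297⟩]⟩,
  ⟨[(o10, o10), (o0, o0), (o215, o215), (o1965, o1965), (o14, o1678), (o12, o1675), (o256, o251), (o154, o108)], 58, .node 7 58 []⟩,
  ⟨[(o10, o10), (o0, o0), (o215, o215), (o1965, o1965), (o14, o1678), (o12, o1675), (o256, o251), (o154, o1207)], 58, .node 7 58 []⟩,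
  ⟨[(o10, o10), (o0, o0), (o215, o215), (o1965, o1965), (o14, o1678), (o12, o1675), (o256, o251), (o154, o1744)], 58, .node 7 58 [⟨o531, [(531, [])], 2298⟩,
      ⟨o586, [(586, [])], 2299⟩,
      ⟨o587, [(587, [])], 2300⟩,
      ⟨o1299, [(1299, [])], 2301⟩]⟩,
  ⟨[(o10, o10), (o0, o0), (o215, o215), (o1965, o1965), (o14, o1678), (o12, o1675), (o256, o251), (o154, o1744), (o243, o531)], 58, .conjw 1 [1, 0, 2, 1, 0, 3, 2, 1, 6, 7, 3, 2, 4, 5, 6, 8, 7, 3, 4, 5, 2, 3, 4, 1, 2, 3, 7, 8, 0, 1, 2, 3, 7, 4, 5, 2, 3, 4, 1, 2, 0, 1, 0]⟩,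
  ⟨[(o10, o10), (o0, o0), (o215, o215), (o1965, o1965), (o14, o1678), (o12, o1675), (o256, o251), (o154, o1744), (o243, o586)], 58, .inner [2, 3, 7, 8, 3, 4, 5, 2, 3, 4, 1, 2, 3, 7, 4, 5, 6, 1, 2, 3, 4, 5, 4, 3, 0, 1, 0, 2, 4, 1, 0, 3, 4, 5, 4, 3, 2, 1, 6, 5, 4, 7, 3, 2, 1, 4, 3, 2, 5, 4, 3, 8, 7, 3, 2]⟩,
  ⟨[(o10, o10), (o0, o0), (o215, o215), (o1965, o1965), (o14, o1678), (o12, o1675), (o256, o251), (o154, o1744), (o243, o587)], 58, .conjw 2 [1, 0, 2, 1, 6, 5, 7, 3, 2, 1, 4, 3, 2, 7, 8, 3, 7, 4, 5, 3, 4, 2, 3, 7, 8, 6, 5, 4, 3, 7, 1, 2, 3, 4, 5, 0]⟩,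
  ⟨[(o10, o10), (o0, o0), (o215, o215), (o1965, o1965), (o14, o1678), (o12, o1675), (o256, o251), (o154, o1744), (o243, o1299)], 58, .inner [1, 7, 3, 2, 1, 0, 4, 5, 8, 7, 3, 2, 1, 0, 4, 5, 3, 4, 2, 3, 7, 8, 3, 7, 6, 4, 5, 2, 3, 4, 1, 2, 3, 7, 4, 5, 0, 1, 2, 3, 0, 1, 0, 2, 4, 1, 0, 3, 2, 1, 0, 5, 4, 7, 3, 2, 1, 4, 3, 2, 5, 4, 6, 7, 3, 8, 7, 3, 2, 4, 3, 5, 4, 0, 1, 2, 3, 7, 8, 5, 4, 0, 1, 2, 3, 7, 1]⟩,
  ⟨[(o10, o10), (o0, o0), (o215, o215), (o1965, o1965), (o14, o1678), (o12, o1675), (o256, o256)], 58, .node 4 58 [⟨o365, [(365, [])], 2303⟩,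
      ⟨o1206, [(1206, [])], 2304⟩,
      ⟨o1367, [(1367, [])], 2305⟩]⟩,
  ⟨[(o10, o10), (o0, o0), (o215, o215), (o1965, o1965), (o14, o1678), (o12, o1675), (o256, o256), (o154, o365)], 58, .node 7 58 []⟩]

/-- Nodes. -/
def nd18 : List ONode := [
  ⟨[(o10, o10), (o0, o0), (o215, o215), (o1965, o1965), (o14, o1678), (o12, o1675), (o256, o256), (o154, o1206)], 58, .node 7 58 []⟩,
  ⟨[(o10, o10), (o0, o0), (o215, o215), (o1965, o1965), (o14, o1678), (o12, o1675), (o256, o256), (o154, o1367)], 58, .node 7 58 [⟨o531, [(531, [])], 2306⟩,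
      ⟨o586, [(586, [])], 2307⟩,
      ⟨o587, [(587, [])], 2308⟩,
      ⟨o1299, [(1299, [])], 2309⟩]⟩,
  ⟨[(o10, o10), (o0, o0), (o215, o215), (o1965, o1965), (o14, o1678), (o12, o1675), (o256, o256), (o154, o1367), (o243, o531)], 58, .conjw 2 [1, 0, 2, 1, 4, 3, 2, 1, 7, 3, 4, 2, 3, 7, 8, 7, 3, 4, 2, 3, 7, 5, 1, 2, 3, 4, 3, 2, 0, 1, 0]⟩,
  ⟨[(o10, o10), (o0, o0), (o215, o215), (o1965, o1965), (o14, o1678), (o12, o1675), (o256, o256), (o154, o1367), (o243, o586)], 58, .inner [2, 3, 7, 8, 3, 4, 5, 2, 3, 4, 1, 2, 3, 7, 4, 5, 6, 3, 4, 5, 2, 3, 4, 1, 2, 3, 0, 1, 0, 2, 1, 0, 3, 2, 1, 4, 3, 2, 5, 4, 3, 6, 5, 4, 7, 3, 2, 1, 4, 3, 2, 5, 4, 3, 8, 7, 3, 2]⟩,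
  ⟨[(o10, o10), (o0, o0), (o215, o215), (o1965, o1965), (o14, o1678), (o12, o1675), (o256, o256), (o154, o1367), (o243, o587)], 58, .conjw 1 [1, 0, 2, 1, 4, 3, 7, 2, 3, 4, 1, 2, 3, 7, 8, 7, 3, 4, 2, 3, 7, 5, 1, 2, 3, 4, 3, 2, 0, 1, 0]⟩,
  ⟨[(o10, o10), (o0, o0), (o215, o215), (o1965, o1965), (o14, o1678), (o12, o1675), (o256, o256), (o154, o1367), (o243, o1299)], 58, .inner [7, 8, 3, 7, 1, 2, 3, 4, 0, 1, 2, 3, 7, 8, 5, 4, 3, 7, 6, 5, 4, 3, 0, 1, 0, 2, 4, 1, 0, 3, 4, 5, 6, 7, 3, 4, 5, 8, 7, 3, 2, 1, 0, 4, 3, 2, 1, 7, 3, 8, 7]⟩,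
  ⟨[(o10, o10), (o0, o0), (o215, o215), (o1965, o1965), (o14, o1678), (o12, o1676)], 58, .node 6 58 [⟨o251, [(251, [])], 2311⟩,
      ⟨o256, [(256, [])], 2319⟩]⟩,
  ⟨[(o10, o10), (o0, o0), (o215, o215), (o1965, o1965), (o14, o1678), (o12, o1676), (o256, o251)], 58, .node 4 58 [⟨o109, [(109, [])], 2312⟩,
      ⟨o1743, [(1743, [])], 2313⟩,
      ⟨o2097, [(2097, [])], 2318⟩]⟩,
  ⟨[(o10, o10), (o0, o0), (o215, o215), (o1965, o1965), (o14, o1678), (o12, o1676), (o256, o251), (o154, o109)], 58, .node 7 58 []⟩,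
  ⟨[(o10, o10), (o0, o0), (o215, o215), (o1965, o1965), (o14, o1678), (o12, o1676), (o256, o251), (o154, o1743)], 58, .node 7 58 [⟨o530, [(530, [])], 2314⟩,
      ⟨o588, [(588, [])], 2315⟩,
      ⟨o1298, [(1298, [])], 2316⟩,
      ⟨o1734, [(1734, [])], 2317⟩]⟩,
  ⟨[(o10, o10), (o0, o0), (o215, o215), (o1965, o1965), (o14, o1678), (o12, o1676), (o256, o251), (o154, o1743), (o243, o530)], 58, .conjw 2 [4, 3, 2, 5, 4, 6, 5, 4, 7, 3, 4, 2, 3, 7, 8, 7, 3, 4, 2, 3, 7, 5, 1, 2, 3, 4, 3, 2, 0, 1, 0]⟩,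
  ⟨[(o10, o10), (o0, o0), (o215, o215), (o1965, o1965), (o14, o1678), (o12, o1676), (o256, o251), (o154, o1743), (o243, o588)], 58, .conjw 1 [4, 3, 2, 5, 4, 6, 7, 5, 3, 4, 2, 3, 7, 8, 7, 3, 4, 2, 3, 7, 4, 5, 1, 2, 3, 4, 3, 2, 0, 1, 0]⟩,
  ⟨[(o10, o10), (o0, o0), (o215, o215), (o1965, o1965), (o14, o1678), (o12, o1676), (o256, o251), (o154, o1743), (o243, o1298)], 58, .inner [1, 7, 3, 2, 8, 7, 3, 4, 5, 1, 2, 3, 4, 0, 1, 2, 3, 7, 8, 3, 4, 2, 3, 7, 6, 3, 4, 5, 2, 3, 0, 2, 4, 3, 2, 5, 4, 3, 6, 7, 3, 2, 4, 3, 8, 7, 3, 2, 1, 0, 4, 3, 2, 1, 5, 4, 3, 7, 8, 2, 3, 7, 1]⟩,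
  ⟨[(o10, o10), (o0, o0), (o215, o215), (o1965, o1965), (o14, o1678), (o12, o1676), (o256, o251), (o154, o1743), (o243, o1734)], 58, .inner [2, 3, 7, 8, 3, 4, 5, 2, 3, 4, 1, 2, 3, 7, 6, 5, 4, 1, 2, 3, 0, 1, 0, 2, 1, 0, 3, 2, 1, 4, 5, 6, 7, 3, 2, 1, 4, 3, 2, 5, 4, 3, 8, 7, 3, 2]⟩,
  ⟨[(o10, o10), (o0, o0), (o215, o215), (o1965, o1965), (o14, o1678), (o12, o1676), (o256, o251), (o154, o2097)], 58, .node 7 58 []⟩,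
  ⟨[(o10, o10), (o0, o0), (o215, o215), (o1965, o1965), (o14, o1678), (o12, o1676), (o256, o256)], 58, .node 4 58 [⟨o364, [(364, [])], 2320⟩,
      ⟨o1205, [(1205, [])], 2321⟩,
      ⟨o2022, [(2022, [])], 2322⟩]⟩,
  ⟨[(o10, o10), (o0, o0), (o215, o215), (o1965, o1965), (o14, o1678), (o12, o1676), (o256, o256), (o154, o364)], 58, .node 7 58 []⟩,
  ⟨[(o10, o10), (o0, o0), (o215, o215), (o1965, o1965), (o14, o1678), (o12, o1676), (o256, o256), (o154, o1205)], 58, .node 7 58 []⟩,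
  ⟨[(o10, o10), (o0, o0), (o215, o215), (o1965, o1965), (o14, o1678), (o12, o1676), (o256, o256), (o154, o2022)], 58, .node 7 58 [⟨o530, [(530, [])], 2323⟩,
      ⟨o588, [(588, [])], 2324⟩,
      ⟨o1298, [(1298, [])], 2325⟩,
      ⟨o1734, [(1734, [])], 2326⟩]⟩,
  ⟨[(o10, o10), (o0, o0), (o215, o215), (o1965, o1965), (o14, o1678), (o12, o1676), (o256, o256), (o154, o2022), (o243, o530)], 58, .conjw 1 [1, 7, 3, 2, 4, 3, 8, 7, 3, 2, 1, 0, 4, 3, 2, 1, 5, 4, 3, 2, 6, 5, 4, 7, 8, 3, 7, 4, 5, 2, 3, 4, 1, 2, 3, 7, 8, 0, 1, 2, 3, 7, 5, 3, 4, 1, 2, 1, 0]⟩,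
  ⟨[(o10, o10), (o0, o0), (o215, o215), (o1965, o1965), (o14, o1678), (o12, o1676), (o256, o256), (o154, o2022), (o243, o588)], 58, .conjw 2 [1, 0, 4, 3, 7, 3, 2, 1, 0, 4, 3, 2, 1, 7, 3, 4, 5, 6, 8, 7, 3, 4, 5, 2, 3, 4, 1, 2, 3, 7, 8, 0, 1, 2, 3, 7, 2, 3, 4, 3, 2, 1]⟩,
  ⟨[(o10, o10), (o0, o0), (o215, o215), (o1965, o1965), (o14, o1678), (o12, o1676), (o256, o256), (o154, o2022), (o243, o1298)], 58, .inner [7, 8, 3, 7, 1, 2, 3, 4, 0, 1, 2, 3, 7, 8, 5, 4, 3, 7, 6, 5, 4, 3, 0, 1, 0, 2, 1, 0, 3, 4, 5, 6, 7, 3, 4, 5, 8, 7, 3, 2, 1, 0, 4, 3, 2, 1, 7, 3, 8, 7]⟩,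
  ⟨[(o10, o10), (o0, o0), (o215, o215), (o1965, o1965), (o14, o1678), (o12, o1676), (o256, o256), (o154, o2022), (o243, o1734)], 58, .inner [2, 3, 7, 8, 3, 4, 5, 2, 3, 4, 1, 2, 3, 7, 6, 5, 4, 3, 2, 1, 0, 1, 2, 3, 4, 5, 6, 7, 3, 2, 1, 4, 3, 2, 5, 4, 3, 8, 7, 3, 2]⟩,
  ⟨[(o10, o10), (o0, o0), (o215, o215), (o1965, o1965), (o14, o1975)], 51, .node 6 54 [⟨o210, [(210, [])], 2328⟩,
      ⟨o257, [(257, [])], 2365⟩,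
      ⟨o602, [(602, [])], 2402⟩,
      ⟨o603, [(603, [])], 2426⟩,
      ⟨o612, [(612, [])], 2454⟩,
      ⟨o2193, [(2193, [])], 2465⟩,
      ⟨o3501, [(3501, [])], 2489⟩,
      ⟨o3509, [(3509, [])], 2519⟩]⟩,
  ⟨[(o10, o10), (o0, o0), (o215, o215), (o1965, o1965), (o14, o1975), (o256, o210)], 54, .node 2 54 [⟨o11, [(11, [])], 2329⟩,
      ⟨o12, [(12, [])], 2335⟩,
      ⟨o2031, [(2031, [])], 2343⟩,
      ⟨o2192, [(2192, [])], 2348⟩,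
      ⟨o2631, [(2631, [])], 2356⟩,
      ⟨o2666, [(2666, [])], 2361⟩]⟩,
  ⟨[(o10, o10), (o0, o0), (o215, o215), (o1965, o1965), (o14, o1975), (o256, o210), (o12, o11)], 54, .node 4 54 [⟨o364, [(364, [])], 2330⟩,
      ⟨o549, [(549, [])], 2331⟩,
      ⟨o2384, [(2384, [])], 2332⟩]⟩,
  ⟨[(o10, o10), (o0, o0), (o215, o215), (o1965, o1965), (o14, o1975), (o256, o210), (o12, o11), (o154, o364)], 54, .node 7 54 []⟩,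
  ⟨[(o10, o10), (o0, o0), (o215, o215), (o1965, o1965), (o14, o1975), (o256, o210), (o12, o11), (o154, o549)], 54, .node 7 54 []⟩,
  ⟨[(o10, o10), (o0, o0), (o215, o215), (o1965, o1965), (o14, o1975), (o256, o210), (o12, o11), (o154, o2384)], 54, .node 7 54 [⟨o217, [(217, [])], 2333⟩,
      ⟨o1587, [(1587, [])], 2334⟩]⟩,
  ⟨[(o10, o10), (o0, o0), (o215, o215), (o1965, o1965), (o14, o1975), (o256, o210), (o12, o11), (o154, o2384), (o243, o217)], 54, .inner [2, 4, 3, 2, 5, 4, 3, 7, 8, 3, 7, 6, 4, 5, 2, 3, 4, 1, 2, 3, 7, 6, 0, 1, 2, 3, 4, 5, 0, 1, 0, 2, 4, 1, 0, 5, 4, 3, 2, 1, 0, 6, 7, 3, 2, 1, 4, 3, 2, 5, 4, 6, 7, 3, 8, 7, 3, 4, 5, 2, 3, 4, 2]⟩,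
  ⟨[(o10, o10), (o0, o0), (o215, o215), (o1965, o1965), (o14, o1975), (o256, o210), (o12, o11), (o154, o2384), (o243, o1587)], 54, .inner [6, 5, 4, 3, 7, 8, 3, 4, 1, 2, 3, 7, 5, 6, 0, 1, 2, 3, 4, 5, 0, 1, 0, 2, 4, 1, 0, 5, 4, 3, 2, 1, 0, 6, 5, 7, 3, 2, 1, 4, 3, 8, 7, 3, 4, 5, 6]⟩,
  ⟨[(o10, o10), (o0, o0), (o215, o215), (o1965, o1965), (o14, o1975), (o256, o210), (o12, o12)], 54, .node 4 54 [⟨o365, [(365, [])], 2336⟩,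
      ⟨o550, [(550, [])], 2337⟩,
      ⟨o2383, [(2383, [])], 2338⟩]⟩,
  ⟨[(o10, o10), (o0, o0), (o215, o215), (o1965, o1965), (o14, o1975), (o256, o210), (o12, o12), (o154, o365)], 54, .node 7 54 []⟩,
  ⟨[(o10, o10), (o0, o0), (o215, o215), (o1965, o1965), (o14, o1975), (o256, o210), (o12, o12), (o154, o550)], 54, .node 7 54 []⟩,
  ⟨[(o10, o10), (o0, o0), (o215, o215), (o1965, o1965), (o14, o1975), (o256, o210), (o12, o12), (o154, o2383)], 54, .node 7 54 [⟨o220, [(220, [])], 2339⟩,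
      ⟨o1964, [(1964, [])], 2340⟩,
      ⟨o2142, [(2142, [])], 2341⟩,
      ⟨o2976, [(2976, [])], 2342⟩]⟩,
  ⟨[(o10, o10), (o0, o0), (o215, o215), (o1965, o1965), (o14, o1975), (o256, o210), (o12, o12), (o154, o2383), (o243, o220)], 54, .inner [7, 8, 3, 7, 1, 2, 3, 4, 5, 6, 0, 1, 2, 3, 4, 5, 4, 3, 0, 1, 0, 2, 4, 1, 0, 3, 4, 5, 4, 3, 2, 1, 0, 6, 5, 4, 3, 2, 1, 7, 3, 8, 7]⟩,
  ⟨[(o10, o10), (o0, o0), (o215, o215), (o1965, o1965), (o14, o1975), (o256, o210), (o12, o12), (o154, o2383), (o243, o1964)], 54, .inner [7, 8, 3, 7, 4, 5, 6, 3, 4, 5, 1, 2, 3, 4, 0, 1, 2, 3, 0, 1, 0, 2, 1, 0, 3, 2, 1, 0, 4, 3, 2, 1, 5, 4, 3, 6, 5, 4, 7, 3, 8, 7]⟩,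
  ⟨[(o10, o10), (o0, o0), (o215, o215), (o1965, o1965), (o14, o1975), (o256, o210), (o12, o12), (o154, o2383), (o243, o2142)], 54, .bad [3, 7, 3] 2383 2383⟩,
  ⟨[(o10, o10), (o0, o0), (o215, o215), (o1965, o1965), (o14, o1975), (o256, o210), (o12, o12), (o154, o2383), (o243, o2976)], 54, .bad [3, 7, 3] 2383 2383⟩,
  ⟨[(o10, o10), (o0, o0), (o215, o215), (o1965, o1965), (o14, o1975), (o256, o210), (o12, o2031)], 54, .node 7 54 [⟨o23, [(23, [])], 2344⟩,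
      ⟨o24, [(24, [])], 2346⟩]⟩,
  ⟨[(o10, o10), (o0, o0), (o215, o215), (o1965, o1965), (o14, o1975), (o256, o210), (o12, o2031), (o243, o23)], 54, .node 4 54 [⟨o364, [(364, [])], 2345⟩]⟩,
  ⟨[(o10, o10), (o0, o0), (o215, o215), (o1965, o1965), (o14, o1975), (o256, o210), (o12, o2031), (o243, o23), (o154, o364)], 54, .conjw 1 [2, 3, 4, 5, 6, 7, 3, 2, 4, 3, 5, 4, 6, 5, 7, 8, 3, 7, 2, 3, 4, 1, 2, 3, 7, 8, 0, 1, 2, 3, 7, 4, 5, 3, 4, 3, 1, 2, 1, 0]⟩,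
  ⟨[(o10, o10), (o0, o0), (o215, o215), (o1965, o1965), (o14, o1975), (o256, o210), (o12, o2031), (o243, o24)], 54, .node 4 54 [⟨o364, [(364, [])], 2347⟩]⟩,
  ⟨[(o10, o10), (o0, o0), (o215, o215), (o1965, o1965), (o14, o1975), (o256, o210), (o12, o2031), (o243, o24), (o154, o364)], 54, .conjw 2 [7, 8, 3, 7, 4, 1, 2, 3, 0, 1, 2, 1]⟩,
  ⟨[(o10, o10), (o0, o0), (o215, o215), (o1965, o1965), (o14, o1975), (o256, o210), (o12, o2192)], 54, .node 4 54 [⟨o365, [(365, [])], 2349⟩,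
      ⟨o550, [(550, [])], 2354⟩,
      ⟨o2383, [(2383, [])], 2355⟩]⟩,
  ⟨[(o10, o10), (o0, o0), (o215, o215), (o1965, o1965), (o14, o1975), (o256, o210), (o12, o2192), (o154, o365)], 54, .node 7 54 [⟨o25, [(25, [])], 2350⟩,
      ⟨o186, [(186, [])], 2351⟩,
      ⟨o707, [(707, [])], 2352⟩,
      ⟨o2975, [(2975, [])], 2353⟩]⟩,
  ⟨[(o10, o10), (o0, o0), (o215, o215), (o1965, o1965), (o14, o1975), (o256, o210), (o12, o2192), (o154, o365), (o243, o25)], 54, .conjw 1 [7, 8, 3, 7, 4, 1, 2, 3, 0, 1, 2, 1]⟩,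
  ⟨[(o10, o10), (o0, o0), (o215, o215), (o1965, o1965), (o14, o1975), (o256, o210), (o12, o2192), (o154, o365), (o243, o186)], 54, .conjw 2 [4, 5, 3, 4, 1, 2, 3, 7, 8, 0, 1, 2, 3, 7, 2, 3, 4, 3, 2, 1]⟩,
  ⟨[(o10, o10), (o0, o0), (o215, o215), (o1965, o1965), (o14, o1975), (o256, o210), (o12, o2192), (o154, o365), (o243, o707)], 54, .bad [3, 7, 3] 365 365⟩,
  ⟨[(o10, o10), (o0, o0), (o215, o215), (o1965, o1965), (o14, o1975), (o256, o210), (o12, o2192), (o154, o365), (o243, o2975)], 54, .bad [3, 7, 3] 365 365⟩,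
  ⟨[(o10, o10), (o0, o0), (o215, o215), (o1965, o1965), (o14, o1975), (o256, o210), (o12, o2192), (o154, o550)], 54, .node 7 54 []⟩,
  ⟨[(o10, o10), (o0, o0), (o215, o215), (o1965, o1965), (o14, o1975), (o256, o210), (o12, o2192), (o154, o2383)], 54, .node 7 54 []⟩,
  ⟨[(o10, o10), (o0, o0), (o215, o215), (o1965, o1965), (o14, o1975), (o256, o210), (o12, o2631)], 54, .node 7 54 [⟨o220, [(220, [])], 2357⟩,
      ⟨o1964, [(1964, [])], 2359⟩]⟩,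
  ⟨[(o10, o10), (o0, o0), (o215, o215), (o1965, o1965), (o14, o1975), (o256, o210), (o12, o2631), (o243, o220)], 54, .node 4 54 [⟨o549, [(549, [])], 2358⟩]⟩,
  ⟨[(o10, o10), (o0, o0), (o215, o215), (o1965, o1965), (o14, o1975), (o256, o210), (o12, o2631), (o243, o220), (o154, o549)], 54, .bad [3, 4, 3] 220 220⟩,
  ⟨[(o10, o10), (o0, o0), (o215, o215), (o1965, o1965), (o14, o1975), (o256, o210), (o12, o2631), (o243, o1964)], 54, .node 4 54 [⟨o549, [(549, [])], 2360⟩]⟩,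
  ⟨[(o10, o10), (o0, o0), (o215, o215), (o1965, o1965), (o14, o1975), (o256, o210), (o12, o2631), (o243, o1964), (o154, o549)], 54, .bad [3, 4, 3] 1964 1964⟩,
  ⟨[(o10, o10), (o0, o0), (o215, o215), (o1965, o1965), (o14, o1975), (o256, o210), (o12, o2666)], 54, .node 4 54 [⟨o365, [(365, [])], 2362⟩,
      ⟨o550, [(550, [])], 2363⟩,
      ⟨o2383, [(2383, [])], 2364⟩]⟩,
  ⟨[(o10, o10), (o0, o0), (o215, o215), (o1965, o1965), (o14, o1975), (o256, o210), (o12, o2666), (o154, o365)], 54, .node 7 54 []⟩,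
  ⟨[(o10, o10), (o0, o0), (o215, o215), (o1965, o1965), (o14, o1975), (o256, o210), (o12, o2666), (o154, o550)], 54, .node 7 54 []⟩,
  ⟨[(o10, o10), (o0, o0), (o215, o215), (o1965, o1965), (o14, o1975), (o256, o210), (o12, o2666), (o154, o2383)], 54, .node 7 54 []⟩,
  ⟨[(o10, o10), (o0, o0), (o215, o215), (o1965, o1965), (o14, o1975), (o256, o257)], 54, .node 2 54 [⟨o11, [(11, [])], 2366⟩,
      ⟨o12, [(12, [])], 2372⟩,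
      ⟨o2031, [(2031, [])], 2380⟩,
      ⟨o2192, [(2192, [])], 2385⟩,
      ⟨o2631, [(2631, [])], 2393⟩,
      ⟨o2666, [(2666, [])], 2398⟩]⟩,
  ⟨[(o10, o10), (o0, o0), (o215, o215), (o1965, o1965), (o14, o1975), (o256, o257), (o12, o11)], 54, .node 4 54 [⟨o109, [(109, [])], 2367⟩,
      ⟨o390, [(390, [])], 2368⟩,
      ⟨o2642, [(2642, [])], 2369⟩]⟩,
  ⟨[(o10, o10), (o0, o0), (o215, o215), (o1965, o1965), (o14, o1975), (o256, o257), (o12, o11), (o154, o109)], 54, .node 7 54 []⟩,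
  ⟨[(o10, o10), (o0, o0), (o215, o215), (o1965, o1965), (o14, o1975), (o256, o257), (o12, o11), (o154, o390)], 54, .node 7 54 []⟩,
  ⟨[(o10, o10), (o0, o0), (o215, o215), (o1965, o1965), (o14, o1975), (o256, o257), (o12, o11), (o154, o2642)], 54, .node 7 54 [⟨o217, [(217, [])], 2370⟩,
      ⟨o1587, [(1587, [])], 2371⟩]⟩,
  ⟨[(o10, o10), (o0, o0), (o215, o215), (o1965, o1965), (o14, o1975), (o256, o257), (o12, o11), (o154, o2642), (o243, o217)], 54, .inner [2, 3, 7, 8, 3, 7, 2, 3, 4, 1, 2, 3, 7, 6, 0, 1, 2, 3, 4, 5, 0, 2, 4, 5, 4, 3, 2, 1, 0, 6, 7, 3, 2, 1, 4, 3, 2, 7, 3, 8, 7, 3, 2]⟩,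
  ⟨[(o10, o10), (o0, o0), (o215, o215), (o1965, o1965), (o14, o1975), (o256, o257), (o12, o11), (o154, o2642), (o243, o1587)], 54, .inner [6, 5, 4, 3, 7, 8, 3, 4, 1, 2, 3, 7, 0, 1, 2, 3, 0, 1, 0, 2, 1, 0, 3, 2, 1, 0, 7, 3, 2, 1, 4, 3, 8, 7, 3, 4, 5, 6]⟩,
  ⟨[(o10, o10), (o0, o0), (o215, o215), (o1965, o1965), (o14, o1975), (o256, o257), (o12, o12)], 54, .node 4 54 [⟨o108, [(108, [])], 2373⟩,
      ⟨o389, [(389, [])], 2374⟩,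
      ⟨o2550, [(2550, [])], 2375⟩]⟩,
  ⟨[(o10, o10), (o0, o0), (o215, o215), (o1965, o1965), (o14, o1975), (o256, o257), (o12, o12), (o154, o108)], 54, .node 7 54 []⟩,
  ⟨[(o10, o10), (o0, o0), (o215, o215), (o1965, o1965), (o14, o1975), (o256, o257), (o12, o12), (o154, o389)], 54, .node 7 54 []⟩,
  ⟨[(o10, o10), (o0, o0), (o215, o215), (o1965, o1965), (o14, o1975), (o256, o257), (o12, o12), (o154, o2550)], 54, .node 7 54 [⟨o220, [(220, [])], 2376⟩,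
      ⟨o1964, [(1964, [])], 2377⟩,
      ⟨o2142, [(2142, [])], 2378⟩,
      ⟨o2976, [(2976, [])], 2379⟩]⟩,
  ⟨[(o10, o10), (o0, o0), (o215, o215), (o1965, o1965), (o14, o1975), (o256, o257), (o12, o12), (o154, o2550), (o243, o220)], 54, .inner [7, 8, 3, 7, 6, 5, 1, 2, 3, 4, 0, 1, 2, 3, 0, 1, 0, 2, 1, 0, 3, 2, 1, 0, 4, 3, 2, 1, 5, 6, 7, 3, 8, 7]⟩,
  ⟨[(o10, o10), (o0, o0), (o215, o215), (o1965, o1965), (o14, o1975), (o256, o257), (o12, o12), (o154, o2550), (o243, o1964)], 54, .inner [7, 8, 3, 7, 6, 5, 4, 3, 1, 2, 0, 1, 0, 1, 0, 2, 1, 3, 4, 5, 6, 7, 3, 8, 7]⟩,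
  ⟨[(o10, o10), (o0, o0), (o215, o215), (o1965, o1965), (o14, o1975), (o256, o257), (o12, o12), (o154, o2550), (o243, o2142)], 54, .bad [3, 7, 3] 2550 2550⟩,
  ⟨[(o10, o10), (o0, o0), (o215, o215), (o1965, o1965), (o14, o1975), (o256, o257), (o12, o12), (o154, o2550), (o243, o2976)], 54, .bad [3, 7, 3] 2550 2550⟩,
  ⟨[(o10, o10), (o0, o0), (o215, o215), (o1965, o1965), (o14, o1975), (o256, o257), (o12, o2031)], 54, .node 7 54 [⟨o23, [(23, [])], 2381⟩,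
      ⟨o24, [(24, [])], 2383⟩]⟩,
  ⟨[(o10, o10), (o0, o0), (o215, o215), (o1965, o1965), (o14, o1975), (o256, o257), (o12, o2031), (o243, o23)], 54, .node 4 54 [⟨o109, [(109, [])], 2382⟩]⟩,
  ⟨[(o10, o10), (o0, o0), (o215, o215), (o1965, o1965), (o14, o1975), (o256, o257), (o12, o2031), (o243, o23), (o154, o109)], 54, .conjw 2 [2, 3, 4, 5, 6, 7, 3, 4, 5, 6, 8, 7, 3, 2, 1, 4, 3, 7, 8, 5, 2, 3, 4, 0, 1, 2, 3, 7, 5, 3, 4, 2, 3, 1, 2, 0, 1, 0]⟩,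
  ⟨[(o10, o10), (o0, o0), (o215, o215), (o1965, o1965), (o14, o1975), (o256, o257), (o12, o2031), (o243, o24)], 54, .node 4 54 [⟨o109, [(109, [])], 2384⟩]⟩,
  ⟨[(o10, o10), (o0, o0), (o215, o215), (o1965, o1965), (o14, o1975), (o256, o257), (o12, o2031), (o243, o24), (o154, o109)], 54, .conjw 1 [2, 4, 3, 5, 6, 5, 4, 7, 3, 2, 4, 3, 5, 8, 7, 3, 4, 2, 3, 7, 8, 5, 1, 2, 3, 4, 0, 1, 2, 3, 7, 6, 5, 3, 4, 2, 1]⟩,
  ⟨[(o10, o10), (o0, o0), (o215, o215), (o1965, o1965), (o14, o1975), (o256, o257), (o12, o2192)], 54, .node 4 54 [⟨o108, [(108, [])], 2386⟩,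
      ⟨o389, [(389, [])], 2391⟩,
      ⟨o2550, [(2550, [])], 2392⟩]⟩,
  ⟨[(o10, o10), (o0, o0), (o215, o215), (o1965, o1965), (o14, o1975), (o256, o257), (o12, o2192), (o154, o108)], 54, .node 7 54 [⟨o25, [(25, [])], 2387⟩,
      ⟨o186, [(186, [])], 2388⟩,
      ⟨o707, [(707, [])], 2389⟩,
      ⟨o2975, [(2975, [])], 2390⟩]⟩,
  ⟨[(o10, o10), (o0, o0), (o215, o215), (o1965, o1965), (o14, o1975), (o256, o257), (o12, o2192), (o154, o108), (o243, o25)], 54, .conjw 2 [4, 5, 3, 4, 1, 2, 3, 7, 8, 0, 1, 2, 3, 7, 4, 2, 3, 1, 2, 1]⟩,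
  ⟨[(o10, o10), (o0, o0), (o215, o215), (o1965, o1965), (o14, o1975), (o256, o257), (o12, o2192), (o154, o108), (o243, o186)], 54, .conjw 1 [2, 3, 4, 5, 6, 5, 4, 7, 3, 2, 1, 0, 8, 7, 3, 2, 1, 4, 5, 3, 4, 2, 3, 7, 8, 3, 4, 2, 3, 7, 5, 6, 3, 4, 5, 1, 2, 3, 4, 0, 1, 0]⟩,
  ⟨[(o10, o10), (o0, o0), (o215, o215), (o1965, o1965), (o14, o1975), (o256, o257), (o12, o2192), (o154, o108), (o243, o707)], 54, .bad [3, 7, 3] 108 108⟩,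
  ⟨[(o10, o10), (o0, o0), (o215, o215), (o1965, o1965), (o14, o1975), (o256, o257), (o12, o2192), (o154, o108), (o243, o2975)], 54, .bad [3, 7, 3] 108 108⟩,
  ⟨[(o10, o10), (o0, o0), (o215, o215), (o1965, o1965), (o14, o1975), (o256, o257), (o12, o2192), (o154, o389)], 54, .node 7 54 []⟩,
  ⟨[(o10, o10), (o0, o0), (o215, o215), (o1965, o1965), (o14, o1975), (o256, o257), (o12, o2192), (o154, o2550)], 54, .node 7 54 []⟩,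
  ⟨[(o10, o10), (o0, o0), (o215, o215), (o1965, o1965), (o14, o1975), (o256, o257), (o12, o2631)], 54, .node 7 54 [⟨o220, [(220, [])], 2394⟩,
      ⟨o1964, [(1964, [])], 2396⟩]⟩,
  ⟨[(o10, o10), (o0, o0), (o215, o215), (o1965, o1965), (o14, o1975), (o256, o257), (o12, o2631), (o243, o220)], 54, .node 4 54 [⟨o390, [(390, [])], 2395⟩]⟩,
  ⟨[(o10, o10), (o0, o0), (o215, o215), (o1965, o1965), (o14, o1975), (o256, o257), (o12, o2631), (o243, o220), (o154, o390)], 54, .bad [3, 4, 3] 220 220⟩,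
  ⟨[(o10, o10), (o0, o0), (o215, o215), (o1965, o1965), (o14, o1975), (o256, o257), (o12, o2631), (o243, o1964)], 54, .node 4 54 [⟨o390, [(390, [])], 2397⟩]⟩,
  ⟨[(o10, o10), (o0, o0), (o215, o215), (o1965, o1965), (o14, o1975), (o256, o257), (o12, o2631), (o243, o1964), (o154, o390)], 54, .bad [3, 4, 3] 1964 1964⟩,
  ⟨[(o10, o10), (o0, o0), (o215, o215), (o1965, o1965), (o14, o1975), (o256, o257), (o12, o2666)], 54, .node 4 54 [⟨o108, [(108, [])], 2399⟩,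
      ⟨o389, [(389, [])], 2400⟩,
      ⟨o2550, [(2550, [])], 2401⟩]⟩,
  ⟨[(o10, o10), (o0, o0), (o215, o215), (o1965, o1965), (o14, o1975), (o256, o257), (o12, o2666), (o154, o108)], 54, .node 7 54 []⟩,
  ⟨[(o10, o10), (o0, o0), (o215, o215), (o1965, o1965), (o14, o1975), (o256, o257), (o12, o2666), (o154, o389)], 54, .node 7 54 []⟩,
  ⟨[(o10, o10), (o0, o0), (o215, o215), (o1965, o1965), (o14, o1975), (o256, o257), (o12, o2666), (o154, o2550)], 54, .node 7 54 []⟩,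
  ⟨[(o10, o10), (o0, o0), (o215, o215), (o1965, o1965), (o14, o1975), (o256, o602)], 54, .node 4 54 [⟨o393, [(393, [])], 2403⟩,
      ⟨o482, [(482, [])], 2408⟩,
      ⟨o861, [(861, [])], 2413⟩,
      ⟨o904, [(904, [])], 2421⟩]⟩,
  ⟨[(o10, o10), (o0, o0), (o215, o215), (o1965, o1965), (o14, o1975), (o256, o602), (o154, o393)], 54, .node 7 54 [⟨o220, [(220, [])], 2404⟩,
      ⟨o1964, [(1964, [])], 2406⟩]⟩,
  ⟨[(o10, o10), (o0, o0), (o215, o215), (o1965, o1965), (o14, o1975), (o256, o602), (o154, o393), (o243, o220)], 54, .node 2 54 [⟨o1528, [(1528, [])], 2405⟩]⟩,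
  ⟨[(o10, o10), (o0, o0), (o215, o215), (o1965, o1965), (o14, o1975), (o256, o602), (o154, o393), (o243, o220), (o12, o1528)], 54, .inner [2, 1, 3, 6, 7, 3, 2, 4, 8, 3, 7, 3, 4, 5, 6, 2, 3, 4, 5, 1, 2, 3, 4, 0, 1, 2, 3, 7, 3, 4, 5, 2, 3, 1, 0, 2, 4, 1, 3, 2, 5, 4, 3, 7, 3, 2, 1, 0, 4, 3, 2, 1, 5, 4, 3, 2, 6, 5, 4, 3, 7, 3, 8, 4, 2, 3, 7, 6, 3, 1, 2]⟩,
  ⟨[(o10, o10), (o0, o0), (o215, o215), (o1965, o1965), (o14, o1975), (o256, o602), (o154, o393), (o243, o1964)], 54, .node 2 54 [⟨o1528, [(1528, [])], 2407⟩]⟩,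
  ⟨[(o10, o10), (o0, o0), (o215, o215), (o1965, o1965), (o14, o1975), (o256, o602), (o154, o393), (o243, o1964), (o12, o1528)], 54, .inner [2, 3, 7, 8, 6, 5, 3, 4, 1, 2, 3, 7, 3, 4, 5, 6, 2, 3, 4, 5, 0, 1, 0, 2, 4, 1, 0, 5, 4, 3, 2, 6, 5, 4, 3, 7, 3, 2, 1, 4, 3, 5, 6, 8, 7, 3, 2]⟩,
  ⟨[(o10, o10), (o0, o0), (o215, o215), (o1965, o1965), (o14, o1975), (o256, o602), (o154, o482)], 54, .node 7 54 [⟨o217, [(217, [])], 2409⟩,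
      ⟨o1587, [(1587, [])], 2411⟩]⟩,
  ⟨[(o10, o10), (o0, o0), (o215, o215), (o1965, o1965), (o14, o1975), (o256, o602), (o154, o482), (o243, o217)], 54, .node 2 54 [⟨o366, [(366, [])], 2410⟩]⟩,
  ⟨[(o10, o10), (o0, o0), (o215, o215), (o1965, o1965), (o14, o1975), (o256, o602), (o154, o482), (o243, o217), (o12, o366)], 54, .inner [1, 4, 5, 6, 5, 4, 3, 7, 3, 2, 1, 0, 4, 8, 3, 7, 5, 6, 3, 4, 5, 2, 3, 4, 1, 2, 3, 7, 5, 6, 0, 1, 2, 3, 4, 5, 2, 3, 0, 1, 0, 2, 4, 1, 0, 3, 2, 5, 4, 3, 2, 1, 0, 6, 5, 7, 3, 2, 1, 4, 3, 2, 5, 4, 3, 6, 5, 7, 3, 8, 4, 0, 1, 2, 3, 7, 3, 4, 5, 6, 5, 4, 1]⟩,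
  ⟨[(o10, o10), (o0, o0), (o215, o215), (o1965, o1965), (o14, o1975), (o256, o602), (o154, o482), (o243, o1587)], 54, .node 2 54 [⟨o366, [(366, [])], 2412⟩]⟩,
  ⟨[(o10, o10), (o0, o0), (o215, o215), (o1965, o1965), (o14, o1975), (o256, o602), (o154, o482), (o243, o1587), (o12, o366)], 54, .inner [2, 1, 0, 3, 4, 7, 3, 8, 4, 2, 3, 7, 5, 1, 2, 3, 4, 0, 1, 2, 3, 7, 5, 6, 1, 2, 3, 4, 5, 1, 2, 3, 0, 1, 0, 2, 4, 1, 0, 3, 2, 1, 5, 4, 3, 2, 1, 6, 5, 7, 3, 2, 1, 0, 4, 3, 2, 1, 5, 7, 3, 2, 4, 8, 3, 7, 4, 3, 0, 1, 2]⟩,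
  ⟨[(o10, o10), (o0, o0), (o215, o215), (o1965, o1965), (o14, o1975), (o256, o602), (o154, o861)], 54, .node 2 54 [⟨o366, [(366, [])], 2414⟩,
      ⟨o1997, [(1997, [])], 2415⟩,
      ⟨o3121, [(3121, [])], 2416⟩]⟩,
  ⟨[(o10, o10), (o0, o0), (o215, o215), (o1965, o1965), (o14, o1975), (o256, o602), (o154, o861), (o12, o366)], 54, .node 7 54 []⟩,
  ⟨[(o10, o10), (o0, o0), (o215, o215), (o1965, o1965), (o14, o1975), (o256, o602), (o154, o861), (o12, o1997)], 54, .node 7 54 []⟩,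
  ⟨[(o10, o10), (o0, o0), (o215, o215), (o1965, o1965), (o14, o1975), (o256, o602), (o154, o861), (o12, o3121)], 54, .node 7 54 [⟨o220, [(220, [])], 2417⟩,
      ⟨o1964, [(1964, [])], 2418⟩,
      ⟨o2202, [(2202, [])], 2419⟩,
      ⟨o3134, [(3134, [])], 2420⟩]⟩,
  ⟨[(o10, o10), (o0, o0), (o215, o215), (o1965, o1965), (o14, o1975), (o256, o602), (o154, o861), (o12, o3121), (o243, o220)], 54, .bad [1, 2, 1] 602 602⟩,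
  ⟨[(o10, o10), (o0, o0), (o215, o215), (o1965, o1965), (o14, o1975), (o256, o602), (o154, o861), (o12, o3121), (o243, o1964)], 54, .bad [1, 2, 1] 602 602⟩,
  ⟨[(o10, o10), (o0, o0), (o215, o215), (o1965, o1965), (o14, o1975), (o256, o602), (o154, o861), (o12, o3121), (o243, o2202)], 54, .bad [1, 2, 1] 602 602⟩,
  ⟨[(o10, o10), (o0, o0), (o215, o215), (o1965, o1965), (o14, o1975), (o256, o602), (o154, o861), (o12, o3121), (o243, o3134)], 54, .bad [1, 2, 1] 602 602⟩,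
  ⟨[(o10, o10), (o0, o0), (o215, o215), (o1965, o1965), (o14, o1975), (o256, o602), (o154, o904)], 54, .node 7 54 [⟨o665, [(665, [])], 2422⟩,
      ⟨o3061, [(3061, [])], 2424⟩]⟩,
  ⟨[(o10, o10), (o0, o0), (o215, o215), (o1965, o1965), (o14, o1975), (o256, o602), (o154, o904), (o243, o665)], 54, .node 2 54 [⟨o3122, [(3122, [])], 2423⟩]⟩,
  ⟨[(o10, o10), (o0, o0), (o215, o215), (o1965, o1965), (o14, o1975), (o256, o602), (o154, o904), (o243, o665), (o12, o3122)], 54, .bad [1, 2, 1] 602 602⟩,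
  ⟨[(o10, o10), (o0, o0), (o215, o215), (o1965, o1965), (o14, o1975), (o256, o602), (o154, o904), (o243, o3061)], 54, .node 2 54 [⟨o3122, [(3122, [])], 2425⟩]⟩,
  ⟨[(o10, o10), (o0, o0), (o215, o215), (o1965, o1965), (o14, o1975), (o256, o602), (o154, o904), (o243, o3061), (o12, o3122)], 54, .bad [1, 2, 1] 602 602⟩,
  ⟨[(o10, o10), (o0, o0), (o215, o215), (o1965, o1965), (o14, o1975), (o256, o603)], 54, .node 2 54 [⟨o366, [(366, [])], 2427⟩,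
      ⟨o1131, [(1131, [])], 2432⟩,
      ⟨o1528, [(1528, [])], 2433⟩,
      ⟨o1997, [(1997, [])], 2438⟩,
      ⟨o3121, [(3121, [])], 2441⟩,
      ⟨o3122, [(3122, [])], 2449⟩]⟩,
  ⟨[(o10, o10), (o0, o0), (o215, o215), (o1965, o1965), (o14, o1975), (o256, o603), (o12, o366)], 54, .node 7 54 [⟨o217, [(217, [])], 2428⟩,
      ⟨o1587, [(1587, [])], 2430⟩]⟩,
  ⟨[(o10, o10), (o0, o0), (o215, o215), (o1965, o1965), (o14, o1975), (o256, o603), (o12, o366), (o243, o217)], 54, .node 4 54 [⟨o1530, [(1530, [])], 2429⟩]⟩,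
  ⟨[(o10, o10), (o0, o0), (o215, o215), (o1965, o1965), (o14, o1975), (o256, o603), (o12, o366), (o243, o217), (o154, o1530)], 54, .inner [6, 5, 4, 3, 7, 8, 5, 1, 2, 3, 4, 0, 1, 2, 3, 7, 2, 3, 4, 5, 2, 3, 0, 2, 4, 3, 2, 5, 4, 3, 2, 7, 3, 2, 1, 0, 4, 3, 2, 1, 5, 8, 7, 3, 4, 5, 6]⟩,
  ⟨[(o10, o10), (o0, o0), (o215, o215), (o1965, o1965), (o14, o1975), (o256, o603), (o12, o366), (o243, o1587)], 54, .node 4 54 [⟨o1530, [(1530, [])], 2431⟩]⟩,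
  ⟨[(o10, o10), (o0, o0), (o215, o215), (o1965, o1965), (o14, o1975), (o256, o603), (o12, o366), (o243, o1587), (o154, o1530)], 54, .inner [6, 5, 4, 3, 7, 8, 5, 4, 3, 7, 4, 5, 2, 3, 4, 1, 2, 3, 7, 5, 0, 1, 2, 3, 0, 1, 0, 2, 4, 1, 0, 3, 2, 1, 0, 5, 7, 3, 2, 1, 4, 3, 2, 5, 4, 7, 3, 4, 5, 8, 7, 3, 4, 5, 6]⟩]

/-- Nodes. -/
def nd19 : List ONode := [
  ⟨[(o10, o10), (o0, o0), (o215, o215), (o1965, o1965), (o14, o1975), (o256, o603), (o12, o1131)], 54, .node 7 54 []⟩,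
  ⟨[(o10, o10), (o0, o0), (o215, o215), (o1965, o1965), (o14, o1975), (o256, o603), (o12, o1528)], 54, .node 4 54 [⟨o599, [(599, [])], 2434⟩,
      ⟨o1226, [(1226, [])], 2437⟩]⟩,
  ⟨[(o10, o10), (o0, o0), (o215, o215), (o1965, o1965), (o14, o1975), (o256, o603), (o12, o1528), (o154, o599)], 54, .node 7 54 [⟨o220, [(220, [])], 2435⟩,
      ⟨o1964, [(1964, [])], 2436⟩]⟩,
  ⟨[(o10, o10), (o0, o0), (o215, o215), (o1965, o1965), (o14, o1975), (o256, o603), (o12, o1528), (o154, o599), (o243, o220)], 54, .inner [1, 0, 2, 1, 7, 8, 3, 7, 6, 5, 2, 3, 4, 1, 2, 3, 7, 8, 5, 4, 0, 1, 2, 3, 7, 2, 3, 4, 5, 3, 0, 2, 4, 3, 5, 4, 3, 2, 7, 3, 2, 1, 0, 4, 5, 8, 7, 3, 2, 1, 4, 3, 2, 5, 6, 7, 3, 8, 7, 1, 2, 0, 1]⟩,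
  ⟨[(o10, o10), (o0, o0), (o215, o215), (o1965, o1965), (o14, o1975), (o256, o603), (o12, o1528), (o154, o599), (o243, o1964)], 54, .inner [2, 3, 7, 8, 6, 5, 3, 4, 1, 2, 3, 7, 3, 4, 2, 3, 0, 1, 0, 2, 1, 0, 3, 2, 4, 3, 7, 3, 2, 1, 4, 3, 5, 6, 8, 7, 3, 2]⟩,
  ⟨[(o10, o10), (o0, o0), (o215, o215), (o1965, o1965), (o14, o1975), (o256, o603), (o12, o1528), (o154, o1226)], 54, .node 7 54 []⟩,
  ⟨[(o10, o10), (o0, o0), (o215, o215), (o1965, o1965), (o14, o1975), (o256, o603), (o12, o1997)], 54, .node 7 54 [⟨o665, [(665, [])], 2439⟩,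
      ⟨o3061, [(3061, [])], 2440⟩]⟩,
  ⟨[(o10, o10), (o0, o0), (o215, o215), (o1965, o1965), (o14, o1975), (o256, o603), (o12, o1997), (o243, o665)], 54, .node 4 54 []⟩,
  ⟨[(o10, o10), (o0, o0), (o215, o215), (o1965, o1965), (o14, o1975), (o256, o603), (o12, o1997), (o243, o3061)], 54, .node 4 54 []⟩,
  ⟨[(o10, o10), (o0, o0), (o215, o215), (o1965, o1965), (o14, o1975), (o256, o603), (o12, o3121)], 54, .node 4 54 [⟨o109, [(109, [])], 2442⟩,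
      ⟨o1227, [(1227, [])], 2443⟩,
      ⟨o1530, [(1530, [])], 2448⟩]⟩,
  ⟨[(o10, o10), (o0, o0), (o215, o215), (o1965, o1965), (o14, o1975), (o256, o603), (o12, o3121), (o154, o109)], 54, .node 7 54 []⟩,
  ⟨[(o10, o10), (o0, o0), (o215, o215), (o1965, o1965), (o14, o1975), (o256, o603), (o12, o3121), (o154, o1227)], 54, .node 7 54 [⟨o220, [(220, [])], 2444⟩,
      ⟨o1964, [(1964, [])], 2445⟩,
      ⟨o2202, [(2202, [])], 2446⟩,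
      ⟨o3134, [(3134, [])], 2447⟩]⟩,
  ⟨[(o10, o10), (o0, o0), (o215, o215), (o1965, o1965), (o14, o1975), (o256, o603), (o12, o3121), (o154, o1227), (o243, o220)], 54, .bad [1, 2, 1] 603 603⟩,
  ⟨[(o10, o10), (o0, o0), (o215, o215), (o1965, o1965), (o14, o1975), (o256, o603), (o12, o3121), (o154, o1227), (o243, o1964)], 54, .bad [1, 2, 1] 603 603⟩,
  ⟨[(o10, o10), (o0, o0), (o215, o215), (o1965, o1965), (o14, o1975), (o256, o603), (o12, o3121), (o154, o1227), (o243, o2202)], 54, .bad [1, 2, 1] 603 603⟩,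
  ⟨[(o10, o10), (o0, o0), (o215, o215), (o1965, o1965), (o14, o1975), (o256, o603), (o12, o3121), (o154, o1227), (o243, o3134)], 54, .bad [1, 2, 1] 603 603⟩,
  ⟨[(o10, o10), (o0, o0), (o215, o215), (o1965, o1965), (o14, o1975), (o256, o603), (o12, o3121), (o154, o1530)], 54, .node 7 54 []⟩,
  ⟨[(o10, o10), (o0, o0), (o215, o215), (o1965, o1965), (o14, o1975), (o256, o603), (o12, o3122)], 54, .node 4 54 [⟨o599, [(599, [])], 2450⟩,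
      ⟨o1226, [(1226, [])], 2451⟩]⟩,
  ⟨[(o10, o10), (o0, o0), (o215, o215), (o1965, o1965), (o14, o1975), (o256, o603), (o12, o3122), (o154, o599)], 54, .node 7 54 []⟩,
  ⟨[(o10, o10), (o0, o0), (o215, o215), (o1965, o1965), (o14, o1975), (o256, o603), (o12, o3122), (o154, o1226)], 54, .node 7 54 [⟨o665, [(665, [])], 2452⟩,
      ⟨o3061, [(3061, [])], 2453⟩]⟩,
  ⟨[(o10, o10), (o0, o0), (o215, o215), (o1965, o1965), (o14, o1975), (o256, o603), (o12, o3122), (o154, o1226), (o243, o665)], 54, .bad [1, 2, 1] 603 603⟩,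
  ⟨[(o10, o10), (o0, o0), (o215, o215), (o1965, o1965), (o14, o1975), (o256, o603), (o12, o3122), (o154, o1226), (o243, o3061)], 54, .bad [1, 2, 1] 603 603⟩,
  ⟨[(o10, o10), (o0, o0), (o215, o215), (o1965, o1965), (o14, o1975), (o256, o612)], 54, .node 4 54 [⟨o2383, [(2383, [])], 2455⟩,
      ⟨o2384, [(2384, [])], 2460⟩]⟩,
  ⟨[(o10, o10), (o0, o0), (o215, o215), (o1965, o1965), (o14, o1975), (o256, o612), (o154, o2383)], 54, .node 7 54 [⟨o611, [(611, [])], 2456⟩,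
      ⟨o1273, [(1273, [])], 2458⟩]⟩,
  ⟨[(o10, o10), (o0, o0), (o215, o215), (o1965, o1965), (o14, o1975), (o256, o612), (o154, o2383), (o243, o611)], 54, .node 2 54 [⟨o1568, [(1568, [])], 2457⟩]⟩,
  ⟨[(o10, o10), (o0, o0), (o215, o215), (o1965, o1965), (o14, o1975), (o256, o612), (o154, o2383), (o243, o611), (o12, o1568)], 54, .inner [7, 3, 4, 2, 3, 7, 5, 6, 4, 5, 3, 4, 2, 3, 7, 8, 7, 3, 4, 1, 2, 3, 7, 5, 4, 3, 0, 1, 0, 2, 4, 1, 0, 3, 4, 5, 7, 3, 2, 1, 4, 3, 7, 8, 7, 3, 2, 4, 3, 5, 4, 6, 5, 7, 3, 2, 4, 3, 7]⟩,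
  ⟨[(o10, o10), (o0, o0), (o215, o215), (o1965, o1965), (o14, o1975), (o256, o612), (o154, o2383), (o243, o1273)], 54, .node 2 54 [⟨o1568, [(1568, [])], 2459⟩]⟩,
  ⟨[(o10, o10), (o0, o0), (o215, o215), (o1965, o1965), (o14, o1975), (o256, o612), (o154, o2383), (o243, o1273), (o12, o1568)], 54, .inner [1, 0, 2, 3, 4, 3, 2, 1, 5, 4, 3, 2, 6, 5, 4, 3, 7, 8, 3, 4, 2, 3, 7, 4, 5, 1, 2, 3, 4, 0, 1, 2, 3, 7, 5, 6, 3, 4, 5, 2, 3, 1, 0, 2, 4, 1, 3, 2, 5, 4, 3, 6, 5, 7, 3, 2, 1, 0, 4, 3, 2, 1, 5, 4, 7, 3, 2, 4, 3, 8, 7, 3, 4, 5, 6, 2, 3, 4, 5, 1, 2, 3, 4, 3, 2, 0, 1]⟩,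
  ⟨[(o10, o10), (o0, o0), (o215, o215), (o1965, o1965), (o14, o1975), (o256, o612), (o154, o2384)], 54, .node 7 54 [⟨o534, [(534, [])], 2461⟩,
      ⟨o1466, [(1466, [])], 2463⟩]⟩,
  ⟨[(o10, o10), (o0, o0), (o215, o215), (o1965, o1965), (o14, o1975), (o256, o612), (o154, o2384), (o243, o534)], 54, .node 2 54 [⟨o1569, [(1569, [])], 2462⟩]⟩,
  ⟨[(o10, o10), (o0, o0), (o215, o215), (o1965, o1965), (o14, o1975), (o256, o612), (o154, o2384), (o243, o534), (o12, o1569)], 54, .inner [1, 0, 4, 3, 6, 5, 4, 3, 7, 8, 3, 7, 6, 4, 5, 2, 3, 4, 1, 2, 3, 7, 6, 2, 3, 4, 5, 4, 3, 1, 0, 2, 4, 1, 3, 4, 5, 4, 3, 2, 6, 7, 3, 2, 1, 4, 3, 2, 5, 4, 6, 7, 3, 8, 7, 3, 4, 5, 6, 3, 4, 0, 1]⟩,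
  ⟨[(o10, o10), (o0, o0), (o215, o215), (o1965, o1965), (o14, o1975), (o256, o612), (o154, o2384), (o243, o1466)], 54, .node 2 54 [⟨o1569, [(1569, [])], 2464⟩]⟩,
  ⟨[(o10, o10), (o0, o0), (o215, o215), (o1965, o1965), (o14, o1975), (o256, o612), (o154, o2384), (o243, o1466), (o12, o1569)], 54, .inner [1, 4, 6, 5, 4, 3, 2, 7, 3, 8, 4, 2, 3, 7, 3, 4, 5, 1, 2, 3, 4, 0, 1, 2, 3, 7, 5, 6, 2, 3, 4, 5, 2, 3, 0, 1, 0, 2, 4, 1, 0, 3, 2, 5, 4, 3, 2, 6, 5, 7, 3, 2, 1, 0, 4, 3, 2, 1, 5, 4, 3, 7, 3, 2, 4, 8, 3, 7, 2, 3, 4, 5, 6, 4, 1]⟩,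
  ⟨[(o10, o10), (o0, o0), (o215, o215), (o1965, o1965), (o14, o1975), (o256, o2193)], 54, .node 2 54 [⟨o284, [(284, [])], 2466⟩,
      ⟨o285, [(285, [])], 2469⟩,
      ⟨o1302, [(1302, [])], 2470⟩,
      ⟨o1568, [(1568, [])], 2472⟩,
      ⟨o1569, [(1569, [])], 2476⟩,
      ⟨o2201, [(2201, [])], 2481⟩]⟩,
  ⟨[(o10, o10), (o0, o0), (o215, o215), (o1965, o1965), (o14, o1975), (o256, o2193), (o12, o284)], 54, .node 7 54 [⟨o23, [(23, [])], 2467⟩,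
      ⟨o24, [(24, [])], 2468⟩]⟩,
  ⟨[(o10, o10), (o0, o0), (o215, o215), (o1965, o1965), (o14, o1975), (o256, o2193), (o12, o284), (o243, o23)], 54, .node 4 54 []⟩,
  ⟨[(o10, o10), (o0, o0), (o215, o215), (o1965, o1965), (o14, o1975), (o256, o2193), (o12, o284), (o243, o24)], 54, .node 4 54 []⟩,
  ⟨[(o10, o10), (o0, o0), (o215, o215), (o1965, o1965), (o14, o1975), (o256, o2193), (o12, o285)], 54, .node 7 54 []⟩,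
  ⟨[(o10, o10), (o0, o0), (o215, o215), (o1965, o1965), (o14, o1975), (o256, o2193), (o12, o1302)], 54, .node 4 54 [⟨o2550, [(2550, [])], 2471⟩]⟩,
  ⟨[(o10, o10), (o0, o0), (o215, o215), (o1965, o1965), (o14, o1975), (o256, o2193), (o12, o1302), (o154, o2550)], 54, .node 7 54 []⟩,
  ⟨[(o10, o10), (o0, o0), (o215, o215), (o1965, o1965), (o14, o1975), (o256, o2193), (o12, o1568)], 54, .node 4 54 [⟨o2550, [(2550, [])], 2473⟩]⟩,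
  ⟨[(o10, o10), (o0, o0), (o215, o215), (o1965, o1965), (o14, o1975), (o256, o2193), (o12, o1568), (o154, o2550)], 54, .node 7 54 [⟨o611, [(611, [])], 2474⟩,
      ⟨o1273, [(1273, [])], 2475⟩]⟩,
  ⟨[(o10, o10), (o0, o0), (o215, o215), (o1965, o1965), (o14, o1975), (o256, o2193), (o12, o1568), (o154, o2550), (o243, o611)], 54, .inner [6, 5, 4, 3, 7, 8, 3, 4, 5, 2, 3, 4, 1, 2, 3, 7, 6, 5, 2, 3, 4, 1, 2, 3, 0, 1, 0, 2, 1, 0, 3, 2, 1, 4, 3, 2, 5, 6, 7, 3, 2, 1, 4, 3, 2, 5, 4, 3, 8, 7, 3, 4, 5, 6]⟩,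
  ⟨[(o10, o10), (o0, o0), (o215, o215), (o1965, o1965), (o14, o1975), (o256, o2193), (o12, o1568), (o154, o2550), (o243, o1273)], 54, .inner [4, 5, 7, 3, 8, 7, 4, 5, 3, 4, 2, 3, 7, 8, 6, 5, 4, 1, 2, 3, 7, 4, 5, 6, 2, 3, 4, 5, 0, 1, 0, 2, 4, 1, 0, 5, 4, 3, 2, 6, 5, 4, 7, 3, 2, 1, 4, 5, 6, 8, 7, 3, 2, 4, 3, 5, 4, 7, 8, 3, 7, 5, 4]⟩,
  ⟨[(o10, o10), (o0, o0), (o215, o215), (o1965, o1965), (o14, o1975), (o256, o2193), (o12, o1569)], 54, .node 7 54 [⟨o534, [(534, [])], 2477⟩,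
      ⟨o1466, [(1466, [])], 2479⟩]⟩,
  ⟨[(o10, o10), (o0, o0), (o215, o215), (o1965, o1965), (o14, o1975), (o256, o2193), (o12, o1569), (o243, o534)], 54, .node 4 54 [⟨o2642, [(2642, [])], 2478⟩]⟩,
  ⟨[(o10, o10), (o0, o0), (o215, o215), (o1965, o1965), (o14, o1975), (o256, o2193), (o12, o1569), (o243, o534), (o154, o2642)], 54, .inner [6, 5, 4, 3, 7, 8, 3, 4, 5, 2, 3, 4, 1, 2, 3, 7, 6, 5, 4, 3, 0, 1, 0, 2, 4, 1, 0, 3, 4, 5, 6, 7, 3, 2, 1, 4, 3, 2, 5, 4, 3, 8, 7, 3, 4, 5, 6]⟩,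
  ⟨[(o10, o10), (o0, o0), (o215, o215), (o1965, o1965), (o14, o1975), (o256, o2193), (o12, o1569), (o243, o1466)], 54, .node 4 54 [⟨o2642, [(2642, [])], 2480⟩]⟩,
  ⟨[(o10, o10), (o0, o0), (o215, o215), (o1965, o1965), (o14, o1975), (o256, o2193), (o12, o1569), (o243, o1466), (o154, o2642)], 54, .inner [2, 1, 0, 3, 4, 3, 2, 1, 0, 5, 7, 8, 3, 7, 2, 3, 4, 1, 2, 3, 7, 8, 5, 2, 3, 4, 0, 1, 2, 3, 7, 6, 4, 5, 4, 3, 0, 1, 0, 2, 4, 1, 0, 3, 4, 5, 4, 6, 7, 3, 2, 1, 0, 4, 3, 2, 5, 8, 7, 3, 2, 1, 4, 3, 2, 7, 3, 8, 7, 5, 0, 1, 2, 3, 4, 3, 0, 1, 2]⟩,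
  ⟨[(o10, o10), (o0, o0), (o215, o215), (o1965, o1965), (o14, o1975), (o256, o2193), (o12, o2201)], 54, .node 4 54 [⟨o904, [(904, [])], 2482⟩,
      ⟨o2642, [(2642, [])], 2487⟩,
      ⟨o3057, [(3057, [])], 2488⟩]⟩,
  ⟨[(o10, o10), (o0, o0), (o215, o215), (o1965, o1965), (o14, o1975), (o256, o2193), (o12, o2201), (o154, o904)], 54, .node 7 54 [⟨o25, [(25, [])], 2483⟩,
      ⟨o186, [(186, [])], 2484⟩,
      ⟨o611, [(611, [])], 2485⟩,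
      ⟨o1273, [(1273, [])], 2486⟩]⟩,
  ⟨[(o10, o10), (o0, o0), (o215, o215), (o1965, o1965), (o14, o1975), (o256, o2193), (o12, o2201), (o154, o904), (o243, o25)], 54, .bad [4, 5, 4] 2193 2193⟩,
  ⟨[(o10, o10), (o0, o0), (o215, o215), (o1965, o1965), (o14, o1975), (o256, o2193), (o12, o2201), (o154, o904), (o243, o186)], 54, .bad [4, 5, 4] 2193 2193⟩,
  ⟨[(o10, o10), (o0, o0), (o215, o215), (o1965, o1965), (o14, o1975), (o256, o2193), (o12, o2201), (o154, o904), (o243, o611)], 54, .bad [4, 5, 4] 2193 2193⟩,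
  ⟨[(o10, o10), (o0, o0), (o215, o215), (o1965, o1965), (o14, o1975), (o256, o2193), (o12, o2201), (o154, o904), (o243, o1273)], 54, .bad [4, 5, 4] 2193 2193⟩,
  ⟨[(o10, o10), (o0, o0), (o215, o215), (o1965, o1965), (o14, o1975), (o256, o2193), (o12, o2201), (o154, o2642)], 54, .node 7 54 []⟩,
  ⟨[(o10, o10), (o0, o0), (o215, o215), (o1965, o1965), (o14, o1975), (o256, o2193), (o12, o2201), (o154, o3057)], 54, .node 7 54 []⟩,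
  ⟨[(o10, o10), (o0, o0), (o215, o215), (o1965, o1965), (o14, o1975), (o256, o3501)], 54, .node 4 54 [⟨o599, [(599, [])], 2490⟩,
      ⟨o1530, [(1530, [])], 2498⟩,
      ⟨o3056, [(3056, [])], 2503⟩,
      ⟨o3057, [(3057, [])], 2511⟩]⟩,
  ⟨[(o10, o10), (o0, o0), (o215, o215), (o1965, o1965), (o14, o1975), (o256, o3501), (o154, o599)], 54, .node 2 54 [⟨o477, [(477, [])], 2491⟩,
      ⟨o786, [(786, [])], 2492⟩,
      ⟨o3376, [(3376, [])], 2497⟩]⟩,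
  ⟨[(o10, o10), (o0, o0), (o215, o215), (o1965, o1965), (o14, o1975), (o256, o3501), (o154, o599), (o12, o477)], 54, .node 7 54 []⟩,
  ⟨[(o10, o10), (o0, o0), (o215, o215), (o1965, o1965), (o14, o1975), (o256, o3501), (o154, o599), (o12, o786)], 54, .node 7 54 [⟨o611, [(611, [])], 2493⟩,
      ⟨o707, [(707, [])], 2494⟩,
      ⟨o1273, [(1273, [])], 2495⟩,
      ⟨o2975, [(2975, [])], 2496⟩]⟩,
  ⟨[(o10, o10), (o0, o0), (o215, o215), (o1965, o1965), (o14, o1975), (o256, o3501), (o154, o599), (o12, o786), (o243, o611)], 54, .inner [4, 6, 5, 4, 3, 7, 8, 3, 4, 2, 3, 7, 5, 1, 2, 3, 4, 0, 1, 2, 3, 7, 5, 6, 4, 5, 2, 3, 0, 1, 0, 2, 4, 1, 0, 3, 2, 5, 4, 6, 5, 7, 3, 2, 1, 0, 4, 3, 2, 1, 5, 7, 3, 2, 4, 3, 8, 7, 3, 4, 5, 6, 4]⟩,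
  ⟨[(o10, o10), (o0, o0), (o215, o215), (o1965, o1965), (o14, o1975), (o256, o3501), (o154, o599), (o12, o786), (o243, o707)], 54, .bad [3, 7, 3] 599 599⟩,
  ⟨[(o10, o10), (o0, o0), (o215, o215), (o1965, o1965), (o14, o1975), (o256, o3501), (o154, o599), (o12, o786), (o243, o1273)], 54, .inner [2, 3, 4, 3, 2, 1, 0, 5, 4, 3, 7, 8, 3, 4, 2, 3, 7, 5, 6, 4, 5, 3, 4, 1, 2, 3, 7, 6, 1, 2, 3, 4, 5, 3, 0, 1, 0, 2, 4, 1, 0, 3, 5, 4, 3, 2, 1, 6, 7, 3, 2, 1, 4, 3, 5, 4, 6, 5, 7, 3, 2, 4, 3, 8, 7, 3, 4, 5, 0, 1, 2, 3, 4, 3, 2]⟩,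
  ⟨[(o10, o10), (o0, o0), (o215, o215), (o1965, o1965), (o14, o1975), (o256, o3501), (o154, o599), (o12, o786), (o243, o2975)], 54, .bad [3, 7, 3] 599 599⟩,
  ⟨[(o10, o10), (o0, o0), (o215, o215), (o1965, o1965), (o14, o1975), (o256, o3501), (o154, o599), (o12, o3376)], 54, .node 7 54 []⟩,
  ⟨[(o10, o10), (o0, o0), (o215, o215), (o1965, o1965), (o14, o1975), (o256, o3501), (o154, o1530)], 54, .node 7 54 [⟨o534, [(534, [])], 2499⟩,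
      ⟨o1466, [(1466, [])], 2501⟩]⟩,
  ⟨[(o10, o10), (o0, o0), (o215, o215), (o1965, o1965), (o14, o1975), (o256, o3501), (o154, o1530), (o243, o534)], 54, .node 2 54 [⟨o785, [(785, [])], 2500⟩]⟩,
  ⟨[(o10, o10), (o0, o0), (o215, o215), (o1965, o1965), (o14, o1975), (o256, o3501), (o154, o1530), (o243, o534), (o12, o785)], 54, .inner [1, 0, 4, 5, 6, 5, 4, 3, 2, 7, 8, 3, 4, 2, 3, 7, 5, 6, 3, 4, 5, 2, 3, 4, 1, 2, 3, 7, 6, 3, 4, 5, 1, 2, 3, 1, 0, 2, 4, 1, 3, 2, 1, 5, 4, 3, 6, 7, 3, 2, 1, 4, 3, 2, 5, 4, 3, 6, 5, 7, 3, 2, 4, 3, 8, 7, 2, 3, 4, 5, 6, 5, 4, 0, 1]⟩,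
  ⟨[(o10, o10), (o0, o0), (o215, o215), (o1965, o1965), (o14, o1975), (o256, o3501), (o154, o1530), (o243, o1466)], 54, .node 2 54 [⟨o785, [(785, [])], 2502⟩]⟩,
  ⟨[(o10, o10), (o0, o0), (o215, o215), (o1965, o1965), (o14, o1975), (o256, o3501), (o154, o1530), (o243, o1466), (o12, o785)], 54, .inner [1, 4, 5, 6, 5, 4, 3, 7, 8, 3, 7, 4, 5, 2, 3, 4, 1, 2, 3, 7, 5, 6, 1, 2, 3, 4, 5, 3, 0, 1, 0, 2, 4, 1, 0, 3, 5, 4, 3, 2, 1, 6, 5, 7, 3, 2, 1, 4, 3, 2, 5, 4, 7, 3, 8, 7, 3, 4, 5, 6, 5, 4, 1]⟩,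
  ⟨[(o10, o10), (o0, o0), (o215, o215), (o1965, o1965), (o14, o1975), (o256, o3501), (o154, o3056)], 54, .node 2 54 [⟨o477, [(477, [])], 2504⟩,
      ⟨o786, [(786, [])], 2505⟩,
      ⟨o3376, [(3376, [])], 2506⟩]⟩,
  ⟨[(o10, o10), (o0, o0), (o215, o215), (o1965, o1965), (o14, o1975), (o256, o3501), (o154, o3056), (o12, o477)], 54, .node 7 54 []⟩,
  ⟨[(o10, o10), (o0, o0), (o215, o215), (o1965, o1965), (o14, o1975), (o256, o3501), (o154, o3056), (o12, o786)], 54, .node 7 54 []⟩,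
  ⟨[(o10, o10), (o0, o0), (o215, o215), (o1965, o1965), (o14, o1975), (o256, o3501), (o154, o3056), (o12, o3376)], 54, .node 7 54 [⟨o2142, [(2142, [])], 2507⟩,
      ⟨o2202, [(2202, [])], 2508⟩,
      ⟨o2976, [(2976, [])], 2509⟩,
      ⟨o3134, [(3134, [])], 2510⟩]⟩,
  ⟨[(o10, o10), (o0, o0), (o215, o215), (o1965, o1965), (o14, o1975), (o256, o3501), (o154, o3056), (o12, o3376), (o243, o2142)], 54, .bad [2, 3, 7, 3, 2] 1975 1975⟩,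
  ⟨[(o10, o10), (o0, o0), (o215, o215), (o1965, o1965), (o14, o1975), (o256, o3501), (o154, o3056), (o12, o3376), (o243, o2202)], 54, .conjw 1 [2, 4, 3, 5, 7, 3, 2, 8, 7, 4, 5, 3, 4, 2, 3, 7, 8, 6, 5, 4, 3, 7, 1, 2, 3, 4, 3, 1, 2, 0, 1, 0]⟩,
  ⟨[(o10, o10), (o0, o0), (o215, o215), (o1965, o1965), (o14, o1975), (o256, o3501), (o154, o3056), (o12, o3376), (o243, o2976)], 54, .bad [2, 3, 7, 3, 2] 1975 1975⟩,
  ⟨[(o10, o10), (o0, o0), (o215, o215), (o1965, o1965), (o14, o1975), (o256, o3501), (o154, o3056), (o12, o3376), (o243, o3134)], 54, .conjw 2 [1, 2, 1, 4, 3, 2, 5, 4, 7, 3, 2, 1, 4, 3, 7, 8, 5, 6, 4, 5, 3, 4, 2, 3, 7, 3, 4, 5, 1, 2, 3, 4, 2, 0, 1, 0]⟩,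
  ⟨[(o10, o10), (o0, o0), (o215, o215), (o1965, o1965), (o14, o1975), (o256, o3501), (o154, o3057)], 54, .node 2 54 [⟨o511, [(511, [])], 2512⟩,
      ⟨o785, [(785, [])], 2513⟩,
      ⟨o3375, [(3375, [])], 2514⟩]⟩,
  ⟨[(o10, o10), (o0, o0), (o215, o215), (o1965, o1965), (o14, o1975), (o256, o3501), (o154, o3057), (o12, o511)], 54, .node 7 54 []⟩,
  ⟨[(o10, o10), (o0, o0), (o215, o215), (o1965, o1965), (o14, o1975), (o256, o3501), (o154, o3057), (o12, o785)], 54, .node 7 54 []⟩,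
  ⟨[(o10, o10), (o0, o0), (o215, o215), (o1965, o1965), (o14, o1975), (o256, o3501), (o154, o3057), (o12, o3375)], 54, .node 7 54 [⟨o665, [(665, [])], 2515⟩,
      ⟨o707, [(707, [])], 2516⟩,
      ⟨o2975, [(2975, [])], 2517⟩,
      ⟨o3061, [(3061, [])], 2518⟩]⟩,
  ⟨[(o10, o10), (o0, o0), (o215, o215), (o1965, o1965), (o14, o1975), (o256, o3501), (o154, o3057), (o12, o3375), (o243, o665)], 54, .conjw 2 [1, 0, 4, 5, 3, 4, 2, 3, 7, 8, 1, 2, 3, 7, 6, 4, 5, 2, 3, 4, 0, 1, 2, 0, 1, 0]⟩,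
  ⟨[(o10, o10), (o0, o0), (o215, o215), (o1965, o1965), (o14, o1975), (o256, o3501), (o154, o3057), (o12, o3375), (o243, o707)], 54, .bad [2, 3, 7, 3, 2] 1975 1975⟩,
  ⟨[(o10, o10), (o0, o0), (o215, o215), (o1965, o1965), (o14, o1975), (o256, o3501), (o154, o3057), (o12, o3375), (o243, o2975)], 54, .bad [2, 3, 7, 3, 2] 1975 1975⟩,
  ⟨[(o10, o10), (o0, o0), (o215, o215), (o1965, o1965), (o14, o1975), (o256, o3501), (o154, o3057), (o12, o3375), (o243, o3061)], 54, .conjw 1 [1, 0, 2, 1, 0, 6, 5, 4, 3, 7, 3, 2, 1, 0, 4, 3, 2, 8, 7, 3, 4, 2, 3, 7, 8, 1, 2, 3, 7, 5, 6, 4, 5, 3, 4, 2, 3, 7, 3, 4, 0, 1, 2, 1, 0]⟩,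
  ⟨[(o10, o10), (o0, o0), (o215, o215), (o1965, o1965), (o14, o1975), (o256, o3509)], 54, .node 2 54 [⟨o477, [(477, [])], 2520⟩,
      ⟨o511, [(511, [])], 2526⟩,
      ⟨o785, [(785, [])], 2529⟩,
      ⟨o786, [(786, [])], 2534⟩,
      ⟨o3375, [(3375, [])], 2542⟩,
      ⟨o3376, [(3376, [])], 2549⟩]⟩,
  ⟨[(o10, o10), (o0, o0), (o215, o215), (o1965, o1965), (o14, o1975), (o256, o3509), (o12, o477)], 54, .node 4 54 [⟨o390, [(390, [])], 2521⟩,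
      ⟨o393, [(393, [])], 2524⟩,
      ⟨o2929, [(2929, [])], 2525⟩]⟩,
  ⟨[(o10, o10), (o0, o0), (o215, o215), (o1965, o1965), (o14, o1975), (o256, o3509), (o12, o477), (o154, o390)], 54, .node 7 54 [⟨o665, [(665, [])], 2522⟩,
      ⟨o3061, [(3061, [])], 2523⟩]⟩,
  ⟨[(o10, o10), (o0, o0), (o215, o215), (o1965, o1965), (o14, o1975), (o256, o3509), (o12, o477), (o154, o390), (o243, o665)], 54, .bad [6, 3] 390 477⟩,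
  ⟨[(o10, o10), (o0, o0), (o215, o215), (o1965, o1965), (o14, o1975), (o256, o3509), (o12, o477), (o154, o390), (o243, o3061)], 54, .bad [6, 3] 390 477⟩,
  ⟨[(o10, o10), (o0, o0), (o215, o215), (o1965, o1965), (o14, o1975), (o256, o3509), (o12, o477), (o154, o393)], 54, .node 7 54 []⟩,
  ⟨[(o10, o10), (o0, o0), (o215, o215), (o1965, o1965), (o14, o1975), (o256, o3509), (o12, o477), (o154, o2929)], 54, .node 7 54 []⟩,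
  ⟨[(o10, o10), (o0, o0), (o215, o215), (o1965, o1965), (o14, o1975), (o256, o3509), (o12, o511)], 54, .node 4 54 [⟨o482, [(482, [])], 2527⟩,
      ⟨o3055, [(3055, [])], 2528⟩]⟩,
  ⟨[(o10, o10), (o0, o0), (o215, o215), (o1965, o1965), (o14, o1975), (o256, o3509), (o12, o511), (o154, o482)], 54, .node 7 54 []⟩,
  ⟨[(o10, o10), (o0, o0), (o215, o215), (o1965, o1965), (o14, o1975), (o256, o3509), (o12, o511), (o154, o3055)], 54, .node 7 54 []⟩,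
  ⟨[(o10, o10), (o0, o0), (o215, o215), (o1965, o1965), (o14, o1975), (o256, o3509), (o12, o785)], 54, .node 4 54 [⟨o482, [(482, [])], 2530⟩,
      ⟨o3055, [(3055, [])], 2533⟩]⟩,
  ⟨[(o10, o10), (o0, o0), (o215, o215), (o1965, o1965), (o14, o1975), (o256, o3509), (o12, o785), (o154, o482)], 54, .node 7 54 [⟨o534, [(534, [])], 2531⟩,
      ⟨o1466, [(1466, [])], 2532⟩]⟩,
  ⟨[(o10, o10), (o0, o0), (o215, o215), (o1965, o1965), (o14, o1975), (o256, o3509), (o12, o785), (o154, o482), (o243, o534)], 54, .inner [6, 5, 4, 3, 7, 8, 3, 7, 5, 2, 3, 4, 1, 2, 3, 7, 4, 5, 6, 3, 4, 5, 4, 3, 0, 1, 0, 2, 4, 1, 0, 3, 4, 5, 4, 3, 6, 5, 4, 7, 3, 2, 1, 4, 3, 2, 5, 7, 3, 8, 7, 3, 4, 5, 6]⟩,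
  ⟨[(o10, o10), (o0, o0), (o215, o215), (o1965, o1965), (o14, o1975), (o256, o3509), (o12, o785), (o154, o482), (o243, o1466)], 54, .inner [4, 5, 3, 4, 2, 3, 7, 8, 1, 2, 3, 7, 6, 4, 5, 3, 4, 2, 3, 7, 6, 5, 4, 2, 3, 1, 0, 2, 1, 3, 2, 4, 5, 6, 7, 3, 2, 4, 3, 5, 4, 6, 7, 3, 2, 1, 8, 7, 3, 2, 4, 3, 5, 4]⟩,
  ⟨[(o10, o10), (o0, o0), (o215, o215), (o1965, o1965), (o14, o1975), (o256, o3509), (o12, o785), (o154, o3055)], 54, .node 7 54 []⟩,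
  ⟨[(o10, o10), (o0, o0), (o215, o215), (o1965, o1965), (o14, o1975), (o256, o3509), (o12, o786)], 54, .node 4 54 [⟨o390, [(390, [])], 2535⟩,
      ⟨o393, [(393, [])], 2536⟩,
      ⟨o2929, [(2929, [])], 2541⟩]⟩,
  ⟨[(o10, o10), (o0, o0), (o215, o215), (o1965, o1965), (o14, o1975), (o256, o3509), (o12, o786), (o154, o390)], 54, .node 7 54 []⟩,
  ⟨[(o10, o10), (o0, o0), (o215, o215), (o1965, o1965), (o14, o1975), (o256, o3509), (o12, o786), (o154, o393)], 54, .node 7 54 [⟨o611, [(611, [])], 2537⟩,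
      ⟨o707, [(707, [])], 2538⟩,
      ⟨o1273, [(1273, [])], 2539⟩,
      ⟨o2975, [(2975, [])], 2540⟩]⟩,
  ⟨[(o10, o10), (o0, o0), (o215, o215), (o1965, o1965), (o14, o1975), (o256, o3509), (o12, o786), (o154, o393), (o243, o611)], 54, .inner [4, 3, 2, 1, 5, 4, 3, 7, 3, 2, 1, 8, 4, 3, 7, 5, 6, 3, 4, 5, 2, 3, 4, 0, 1, 2, 3, 7, 6, 1, 2, 3, 4, 5, 2, 3, 0, 1, 0, 2, 4, 1, 0, 3, 2, 5, 4, 3, 2, 1, 6, 7, 3, 2, 1, 0, 4, 3, 2, 5, 4, 3, 6, 5, 7, 3, 4, 8, 1, 2, 3, 7, 3, 4, 5, 1, 2, 3, 4]⟩,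
  ⟨[(o10, o10), (o0, o0), (o215, o215), (o1965, o1965), (o14, o1975), (o256, o3509), (o12, o786), (o154, o393), (o243, o707)], 54, .bad [3, 7, 3] 393 393⟩,
  ⟨[(o10, o10), (o0, o0), (o215, o215), (o1965, o1965), (o14, o1975), (o256, o3509), (o12, o786), (o154, o393), (o243, o1273)], 54, .inner [6, 7, 5, 3, 4, 2, 3, 7, 1, 2, 3, 4, 0, 1, 2, 3, 7, 8, 5, 4, 3, 7, 6, 5, 4, 3, 0, 1, 0, 2, 4, 1, 0, 3, 4, 5, 6, 7, 3, 4, 5, 8, 7, 3, 2, 1, 0, 4, 3, 2, 1, 7, 3, 2, 4, 3, 5, 7, 6]⟩,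
  ⟨[(o10, o10), (o0, o0), (o215, o215), (o1965, o1965), (o14, o1975), (o256, o3509), (o12, o786), (o154, o393), (o243, o2975)], 54, .bad [3, 7, 3] 393 393⟩,
  ⟨[(o10, o10), (o0, o0), (o215, o215), (o1965, o1965), (o14, o1975), (o256, o3509), (o12, o786), (o154, o2929)], 54, .node 7 54 []⟩,
  ⟨[(o10, o10), (o0, o0), (o215, o215), (o1965, o1965), (o14, o1975), (o256, o3509), (o12, o3375)], 54, .node 4 54 [⟨o482, [(482, [])], 2543⟩,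
      ⟨o3055, [(3055, [])], 2544⟩]⟩,
  ⟨[(o10, o10), (o0, o0), (o215, o215), (o1965, o1965), (o14, o1975), (o256, o3509), (o12, o3375), (o154, o482)], 54, .node 7 54 []⟩,
  ⟨[(o10, o10), (o0, o0), (o215, o215), (o1965, o1965), (o14, o1975), (o256, o3509), (o12, o3375), (o154, o3055)], 54, .node 7 54 [⟨o665, [(665, [])], 2545⟩,
      ⟨o707, [(707, [])], 2546⟩,
      ⟨o2975, [(2975, [])], 2547⟩,
      ⟨o3061, [(3061, [])], 2548⟩]⟩,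
  ⟨[(o10, o10), (o0, o0), (o215, o215), (o1965, o1965), (o14, o1975), (o256, o3509), (o12, o3375), (o154, o3055), (o243, o665)], 54, .conjw 1 [1, 0, 2, 3, 4, 3, 2, 1, 5, 6, 7, 3, 2, 1, 0, 4, 3, 7, 8, 7, 3, 4, 5, 2, 3, 4, 1, 2, 3, 7, 8, 3, 4, 2, 3, 7, 3, 4, 0, 1, 2, 1, 0]⟩,
  ⟨[(o10, o10), (o0, o0), (o215, o215), (o1965, o1965), (o14, o1975), (o256, o3509), (o12, o3375), (o154, o3055), (o243, o707)], 54, .bad [2, 3, 7, 3, 2] 1975 1975⟩,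
  ⟨[(o10, o10), (o0, o0), (o215, o215), (o1965, o1965), (o14, o1975), (o256, o3509), (o12, o3375), (o154, o3055), (o243, o2975)], 54, .bad [2, 3, 7, 3, 2] 1975 1975⟩,
  ⟨[(o10, o10), (o0, o0), (o215, o215), (o1965, o1965), (o14, o1975), (o256, o3509), (o12, o3375), (o154, o3055), (o243, o3061)], 54, .conjw 2 [1, 0, 2, 1, 0, 3, 2, 1, 6, 5, 7, 3, 2, 1, 8, 7, 3, 4, 2, 3, 7, 8, 0, 1, 2, 3, 7, 5, 1, 2, 3, 4, 3, 2, 0, 1, 0]⟩,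
  ⟨[(o10, o10), (o0, o0), (o215, o215), (o1965, o1965), (o14, o1975), (o256, o3509), (o12, o3376)], 54, .node 4 54 [⟨o390, [(390, [])], 2550⟩,
      ⟨o393, [(393, [])], 2551⟩,
      ⟨o2929, [(2929, [])], 2552⟩]⟩,
  ⟨[(o10, o10), (o0, o0), (o215, o215), (o1965, o1965), (o14, o1975), (o256, o3509), (o12, o3376), (o154, o390)], 54, .node 7 54 []⟩,
  ⟨[(o10, o10), (o0, o0), (o215, o215), (o1965, o1965), (o14, o1975), (o256, o3509), (o12, o3376), (o154, o393)], 54, .node 7 54 []⟩,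
  ⟨[(o10, o10), (o0, o0), (o215, o215), (o1965, o1965), (o14, o1975), (o256, o3509), (o12, o3376), (o154, o2929)], 54, .node 7 54 [⟨o2142, [(2142, [])], 2553⟩,
      ⟨o2202, [(2202, [])], 2554⟩,
      ⟨o2976, [(2976, [])], 2555⟩,
      ⟨o3134, [(3134, [])], 2556⟩]⟩,
  ⟨[(o10, o10), (o0, o0), (o215, o215), (o1965, o1965), (o14, o1975), (o256, o3509), (o12, o3376), (o154, o2929), (o243, o2142)], 54, .bad [2, 3, 7, 3, 2] 1975 1975⟩,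
  ⟨[(o10, o10), (o0, o0), (o215, o215), (o1965, o1965), (o14, o1975), (o256, o3509), (o12, o3376), (o154, o2929), (o243, o2202)], 54, .conjw 2 [1, 2, 4, 3, 5, 4, 7, 3, 2, 4, 3, 5, 6, 7, 8, 7, 3, 4, 5, 2, 3, 4, 1, 2, 3, 7, 8, 3, 4, 2, 3, 7, 6, 3, 4, 5, 4, 2, 0]⟩,
  ⟨[(o10, o10), (o0, o0), (o215, o215), (o1965, o1965), (o14, o1975), (o256, o3509), (o12, o3376), (o154, o2929), (o243, o2976)], 54, .bad [2, 3, 7, 3, 2] 1975 1975⟩,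
  ⟨[(o10, o10), (o0, o0), (o215, o215), (o1965, o1965), (o14, o1975), (o256, o3509), (o12, o3376), (o154, o2929), (o243, o3134)], 54, .conjw 1 [1, 0, 2, 1, 0, 6, 5, 7, 3, 2, 1, 8, 7, 3, 4, 2, 3, 7, 8, 2, 3, 4, 1, 2, 3, 7, 5, 3, 4, 2, 3, 1, 2, 0, 1, 0]⟩,
  ⟨[(o10, o10), (o0, o0), (o215, o215), (o1965, o1965), (o14, o2590)], 51, .node 6 59 [⟨o68, [(68, [])], 2558⟩,
      ⟨o143, [(143, [])], 2573⟩,
      ⟨o509, [(509, [])], 2584⟩,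
      ⟨o548, [(548, [])], 2597⟩,
      ⟨o949, [(949, [])], 2613⟩,
      ⟨o1274, [(1274, [])], 2630⟩,
      ⟨o1570, [(1570, [])], 2647⟩,
      ⟨o1571, [(1571, [])], 2666⟩]⟩,
  ⟨[(o10, o10), (o0, o0), (o215, o215), (o1965, o1965), (o14, o2590), (o256, o68)], 59, .node 2 59 [⟨o284, [(284, [])], 2559⟩,
      ⟨o285, [(285, [])], 2564⟩,
      ⟨o1568, [(1568, [])], 2568⟩,
      ⟨o1569, [(1569, [])], 2570⟩]⟩,
  ⟨[(o10, o10), (o0, o0), (o215, o215), (o1965, o1965), (o14, o2590), (o256, o68), (o12, o284)], 59, .node 4 59 [⟨o2642, [(2642, [])], 2560⟩,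
      ⟨o2896, [(2896, [])], 2563⟩]⟩]

end Cfsg.Agent.Spor.Cos.Fi22Outer.Tree
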