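import Cfsg.Agent.Lib.Spor.Cos.Fi22Outer.OuterPts

/-! Nodes of the tree. -/

set_option autoImplicit false
set_option maxRecDepth 100000
set_option maxHeartbeats 4000000

namespace Cfsg.Agent.Spor.Cos.Fi22Outer.Tree

/-- Nodes. -/
def nd20 : List ONode := [
  ⟨[(o10, o10), (o0, o0), (o215, o215), (o1965, o1965), (o14, o2590), (o256, o68), (o12, o284), (o154, o2642)], 59, .node 7 59 [⟨o217, [(217, [])], 2561⟩,
      ⟨o1587, [(1587, [])], 2562⟩]⟩,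
  ⟨[(o10, o10), (o0, o0), (o215, o215), (o1965, o1965), (o14, o2590), (o256, o68), (o12, o284), (o154, o2642), (o243, o217)], 59, .inner [6, 5, 4, 3, 7, 8, 5, 6, 3, 4, 5, 2, 3, 4, 1, 2, 3, 7, 0, 1, 2, 3, 4, 5, 0, 1, 0, 2, 4, 1, 0, 5, 4, 3, 2, 1, 0, 7, 3, 2, 1, 4, 3, 2, 5, 4, 3, 6, 5, 8, 7, 3, 4, 5, 6]⟩,
  ⟨[(o10, o10), (o0, o0), (o215, o215), (o1965, o1965), (o14, o2590), (o256, o68), (o12, o284), (o154, o2642), (o243, o1587)], 59, .inner [2, 3, 7, 8, 3, 4, 2, 3, 7, 1, 2, 3, 4, 5, 6, 0, 1, 2, 3, 4, 5, 1, 2, 3, 0, 1, 0, 2, 4, 1, 0, 3, 2, 1, 5, 4, 3, 2, 1, 0, 6, 5, 4, 3, 2, 1, 7, 3, 2, 4, 3, 8, 7, 3, 2]⟩,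
  ⟨[(o10, o10), (o0, o0), (o215, o215), (o1965, o1965), (o14, o2590), (o256, o68), (o12, o284), (o154, o2896)], 59, .node 7 59 []⟩,
  ⟨[(o10, o10), (o0, o0), (o215, o215), (o1965, o1965), (o14, o2590), (o256, o68), (o12, o285)], 59, .node 4 59 [⟨o2550, [(2550, [])], 2565⟩]⟩,
  ⟨[(o10, o10), (o0, o0), (o215, o215), (o1965, o1965), (o14, o2590), (o256, o68), (o12, o285), (o154, o2550)], 59, .node 7 59 [⟨o220, [(220, [])], 2566⟩,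
      ⟨o1964, [(1964, [])], 2567⟩]⟩,
  ⟨[(o10, o10), (o0, o0), (o215, o215), (o1965, o1965), (o14, o2590), (o256, o68), (o12, o285), (o154, o2550), (o243, o220)], 59, .inner [4, 7, 3, 2, 8, 7, 4, 5, 3, 4, 2, 3, 7, 8, 5, 3, 4, 1, 2, 3, 7, 6, 0, 1, 2, 3, 4, 5, 0, 1, 0, 2, 4, 1, 0, 5, 4, 3, 2, 1, 0, 6, 7, 3, 2, 1, 4, 3, 5, 8, 7, 3, 2, 4, 3, 5, 4, 7, 8, 2, 3, 7, 4]⟩,
  ⟨[(o10, o10), (o0, o0), (o215, o215), (o1965, o1965), (o14, o2590), (o256, o68), (o12, o285), (o154, o2550), (o243, o1964)], 59, .inner [2, 3, 7, 8, 3, 4, 2, 3, 7, 5, 6, 4, 5, 1, 2, 3, 4, 0, 1, 2, 3, 1, 0, 2, 1, 3, 2, 1, 0, 4, 3, 2, 1, 5, 4, 6, 5, 7, 3, 2, 4, 3, 8, 7, 3, 2]⟩,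
  ⟨[(o10, o10), (o0, o0), (o215, o215), (o1965, o1965), (o14, o2590), (o256, o68), (o12, o1568)], 59, .node 4 59 [⟨o2550, [(2550, [])], 2569⟩]⟩,
  ⟨[(o10, o10), (o0, o0), (o215, o215), (o1965, o1965), (o14, o2590), (o256, o68), (o12, o1568), (o154, o2550)], 59, .node 7 59 []⟩,
  ⟨[(o10, o10), (o0, o0), (o215, o215), (o1965, o1965), (o14, o2590), (o256, o68), (o12, o1569)], 59, .node 4 59 [⟨o2642, [(2642, [])], 2571⟩,
      ⟨o2896, [(2896, [])], 2572⟩]⟩,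
  ⟨[(o10, o10), (o0, o0), (o215, o215), (o1965, o1965), (o14, o2590), (o256, o68), (o12, o1569), (o154, o2642)], 59, .node 7 59 []⟩,
  ⟨[(o10, o10), (o0, o0), (o215, o215), (o1965, o1965), (o14, o2590), (o256, o68), (o12, o1569), (o154, o2896)], 59, .node 7 59 []⟩,
  ⟨[(o10, o10), (o0, o0), (o215, o215), (o1965, o1965), (o14, o2590), (o256, o143)], 59, .node 4 59 [⟨o2383, [(2383, [])], 2574⟩,
      ⟨o2384, [(2384, [])], 2579⟩]⟩,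
  ⟨[(o10, o10), (o0, o0), (o215, o215), (o1965, o1965), (o14, o2590), (o256, o143), (o154, o2383)], 59, .node 2 59 [⟨o285, [(285, [])], 2575⟩,
      ⟨o1568, [(1568, [])], 2578⟩]⟩,
  ⟨[(o10, o10), (o0, o0), (o215, o215), (o1965, o1965), (o14, o2590), (o256, o143), (o154, o2383), (o12, o285)], 59, .node 7 59 [⟨o220, [(220, [])], 2576⟩,
      ⟨o1964, [(1964, [])], 2577⟩]⟩,
  ⟨[(o10, o10), (o0, o0), (o215, o215), (o1965, o1965), (o14, o2590), (o256, o143), (o154, o2383), (o12, o285), (o243, o220)], 59, .inner [4, 5, 3, 4, 2, 3, 7, 8, 6, 5, 3, 4, 1, 2, 3, 7, 5, 6, 0, 1, 2, 3, 4, 5, 0, 1, 0, 2, 4, 1, 0, 5, 4, 3, 2, 1, 0, 6, 5, 7, 3, 2, 1, 4, 3, 5, 6, 8, 7, 3, 2, 4, 3, 5, 4]⟩,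
  ⟨[(o10, o10), (o0, o0), (o215, o215), (o1965, o1965), (o14, o2590), (o256, o143), (o154, o2383), (o12, o285), (o243, o1964)], 59, .inner [2, 3, 7, 8, 3, 7, 4, 5, 2, 3, 4, 1, 2, 3, 7, 6, 0, 1, 2, 3, 4, 5, 0, 1, 0, 2, 4, 1, 0, 5, 4, 3, 2, 1, 0, 6, 7, 3, 2, 1, 4, 3, 2, 5, 4, 7, 3, 8, 7, 3, 2]⟩,
  ⟨[(o10, o10), (o0, o0), (o215, o215), (o1965, o1965), (o14, o2590), (o256, o143), (o154, o2383), (o12, o1568)], 59, .node 7 59 []⟩,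
  ⟨[(o10, o10), (o0, o0), (o215, o215), (o1965, o1965), (o14, o2590), (o256, o143), (o154, o2384)], 59, .node 2 59 [⟨o284, [(284, [])], 2580⟩,
      ⟨o1569, [(1569, [])], 2583⟩]⟩,
  ⟨[(o10, o10), (o0, o0), (o215, o215), (o1965, o1965), (o14, o2590), (o256, o143), (o154, o2384), (o12, o284)], 59, .node 7 59 [⟨o217, [(217, [])], 2581⟩,
      ⟨o1587, [(1587, [])], 2582⟩]⟩,
  ⟨[(o10, o10), (o0, o0), (o215, o215), (o1965, o1965), (o14, o2590), (o256, o143), (o154, o2384), (o12, o284), (o243, o217)], 59, .inner [4, 5, 3, 4, 2, 3, 7, 8, 6, 5, 3, 4, 1, 2, 3, 7, 0, 1, 2, 3, 0, 1, 0, 2, 1, 0, 3, 2, 1, 0, 7, 3, 2, 1, 4, 3, 5, 6, 8, 7, 3, 2, 4, 3, 5, 4]⟩,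
  ⟨[(o10, o10), (o0, o0), (o215, o215), (o1965, o1965), (o14, o2590), (o256, o143), (o154, o2384), (o12, o284), (o243, o1587)], 59, .inner [6, 5, 4, 3, 7, 8, 5, 4, 3, 7, 2, 3, 4, 1, 2, 3, 7, 6, 0, 1, 2, 3, 4, 5, 0, 2, 4, 5, 4, 3, 2, 1, 0, 6, 7, 3, 2, 1, 4, 3, 2, 7, 3, 4, 5, 8, 7, 3, 4, 5, 6]⟩,
  ⟨[(o10, o10), (o0, o0), (o215, o215), (o1965, o1965), (o14, o2590), (o256, o143), (o154, o2384), (o12, o1569)], 59, .node 7 59 []⟩,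
  ⟨[(o10, o10), (o0, o0), (o215, o215), (o1965, o1965), (o14, o2590), (o256, o509)], 59, .node 4 59 [⟨o599, [(599, [])], 2585⟩,
      ⟨o1530, [(1530, [])], 2592⟩]⟩,
  ⟨[(o10, o10), (o0, o0), (o215, o215), (o1965, o1965), (o14, o2590), (o256, o509), (o154, o599)], 59, .node 2 59 [⟨o786, [(786, [])], 2586⟩,
      ⟨o3376, [(3376, [])], 2587⟩]⟩,
  ⟨[(o10, o10), (o0, o0), (o215, o215), (o1965, o1965), (o14, o2590), (o256, o509), (o154, o599), (o12, o786)], 59, .node 7 59 []⟩,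
  ⟨[(o10, o10), (o0, o0), (o215, o215), (o1965, o1965), (o14, o2590), (o256, o509), (o154, o599), (o12, o3376)], 59, .node 7 59 [⟨o220, [(220, [])], 2588⟩,
      ⟨o1758, [(1758, [])], 2589⟩,
      ⟨o1964, [(1964, [])], 2590⟩,
      ⟨o2815, [(2815, [])], 2591⟩]⟩,
  ⟨[(o10, o10), (o0, o0), (o215, o215), (o1965, o1965), (o14, o2590), (o256, o509), (o154, o599), (o12, o3376), (o243, o220)], 59, .inner [2, 3, 7, 8, 3, 4, 5, 1, 2, 3, 4, 0, 1, 2, 3, 7, 5, 6, 4, 5, 3, 4, 2, 3, 0, 1, 0, 2, 1, 0, 3, 2, 4, 3, 5, 4, 6, 5, 7, 3, 2, 1, 0, 4, 3, 2, 1, 5, 4, 3, 8, 7, 3, 2]⟩,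
  ⟨[(o10, o10), (o0, o0), (o215, o215), (o1965, o1965), (o14, o2590), (o256, o509), (o154, o599), (o12, o3376), (o243, o1758)], 59, .bad [3, 7, 3] 599 599⟩,
  ⟨[(o10, o10), (o0, o0), (o215, o215), (o1965, o1965), (o14, o2590), (o256, o509), (o154, o599), (o12, o3376), (o243, o1964)], 59, .inner [1, 4, 6, 5, 4, 3, 2, 7, 8, 3, 4, 2, 3, 7, 3, 4, 5, 2, 3, 4, 1, 2, 3, 7, 4, 5, 6, 3, 4, 5, 2, 3, 0, 1, 0, 2, 4, 1, 0, 3, 2, 5, 4, 3, 6, 5, 4, 7, 3, 2, 1, 4, 3, 2, 5, 4, 3, 7, 3, 2, 4, 3, 8, 7, 2, 3, 4, 5, 6, 4, 1]⟩,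
  ⟨[(o10, o10), (o0, o0), (o215, o215), (o1965, o1965), (o14, o2590), (o256, o509), (o154, o599), (o12, o3376), (o243, o2815)], 59, .bad [3, 7, 3] 599 599⟩,
  ⟨[(o10, o10), (o0, o0), (o215, o215), (o1965, o1965), (o14, o2590), (o256, o509), (o154, o1530)], 59, .node 2 59 [⟨o785, [(785, [])], 2593⟩,
      ⟨o3375, [(3375, [])], 2594⟩]⟩,
  ⟨[(o10, o10), (o0, o0), (o215, o215), (o1965, o1965), (o14, o2590), (o256, o509), (o154, o1530), (o12, o785)], 59, .node 7 59 []⟩,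
  ⟨[(o10, o10), (o0, o0), (o215, o215), (o1965, o1965), (o14, o2590), (o256, o509), (o154, o1530), (o12, o3375)], 59, .node 7 59 [⟨o217, [(217, [])], 2595⟩,
      ⟨o1587, [(1587, [])], 2596⟩]⟩,
  ⟨[(o10, o10), (o0, o0), (o215, o215), (o1965, o1965), (o14, o2590), (o256, o509), (o154, o1530), (o12, o3375), (o243, o217)], 59, .inner [2, 1, 3, 2, 7, 8, 3, 4, 2, 3, 7, 5, 1, 2, 3, 4, 0, 1, 2, 3, 7, 6, 1, 2, 3, 4, 5, 1, 2, 3, 0, 1, 0, 2, 4, 1, 0, 3, 2, 1, 5, 4, 3, 2, 1, 6, 7, 3, 2, 1, 0, 4, 3, 2, 1, 5, 7, 3, 2, 4, 3, 8, 7, 2, 3, 1, 2]⟩,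
  ⟨[(o10, o10), (o0, o0), (o215, o215), (o1965, o1965), (o14, o2590), (o256, o509), (o154, o1530), (o12, o3375), (o243, o1587)], 59, .inner [1, 0, 4, 5, 6, 5, 4, 3, 7, 8, 3, 4, 2, 3, 7, 5, 6, 4, 5, 3, 4, 1, 2, 3, 7, 4, 5, 6, 3, 4, 5, 2, 3, 1, 0, 2, 4, 1, 3, 2, 5, 4, 3, 6, 5, 4, 7, 3, 2, 1, 4, 3, 5, 4, 6, 5, 7, 3, 2, 4, 3, 8, 7, 3, 4, 5, 6, 5, 4, 0, 1]⟩,
  ⟨[(o10, o10), (o0, o0), (o215, o215), (o1965, o1965), (o14, o2590), (o256, o548)], 59, .node 2 59 [⟨o785, [(785, [])], 2598⟩,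
      ⟨o786, [(786, [])], 2599⟩,
      ⟨o3375, [(3375, [])], 2602⟩,
      ⟨o3376, [(3376, [])], 2606⟩]⟩,
  ⟨[(o10, o10), (o0, o0), (o215, o215), (o1965, o1965), (o14, o2590), (o256, o548), (o12, o785)], 59, .node 7 59 []⟩,
  ⟨[(o10, o10), (o0, o0), (o215, o215), (o1965, o1965), (o14, o2590), (o256, o548), (o12, o786)], 59, .node 4 59 [⟨o393, [(393, [])], 2600⟩,
      ⟨o2097, [(2097, [])], 2601⟩]⟩,
  ⟨[(o10, o10), (o0, o0), (o215, o215), (o1965, o1965), (o14, o2590), (o256, o548), (o12, o786), (o154, o393)], 59, .node 7 59 []⟩,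
  ⟨[(o10, o10), (o0, o0), (o215, o215), (o1965, o1965), (o14, o2590), (o256, o548), (o12, o786), (o154, o2097)], 59, .node 7 59 []⟩,
  ⟨[(o10, o10), (o0, o0), (o215, o215), (o1965, o1965), (o14, o2590), (o256, o548), (o12, o3375)], 59, .node 4 59 [⟨o482, [(482, [])], 2603⟩]⟩,
  ⟨[(o10, o10), (o0, o0), (o215, o215), (o1965, o1965), (o14, o2590), (o256, o548), (o12, o3375), (o154, o482)], 59, .node 7 59 [⟨o217, [(217, [])], 2604⟩,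
      ⟨o1587, [(1587, [])], 2605⟩]⟩,
  ⟨[(o10, o10), (o0, o0), (o215, o215), (o1965, o1965), (o14, o2590), (o256, o548), (o12, o3375), (o154, o482), (o243, o217)], 59, .inner [2, 3, 7, 8, 1, 2, 3, 7, 6, 4, 5, 3, 4, 2, 3, 7, 6, 5, 1, 2, 3, 1, 0, 2, 4, 1, 3, 2, 1, 5, 6, 7, 3, 2, 4, 3, 5, 4, 6, 7, 3, 2, 1, 8, 7, 3, 2]⟩,
  ⟨[(o10, o10), (o0, o0), (o215, o215), (o1965, o1965), (o14, o2590), (o256, o548), (o12, o3375), (o154, o482), (o243, o1587)], 59, .inner [1, 2, 3, 6, 5, 7, 8, 4, 3, 7, 2, 3, 4, 1, 2, 3, 7, 8, 2, 3, 7, 5, 6, 4, 5, 3, 4, 0, 1, 2, 3, 7, 6, 4, 5, 3, 4, 2, 3, 1, 0, 2, 1, 3, 2, 4, 3, 5, 4, 6, 7, 3, 2, 1, 0, 4, 3, 5, 4, 6, 5, 7, 3, 2, 8, 7, 3, 2, 1, 4, 3, 2, 7, 3, 4, 8, 7, 5, 6, 3, 2, 1]⟩,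
  ⟨[(o10, o10), (o0, o0), (o215, o215), (o1965, o1965), (o14, o2590), (o256, o548), (o12, o3376)], 59, .node 4 59 [⟨o393, [(393, [])], 2607⟩,
      ⟨o2097, [(2097, [])], 2612⟩]⟩,
  ⟨[(o10, o10), (o0, o0), (o215, o215), (o1965, o1965), (o14, o2590), (o256, o548), (o12, o3376), (o154, o393)], 59, .node 7 59 [⟨o220, [(220, [])], 2608⟩,
      ⟨o1758, [(1758, [])], 2609⟩,
      ⟨o1964, [(1964, [])], 2610⟩,
      ⟨o2815, [(2815, [])], 2611⟩]⟩,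
  ⟨[(o10, o10), (o0, o0), (o215, o215), (o1965, o1965), (o14, o2590), (o256, o548), (o12, o3376), (o154, o393), (o243, o220)], 59, .inner [2, 3, 7, 8, 3, 4, 5, 1, 2, 3, 4, 0, 1, 2, 3, 7, 5, 6, 4, 5, 0, 1, 2, 3, 0, 1, 0, 2, 4, 1, 0, 3, 2, 1, 0, 5, 4, 6, 5, 7, 3, 2, 1, 0, 4, 3, 2, 1, 5, 4, 3, 8, 7, 3, 2]⟩,
  ⟨[(o10, o10), (o0, o0), (o215, o215), (o1965, o1965), (o14, o2590), (o256, o548), (o12, o3376), (o154, o393), (o243, o1758)], 59, .bad [3, 7, 3] 393 393⟩,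
  ⟨[(o10, o10), (o0, o0), (o215, o215), (o1965, o1965), (o14, o2590), (o256, o548), (o12, o3376), (o154, o393), (o243, o1964)], 59, .inner [1, 0, 2, 1, 3, 2, 4, 3, 2, 1, 5, 4, 6, 5, 7, 8, 3, 7, 2, 3, 4, 1, 2, 3, 7, 8, 5, 2, 3, 4, 0, 1, 2, 3, 7, 6, 4, 5, 4, 3, 0, 1, 0, 2, 4, 1, 0, 3, 4, 5, 4, 6, 7, 3, 2, 1, 0, 4, 3, 2, 5, 8, 7, 3, 2, 1, 4, 3, 2, 7, 3, 8, 7, 5, 6, 4, 5, 1, 2, 3, 4, 2, 3, 1, 2, 0, 1]⟩,
  ⟨[(o10, o10), (o0, o0), (o215, o215), (o1965, o1965), (o14, o2590), (o256, o548), (o12, o3376), (o154, o393), (o243, o2815)], 59, .bad [3, 7, 3] 393 393⟩,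
  ⟨[(o10, o10), (o0, o0), (o215, o215), (o1965, o1965), (o14, o2590), (o256, o548), (o12, o3376), (o154, o2097)], 59, .node 7 59 []⟩,
  ⟨[(o10, o10), (o0, o0), (o215, o215), (o1965, o1965), (o14, o2590), (o256, o949)], 59, .node 2 59 [⟨o366, [(366, [])], 2614⟩,
      ⟨o1131, [(1131, [])], 2617⟩,
      ⟨o1528, [(1528, [])], 2624⟩,
      ⟨o1997, [(1997, [])], 2625⟩]⟩,
  ⟨[(o10, o10), (o0, o0), (o215, o215), (o1965, o1965), (o14, o2590), (o256, o949), (o12, o366)], 59, .node 4 59 [⟨o1530, [(1530, [])], 2615⟩,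
      ⟨o2894, [(2894, [])], 2616⟩]⟩,
  ⟨[(o10, o10), (o0, o0), (o215, o215), (o1965, o1965), (o14, o2590), (o256, o949), (o12, o366), (o154, o1530)], 59, .node 7 59 []⟩,
  ⟨[(o10, o10), (o0, o0), (o215, o215), (o1965, o1965), (o14, o2590), (o256, o949), (o12, o366), (o154, o2894)], 59, .node 7 59 []⟩,
  ⟨[(o10, o10), (o0, o0), (o215, o215), (o1965, o1965), (o14, o2590), (o256, o949), (o12, o1131)], 59, .node 4 59 [⟨o599, [(599, [])], 2618⟩,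
      ⟨o2893, [(2893, [])], 2623⟩]⟩,
  ⟨[(o10, o10), (o0, o0), (o215, o215), (o1965, o1965), (o14, o2590), (o256, o949), (o12, o1131), (o154, o599)], 59, .node 7 59 [⟨o611, [(611, [])], 2619⟩,
      ⟨o870, [(870, [])], 2620⟩,
      ⟨o1273, [(1273, [])], 2621⟩,
      ⟨o1461, [(1461, [])], 2622⟩]⟩,
  ⟨[(o10, o10), (o0, o0), (o215, o215), (o1965, o1965), (o14, o2590), (o256, o949), (o12, o1131), (o154, o599), (o243, o611)], 59, .inner [4, 5, 3, 4, 2, 3, 7, 8, 6, 5, 3, 4, 1, 2, 3, 7, 0, 1, 2, 3, 0, 1, 0, 2, 4, 1, 0, 3, 2, 1, 0, 7, 3, 2, 1, 4, 3, 5, 6, 8, 7, 3, 2, 4, 3, 5, 4]⟩,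
  ⟨[(o10, o10), (o0, o0), (o215, o215), (o1965, o1965), (o14, o2590), (o256, o949), (o12, o1131), (o154, o599), (o243, o870)], 59, .bad [3, 7, 3] 599 599⟩,
  ⟨[(o10, o10), (o0, o0), (o215, o215), (o1965, o1965), (o14, o2590), (o256, o949), (o12, o1131), (o154, o599), (o243, o1273)], 59, .inner [1, 0, 2, 7, 4, 5, 3, 4, 1, 2, 3, 7, 8, 7, 3, 4, 2, 3, 7, 6, 0, 1, 2, 3, 4, 5, 4, 3, 0, 1, 0, 2, 4, 1, 0, 3, 4, 5, 4, 3, 2, 1, 0, 6, 7, 3, 2, 4, 3, 7, 8, 7, 3, 2, 1, 4, 3, 5, 4, 7, 2, 0, 1]⟩,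
  ⟨[(o10, o10), (o0, o0), (o215, o215), (o1965, o1965), (o14, o2590), (o256, o949), (o12, o1131), (o154, o599), (o243, o1461)], 59, .bad [3, 7, 3] 599 599⟩,
  ⟨[(o10, o10), (o0, o0), (o215, o215), (o1965, o1965), (o14, o2590), (o256, o949), (o12, o1131), (o154, o2893)], 59, .node 7 59 []⟩,
  ⟨[(o10, o10), (o0, o0), (o215, o215), (o1965, o1965), (o14, o2590), (o256, o949), (o12, o1528)], 59, .node 7 59 []⟩,
  ⟨[(o10, o10), (o0, o0), (o215, o215), (o1965, o1965), (o14, o2590), (o256, o949), (o12, o1997)], 59, .node 4 59 [⟨o1530, [(1530, [])], 2626⟩,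
      ⟨o2894, [(2894, [])], 2629⟩]⟩,
  ⟨[(o10, o10), (o0, o0), (o215, o215), (o1965, o1965), (o14, o2590), (o256, o949), (o12, o1997), (o154, o1530)], 59, .node 7 59 [⟨o534, [(534, [])], 2627⟩,
      ⟨o1466, [(1466, [])], 2628⟩]⟩,
  ⟨[(o10, o10), (o0, o0), (o215, o215), (o1965, o1965), (o14, o2590), (o256, o949), (o12, o1997), (o154, o1530), (o243, o534)], 59, .inner [6, 5, 4, 3, 7, 8, 3, 7, 4, 5, 1, 2, 3, 4, 0, 1, 2, 3, 7, 5, 6, 4, 5, 2, 3, 4, 0, 1, 2, 3, 0, 1, 0, 2, 1, 0, 3, 2, 1, 0, 4, 3, 2, 5, 4, 6, 5, 7, 3, 2, 1, 0, 4, 3, 2, 1, 5, 4, 7, 3, 8, 7, 3, 4, 5, 6]⟩,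
  ⟨[(o10, o10), (o0, o0), (o215, o215), (o1965, o1965), (o14, o2590), (o256, o949), (o12, o1997), (o154, o1530), (o243, o1466)], 59, .inner [1, 0, 2, 1, 0, 3, 2, 7, 8, 3, 7, 4, 5, 3, 4, 1, 2, 3, 7, 8, 6, 5, 3, 4, 1, 2, 3, 7, 0, 1, 2, 3, 0, 1, 0, 2, 4, 1, 0, 3, 2, 1, 0, 7, 3, 2, 1, 4, 3, 5, 6, 8, 7, 3, 2, 1, 4, 3, 5, 4, 7, 3, 8, 7, 2, 3, 0, 1, 2, 0, 1]⟩,
  ⟨[(o10, o10), (o0, o0), (o215, o215), (o1965, o1965), (o14, o2590), (o256, o949), (o12, o1997), (o154, o2894)], 59, .node 7 59 []⟩,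
  ⟨[(o10, o10), (o0, o0), (o215, o215), (o1965, o1965), (o14, o2590), (o256, o1274)], 59, .node 2 59 [⟨o366, [(366, [])], 2631⟩,
      ⟨o1131, [(1131, [])], 2634⟩,
      ⟨o1528, [(1528, [])], 2641⟩,
      ⟨o1997, [(1997, [])], 2642⟩]⟩,
  ⟨[(o10, o10), (o0, o0), (o215, o215), (o1965, o1965), (o14, o2590), (o256, o1274), (o12, o366)], 59, .node 4 59 [⟨o482, [(482, [])], 2632⟩,
      ⟨o2895, [(2895, [])], 2633⟩]⟩,
  ⟨[(o10, o10), (o0, o0), (o215, o215), (o1965, o1965), (o14, o2590), (o256, o1274), (o12, o366), (o154, o482)], 59, .node 7 59 []⟩,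
  ⟨[(o10, o10), (o0, o0), (o215, o215), (o1965, o1965), (o14, o2590), (o256, o1274), (o12, o366), (o154, o2895)], 59, .node 7 59 []⟩,
  ⟨[(o10, o10), (o0, o0), (o215, o215), (o1965, o1965), (o14, o2590), (o256, o1274), (o12, o1131)], 59, .node 4 59 [⟨o393, [(393, [])], 2635⟩,
      ⟨o2896, [(2896, [])], 2640⟩]⟩,
  ⟨[(o10, o10), (o0, o0), (o215, o215), (o1965, o1965), (o14, o2590), (o256, o1274), (o12, o1131), (o154, o393)], 59, .node 7 59 [⟨o611, [(611, [])], 2636⟩,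
      ⟨o870, [(870, [])], 2637⟩,
      ⟨o1273, [(1273, [])], 2638⟩,
      ⟨o1461, [(1461, [])], 2639⟩]⟩,
  ⟨[(o10, o10), (o0, o0), (o215, o215), (o1965, o1965), (o14, o2590), (o256, o1274), (o12, o1131), (o154, o393), (o243, o611)], 59, .inner [2, 4, 5, 3, 4, 2, 3, 7, 8, 3, 7, 1, 2, 3, 4, 0, 1, 2, 3, 7, 6, 3, 4, 5, 4, 3, 0, 1, 0, 2, 4, 1, 0, 3, 4, 5, 4, 3, 6, 7, 3, 2, 1, 0, 4, 3, 2, 1, 7, 3, 8, 7, 3, 2, 4, 3, 5, 4, 2]⟩,
  ⟨[(o10, o10), (o0, o0), (o215, o215), (o1965, o1965), (o14, o2590), (o256, o1274), (o12, o1131), (o154, o393), (o243, o870)], 59, .bad [3, 7, 3] 393 393⟩,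
  ⟨[(o10, o10), (o0, o0), (o215, o215), (o1965, o1965), (o14, o2590), (o256, o1274), (o12, o1131), (o154, o393), (o243, o1273)], 59, .inner [7, 4, 5, 1, 2, 3, 4, 0, 1, 2, 3, 7, 8, 7, 3, 4, 2, 3, 7, 6, 5, 4, 0, 1, 2, 3, 0, 1, 0, 2, 1, 0, 3, 2, 1, 0, 4, 5, 6, 7, 3, 2, 4, 3, 7, 8, 7, 3, 2, 1, 0, 4, 3, 2, 1, 5, 4, 7]⟩,
  ⟨[(o10, o10), (o0, o0), (o215, o215), (o1965, o1965), (o14, o2590), (o256, o1274), (o12, o1131), (o154, o393), (o243, o1461)], 59, .bad [3, 7, 3] 393 393⟩,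
  ⟨[(o10, o10), (o0, o0), (o215, o215), (o1965, o1965), (o14, o2590), (o256, o1274), (o12, o1131), (o154, o2896)], 59, .node 7 59 []⟩,
  ⟨[(o10, o10), (o0, o0), (o215, o215), (o1965, o1965), (o14, o2590), (o256, o1274), (o12, o1528)], 59, .node 7 59 []⟩,
  ⟨[(o10, o10), (o0, o0), (o215, o215), (o1965, o1965), (o14, o2590), (o256, o1274), (o12, o1997)], 59, .node 4 59 [⟨o482, [(482, [])], 2643⟩,
      ⟨o2895, [(2895, [])], 2646⟩]⟩,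
  ⟨[(o10, o10), (o0, o0), (o215, o215), (o1965, o1965), (o14, o2590), (o256, o1274), (o12, o1997), (o154, o482)], 59, .node 7 59 [⟨o534, [(534, [])], 2644⟩,
      ⟨o1466, [(1466, [])], 2645⟩]⟩,
  ⟨[(o10, o10), (o0, o0), (o215, o215), (o1965, o1965), (o14, o2590), (o256, o1274), (o12, o1997), (o154, o482), (o243, o534)], 59, .inner [1, 0, 6, 5, 4, 3, 7, 8, 3, 4, 2, 3, 7, 5, 6, 4, 5, 3, 4, 1, 2, 3, 7, 5, 6, 0, 1, 2, 3, 4, 5, 3, 0, 1, 0, 2, 4, 1, 0, 3, 5, 4, 3, 2, 1, 0, 6, 5, 7, 3, 2, 1, 4, 3, 5, 4, 6, 5, 7, 3, 2, 4, 3, 8, 7, 3, 4, 5, 6, 0, 1]⟩,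
  ⟨[(o10, o10), (o0, o0), (o215, o215), (o1965, o1965), (o14, o2590), (o256, o1274), (o12, o1997), (o154, o482), (o243, o1466)], 59, .inner [1, 0, 4, 3, 2, 1, 5, 6, 4, 5, 3, 4, 2, 3, 7, 8, 3, 4, 2, 3, 7, 4, 5, 6, 0, 1, 2, 3, 4, 5, 0, 1, 0, 2, 4, 1, 0, 5, 4, 3, 2, 1, 0, 6, 5, 4, 7, 3, 2, 4, 3, 8, 7, 3, 2, 4, 3, 5, 4, 6, 5, 1, 2, 3, 4, 0, 1]⟩,
  ⟨[(o10, o10), (o0, o0), (o215, o215), (o1965, o1965), (o14, o2590), (o256, o1274), (o12, o1997), (o154, o2895)], 59, .node 7 59 []⟩,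
  ⟨[(o10, o10), (o0, o0), (o215, o215), (o1965, o1965), (o14, o2590), (o256, o1570)], 59, .node 2 59 [⟨o11, [(11, [])], 2648⟩,
      ⟨o12, [(12, [])], 2651⟩,
      ⟨o2031, [(2031, [])], 2654⟩,
      ⟨o2192, [(2192, [])], 2659⟩]⟩,
  ⟨[(o10, o10), (o0, o0), (o215, o215), (o1965, o1965), (o14, o2590), (o256, o1570), (o12, o11)], 59, .node 4 59 [⟨o2097, [(2097, [])], 2649⟩,
      ⟨o2642, [(2642, [])], 2650⟩]⟩,
  ⟨[(o10, o10), (o0, o0), (o215, o215), (o1965, o1965), (o14, o2590), (o256, o1570), (o12, o11), (o154, o2097)], 59, .node 7 59 []⟩,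
  ⟨[(o10, o10), (o0, o0), (o215, o215), (o1965, o1965), (o14, o2590), (o256, o1570), (o12, o11), (o154, o2642)], 59, .node 7 59 []⟩,
  ⟨[(o10, o10), (o0, o0), (o215, o215), (o1965, o1965), (o14, o2590), (o256, o1570), (o12, o12)], 59, .node 4 59 [⟨o1207, [(1207, [])], 2652⟩,
      ⟨o2550, [(2550, [])], 2653⟩]⟩,
  ⟨[(o10, o10), (o0, o0), (o215, o215), (o1965, o1965), (o14, o2590), (o256, o1570), (o12, o12), (o154, o1207)], 59, .node 7 59 []⟩,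
  ⟨[(o10, o10), (o0, o0), (o215, o215), (o1965, o1965), (o14, o2590), (o256, o1570), (o12, o12), (o154, o2550)], 59, .node 7 59 []⟩,
  ⟨[(o10, o10), (o0, o0), (o215, o215), (o1965, o1965), (o14, o2590), (o256, o1570), (o12, o2031)], 59, .node 4 59 [⟨o2097, [(2097, [])], 2655⟩,
      ⟨o2642, [(2642, [])], 2656⟩]⟩,
  ⟨[(o10, o10), (o0, o0), (o215, o215), (o1965, o1965), (o14, o2590), (o256, o1570), (o12, o2031), (o154, o2097)], 59, .node 7 59 []⟩,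
  ⟨[(o10, o10), (o0, o0), (o215, o215), (o1965, o1965), (o14, o2590), (o256, o1570), (o12, o2031), (o154, o2642)], 59, .node 7 59 [⟨o534, [(534, [])], 2657⟩,
      ⟨o1466, [(1466, [])], 2658⟩]⟩,
  ⟨[(o10, o10), (o0, o0), (o215, o215), (o1965, o1965), (o14, o2590), (o256, o1570), (o12, o2031), (o154, o2642), (o243, o534)], 59, .inner [1, 0, 4, 6, 5, 4, 3, 7, 8, 3, 4, 2, 3, 7, 3, 4, 5, 2, 3, 4, 1, 2, 3, 7, 4, 5, 6, 3, 4, 5, 2, 3, 0, 1, 0, 2, 4, 1, 0, 3, 2, 5, 4, 3, 6, 5, 4, 7, 3, 2, 1, 4, 3, 2, 5, 4, 3, 7, 3, 2, 4, 3, 8, 7, 3, 4, 5, 6, 4, 0, 1]⟩,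
  ⟨[(o10, o10), (o0, o0), (o215, o215), (o1965, o1965), (o14, o2590), (o256, o1570), (o12, o2031), (o154, o2642), (o243, o1466)], 59, .inner [6, 5, 1, 2, 3, 4, 0, 1, 2, 3, 7, 8, 5, 6, 3, 4, 5, 2, 3, 4, 0, 1, 2, 3, 7, 6, 4, 5, 3, 4, 2, 3, 0, 1, 0, 2, 1, 0, 3, 2, 4, 3, 5, 4, 6, 7, 3, 2, 1, 0, 4, 3, 2, 5, 4, 3, 6, 5, 8, 7, 3, 2, 1, 0, 4, 3, 2, 1, 5, 6]⟩,
  ⟨[(o10, o10), (o0, o0), (o215, o215), (o1965, o1965), (o14, o2590), (o256, o1570), (o12, o2192)], 59, .node 4 59 [⟨o1207, [(1207, [])], 2660⟩,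
      ⟨o2550, [(2550, [])], 2661⟩]⟩,
  ⟨[(o10, o10), (o0, o0), (o215, o215), (o1965, o1965), (o14, o2590), (o256, o1570), (o12, o2192), (o154, o1207)], 59, .node 7 59 []⟩,
  ⟨[(o10, o10), (o0, o0), (o215, o215), (o1965, o1965), (o14, o2590), (o256, o1570), (o12, o2192), (o154, o2550)], 59, .node 7 59 [⟨o611, [(611, [])], 2662⟩,
      ⟨o1273, [(1273, [])], 2663⟩,
      ⟨o1759, [(1759, [])], 2664⟩,
      ⟨o2814, [(2814, [])], 2665⟩]⟩,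
  ⟨[(o10, o10), (o0, o0), (o215, o215), (o1965, o1965), (o14, o2590), (o256, o1570), (o12, o2192), (o154, o2550), (o243, o611)], 59, .inner [7, 3, 2, 4, 3, 5, 7, 6, 4, 5, 3, 4, 2, 3, 7, 8, 7, 3, 4, 1, 2, 3, 7, 4, 5, 6, 3, 4, 5, 3, 0, 1, 0, 2, 4, 1, 0, 3, 5, 4, 3, 6, 5, 4, 7, 3, 2, 1, 4, 3, 7, 8, 7, 3, 2, 4, 3, 5, 4, 6, 7, 5, 3, 4, 2, 3, 7]⟩,
  ⟨[(o10, o10), (o0, o0), (o215, o215), (o1965, o1965), (o14, o2590), (o256, o1570), (o12, o2192), (o154, o2550), (o243, o1273)], 59, .inner [1, 0, 2, 1, 3, 2, 4, 5, 6, 5, 4, 3, 7, 8, 3, 4, 2, 3, 7, 5, 1, 2, 3, 4, 0, 1, 2, 3, 7, 6, 1, 2, 3, 4, 5, 1, 2, 3, 0, 1, 0, 2, 4, 1, 0, 3, 2, 1, 5, 4, 3, 2, 1, 6, 7, 3, 2, 1, 0, 4, 3, 2, 1, 5, 7, 3, 2, 4, 3, 8, 7, 3, 4, 5, 6, 5, 4, 2, 3, 1, 2, 0, 1]⟩,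
  ⟨[(o10, o10), (o0, o0), (o215, o215), (o1965, o1965), (o14, o2590), (o256, o1570), (o12, o2192), (o154, o2550), (o243, o1759)], 59, .bad [3, 7, 4] 1570 1759⟩,
  ⟨[(o10, o10), (o0, o0), (o215, o215), (o1965, o1965), (o14, o2590), (o256, o1570), (o12, o2192), (o154, o2550), (o243, o2814)], 59, .bad [3, 7, 3] 2550 2550⟩,
  ⟨[(o10, o10), (o0, o0), (o215, o215), (o1965, o1965), (o14, o2590), (o256, o1571)], 59, .node 2 59 [⟨o11, [(11, [])], 2667⟩,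
      ⟨o12, [(12, [])], 2670⟩,
      ⟨o2031, [(2031, [])], 2673⟩,
      ⟨o2192, [(2192, [])], 2678⟩]⟩,
  ⟨[(o10, o10), (o0, o0), (o215, o215), (o1965, o1965), (o14, o2590), (o256, o1571), (o12, o11)], 59, .node 4 59 [⟨o1205, [(1205, [])], 2668⟩,
      ⟨o2384, [(2384, [])], 2669⟩]⟩,
  ⟨[(o10, o10), (o0, o0), (o215, o215), (o1965, o1965), (o14, o2590), (o256, o1571), (o12, o11), (o154, o1205)], 59, .node 7 59 []⟩,
  ⟨[(o10, o10), (o0, o0), (o215, o215), (o1965, o1965), (o14, o2590), (o256, o1571), (o12, o11), (o154, o2384)], 59, .node 7 59 []⟩,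
  ⟨[(o10, o10), (o0, o0), (o215, o215), (o1965, o1965), (o14, o2590), (o256, o1571), (o12, o12)], 59, .node 4 59 [⟨o1206, [(1206, [])], 2671⟩,
      ⟨o2383, [(2383, [])], 2672⟩]⟩,
  ⟨[(o10, o10), (o0, o0), (o215, o215), (o1965, o1965), (o14, o2590), (o256, o1571), (o12, o12), (o154, o1206)], 59, .node 7 59 []⟩,
  ⟨[(o10, o10), (o0, o0), (o215, o215), (o1965, o1965), (o14, o2590), (o256, o1571), (o12, o12), (o154, o2383)], 59, .node 7 59 []⟩,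
  ⟨[(o10, o10), (o0, o0), (o215, o215), (o1965, o1965), (o14, o2590), (o256, o1571), (o12, o2031)], 59, .node 4 59 [⟨o1205, [(1205, [])], 2674⟩,
      ⟨o2384, [(2384, [])], 2675⟩]⟩,
  ⟨[(o10, o10), (o0, o0), (o215, o215), (o1965, o1965), (o14, o2590), (o256, o1571), (o12, o2031), (o154, o1205)], 59, .node 7 59 []⟩,
  ⟨[(o10, o10), (o0, o0), (o215, o215), (o1965, o1965), (o14, o2590), (o256, o1571), (o12, o2031), (o154, o2384)], 59, .node 7 59 [⟨o534, [(534, [])], 2676⟩,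
      ⟨o1466, [(1466, [])], 2677⟩]⟩,
  ⟨[(o10, o10), (o0, o0), (o215, o215), (o1965, o1965), (o14, o2590), (o256, o1571), (o12, o2031), (o154, o2384), (o243, o534)], 59, .inner [2, 1, 3, 2, 4, 3, 2, 1, 5, 4, 7, 8, 3, 7, 2, 3, 4, 1, 2, 3, 7, 8, 5, 2, 3, 4, 0, 1, 2, 3, 7, 6, 4, 5, 4, 3, 0, 1, 0, 2, 4, 1, 0, 3, 4, 5, 4, 6, 7, 3, 2, 1, 0, 4, 3, 2, 5, 8, 7, 3, 2, 1, 4, 3, 2, 7, 3, 8, 7, 4, 5, 1, 2, 3, 4, 2, 3, 1, 2]⟩,
  ⟨[(o10, o10), (o0, o0), (o215, o215), (o1965, o1965), (o14, o2590), (o256, o1571), (o12, o2031), (o154, o2384), (o243, o1466)], 59, .inner [4, 5, 6, 5, 4, 3, 7, 8, 3, 4, 5, 2, 3, 4, 1, 2, 3, 7, 3, 4, 5, 6, 2, 3, 4, 5, 4, 3, 0, 1, 0, 2, 4, 1, 0, 3, 4, 5, 4, 3, 2, 6, 5, 4, 3, 7, 3, 2, 1, 4, 3, 2, 5, 4, 3, 8, 7, 3, 4, 5, 6, 5, 4]⟩,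
  ⟨[(o10, o10), (o0, o0), (o215, o215), (o1965, o1965), (o14, o2590), (o256, o1571), (o12, o2192)], 59, .node 4 59 [⟨o1206, [(1206, [])], 2679⟩,
      ⟨o2383, [(2383, [])], 2680⟩]⟩,
  ⟨[(o10, o10), (o0, o0), (o215, o215), (o1965, o1965), (o14, o2590), (o256, o1571), (o12, o2192), (o154, o1206)], 59, .node 7 59 []⟩,
  ⟨[(o10, o10), (o0, o0), (o215, o215), (o1965, o1965), (o14, o2590), (o256, o1571), (o12, o2192), (o154, o2383)], 59, .node 7 59 [⟨o611, [(611, [])], 2681⟩,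
      ⟨o1273, [(1273, [])], 2682⟩,
      ⟨o1759, [(1759, [])], 2683⟩,
      ⟨o2814, [(2814, [])], 2684⟩]⟩,
  ⟨[(o10, o10), (o0, o0), (o215, o215), (o1965, o1965), (o14, o2590), (o256, o1571), (o12, o2192), (o154, o2383), (o243, o611)], 59, .inner [7, 8, 3, 7, 4, 5, 3, 4, 2, 3, 7, 8, 3, 7, 4, 5, 1, 2, 3, 4, 0, 1, 2, 3, 7, 5, 6, 4, 5, 3, 4, 2, 3, 1, 0, 2, 1, 3, 2, 4, 3, 5, 4, 6, 5, 7, 3, 2, 1, 0, 4, 3, 2, 1, 5, 4, 7, 3, 8, 7, 3, 2, 4, 3, 5, 4, 7, 3, 8, 7]⟩,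
  ⟨[(o10, o10), (o0, o0), (o215, o215), (o1965, o1965), (o14, o2590), (o256, o1571), (o12, o2192), (o154, o2383), (o243, o1273)], 59, .inner [6, 5, 1, 2, 3, 4, 0, 1, 2, 3, 7, 8, 3, 7, 4, 5, 3, 4, 2, 3, 7, 6, 5, 4, 3, 1, 0, 2, 4, 1, 3, 4, 5, 6, 7, 3, 2, 4, 3, 5, 4, 7, 3, 8, 7, 3, 2, 1, 0, 4, 3, 2, 1, 5, 6]⟩,
  ⟨[(o10, o10), (o0, o0), (o215, o215), (o1965, o1965), (o14, o2590), (o256, o1571), (o12, o2192), (o154, o2383), (o243, o1759)], 59, .bad [3, 7, 3] 2383 2383⟩,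
  ⟨[(o10, o10), (o0, o0), (o215, o215), (o1965, o1965), (o14, o2590), (o256, o1571), (o12, o2192), (o154, o2383), (o243, o2814)], 59, .bad [3, 7, 3] 2383 2383⟩,
  ⟨[(o10, o10), (o0, o0), (o215, o215), (o1965, o2156)], 30, .node 1 60 [⟨o145, [(145, []), (518, [o1965]), (1477, [o1981]), (1713, [o0, o1132, o3385, o2184]), (2668, [o1567]), (2795, [o562]), (2912, [o0, o2156, o3385, o1307]), (3502, [o254, o2385, o1132, o0])], 2686⟩,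
      ⟨o146, [(146, []), (240, [o1965]), (1052, [o562]), (1553, [o1981]), (1714, [o0, o1132, o3385, o2184]), (1847, [o1567]), (3230, [o0, o2156, o3385, o1307]), (3507, [o254, o2385, o1132, o0])], 2711⟩,
      ⟨o172, [(172, []), (473, [o1965]), (1253, [o562]), (2010, [o1567]), (2143, [o0, o1132, o3385, o2184]), (2650, [o1981]), (2688, [o0, o2156, o3385, o1307]), (2747, [o254, o2385, o1132, o0])], 2736⟩,
      ⟨o324, [(324, []), (356, [o1567]), (437, [o1965]), (953, [o1981]), (2177, [o0, o1132, o3385, o2184]), (2698, [o254, o2385, o1132, o0]), (2703, [o562]), (2731, [o0, o2156, o3385, o1307])], 2759⟩]⟩,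
  ⟨[(o10, o10), (o0, o0), (o215, o215), (o1965, o2156), (o14, o145)], 60, .node 4 61 [⟨o83, [(83, [])], 2687⟩,
      ⟨o84, [(84, [])], 2694⟩,
      ⟨o160, [(160, [])], 2701⟩,
      ⟨o161, [(161, [])], 2706⟩]⟩,
  ⟨[(o10, o10), (o0, o0), (o215, o215), (o1965, o2156), (o14, o145), (o154, o83)], 61, .node 6 61 [⟨o199, [(199, [])], 2688⟩]⟩]

/-- Nodes. -/
def nd21 : List ONode := [
  ⟨[(o10, o10), (o0, o0), (o215, o215), (o1965, o2156), (o14, o145), (o154, o83), (o256, o199)], 61, .node 2 61 [⟨o252, [(252, [])], 2689⟩]⟩,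
  ⟨[(o10, o10), (o0, o0), (o215, o215), (o1965, o2156), (o14, o145), (o154, o83), (o256, o199), (o12, o252)], 61, .node 7 61 [⟨o88, [(88, [])], 2690⟩,
      ⟨o220, [(220, [])], 2691⟩,
      ⟨o1614, [(1614, [])], 2692⟩,
      ⟨o2142, [(2142, [])], 2693⟩]⟩,
  ⟨[(o10, o10), (o0, o0), (o215, o215), (o1965, o2156), (o14, o145), (o154, o83), (o256, o199), (o12, o252), (o243, o88)], 61, .conjw 2 [7, 3, 2, 8, 7, 4, 5, 3, 4, 1, 2, 3, 7, 8, 0, 1, 2, 3, 7, 4, 2, 3, 1, 2, 1, 0]⟩,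
  ⟨[(o10, o10), (o0, o0), (o215, o215), (o1965, o2156), (o14, o145), (o154, o83), (o256, o199), (o12, o252), (o243, o220)], 61, .inner [7, 4, 5, 1, 2, 3, 4, 0, 1, 2, 3, 7, 5, 6, 4, 5, 3, 4, 2, 3, 0, 1, 0, 2, 1, 0, 3, 2, 4, 3, 5, 4, 6, 5, 7, 3, 2, 1, 0, 4, 3, 2, 1, 5, 4, 7]⟩,
  ⟨[(o10, o10), (o0, o0), (o215, o215), (o1965, o2156), (o14, o145), (o154, o83), (o256, o199), (o12, o252), (o243, o1614)], 61, .bad [3, 7, 3] 83 83⟩,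
  ⟨[(o10, o10), (o0, o0), (o215, o215), (o1965, o2156), (o14, o145), (o154, o83), (o256, o199), (o12, o252), (o243, o2142)], 61, .bad [3, 7, 3] 83 83⟩,
  ⟨[(o10, o10), (o0, o0), (o215, o215), (o1965, o2156), (o14, o145), (o154, o84)], 61, .node 6 61 [⟨o159, [(159, [])], 2695⟩]⟩,
  ⟨[(o10, o10), (o0, o0), (o215, o215), (o1965, o2156), (o14, o145), (o154, o84), (o256, o159)], 61, .node 2 61 [⟨o252, [(252, [])], 2696⟩]⟩,
  ⟨[(o10, o10), (o0, o0), (o215, o215), (o1965, o2156), (o14, o145), (o154, o84), (o256, o159), (o12, o252)], 61, .node 7 61 [⟨o88, [(88, [])], 2697⟩,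
      ⟨o220, [(220, [])], 2698⟩,
      ⟨o1614, [(1614, [])], 2699⟩,
      ⟨o2142, [(2142, [])], 2700⟩]⟩,
  ⟨[(o10, o10), (o0, o0), (o215, o215), (o1965, o2156), (o14, o145), (o154, o84), (o256, o159), (o12, o252), (o243, o88)], 61, .conjw 1 [4, 5, 3, 4, 2, 3, 7, 3, 4, 5, 1, 2, 3, 0, 1, 2, 0]⟩,
  ⟨[(o10, o10), (o0, o0), (o215, o215), (o1965, o2156), (o14, o145), (o154, o84), (o256, o159), (o12, o252), (o243, o220)], 61, .inner [7, 4, 5, 1, 2, 3, 4, 0, 1, 2, 3, 7, 5, 6, 4, 5, 0, 1, 2, 3, 0, 1, 0, 2, 4, 1, 0, 3, 2, 1, 0, 5, 4, 6, 5, 7, 3, 2, 1, 0, 4, 3, 2, 1, 5, 4, 7]⟩,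
  ⟨[(o10, o10), (o0, o0), (o215, o215), (o1965, o2156), (o14, o145), (o154, o84), (o256, o159), (o12, o252), (o243, o1614)], 61, .bad [3, 7, 3] 84 84⟩,
  ⟨[(o10, o10), (o0, o0), (o215, o215), (o1965, o2156), (o14, o145), (o154, o84), (o256, o159), (o12, o252), (o243, o2142)], 61, .bad [3, 7, 3] 84 84⟩,
  ⟨[(o10, o10), (o0, o0), (o215, o215), (o1965, o2156), (o14, o145), (o154, o160)], 61, .node 2 61 [⟨o255, [(255, [])], 2702⟩]⟩,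
  ⟨[(o10, o10), (o0, o0), (o215, o215), (o1965, o2156), (o14, o145), (o154, o160), (o12, o255)], 61, .node 6 61 [⟨o199, [(199, [])], 2703⟩]⟩,
  ⟨[(o10, o10), (o0, o0), (o215, o215), (o1965, o2156), (o14, o145), (o154, o160), (o12, o255), (o256, o199)], 61, .node 7 61 [⟨o87, [(87, [])], 2704⟩,
      ⟨o217, [(217, [])], 2705⟩]⟩,
  ⟨[(o10, o10), (o0, o0), (o215, o215), (o1965, o2156), (o14, o145), (o154, o160), (o12, o255), (o256, o199), (o243, o87)], 61, .conjw 1 [2, 3, 4, 5, 8, 7, 3, 2, 1, 0, 4, 3, 2, 1, 5, 4, 6, 5, 3, 4, 2, 3, 7, 8, 3, 4, 2, 3, 7, 3, 4, 5, 1, 2, 3, 4, 3, 2, 0, 1, 0]⟩,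
  ⟨[(o10, o10), (o0, o0), (o215, o215), (o1965, o2156), (o14, o145), (o154, o160), (o12, o255), (o256, o199), (o243, o217)], 61, .inner [1, 2, 3, 7, 8, 6, 5, 4, 3, 7, 2, 3, 4, 1, 2, 3, 7, 8, 5, 4, 3, 7, 5, 6, 4, 5, 2, 3, 0, 2, 4, 3, 2, 5, 4, 6, 5, 7, 3, 4, 5, 8, 7, 3, 2, 1, 4, 3, 2, 7, 3, 4, 5, 6, 8, 7, 3, 2, 1]⟩,
  ⟨[(o10, o10), (o0, o0), (o215, o215), (o1965, o2156), (o14, o145), (o154, o161)], 61, .node 2 61 [⟨o255, [(255, [])], 2707⟩]⟩,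
  ⟨[(o10, o10), (o0, o0), (o215, o215), (o1965, o2156), (o14, o145), (o154, o161), (o12, o255)], 61, .node 6 61 [⟨o159, [(159, [])], 2708⟩]⟩,
  ⟨[(o10, o10), (o0, o0), (o215, o215), (o1965, o2156), (o14, o145), (o154, o161), (o12, o255), (o256, o159)], 61, .node 7 61 [⟨o87, [(87, [])], 2709⟩,
      ⟨o217, [(217, [])], 2710⟩]⟩,
  ⟨[(o10, o10), (o0, o0), (o215, o215), (o1965, o2156), (o14, o145), (o154, o161), (o12, o255), (o256, o159), (o243, o87)], 61, .conjw 2 [7, 3, 2, 8, 7, 4, 5, 3, 4, 1, 2, 3, 7, 8, 0, 1, 2, 3, 7, 2, 3, 4, 3, 2, 1, 0]⟩,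
  ⟨[(o10, o10), (o0, o0), (o215, o215), (o1965, o2156), (o14, o145), (o154, o161), (o12, o255), (o256, o159), (o243, o217)], 61, .inner [1, 0, 2, 1, 7, 3, 2, 1, 4, 3, 5, 4, 6, 5, 8, 7, 3, 2, 4, 3, 7, 8, 5, 4, 3, 7, 6, 5, 1, 2, 3, 4, 0, 1, 2, 3, 7, 5, 6, 4, 5, 2, 3, 1, 0, 2, 4, 1, 3, 2, 5, 4, 6, 5, 7, 3, 2, 1, 0, 4, 3, 2, 1, 5, 6, 7, 3, 4, 5, 8, 7, 3, 4, 2, 3, 7, 8, 5, 6, 4, 5, 3, 4, 1, 2, 3, 7, 1, 2, 0, 1]⟩,
  ⟨[(o10, o10), (o0, o0), (o215, o215), (o1965, o2156), (o14, o146)], 60, .node 4 61 [⟨o83, [(83, [])], 2712⟩,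
      ⟨o84, [(84, [])], 2719⟩,
      ⟨o160, [(160, [])], 2726⟩,
      ⟨o161, [(161, [])], 2731⟩]⟩,
  ⟨[(o10, o10), (o0, o0), (o215, o215), (o1965, o2156), (o14, o146), (o154, o83)], 61, .node 6 61 [⟨o199, [(199, [])], 2713⟩]⟩,
  ⟨[(o10, o10), (o0, o0), (o215, o215), (o1965, o2156), (o14, o146), (o154, o83), (o256, o199)], 61, .node 2 61 [⟨o252, [(252, [])], 2714⟩]⟩,
  ⟨[(o10, o10), (o0, o0), (o215, o215), (o1965, o2156), (o14, o146), (o154, o83), (o256, o199), (o12, o252)], 61, .node 7 61 [⟨o88, [(88, [])], 2715⟩,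
      ⟨o220, [(220, [])], 2716⟩,
      ⟨o1614, [(1614, [])], 2717⟩,
      ⟨o2142, [(2142, [])], 2718⟩]⟩,
  ⟨[(o10, o10), (o0, o0), (o215, o215), (o1965, o2156), (o14, o146), (o154, o83), (o256, o199), (o12, o252), (o243, o88)], 61, .conjw 1 [4, 5, 3, 4, 2, 3, 7, 1, 2, 3, 4, 5, 2, 3, 1, 2, 0]⟩,
  ⟨[(o10, o10), (o0, o0), (o215, o215), (o1965, o2156), (o14, o146), (o154, o83), (o256, o199), (o12, o252), (o243, o220)], 61, .inner [7, 4, 5, 1, 2, 3, 4, 0, 1, 2, 3, 7, 3, 4, 5, 6, 2, 3, 4, 5, 0, 1, 2, 3, 0, 1, 0, 2, 4, 1, 0, 3, 2, 1, 0, 5, 4, 3, 2, 6, 5, 4, 3, 7, 3, 2, 1, 0, 4, 3, 2, 1, 5, 4, 7]⟩,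
  ⟨[(o10, o10), (o0, o0), (o215, o215), (o1965, o2156), (o14, o146), (o154, o83), (o256, o199), (o12, o252), (o243, o1614)], 61, .bad [3, 7, 3] 83 83⟩,
  ⟨[(o10, o10), (o0, o0), (o215, o215), (o1965, o2156), (o14, o146), (o154, o83), (o256, o199), (o12, o252), (o243, o2142)], 61, .bad [3, 7, 3] 83 83⟩,
  ⟨[(o10, o10), (o0, o0), (o215, o215), (o1965, o2156), (o14, o146), (o154, o84)], 61, .node 6 61 [⟨o159, [(159, [])], 2720⟩]⟩,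
  ⟨[(o10, o10), (o0, o0), (o215, o215), (o1965, o2156), (o14, o146), (o154, o84), (o256, o159)], 61, .node 2 61 [⟨o252, [(252, [])], 2721⟩]⟩,
  ⟨[(o10, o10), (o0, o0), (o215, o215), (o1965, o2156), (o14, o146), (o154, o84), (o256, o159), (o12, o252)], 61, .node 7 61 [⟨o88, [(88, [])], 2722⟩,
      ⟨o220, [(220, [])], 2723⟩,
      ⟨o1614, [(1614, [])], 2724⟩,
      ⟨o2142, [(2142, [])], 2725⟩]⟩,
  ⟨[(o10, o10), (o0, o0), (o215, o215), (o1965, o2156), (o14, o146), (o154, o84), (o256, o159), (o12, o252), (o243, o88)], 61, .conjw 0 [4, 5, 3, 4, 2, 3, 7, 3, 4, 5, 1, 2, 3, 4, 0, 1, 0]⟩,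
  ⟨[(o10, o10), (o0, o0), (o215, o215), (o1965, o2156), (o14, o146), (o154, o84), (o256, o159), (o12, o252), (o243, o220)], 61, .inner [8, 7, 6, 5, 3, 4, 2, 3, 7, 8, 7, 5, 6, 4, 5, 1, 2, 3, 4, 0, 1, 2, 3, 7, 5, 6, 4, 5, 3, 4, 2, 3, 0, 1, 0, 2, 1, 0, 3, 2, 4, 3, 5, 4, 6, 5, 7, 3, 2, 1, 0, 4, 3, 2, 1, 5, 4, 6, 5, 7, 8, 7, 3, 2, 4, 3, 5, 6, 7, 8]⟩,
  ⟨[(o10, o10), (o0, o0), (o215, o215), (o1965, o2156), (o14, o146), (o154, o84), (o256, o159), (o12, o252), (o243, o1614)], 61, .bad [3, 7, 3] 84 84⟩,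
  ⟨[(o10, o10), (o0, o0), (o215, o215), (o1965, o2156), (o14, o146), (o154, o84), (o256, o159), (o12, o252), (o243, o2142)], 61, .bad [3, 7, 3] 84 84⟩,
  ⟨[(o10, o10), (o0, o0), (o215, o215), (o1965, o2156), (o14, o146), (o154, o160)], 61, .node 2 61 [⟨o255, [(255, [])], 2727⟩]⟩,
  ⟨[(o10, o10), (o0, o0), (o215, o215), (o1965, o2156), (o14, o146), (o154, o160), (o12, o255)], 61, .node 6 61 [⟨o199, [(199, [])], 2728⟩]⟩,
  ⟨[(o10, o10), (o0, o0), (o215, o215), (o1965, o2156), (o14, o146), (o154, o160), (o12, o255), (o256, o199)], 61, .node 7 61 [⟨o87, [(87, [])], 2729⟩,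
      ⟨o217, [(217, [])], 2730⟩]⟩,
  ⟨[(o10, o10), (o0, o0), (o215, o215), (o1965, o2156), (o14, o146), (o154, o160), (o12, o255), (o256, o199), (o243, o87)], 61, .conjw 2 [1, 0, 2, 1, 3, 2, 7, 8, 3, 7, 4, 5, 3, 4, 2, 3, 7, 8, 1, 2, 3, 7, 4, 2, 3, 1, 2, 1, 0]⟩,
  ⟨[(o10, o10), (o0, o0), (o215, o215), (o1965, o2156), (o14, o146), (o154, o160), (o12, o255), (o256, o199), (o243, o217)], 61, .inner [1, 0, 4, 3, 7, 3, 2, 1, 0, 4, 3, 2, 1, 5, 8, 7, 3, 4, 2, 3, 7, 8, 1, 2, 3, 7, 5, 6, 4, 5, 3, 4, 0, 1, 2, 3, 7, 4, 5, 1, 2, 3, 0, 1, 0, 2, 4, 1, 0, 3, 2, 1, 5, 4, 7, 3, 2, 1, 0, 4, 3, 5, 4, 6, 5, 7, 3, 2, 1, 8, 7, 3, 2, 4, 3, 7, 8, 5, 1, 2, 3, 4, 0, 1, 2, 3, 7, 3, 4, 0, 1]⟩,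
  ⟨[(o10, o10), (o0, o0), (o215, o215), (o1965, o2156), (o14, o146), (o154, o161)], 61, .node 2 61 [⟨o255, [(255, [])], 2732⟩]⟩,
  ⟨[(o10, o10), (o0, o0), (o215, o215), (o1965, o2156), (o14, o146), (o154, o161), (o12, o255)], 61, .node 6 61 [⟨o159, [(159, [])], 2733⟩]⟩,
  ⟨[(o10, o10), (o0, o0), (o215, o215), (o1965, o2156), (o14, o146), (o154, o161), (o12, o255), (o256, o159)], 61, .node 7 61 [⟨o87, [(87, [])], 2734⟩,
      ⟨o217, [(217, [])], 2735⟩]⟩,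
  ⟨[(o10, o10), (o0, o0), (o215, o215), (o1965, o2156), (o14, o146), (o154, o161), (o12, o255), (o256, o159), (o243, o87)], 61, .conjw 1 [4, 5, 3, 4, 2, 3, 7, 3, 4, 5, 1, 2, 3, 4, 0, 1, 0]⟩,
  ⟨[(o10, o10), (o0, o0), (o215, o215), (o1965, o2156), (o14, o146), (o154, o161), (o12, o255), (o256, o159), (o243, o217)], 61, .inner [4, 1, 2, 3, 7, 6, 4, 5, 2, 3, 4, 1, 2, 3, 7, 4, 5, 6, 3, 4, 5, 1, 2, 3, 0, 1, 0, 2, 4, 1, 0, 3, 2, 1, 5, 4, 3, 6, 5, 4, 7, 3, 2, 1, 4, 3, 2, 5, 4, 6, 7, 3, 2, 1, 4]⟩,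
  ⟨[(o10, o10), (o0, o0), (o215, o215), (o1965, o2156), (o14, o172)], 60, .node 6 62 [⟨o114, [(114, [])], 2737⟩,
      ⟨o555, [(555, [])], 2738⟩,
      ⟨o635, [(635, [])], 2741⟩,
      ⟨o684, [(684, [])], 2742⟩,
      ⟨o711, [(711, [])], 2745⟩,
      ⟨o2152, [(2152, [])], 2752⟩]⟩,
  ⟨[(o10, o10), (o0, o0), (o215, o215), (o1965, o2156), (o14, o172), (o256, o114)], 62, .node 4 62 []⟩,
  ⟨[(o10, o10), (o0, o0), (o215, o215), (o1965, o2156), (o14, o172), (o256, o555)], 62, .node 4 62 [⟨o135, [(135, [])], 2739⟩,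
      ⟨o136, [(136, [])], 2740⟩]⟩,
  ⟨[(o10, o10), (o0, o0), (o215, o215), (o1965, o2156), (o14, o172), (o256, o555), (o154, o135)], 62, .node 7 62 []⟩,
  ⟨[(o10, o10), (o0, o0), (o215, o215), (o1965, o2156), (o14, o172), (o256, o555), (o154, o136)], 62, .node 7 62 []⟩,
  ⟨[(o10, o10), (o0, o0), (o215, o215), (o1965, o2156), (o14, o172), (o256, o635)], 62, .node 4 62 []⟩,
  ⟨[(o10, o10), (o0, o0), (o215, o215), (o1965, o2156), (o14, o172), (o256, o684)], 62, .node 2 62 [⟨o785, [(785, [])], 2743⟩,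
      ⟨o786, [(786, [])], 2744⟩]⟩,
  ⟨[(o10, o10), (o0, o0), (o215, o215), (o1965, o2156), (o14, o172), (o256, o684), (o12, o785)], 62, .node 7 62 []⟩,
  ⟨[(o10, o10), (o0, o0), (o215, o215), (o1965, o2156), (o14, o172), (o256, o684), (o12, o786)], 62, .node 7 62 []⟩,
  ⟨[(o10, o10), (o0, o0), (o215, o215), (o1965, o2156), (o14, o172), (o256, o711)], 62, .node 7 62 [⟨o323, [(323, [])], 2746⟩,
      ⟨o513, [(513, [])], 2749⟩]⟩,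
  ⟨[(o10, o10), (o0, o0), (o215, o215), (o1965, o2156), (o14, o172), (o256, o711), (o243, o323)], 62, .node 2 62 [⟨o1997, [(1997, [])], 2747⟩]⟩,
  ⟨[(o10, o10), (o0, o0), (o215, o215), (o1965, o2156), (o14, o172), (o256, o711), (o243, o323), (o12, o1997)], 62, .node 4 62 [⟨o490, [(490, [])], 2748⟩]⟩,
  ⟨[(o10, o10), (o0, o0), (o215, o215), (o1965, o2156), (o14, o172), (o256, o711), (o243, o323), (o12, o1997), (o154, o490)], 62, .conjw 2 [2, 1, 3, 7, 4, 5, 2, 3, 4, 0, 1, 2, 3, 7, 5, 3, 4, 1, 2, 3, 0, 1, 2, 0, 1, 0]⟩,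
  ⟨[(o10, o10), (o0, o0), (o215, o215), (o1965, o2156), (o14, o172), (o256, o711), (o243, o513)], 62, .node 2 62 [⟨o1131, [(1131, [])], 2750⟩]⟩,
  ⟨[(o10, o10), (o0, o0), (o215, o215), (o1965, o2156), (o14, o172), (o256, o711), (o243, o513), (o12, o1131)], 62, .node 4 62 [⟨o773, [(773, [])], 2751⟩]⟩,
  ⟨[(o10, o10), (o0, o0), (o215, o215), (o1965, o2156), (o14, o172), (o256, o711), (o243, o513), (o12, o1131), (o154, o773)], 62, .conjw 1 [4, 3, 2, 1, 5, 4, 3, 7, 8, 3, 7, 4, 5, 2, 3, 4, 0, 1, 2, 3, 7, 5, 3, 4, 0, 1, 2, 1]⟩,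
  ⟨[(o10, o10), (o0, o0), (o215, o215), (o1965, o2156), (o14, o172), (o256, o2152)], 62, .node 7 62 [⟨o323, [(323, [])], 2753⟩,
      ⟨o513, [(513, [])], 2756⟩]⟩,
  ⟨[(o10, o10), (o0, o0), (o215, o215), (o1965, o2156), (o14, o172), (o256, o2152), (o243, o323)], 62, .node 2 62 [⟨o1997, [(1997, [])], 2754⟩]⟩,
  ⟨[(o10, o10), (o0, o0), (o215, o215), (o1965, o2156), (o14, o172), (o256, o2152), (o243, o323), (o12, o1997)], 62, .node 4 62 [⟨o491, [(491, [])], 2755⟩]⟩,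
  ⟨[(o10, o10), (o0, o0), (o215, o215), (o1965, o2156), (o14, o172), (o256, o2152), (o243, o323), (o12, o1997), (o154, o491)], 62, .conjw 1 [1, 0, 2, 1, 0, 3, 2, 4, 3, 5, 6, 5, 4, 3, 7, 3, 8, 7, 2, 3, 4, 1, 2, 3, 7, 5, 6, 4, 5, 3, 4, 2, 3, 7, 4, 3, 0, 1, 2, 1, 0]⟩,
  ⟨[(o10, o10), (o0, o0), (o215, o215), (o1965, o2156), (o14, o172), (o256, o2152), (o243, o513)], 62, .node 2 62 [⟨o1131, [(1131, [])], 2757⟩]⟩,
  ⟨[(o10, o10), (o0, o0), (o215, o215), (o1965, o2156), (o14, o172), (o256, o2152), (o243, o513), (o12, o1131)], 62, .node 4 62 [⟨o1012, [(1012, [])], 2758⟩]⟩,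
  ⟨[(o10, o10), (o0, o0), (o215, o215), (o1965, o2156), (o14, o172), (o256, o2152), (o243, o513), (o12, o1131), (o154, o1012)], 62, .conjw 2 [2, 1, 0, 3, 7, 4, 5, 2, 3, 4, 1, 2, 3, 7, 5, 1, 2, 3, 4, 2, 3, 1, 2, 0, 1, 0]⟩,
  ⟨[(o10, o10), (o0, o0), (o215, o215), (o1965, o2156), (o14, o324)], 60, .node 6 63 [⟨o113, [(113, [])], 2760⟩,
      ⟨o137, [(137, [])], 2761⟩,
      ⟨o159, [(159, [])], 2767⟩,
      ⟨o199, [(199, [])], 2775⟩,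
      ⟨o1525, [(1525, [])], 2776⟩,
      ⟨o2460, [(2460, [])], 2794⟩]⟩,
  ⟨[(o10, o10), (o0, o0), (o215, o215), (o1965, o2156), (o14, o324), (o256, o113)], 63, .node 4 63 []⟩,
  ⟨[(o10, o10), (o0, o0), (o215, o215), (o1965, o2156), (o14, o324), (o256, o137)], 63, .node 4 63 [⟨o47, [(47, [])], 2762⟩,
      ⟨o48, [(48, [])], 2765⟩]⟩,
  ⟨[(o10, o10), (o0, o0), (o215, o215), (o1965, o2156), (o14, o324), (o256, o137), (o154, o47)], 63, .node 2 63 [⟨o284, [(284, [])], 2763⟩,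
      ⟨o3121, [(3121, [])], 2764⟩]⟩,
  ⟨[(o10, o10), (o0, o0), (o215, o215), (o1965, o2156), (o14, o324), (o256, o137), (o154, o47), (o12, o284)], 63, .node 7 63 []⟩,
  ⟨[(o10, o10), (o0, o0), (o215, o215), (o1965, o2156), (o14, o324), (o256, o137), (o154, o47), (o12, o3121)], 63, .node 7 63 []⟩,
  ⟨[(o10, o10), (o0, o0), (o215, o215), (o1965, o2156), (o14, o324), (o256, o137), (o154, o48)], 63, .node 2 63 [⟨o285, [(285, [])], 2766⟩]⟩,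
  ⟨[(o10, o10), (o0, o0), (o215, o215), (o1965, o2156), (o14, o324), (o256, o137), (o154, o48), (o12, o285)], 63, .node 7 63 []⟩,
  ⟨[(o10, o10), (o0, o0), (o215, o215), (o1965, o2156), (o14, o324), (o256, o159)], 63, .node 2 63 [⟨o785, [(785, [])], 2768⟩,
      ⟨o786, [(786, [])], 2770⟩]⟩,
  ⟨[(o10, o10), (o0, o0), (o215, o215), (o1965, o2156), (o14, o324), (o256, o159), (o12, o785)], 63, .node 4 63 [⟨o1853, [(1853, [])], 2769⟩]⟩,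
  ⟨[(o10, o10), (o0, o0), (o215, o215), (o1965, o2156), (o14, o324), (o256, o159), (o12, o785), (o154, o1853)], 63, .node 7 63 []⟩,
  ⟨[(o10, o10), (o0, o0), (o215, o215), (o1965, o2156), (o14, o324), (o256, o159), (o12, o786)], 63, .node 4 63 [⟨o1068, [(1068, [])], 2771⟩,
      ⟨o3409, [(3409, [])], 2774⟩]⟩,
  ⟨[(o10, o10), (o0, o0), (o215, o215), (o1965, o2156), (o14, o324), (o256, o159), (o12, o786), (o154, o1068)], 63, .node 7 63 [⟨o707, [(707, [])], 2772⟩,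
      ⟨o1273, [(1273, [])], 2773⟩]⟩,
  ⟨[(o10, o10), (o0, o0), (o215, o215), (o1965, o2156), (o14, o324), (o256, o159), (o12, o786), (o154, o1068), (o243, o707)], 63, .bad [1, 2, 1] 324 324⟩,
  ⟨[(o10, o10), (o0, o0), (o215, o215), (o1965, o2156), (o14, o324), (o256, o159), (o12, o786), (o154, o1068), (o243, o1273)], 63, .bad [1, 2, 1] 324 324⟩,
  ⟨[(o10, o10), (o0, o0), (o215, o215), (o1965, o2156), (o14, o324), (o256, o159), (o12, o786), (o154, o3409)], 63, .node 7 63 []⟩,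
  ⟨[(o10, o10), (o0, o0), (o215, o215), (o1965, o2156), (o14, o324), (o256, o199)], 63, .node 4 63 []⟩,
  ⟨[(o10, o10), (o0, o0), (o215, o215), (o1965, o2156), (o14, o324), (o256, o1525)], 63, .node 2 63 [⟨o1131, [(1131, [])], 2777⟩,
      ⟨o1302, [(1302, [])], 2782⟩,
      ⟨o1997, [(1997, [])], 2785⟩,
      ⟨o2201, [(2201, [])], 2789⟩]⟩,
  ⟨[(o10, o10), (o0, o0), (o215, o215), (o1965, o2156), (o14, o324), (o256, o1525), (o12, o1131)], 63, .node 4 63 [⟨o1480, [(1480, [])], 2778⟩,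
      ⟨o3409, [(3409, [])], 2781⟩]⟩,
  ⟨[(o10, o10), (o0, o0), (o215, o215), (o1965, o2156), (o14, o324), (o256, o1525), (o12, o1131), (o154, o1480)], 63, .node 7 63 [⟨o1273, [(1273, [])], 2779⟩,
      ⟨o1461, [(1461, [])], 2780⟩]⟩,
  ⟨[(o10, o10), (o0, o0), (o215, o215), (o1965, o2156), (o14, o324), (o256, o1525), (o12, o1131), (o154, o1480), (o243, o1273)], 63, .bad [7, 6] 1480 1131⟩,
  ⟨[(o10, o10), (o0, o0), (o215, o215), (o1965, o2156), (o14, o324), (o256, o1525), (o12, o1131), (o154, o1480), (o243, o1461)], 63, .conjw 1 [1, 0, 6, 7, 3, 2, 1, 8, 7, 3, 2, 1, 0, 4, 3, 2, 1, 5, 4, 6, 5, 7, 3, 2, 8, 7, 3, 4, 1, 2, 3, 7, 8, 0, 1, 2, 3, 7, 4, 5, 1, 2, 3, 4, 3, 2, 0, 1, 0]⟩,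
  ⟨[(o10, o10), (o0, o0), (o215, o215), (o1965, o2156), (o14, o324), (o256, o1525), (o12, o1131), (o154, o3409)], 63, .node 7 63 []⟩,
  ⟨[(o10, o10), (o0, o0), (o215, o215), (o1965, o2156), (o14, o324), (o256, o1525), (o12, o1302)], 63, .node 4 63 [⟨o1757, [(1757, [])], 2783⟩]⟩,
  ⟨[(o10, o10), (o0, o0), (o215, o215), (o1965, o2156), (o14, o324), (o256, o1525), (o12, o1302), (o154, o1757)], 63, .node 7 63 [⟨o1760, [(1760, [])], 2784⟩]⟩,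
  ⟨[(o10, o10), (o0, o0), (o215, o215), (o1965, o2156), (o14, o324), (o256, o1525), (o12, o1302), (o154, o1757), (o243, o1760)], 63, .bad [1, 2, 1] 324 324⟩,
  ⟨[(o10, o10), (o0, o0), (o215, o215), (o1965, o2156), (o14, o324), (o256, o1525), (o12, o1997)], 63, .node 7 63 [⟨o1462, [(1462, [])], 2786⟩,
      ⟨o1466, [(1466, [])], 2788⟩]⟩,
  ⟨[(o10, o10), (o0, o0), (o215, o215), (o1965, o2156), (o14, o324), (o256, o1525), (o12, o1997), (o243, o1462)], 63, .node 4 63 [⟨o1414, [(1414, [])], 2787⟩]⟩,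
  ⟨[(o10, o10), (o0, o0), (o215, o215), (o1965, o2156), (o14, o324), (o256, o1525), (o12, o1997), (o243, o1462), (o154, o1414)], 63, .conjw 2 [2, 1, 0, 3, 2, 1, 6, 5, 7, 3, 2, 1, 0, 4, 3, 7, 8, 7, 2, 3, 4, 1, 2, 3, 7, 5, 1, 2, 3, 4, 2, 3, 1, 2, 0, 1, 0]⟩,
  ⟨[(o10, o10), (o0, o0), (o215, o215), (o1965, o2156), (o14, o324), (o256, o1525), (o12, o1997), (o243, o1466)], 63, .node 4 63 []⟩,
  ⟨[(o10, o10), (o0, o0), (o215, o215), (o1965, o2156), (o14, o324), (o256, o1525), (o12, o2201)], 63, .node 4 63 [⟨o1414, [(1414, [])], 2790⟩,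
      ⟨o1756, [(1756, [])], 2791⟩,
      ⟨o1853, [(1853, [])], 2793⟩]⟩,
  ⟨[(o10, o10), (o0, o0), (o215, o215), (o1965, o2156), (o14, o324), (o256, o1525), (o12, o2201), (o154, o1414)], 63, .node 7 63 []⟩,
  ⟨[(o10, o10), (o0, o0), (o215, o215), (o1965, o2156), (o14, o324), (o256, o1525), (o12, o2201), (o154, o1756)], 63, .node 7 63 [⟨o2151, [(2151, [])], 2792⟩]⟩,
  ⟨[(o10, o10), (o0, o0), (o215, o215), (o1965, o2156), (o14, o324), (o256, o1525), (o12, o2201), (o154, o1756), (o243, o2151)], 63, .bad [1, 2, 1] 324 324⟩,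
  ⟨[(o10, o10), (o0, o0), (o215, o215), (o1965, o2156), (o14, o324), (o256, o1525), (o12, o2201), (o154, o1853)], 63, .node 7 63 []⟩,
  ⟨[(o10, o10), (o0, o0), (o215, o215), (o1965, o2156), (o14, o324), (o256, o2460)], 63, .node 2 63 [⟨o1131, [(1131, [])], 2795⟩,
      ⟨o1302, [(1302, [])], 2799⟩,
      ⟨o1997, [(1997, [])], 2802⟩,
      ⟨o2201, [(2201, [])], 2806⟩]⟩,
  ⟨[(o10, o10), (o0, o0), (o215, o215), (o1965, o2156), (o14, o324), (o256, o2460), (o12, o1131)], 63, .node 4 63 [⟨o418, [(418, [])], 2796⟩]⟩,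
  ⟨[(o10, o10), (o0, o0), (o215, o215), (o1965, o2156), (o14, o324), (o256, o2460), (o12, o1131), (o154, o418)], 63, .node 7 63 [⟨o1273, [(1273, [])], 2797⟩,
      ⟨o1461, [(1461, [])], 2798⟩]⟩,
  ⟨[(o10, o10), (o0, o0), (o215, o215), (o1965, o2156), (o14, o324), (o256, o2460), (o12, o1131), (o154, o418), (o243, o1273)], 63, .bad [7, 8, 7] 324 324⟩,
  ⟨[(o10, o10), (o0, o0), (o215, o215), (o1965, o2156), (o14, o324), (o256, o2460), (o12, o1131), (o154, o418), (o243, o1461)], 63, .conjw 2 [2, 1, 0, 3, 8, 7, 4, 5, 2, 3, 4, 1, 2, 3, 7, 3, 4, 5, 1, 2, 3, 4, 3, 2, 0, 1, 0]⟩,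
  ⟨[(o10, o10), (o0, o0), (o215, o215), (o1965, o2156), (o14, o324), (o256, o2460), (o12, o1302)], 63, .node 4 63 [⟨o1572, [(1572, [])], 2800⟩]⟩,
  ⟨[(o10, o10), (o0, o0), (o215, o215), (o1965, o2156), (o14, o324), (o256, o2460), (o12, o1302), (o154, o1572)], 63, .node 7 63 [⟨o1760, [(1760, [])], 2801⟩]⟩,
  ⟨[(o10, o10), (o0, o0), (o215, o215), (o1965, o2156), (o14, o324), (o256, o2460), (o12, o1302), (o154, o1572), (o243, o1760)], 63, .bad [1, 2, 1] 324 324⟩,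
  ⟨[(o10, o10), (o0, o0), (o215, o215), (o1965, o2156), (o14, o324), (o256, o2460), (o12, o1997)], 63, .node 4 63 [⟨o417, [(417, [])], 2803⟩,
      ⟨o2234, [(2234, [])], 2805⟩]⟩,
  ⟨[(o10, o10), (o0, o0), (o215, o215), (o1965, o2156), (o14, o324), (o256, o2460), (o12, o1997), (o154, o417)], 63, .node 7 63 [⟨o1462, [(1462, [])], 2804⟩]⟩,
  ⟨[(o10, o10), (o0, o0), (o215, o215), (o1965, o2156), (o14, o324), (o256, o2460), (o12, o1997), (o154, o417), (o243, o1462)], 63, .conjw 1 [1, 0, 2, 1, 3, 2, 4, 6, 5, 4, 3, 2, 7, 3, 8, 7, 2, 3, 4, 1, 2, 3, 7, 5, 6, 4, 5, 3, 4, 2, 3, 7, 4, 3, 0, 1, 2, 1, 0]⟩,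
  ⟨[(o10, o10), (o0, o0), (o215, o215), (o1965, o2156), (o14, o324), (o256, o2460), (o12, o1997), (o154, o2234)], 63, .node 7 63 []⟩,
  ⟨[(o10, o10), (o0, o0), (o215, o215), (o1965, o2156), (o14, o324), (o256, o2460), (o12, o2201)], 63, .node 4 63 [⟨o417, [(417, [])], 2807⟩,
      ⟨o2234, [(2234, [])], 2808⟩]⟩,
  ⟨[(o10, o10), (o0, o0), (o215, o215), (o1965, o2156), (o14, o324), (o256, o2460), (o12, o2201), (o154, o417)], 63, .node 7 63 []⟩,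
  ⟨[(o10, o10), (o0, o0), (o215, o215), (o1965, o2156), (o14, o324), (o256, o2460), (o12, o2201), (o154, o2234)], 63, .node 7 63 [⟨o2151, [(2151, [])], 2809⟩]⟩,
  ⟨[(o10, o10), (o0, o0), (o215, o215), (o1965, o2156), (o14, o324), (o256, o2460), (o12, o2201), (o154, o2234), (o243, o2151)], 63, .bad [1, 2, 1] 324 324⟩,
  ⟨[(o10, o10), (o0, o0), (o215, o254)], 2, .node 1 64 [⟨o4, [(4, []), (15, [o215]), (75, [o218]), (76, [o196, o254, o96, o0]), (100, [o165, o69, o254, o0]), (101, [o86]), (205, [o384]), (268, [o0, o2796, o3385, o2667]), (277, [o1585]), (278, [o86, o218]), (329, [o1588]), (620, [o0, o2184, o312, o1547, o96]), (651, [o215, o0, o2184, o312, o1547, o96]), (962, [o0, o493, o535, o2549, o96]), (1369, [o0, o1307, o2184, o2032]), (1370, [o1567]), (1560, [o630, o312, o367, o0]), (2004, [o3472, o213, o630, o69]), (2005, [o86, o96, o708, o1965,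 o521, o148]), (2027, [o1981]), (2159, [o3018, o535, o1307, o69]), (2240, [o1737]), (2263, [o96, o367, o165, o2667, o0]), (2396, [o96, o708, o1965, o521, o148]), (2397, [o86, o630, o312, o367, o0]), (2411, [o0, o2385, o1307, o521]), (2573, [o69, o1677, o367, o3412, o0]), (2588, [o3385, o2032, o2549, o0]), (2589, [o562]), (2653, [o69, o2385, o3466, o367, o96]), (2797, [o421, o2796, o2549, o96]), (3000, [o148, o2549, o1911, o630])], 2811⟩,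
      ⟨o19, [(19, []), (60, [o215]), (61, [o82, o0, o2796, o3385, o2667]), (71, [o0, o2796, o3385, o2667]), (92, [o384]), (102, [o1965]), (158, [o82, o69, o1677, o367, o3412, o0]), (249, [o218, o0, o1307, o2184, o2032]), (250, [o82, o0, o2184, o312, o1547, o96]), (336, [o218]), (508, [o82]), (547, [o165, o69, o254, o0]), (597, [o254, o3412, o3123, o0]), (642, [o3472, o213, o630, o69]), (696, [o69, o1677, o367, o3412, o0]), (697, [o1585]), (738, [o82, o96, o367, o165, o2667, o0]), (779, [o630, o312, o367, o0]), (780, [o1588]), (950, [o3018, o535, o1307, o69]), (1006, [o96, o367, o165, o2667, o0]), (1035, [o148, o2549, o3466, o2796, o69]), (1081, [o1567]), (1082, [o0, o1307, o2184, o2032]), (1275, [o421, o2796, o2549, o96]), (1584, [o0, o2549, o2796, o1362, o69]), (1673, [o82, o96, o708, o1965, o521, o148]), (1715, [o1737]), (2122, [o0, o535, o1307,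 o254]), (2123, [o562]), (2766, [o69, o2796, o1965, o1132, o148]), (3112, [o148, o2549, o1911, o630])], 2845⟩,
      ⟨o263, [(263, []), (272, [o215]), (616, [o562]), (617, [o3385, o2032, o2549, o0]), (806, [o82, o1588]), (838, [o82, o218]), (927, [o165, o69, o254, o0]), (1039, [o148, o2549, o1911, o630]), (1056, [o3472, o213, o630, o69]), (1224, [o1567]), (1248, [o0, o1307, o2184, o2032]), (1272, [o3018, o535, o1307, o69]), (1324, [o96, o708, o1965, o521, o148]), (1325, [o69, o517, o196, o2156, o0]), (1419, [o1737]), (1472, [o96, o367, o165, o2667, o0]), (1672, [o421, o2796, o2549, o96]), (1931, [o82]), (1980, [o82, o0, o1307, o2184, o2032]), (2090, [o1585]), (2501, [o528]), (2596, [o218]), (2624, [o254, o3412, o3123, o0]), (2690, [o630, o312, o367, o0]), (2708, [o1588]), (2876, [o0, o2796, o3385, o2667]), (2937, [o69, o1677, o367, o3412, o0]),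 (3226, [o69, o2385, o3466, o367, o96]), (3402, [o215, o0, o2184, o312, o1547, o96]), (3403, [o0, o2184, o312, o1547, o96]), (3444, [o0, o2385, o1307, o521]), (3505, [o1981])], 2916⟩,
      ⟨o439, [(439, []), (556, [o215]), (829, [o165, o69, o254, o0]), (830, [o82]), (965, [o96, o708, o1965, o521, o148]), (966, [o69, o517, o196, o2156, o0]), (1237, [o3472, o213, o630, o69]), (1293, [o0, o1307, o2184, o2032]), (1306, [o1567]), (1438, [o82, o218]), (1439, [o1585]), (1995, [o1737]), (2166, [o82, o1588]), (2414, [o82, o0, o1307, o2184, o2032]), (2418, [o1588]), (2548, [o630, o312, o367, o0]), (2565, [o3018, o535, o1307, o69]), (2566, [o421, o2796, o2549, o96]), (2656, [o148, o2549, o1911, o630]), (2674, [o562]), (2693, [o3385, o2032, o2549, o0]), (2716, [o96, o367, o165, o2667, o0]), (2718, [o218]), (2724, [o254, o3412, o3123, o0]), (2907, [o1981]),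 (2924, [o69, o2385, o3466, o367, o96]), (2958, [o0, o2184, o312, o1547, o96]), (2983, [o0, o2796, o3385, o2667]), (3175, [o69, o1677, o367, o3412, o0]), (3346, [o215, o0, o2184, o312, o1547, o96]), (3414, [o0, o2385, o1307, o521]), (3439, [o528])], 2940⟩]⟩,
  ⟨[(o10, o10), (o0, o0), (o215, o254), (o14, o4)], 64, .node 8 65 [⟨o82, [(82, []), (528, [o1965])], 2812⟩,
      ⟨o1965, [(1965, [])], 2824⟩]⟩,
  ⟨[(o10, o10), (o0, o0), (o215, o254), (o14, o4), (o1965, o82)], 65, .node 6 66 [⟨o256, [(256, [])], 2813⟩]⟩,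
  ⟨[(o10, o10), (o0, o0), (o215, o254), (o14, o4), (o1965, o82), (o256, o256)], 66, .node 2 66 [⟨o526, [(526, [])], 2814⟩,
      ⟨o527, [(527, [])], 2818⟩]⟩,
  ⟨[(o10, o10), (o0, o0), (o215, o254), (o14, o4), (o1965, o82), (o256, o256), (o12, o526)], 66, .node 4 66 [⟨o682, [(682, [])], 2815⟩]⟩,
  ⟨[(o10, o10), (o0, o0), (o215, o254), (o14, o4), (o1965, o82), (o256, o256), (o12, o526), (o154, o682)], 66, .node 7 66 [⟨o417, [(417, [])], 2816⟩,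
      ⟨o773, [(773, [])], 2817⟩]⟩]

/-- Nodes. -/
def nd22 : List ONode := [
  ⟨[(o10, o10), (o0, o0), (o215, o254), (o14, o4), (o1965, o82), (o256, o256), (o12, o526), (o154, o682), (o243, o417)], 66, .conjw 2 [2, 3, 5, 7, 3, 2, 8, 4, 3, 7, 5, 6, 4, 5, 3, 4, 2, 3, 7, 5, 4, 1, 2, 3, 0, 1, 2, 0, 1, 0]⟩,
  ⟨[(o10, o10), (o0, o0), (o215, o254), (o14, o4), (o1965, o82), (o256, o256), (o12, o526), (o154, o682), (o243, o773)], 66, .inner [2, 4, 7, 8, 3, 7, 5, 6, 4, 5, 3, 4, 2, 3, 7, 8, 5, 3, 4, 1, 2, 3, 7, 0, 1, 2, 3, 0, 1, 0, 2, 4, 1, 0, 3, 2, 1, 0, 7, 3, 2, 1, 4, 3, 5, 8, 7, 3, 2, 4, 3, 5, 4, 6, 5, 7, 3, 8, 7, 4, 2]⟩,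
  ⟨[(o10, o10), (o0, o0), (o215, o254), (o14, o4), (o1965, o82), (o256, o256), (o12, o527)], 66, .node 4 66 [⟨o683, [(683, [])], 2819⟩]⟩,
  ⟨[(o10, o10), (o0, o0), (o215, o254), (o14, o4), (o1965, o82), (o256, o256), (o12, o527), (o154, o683)], 66, .node 7 66 [⟨o200, [(200, [])], 2820⟩,
      ⟨o418, [(418, [])], 2821⟩,
      ⟨o490, [(490, [])], 2822⟩,
      ⟨o553, [(553, [])], 2823⟩]⟩,
  ⟨[(o10, o10), (o0, o0), (o215, o254), (o14, o4), (o1965, o82), (o256, o256), (o12, o527), (o154, o683), (o243, o200)], 66, .bad [7, 8, 0, 1] 200 4⟩,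
  ⟨[(o10, o10), (o0, o0), (o215, o254), (o14, o4), (o1965, o82), (o256, o256), (o12, o527), (o154, o683), (o243, o418)], 66, .conjw 1 [8, 7, 5, 6, 4, 5, 1, 2, 3, 4, 0, 1, 2, 3, 7, 6, 5, 3, 4, 0, 1, 2, 1]⟩,
  ⟨[(o10, o10), (o0, o0), (o215, o254), (o14, o4), (o1965, o82), (o256, o256), (o12, o527), (o154, o683), (o243, o490)], 66, .inner [1, 2, 4, 5, 4, 3, 2, 8, 7, 3, 4, 5, 6, 2, 3, 4, 5, 1, 2, 3, 4, 0, 1, 2, 3, 7, 2, 3, 4, 5, 2, 3, 1, 0, 2, 4, 1, 3, 2, 5, 4, 3, 2, 7, 3, 2, 1, 0, 4, 3, 2, 1, 5, 4, 3, 2, 6, 5, 4, 3, 7, 8, 2, 3, 4, 5, 4, 2, 1]⟩,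
  ⟨[(o10, o10), (o0, o0), (o215, o254), (o14, o4), (o1965, o82), (o256, o256), (o12, o527), (o154, o683), (o243, o553)], 66, .bad [1, 2, 1] 553 553⟩,
  ⟨[(o10, o10), (o0, o0), (o215, o254), (o14, o4), (o1965, o1965)], 65, .node 6 67 [⟨o256, [(256, [])], 2825⟩,
      ⟨o363, [(363, [])], 2838⟩,
      ⟨o486, [(486, [])], 2841⟩,
      ⟨o2149, [(2149, [])], 2844⟩]⟩,
  ⟨[(o10, o10), (o0, o0), (o215, o254), (o14, o4), (o1965, o1965), (o256, o256)], 67, .node 2 67 [⟨o67, [(67, [])], 2826⟩,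
      ⟨o154, [(154, [])], 2832⟩]⟩,
  ⟨[(o10, o10), (o0, o0), (o215, o254), (o14, o4), (o1965, o1965), (o256, o256), (o12, o67)], 67, .node 4 67 [⟨o11, [(11, [])], 2827⟩]⟩,
  ⟨[(o10, o10), (o0, o0), (o215, o254), (o14, o4), (o1965, o1965), (o256, o256), (o12, o67), (o154, o11)], 67, .node 7 67 [⟨o7, [(7, [])], 2828⟩,
      ⟨o195, [(195, [])], 2829⟩,
      ⟨o200, [(200, [])], 2830⟩,
      ⟨o553, [(553, [])], 2831⟩]⟩,
  ⟨[(o10, o10), (o0, o0), (o215, o254), (o14, o4), (o1965, o1965), (o256, o256), (o12, o67), (o154, o11), (o243, o7)], 67, .inner [4, 5, 6, 3, 4, 5, 0, 2, 4, 5, 4, 3, 6, 5, 4]⟩,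
  ⟨[(o10, o10), (o0, o0), (o215, o254), (o14, o4), (o1965, o1965), (o256, o256), (o12, o67), (o154, o11), (o243, o195)], 67, .conjw 1 [5, 1, 2, 3, 4, 3, 2, 0, 1, 0]⟩,
  ⟨[(o10, o10), (o0, o0), (o215, o254), (o14, o4), (o1965, o1965), (o256, o256), (o12, o67), (o154, o11), (o243, o200)], 67, .inner [1, 0, 4, 3, 5, 4, 6, 7, 8, 3, 4, 2, 3, 7, 3, 4, 5, 1, 2, 3, 4, 0, 1, 2, 3, 7, 3, 4, 5, 4, 2, 3, 0, 1, 0, 2, 4, 1, 0, 3, 2, 4, 5, 4, 3, 7, 3, 2, 1, 0, 4, 3, 2, 1, 5, 4, 3, 7, 3, 2, 4, 3, 8, 7, 6, 4, 5, 3, 4, 0, 1]⟩,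
  ⟨[(o10, o10), (o0, o0), (o215, o254), (o14, o4), (o1965, o1965), (o256, o256), (o12, o67), (o154, o11), (o243, o553)], 67, .conjw 2 [5, 1, 2, 3, 4, 3, 2, 0, 1, 0]⟩,
  ⟨[(o10, o10), (o0, o0), (o215, o254), (o14, o4), (o1965, o1965), (o256, o256), (o12, o154)], 67, .node 4 67 [⟨o12, [(12, [])], 2833⟩]⟩,
  ⟨[(o10, o10), (o0, o0), (o215, o254), (o14, o4), (o1965, o1965), (o256, o256), (o12, o154), (o154, o12)], 67, .node 7 67 [⟨o98, [(98, [])], 2834⟩,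
      ⟨o194, [(194, [])], 2835⟩,
      ⟨o209, [(209, [])], 2836⟩,
      ⟨o512, [(512, [])], 2837⟩]⟩,
  ⟨[(o10, o10), (o0, o0), (o215, o254), (o14, o4), (o1965, o1965), (o256, o256), (o12, o154), (o154, o12), (o243, o98)], 67, .inner [5, 4, 3, 7, 8, 3, 4, 2, 3, 7, 3, 4, 5, 6, 2, 3, 4, 5, 1, 2, 3, 4, 0, 1, 2, 3, 7, 8, 3, 4, 2, 3, 7, 3, 4, 2, 3, 1, 0, 2, 1, 3, 2, 4, 3, 7, 3, 2, 4, 3, 8, 7, 3, 2, 1, 0, 4, 3, 2, 1, 5, 4, 3, 2, 6, 5, 4, 3, 7, 3, 2, 4, 3, 8, 7, 3, 4, 5]⟩,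
  ⟨[(o10, o10), (o0, o0), (o215, o254), (o14, o4), (o1965, o1965), (o256, o256), (o12, o154), (o154, o12), (o243, o194)], 67, .conjw 0 [5, 1, 2, 3, 4, 3, 2, 0, 1, 0]⟩,
  ⟨[(o10, o10), (o0, o0), (o215, o254), (o14, o4), (o1965, o1965), (o256, o256), (o12, o154), (o154, o12), (o243, o209)], 67, .inner [5, 4, 6, 7, 3, 2, 4, 5, 6, 8, 7, 3, 2, 4, 3, 7, 8, 1, 2, 3, 7, 5, 6, 4, 5, 3, 4, 0, 1, 2, 3, 7, 3, 4, 5, 1, 2, 3, 0, 1, 0, 2, 4, 1, 0, 3, 2, 1, 5, 4, 3, 7, 3, 2, 1, 0, 4, 3, 5, 4, 6, 5, 7, 3, 2, 1, 8, 7, 3, 4, 2, 3, 7, 8, 6, 5, 4, 2, 3, 7, 6, 4, 5]⟩,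
  ⟨[(o10, o10), (o0, o0), (o215, o254), (o14, o4), (o1965, o1965), (o256, o256), (o12, o154), (o154, o12), (o243, o512)], 67, .conjw 1 [5, 4, 1, 2, 3, 7, 8, 4, 2, 3, 7, 0, 1, 0]⟩,
  ⟨[(o10, o10), (o0, o0), (o215, o254), (o14, o4), (o1965, o1965), (o256, o363)], 67, .node 2 67 [⟨o560, [(560, [])], 2839⟩,
      ⟨o561, [(561, [])], 2840⟩]⟩,
  ⟨[(o10, o10), (o0, o0), (o215, o254), (o14, o4), (o1965, o1965), (o256, o363), (o12, o560)], 67, .node 4 67 []⟩,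
  ⟨[(o10, o10), (o0, o0), (o215, o254), (o14, o4), (o1965, o1965), (o256, o363), (o12, o561)], 67, .node 4 67 []⟩,
  ⟨[(o10, o10), (o0, o0), (o215, o254), (o14, o4), (o1965, o1965), (o256, o486)], 67, .node 2 67 [⟨o1294, [(1294, [])], 2842⟩,
      ⟨o1442, [(1442, [])], 2843⟩]⟩,
  ⟨[(o10, o10), (o0, o0), (o215, o254), (o14, o4), (o1965, o1965), (o256, o486), (o12, o1294)], 67, .node 4 67 []⟩,
  ⟨[(o10, o10), (o0, o0), (o215, o254), (o14, o4), (o1965, o1965), (o256, o486), (o12, o1442)], 67, .node 4 67 []⟩,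
  ⟨[(o10, o10), (o0, o0), (o215, o254), (o14, o4), (o1965, o1965), (o256, o2149)], 67, .node 2 67 []⟩,
  ⟨[(o10, o10), (o0, o0), (o215, o254), (o14, o19)], 64, .node 8 68 [⟨o69, [(69, []), (367, [o1981])], 2846⟩,
      ⟨o213, [(213, []), (3504, [o1981])], 2854⟩,
      ⟨o312, [(312, []), (3412, [o1981])], 2869⟩,
      ⟨o517, [(517, [])], 2870⟩,
      ⟨o1307, [(1307, [])], 2894⟩,
      ⟨o2032, [(2032, [])], 2895⟩]⟩,
  ⟨[(o10, o10), (o0, o0), (o215, o254), (o14, o19), (o1965, o69)], 68, .node 6 69 [⟨o68, [(68, [])], 2847⟩]⟩,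
  ⟨[(o10, o10), (o0, o0), (o215, o254), (o14, o19), (o1965, o69), (o256, o68)], 69, .node 4 69 [⟨o1587, [(1587, [])], 2848⟩,
      ⟨o1964, [(1964, [])], 2851⟩]⟩,
  ⟨[(o10, o10), (o0, o0), (o215, o254), (o14, o19), (o1965, o69), (o256, o68), (o154, o1587)], 69, .node 7 69 [⟨o65, [(65, [])], 2849⟩]⟩,
  ⟨[(o10, o10), (o0, o0), (o215, o254), (o14, o19), (o1965, o69), (o256, o68), (o154, o1587), (o243, o65)], 69, .node 2 69 [⟨o207, [(207, [])], 2850⟩]⟩,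
  ⟨[(o10, o10), (o0, o0), (o215, o254), (o14, o19), (o1965, o69), (o256, o68), (o154, o1587), (o243, o65), (o12, o207)], 69, .inner [1, 0, 2, 1, 0, 3, 4, 3, 2, 8, 7, 5, 6, 3, 4, 5, 2, 3, 4, 1, 2, 3, 7, 6, 0, 1, 2, 3, 4, 5, 0, 1, 2, 3, 0, 1, 0, 2, 4, 1, 0, 3, 2, 1, 0, 5, 4, 3, 2, 1, 0, 6, 7, 3, 2, 1, 4, 3, 2, 5, 4, 3, 6, 5, 7, 8, 2, 3, 4, 3, 0, 1, 2, 0, 1]⟩,
  ⟨[(o10, o10), (o0, o0), (o215, o254), (o14, o19), (o1965, o69), (o256, o68), (o154, o1964)], 69, .node 2 69 [⟨o208, [(208, [])], 2852⟩]⟩,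
  ⟨[(o10, o10), (o0, o0), (o215, o254), (o14, o19), (o1965, o69), (o256, o68), (o154, o1964), (o12, o208)], 69, .node 7 69 [⟨o97, [(97, [])], 2853⟩]⟩,
  ⟨[(o10, o10), (o0, o0), (o215, o254), (o14, o19), (o1965, o69), (o256, o68), (o154, o1964), (o12, o208), (o243, o97)], 69, .inner [2, 4, 5, 6, 7, 3, 2, 4, 5, 8, 7, 3, 2, 4, 3, 7, 8, 1, 2, 3, 7, 5, 6, 4, 5, 3, 4, 0, 1, 2, 3, 7, 3, 4, 5, 1, 2, 3, 0, 1, 0, 2, 4, 1, 0, 3, 2, 1, 5, 4, 3, 7, 3, 2, 1, 0, 4, 3, 5, 4, 6, 5, 7, 3, 2, 1, 8, 7, 3, 4, 2, 3, 7, 8, 5, 4, 2, 3, 7, 6, 5, 4, 2]⟩,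
  ⟨[(o10, o10), (o0, o0), (o215, o254), (o14, o19), (o1965, o213)], 68, .node 4 70 [⟨o21, [(21, [])], 2855⟩,
      ⟨o22, [(22, [])], 2859⟩,
      ⟨o1587, [(1587, [])], 2863⟩,
      ⟨o1964, [(1964, [])], 2866⟩]⟩,
  ⟨[(o10, o10), (o0, o0), (o215, o254), (o14, o19), (o1965, o213), (o154, o21)], 70, .node 2 70 [⟨o296, [(296, [])], 2856⟩]⟩,
  ⟨[(o10, o10), (o0, o0), (o215, o254), (o14, o19), (o1965, o213), (o154, o21), (o12, o296)], 70, .node 6 70 [⟨o1404, [(1404, [])], 2857⟩]⟩,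
  ⟨[(o10, o10), (o0, o0), (o215, o254), (o14, o19), (o1965, o213), (o154, o21), (o12, o296), (o256, o1404)], 70, .node 7 70 [⟨o564, [(564, [])], 2858⟩]⟩,
  ⟨[(o10, o10), (o0, o0), (o215, o254), (o14, o19), (o1965, o213), (o154, o21), (o12, o296), (o256, o1404), (o243, o564)], 70, .conjw 1 [4, 3, 5, 4, 6, 5, 4, 3, 7, 3, 2, 8, 4, 3, 7, 3, 4, 5, 2, 3, 4, 1, 2, 3, 7, 8, 6, 5, 4, 3, 7, 4, 0, 1, 2]⟩,
  ⟨[(o10, o10), (o0, o0), (o215, o254), (o14, o19), (o1965, o213), (o154, o22)], 70, .node 2 70 [⟨o295, [(295, [])], 2860⟩]⟩,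
  ⟨[(o10, o10), (o0, o0), (o215, o254), (o14, o19), (o1965, o213), (o154, o22), (o12, o295)], 70, .node 6 70 [⟨o1404, [(1404, [])], 2861⟩]⟩,
  ⟨[(o10, o10), (o0, o0), (o215, o254), (o14, o19), (o1965, o213), (o154, o22), (o12, o295), (o256, o1404)], 70, .node 7 70 [⟨o565, [(565, [])], 2862⟩]⟩,
  ⟨[(o10, o10), (o0, o0), (o215, o254), (o14, o19), (o1965, o213), (o154, o22), (o12, o295), (o256, o1404), (o243, o565)], 70, .conjw 2 [8, 2, 3, 4, 5, 1, 2, 3, 4, 0, 1, 2, 3, 7, 1, 2, 3, 4, 0, 1, 0]⟩,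
  ⟨[(o10, o10), (o0, o0), (o215, o254), (o14, o19), (o1965, o213), (o154, o1587)], 70, .node 2 70 [⟨o2384, [(2384, [])], 2864⟩]⟩,
  ⟨[(o10, o10), (o0, o0), (o215, o254), (o14, o19), (o1965, o213), (o154, o1587), (o12, o2384)], 70, .node 6 70 [⟨o647, [(647, [])], 2865⟩]⟩,
  ⟨[(o10, o10), (o0, o0), (o215, o254), (o14, o19), (o1965, o213), (o154, o1587), (o12, o2384), (o256, o647)], 70, .node 7 70 []⟩,
  ⟨[(o10, o10), (o0, o0), (o215, o254), (o14, o19), (o1965, o213), (o154, o1964)], 70, .node 2 70 [⟨o2383, [(2383, [])], 2867⟩]⟩,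
  ⟨[(o10, o10), (o0, o0), (o215, o254), (o14, o19), (o1965, o213), (o154, o1964), (o12, o2383)], 70, .node 6 70 [⟨o647, [(647, [])], 2868⟩]⟩,
  ⟨[(o10, o10), (o0, o0), (o215, o254), (o14, o19), (o1965, o213), (o154, o1964), (o12, o2383), (o256, o647)], 70, .node 7 70 []⟩,
  ⟨[(o10, o10), (o0, o0), (o215, o254), (o14, o19), (o1965, o312)], 68, .node 4 68 []⟩,
  ⟨[(o10, o10), (o0, o0), (o215, o254), (o14, o19), (o1965, o517)], 68, .node 4 71 [⟨o21, [(21, [])], 2871⟩,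
      ⟨o22, [(22, [])], 2876⟩,
      ⟨o666, [(666, [])], 2882⟩,
      ⟨o1301, [(1301, [])], 2888⟩]⟩,
  ⟨[(o10, o10), (o0, o0), (o215, o254), (o14, o19), (o1965, o517), (o154, o21)], 71, .node 2 71 [⟨o208, [(208, [])], 2872⟩,
      ⟨o3080, [(3080, [])], 2875⟩]⟩,
  ⟨[(o10, o10), (o0, o0), (o215, o254), (o14, o19), (o1965, o517), (o154, o21), (o12, o208)], 71, .node 6 71 [⟨o684, [(684, [])], 2873⟩]⟩,
  ⟨[(o10, o10), (o0, o0), (o215, o254), (o14, o19), (o1965, o517), (o154, o21), (o12, o208), (o256, o684)], 71, .node 7 71 [⟨o649, [(649, [])], 2874⟩]⟩,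
  ⟨[(o10, o10), (o0, o0), (o215, o254), (o14, o19), (o1965, o517), (o154, o21), (o12, o208), (o256, o684), (o243, o649)], 71, .conjw 2 [5, 4, 3, 7, 2, 3, 4, 1, 2, 3, 7, 8, 0, 1, 2, 3, 7, 4, 2, 3, 1, 2, 1]⟩,
  ⟨[(o10, o10), (o0, o0), (o215, o254), (o14, o19), (o1965, o517), (o154, o21), (o12, o3080)], 71, .node 7 71 []⟩,
  ⟨[(o10, o10), (o0, o0), (o215, o254), (o14, o19), (o1965, o517), (o154, o22)], 71, .node 6 71 [⟨o684, [(684, [])], 2877⟩,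
      ⟨o3266, [(3266, [])], 2880⟩]⟩,
  ⟨[(o10, o10), (o0, o0), (o215, o254), (o14, o19), (o1965, o517), (o154, o22), (o256, o684)], 71, .node 7 71 [⟨o699, [(699, [])], 2878⟩]⟩,
  ⟨[(o10, o10), (o0, o0), (o215, o254), (o14, o19), (o1965, o517), (o154, o22), (o256, o684), (o243, o699)], 71, .node 2 71 [⟨o207, [(207, [])], 2879⟩]⟩,
  ⟨[(o10, o10), (o0, o0), (o215, o254), (o14, o19), (o1965, o517), (o154, o22), (o256, o684), (o243, o699), (o12, o207)], 71, .conjw 1 [8, 4, 5, 3, 4, 2, 3, 7, 4, 5, 1, 2, 3, 0, 1, 2, 0]⟩,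
  ⟨[(o10, o10), (o0, o0), (o215, o254), (o14, o19), (o1965, o517), (o154, o22), (o256, o3266)], 71, .node 7 71 [⟨o491, [(491, [])], 2881⟩]⟩,
  ⟨[(o10, o10), (o0, o0), (o215, o254), (o14, o19), (o1965, o517), (o154, o22), (o256, o3266), (o243, o491)], 71, .node 2 71 []⟩,
  ⟨[(o10, o10), (o0, o0), (o215, o254), (o14, o19), (o1965, o517), (o154, o666)], 71, .node 6 71 [⟨o137, [(137, [])], 2883⟩,
      ⟨o647, [(647, [])], 2885⟩]⟩,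
  ⟨[(o10, o10), (o0, o0), (o215, o254), (o14, o19), (o1965, o517), (o154, o666), (o256, o137)], 71, .node 7 71 [⟨o491, [(491, [])], 2884⟩]⟩,
  ⟨[(o10, o10), (o0, o0), (o215, o254), (o14, o19), (o1965, o517), (o154, o666), (o256, o137), (o243, o491)], 71, .node 2 71 []⟩,
  ⟨[(o10, o10), (o0, o0), (o215, o254), (o14, o19), (o1965, o517), (o154, o666), (o256, o647)], 71, .node 2 71 [⟨o604, [(604, [])], 2886⟩]⟩,
  ⟨[(o10, o10), (o0, o0), (o215, o254), (o14, o19), (o1965, o517), (o154, o666), (o256, o647), (o12, o604)], 71, .node 7 71 [⟨o699, [(699, [])], 2887⟩]⟩,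
  ⟨[(o10, o10), (o0, o0), (o215, o254), (o14, o19), (o1965, o517), (o154, o666), (o256, o647), (o12, o604), (o243, o699)], 71, .conjw 2 [8, 7, 6, 5, 2, 3, 4, 1, 2, 3, 7, 8, 0, 1, 2, 3, 7, 4, 2, 0, 1, 0]⟩,
  ⟨[(o10, o10), (o0, o0), (o215, o254), (o14, o19), (o1965, o517), (o154, o1301)], 71, .node 6 71 [⟨o137, [(137, [])], 2889⟩,
      ⟨o647, [(647, [])], 2891⟩]⟩,
  ⟨[(o10, o10), (o0, o0), (o215, o254), (o14, o19), (o1965, o517), (o154, o1301), (o256, o137)], 71, .node 2 71 [⟨o1043, [(1043, [])], 2890⟩]⟩,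
  ⟨[(o10, o10), (o0, o0), (o215, o254), (o14, o19), (o1965, o517), (o154, o1301), (o256, o137), (o12, o1043)], 71, .node 7 71 []⟩,
  ⟨[(o10, o10), (o0, o0), (o215, o254), (o14, o19), (o1965, o517), (o154, o1301), (o256, o647)], 71, .node 2 71 [⟨o733, [(733, [])], 2892⟩]⟩,
  ⟨[(o10, o10), (o0, o0), (o215, o254), (o14, o19), (o1965, o517), (o154, o1301), (o256, o647), (o12, o733)], 71, .node 7 71 [⟨o649, [(649, [])], 2893⟩]⟩,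
  ⟨[(o10, o10), (o0, o0), (o215, o254), (o14, o19), (o1965, o517), (o154, o1301), (o256, o647), (o12, o733), (o243, o649)], 71, .conjw 1 [2, 1, 0, 3, 2, 1, 4, 3, 2, 5, 4, 3, 2, 7, 8, 3, 7, 2, 3, 4, 5, 1, 2, 3, 4, 0, 1, 2, 3, 7, 6, 3, 4, 5, 4, 2, 0]⟩,
  ⟨[(o10, o10), (o0, o0), (o215, o254), (o14, o19), (o1965, o1307)], 68, .node 2 68 []⟩,
  ⟨[(o10, o10), (o0, o0), (o215, o254), (o14, o19), (o1965, o2032)], 68, .node 4 72 [⟨o21, [(21, [])], 2896⟩,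
      ⟨o22, [(22, [])], 2901⟩,
      ⟨o666, [(666, [])], 2906⟩,
      ⟨o1301, [(1301, [])], 2911⟩]⟩,
  ⟨[(o10, o10), (o0, o0), (o215, o254), (o14, o19), (o1965, o2032), (o154, o21)], 72, .node 2 72 [⟨o194, [(194, [])], 2897⟩,
      ⟨o510, [(510, [])], 2898⟩]⟩,
  ⟨[(o10, o10), (o0, o0), (o215, o254), (o14, o19), (o1965, o2032), (o154, o21), (o12, o194)], 72, .node 6 72 []⟩,
  ⟨[(o10, o10), (o0, o0), (o215, o254), (o14, o19), (o1965, o2032), (o154, o21), (o12, o510)], 72, .node 6 72 [⟨o68, [(68, [])], 2899⟩]⟩,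
  ⟨[(o10, o10), (o0, o0), (o215, o254), (o14, o19), (o1965, o2032), (o154, o21), (o12, o510), (o256, o68)], 72, .node 7 72 [⟨o1012, [(1012, [])], 2900⟩]⟩,
  ⟨[(o10, o10), (o0, o0), (o215, o254), (o14, o19), (o1965, o2032), (o154, o21), (o12, o510), (o256, o68), (o243, o1012)], 72, .inner [8, 1, 2, 3, 4, 0, 1, 2, 3, 7, 5, 6, 4, 5, 2, 3, 4, 1, 2, 3, 0, 1, 0, 2, 1, 0, 3, 2, 1, 4, 3, 2, 5, 4, 6, 5, 7, 3, 2, 1, 0, 4, 3, 2, 1, 8]⟩,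
  ⟨[(o10, o10), (o0, o0), (o215, o254), (o14, o19), (o1965, o2032), (o154, o22)], 72, .node 6 72 [⟨o68, [(68, [])], 2902⟩,
      ⟨o428, [(428, [])], 2905⟩]⟩,
  ⟨[(o10, o10), (o0, o0), (o215, o254), (o14, o19), (o1965, o2032), (o154, o22), (o256, o68)], 72, .node 7 72 [⟨o491, [(491, [])], 2903⟩]⟩,
  ⟨[(o10, o10), (o0, o0), (o215, o254), (o14, o19), (o1965, o2032), (o154, o22), (o256, o68), (o243, o491)], 72, .node 2 72 [⟨o441, [(441, [])], 2904⟩]⟩,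
  ⟨[(o10, o10), (o0, o0), (o215, o254), (o14, o19), (o1965, o2032), (o154, o22), (o256, o68), (o243, o491), (o12, o441)], 72, .inner [8, 1, 2, 3, 4, 0, 1, 2, 3, 7, 5, 6, 4, 5, 4, 3, 0, 1, 0, 2, 4, 1, 0, 3, 4, 5, 4, 6, 5, 7, 3, 2, 1, 0, 4, 3, 2, 1, 8]⟩,
  ⟨[(o10, o10), (o0, o0), (o215, o254), (o14, o19), (o1965, o2032), (o154, o22), (o256, o428)], 72, .node 2 72 []⟩,
  ⟨[(o10, o10), (o0, o0), (o215, o254), (o14, o19), (o1965, o2032), (o154, o666)], 72, .node 6 72 [⟨o509, [(509, [])], 2907⟩,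
      ⟨o2630, [(2630, [])], 2910⟩]⟩,
  ⟨[(o10, o10), (o0, o0), (o215, o254), (o14, o19), (o1965, o2032), (o154, o666), (o256, o509)], 72, .node 7 72 [⟨o491, [(491, [])], 2908⟩]⟩,
  ⟨[(o10, o10), (o0, o0), (o215, o254), (o14, o19), (o1965, o2032), (o154, o666), (o256, o509), (o243, o491)], 72, .node 2 72 [⟨o1095, [(1095, [])], 2909⟩]⟩,
  ⟨[(o10, o10), (o0, o0), (o215, o254), (o14, o19), (o1965, o2032), (o154, o666), (o256, o509), (o243, o491), (o12, o1095)], 72, .inner [2, 1, 0, 3, 2, 1, 4, 3, 6, 7, 3, 8, 7, 3, 2, 4, 3, 7, 8, 1, 2, 3, 7, 5, 6, 4, 5, 3, 4, 0, 1, 2, 3, 7, 3, 4, 5, 1, 2, 3, 0, 1, 0, 2, 4, 1, 0, 3, 2, 1, 5, 4, 3, 7, 3, 2, 1, 0, 4, 3, 5, 4, 6, 5, 7, 3, 2, 1, 8, 7, 3, 4, 2, 3, 7, 8, 3, 7, 6, 3, 4, 1, 2, 3, 0, 1, 2]⟩,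
  ⟨[(o10, o10), (o0, o0), (o215, o254), (o14, o19), (o1965, o2032), (o154, o666), (o256, o2630)], 72, .node 7 72 []⟩,
  ⟨[(o10, o10), (o0, o0), (o215, o254), (o14, o19), (o1965, o2032), (o154, o1301)], 72, .node 6 72 [⟨o509, [(509, [])], 2912⟩,
      ⟨o2630, [(2630, [])], 2915⟩]⟩,
  ⟨[(o10, o10), (o0, o0), (o215, o254), (o14, o19), (o1965, o2032), (o154, o1301), (o256, o509)], 72, .node 7 72 [⟨o1012, [(1012, [])], 2913⟩]⟩,
  ⟨[(o10, o10), (o0, o0), (o215, o254), (o14, o19), (o1965, o2032), (o154, o1301), (o256, o509), (o243, o1012)], 72, .node 2 72 [⟨o977, [(977, [])], 2914⟩]⟩,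
  ⟨[(o10, o10), (o0, o0), (o215, o254), (o14, o19), (o1965, o2032), (o154, o1301), (o256, o509), (o243, o1012), (o12, o977)], 72, .inner [1, 2, 1, 0, 8, 3, 7, 2, 3, 4, 1, 2, 3, 7, 8, 6, 5, 4, 1, 2, 3, 7, 6, 0, 1, 2, 3, 4, 5, 1, 0, 2, 4, 1, 5, 4, 3, 2, 1, 0, 6, 7, 3, 2, 1, 4, 5, 6, 8, 7, 3, 2, 1, 4, 3, 2, 7, 3, 8, 0, 1, 2, 1]⟩,
  ⟨[(o10, o10), (o0, o0), (o215, o254), (o14, o19), (o1965, o2032), (o154, o1301), (o256, o2630)], 72, .node 7 72 []⟩,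
  ⟨[(o10, o10), (o0, o0), (o215, o254), (o14, o263)], 64, .node 4 73 [⟨o189, [(189, [])], 2917⟩,
      ⟨o190, [(190, [])], 2929⟩]⟩,
  ⟨[(o10, o10), (o0, o0), (o215, o254), (o14, o263), (o154, o189)], 73, .node 8 74 [⟨o86, [(86, []), (384, [o1965])], 2918⟩,
      ⟨o1965, [(1965, [])], 2922⟩]⟩,
  ⟨[(o10, o10), (o0, o0), (o215, o254), (o14, o263), (o154, o189), (o1965, o86)], 74, .node 2 74 [⟨o97, [(97, [])], 2919⟩]⟩,
  ⟨[(o10, o10), (o0, o0), (o215, o254), (o14, o263), (o154, o189), (o1965, o86), (o12, o97)], 74, .node 6 74 [⟨o1424, [(1424, [])], 2920⟩]⟩,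
  ⟨[(o10, o10), (o0, o0), (o215, o254), (o14, o263), (o154, o189), (o1965, o86), (o12, o97), (o256, o1424)], 74, .node 7 74 [⟨o1043, [(1043, [])], 2921⟩]⟩,
  ⟨[(o10, o10), (o0, o0), (o215, o254), (o14, o263), (o154, o189), (o1965, o86), (o12, o97), (o256, o1424), (o243, o1043)], 74, .conjw 1 [4, 5, 2, 3, 4, 1, 2, 3, 7, 8, 5, 4, 1, 2, 3, 7, 4, 0, 1, 0]⟩,
  ⟨[(o10, o10), (o0, o0), (o215, o254), (o14, o263), (o154, o189), (o1965, o1965)], 74, .node 2 74 [⟨o295, [(295, [])], 2923⟩,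
      ⟨o3435, [(3435, [])], 2927⟩]⟩,
  ⟨[(o10, o10), (o0, o0), (o215, o254), (o14, o263), (o154, o189), (o1965, o1965), (o12, o295)], 74, .node 6 74 [⟨o602, [(602, [])], 2924⟩]⟩,
  ⟨[(o10, o10), (o0, o0), (o215, o254), (o14, o263), (o154, o189), (o1965, o1965), (o12, o295), (o256, o602)], 74, .node 7 74 [⟨o565, [(565, [])], 2925⟩,
      ⟨o871, [(871, [])], 2926⟩]⟩,
  ⟨[(o10, o10), (o0, o0), (o215, o254), (o14, o263), (o154, o189), (o1965, o1965), (o12, o295), (o256, o602), (o243, o565)], 74, .conjw 2 [1, 0, 2, 1, 5, 4, 3, 7, 2, 3, 4, 1, 2, 3, 7, 8, 7, 3, 4, 2, 3, 7, 5, 4, 0, 1, 2]⟩,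
  ⟨[(o10, o10), (o0, o0), (o215, o254), (o14, o263), (o154, o189), (o1965, o1965), (o12, o295), (o256, o602), (o243, o871)], 74, .conjw 1 [4, 5, 2, 3, 4, 1, 2, 3, 7, 8, 0, 1, 2, 3, 7, 5, 4, 0, 1, 2, 0]⟩,
  ⟨[(o10, o10), (o0, o0), (o215, o254), (o14, o263), (o154, o189), (o1965, o1965), (o12, o3435)], 74, .node 6 74 [⟨o602, [(602, [])], 2928⟩]⟩,
  ⟨[(o10, o10), (o0, o0), (o215, o254), (o14, o263), (o154, o189), (o1965, o1965), (o12, o3435), (o256, o602)], 74, .node 7 74 []⟩,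
  ⟨[(o10, o10), (o0, o0), (o215, o254), (o14, o263), (o154, o190)], 73, .node 8 75 [⟨o86, [(86, []), (384, [o1965])], 2930⟩,
      ⟨o1965, [(1965, [])], 2934⟩]⟩,
  ⟨[(o10, o10), (o0, o0), (o215, o254), (o14, o263), (o154, o190), (o1965, o86)], 75, .node 2 75 [⟨o65, [(65, [])], 2931⟩]⟩,
  ⟨[(o10, o10), (o0, o0), (o215, o254), (o14, o263), (o154, o190), (o1965, o86), (o12, o65)], 75, .node 6 75 [⟨o1424, [(1424, [])], 2932⟩]⟩,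
  ⟨[(o10, o10), (o0, o0), (o215, o254), (o14, o263), (o154, o190), (o1965, o86), (o12, o65), (o256, o1424)], 75, .node 7 75 [⟨o1044, [(1044, [])], 2933⟩]⟩,
  ⟨[(o10, o10), (o0, o0), (o215, o254), (o14, o263), (o154, o190), (o1965, o86), (o12, o65), (o256, o1424), (o243, o1044)], 75, .conjw 2 [4, 5, 3, 4, 2, 3, 7, 4, 5, 1, 2, 3, 4, 0, 1, 0]⟩,
  ⟨[(o10, o10), (o0, o0), (o215, o254), (o14, o263), (o154, o190), (o1965, o1965)], 75, .node 2 75 [⟨o296, [(296, [])], 2935⟩,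
      ⟨o3434, [(3434, [])], 2939⟩]⟩,
  ⟨[(o10, o10), (o0, o0), (o215, o254), (o14, o263), (o154, o190), (o1965, o1965), (o12, o296)], 75, .node 6 75 [⟨o602, [(602, [])], 2936⟩]⟩,
  ⟨[(o10, o10), (o0, o0), (o215, o254), (o14, o263), (o154, o190), (o1965, o1965), (o12, o296), (o256, o602)], 75, .node 7 75 [⟨o564, [(564, [])], 2937⟩,
      ⟨o700, [(700, [])], 2938⟩]⟩,
  ⟨[(o10, o10), (o0, o0), (o215, o254), (o14, o263), (o154, o190), (o1965, o1965), (o12, o296), (o256, o602), (o243, o564)], 75, .conjw 1 [1, 0, 2, 5, 6, 5, 7, 3, 2, 1, 0, 4, 3, 2, 8, 7, 3, 4, 2, 3, 7, 8, 5, 1, 2, 3, 4, 0, 1, 2, 3, 7, 6, 5, 2, 3, 4, 1, 2, 0, 1, 0]⟩,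
  ⟨[(o10, o10), (o0, o0), (o215, o254), (o14, o263), (o154, o190), (o1965, o1965), (o12, o296), (o256, o602), (o243, o700)], 75, .conjw 2 [4, 5, 2, 3, 4, 1, 2, 3, 7, 8, 5, 4, 1, 2, 3, 7, 4, 0, 1, 2, 0]⟩,
  ⟨[(o10, o10), (o0, o0), (o215, o254), (o14, o263), (o154, o190), (o1965, o1965), (o12, o3434)], 75, .node 7 75 []⟩,
  ⟨[(o10, o10), (o0, o0), (o215, o254), (o14, o439)], 64, .node 8 76 [⟨o86, [(86, []), (384, [o1965])], 2941⟩,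
      ⟨o1965, [(1965, [])], 2951⟩]⟩,
  ⟨[(o10, o10), (o0, o0), (o215, o254), (o14, o439), (o1965, o86)], 76, .node 4 77 [⟨o785, [(785, [])], 2942⟩,
      ⟨o786, [(786, [])], 2946⟩]⟩,
  ⟨[(o10, o10), (o0, o0), (o215, o254), (o14, o439), (o1965, o86), (o154, o785)], 77, .node 2 77 [⟨o7, [(7, [])], 2943⟩]⟩,
  ⟨[(o10, o10), (o0, o0), (o215, o254), (o14, o439), (o1965, o86), (o154, o785), (o12, o7)], 77, .node 6 77 [⟨o133, [(133, [])], 2944⟩]⟩]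

/-- Nodes. -/
def nd23 : List ONode := [
  ⟨[(o10, o10), (o0, o0), (o215, o254), (o14, o439), (o1965, o86), (o154, o785), (o12, o7), (o256, o133)], 77, .node 7 77 [⟨o1425, [(1425, [])], 2945⟩]⟩,
  ⟨[(o10, o10), (o0, o0), (o215, o254), (o14, o439), (o1965, o86), (o154, o785), (o12, o7), (o256, o133), (o243, o1425)], 77, .conjw 1 [2, 6, 5, 4, 7, 3, 4, 2, 3, 7, 8, 7, 3, 4, 5, 1, 2, 3, 4, 0, 1, 2, 3, 7, 6, 5, 3, 4, 2, 1]⟩,
  ⟨[(o10, o10), (o0, o0), (o215, o254), (o14, o439), (o1965, o86), (o154, o786)], 77, .node 2 77 [⟨o98, [(98, [])], 2947⟩]⟩,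
  ⟨[(o10, o10), (o0, o0), (o215, o254), (o14, o439), (o1965, o86), (o154, o786), (o12, o98)], 77, .node 6 77 [⟨o133, [(133, [])], 2948⟩]⟩,
  ⟨[(o10, o10), (o0, o0), (o215, o254), (o14, o439), (o1965, o86), (o154, o786), (o12, o98), (o256, o133)], 77, .node 7 77 [⟨o207, [(207, [])], 2949⟩,
      ⟨o746, [(746, [])], 2950⟩]⟩,
  ⟨[(o10, o10), (o0, o0), (o215, o254), (o14, o439), (o1965, o86), (o154, o786), (o12, o98), (o256, o133), (o243, o207)], 77, .bad [8, 5] 207 98⟩,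
  ⟨[(o10, o10), (o0, o0), (o215, o254), (o14, o439), (o1965, o86), (o154, o786), (o12, o98), (o256, o133), (o243, o746)], 77, .conjw 2 [4, 5, 3, 4, 2, 3, 7, 4, 1, 2, 3, 0, 1, 2, 1]⟩,
  ⟨[(o10, o10), (o0, o0), (o215, o254), (o14, o439), (o1965, o1965)], 76, .node 4 78 [⟨o284, [(284, [])], 2952⟩,
      ⟨o285, [(285, [])], 2956⟩,
      ⟨o785, [(785, [])], 2958⟩,
      ⟨o786, [(786, [])], 2965⟩,
      ⟨o2631, [(2631, [])], 2971⟩,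
      ⟨o2666, [(2666, [])], 2973⟩]⟩,
  ⟨[(o10, o10), (o0, o0), (o215, o254), (o14, o439), (o1965, o1965), (o154, o284)], 78, .node 6 78 [⟨o2193, [(2193, [])], 2953⟩]⟩,
  ⟨[(o10, o10), (o0, o0), (o215, o254), (o14, o439), (o1965, o1965), (o154, o284), (o256, o2193)], 78, .node 7 78 [⟨o743, [(743, [])], 2954⟩,
      ⟨o746, [(746, [])], 2955⟩]⟩,
  ⟨[(o10, o10), (o0, o0), (o215, o254), (o14, o439), (o1965, o1965), (o154, o284), (o256, o2193), (o243, o743)], 78, .node 2 78 []⟩,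
  ⟨[(o10, o10), (o0, o0), (o215, o254), (o14, o439), (o1965, o1965), (o154, o284), (o256, o2193), (o243, o746)], 78, .node 2 78 []⟩,
  ⟨[(o10, o10), (o0, o0), (o215, o254), (o14, o439), (o1965, o1965), (o154, o285)], 78, .node 6 78 [⟨o2193, [(2193, [])], 2957⟩]⟩,
  ⟨[(o10, o10), (o0, o0), (o215, o254), (o14, o439), (o1965, o1965), (o154, o285), (o256, o2193)], 78, .node 7 78 []⟩,
  ⟨[(o10, o10), (o0, o0), (o215, o254), (o14, o439), (o1965, o1965), (o154, o785)], 78, .node 2 78 [⟨o53, [(53, [])], 2959⟩,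
      ⟨o2927, [(2927, [])], 2963⟩]⟩,
  ⟨[(o10, o10), (o0, o0), (o215, o254), (o14, o439), (o1965, o1965), (o154, o785), (o12, o53)], 78, .node 6 78 [⟨o428, [(428, [])], 2960⟩]⟩,
  ⟨[(o10, o10), (o0, o0), (o215, o254), (o14, o439), (o1965, o1965), (o154, o785), (o12, o53), (o256, o428)], 78, .node 7 78 [⟨o488, [(488, [])], 2961⟩,
      ⟨o701, [(701, [])], 2962⟩]⟩,
  ⟨[(o10, o10), (o0, o0), (o215, o254), (o14, o439), (o1965, o1965), (o154, o785), (o12, o53), (o256, o428), (o243, o488)], 78, .conjw 2 [1, 5, 6, 7, 3, 2, 4, 3, 5, 7, 8, 7, 3, 2, 1, 0, 4, 3, 2, 7, 8, 5, 4, 3, 7, 6, 4, 5, 2, 3, 4, 1, 2, 3, 7, 2, 3, 4, 5, 3, 2, 0]⟩,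
  ⟨[(o10, o10), (o0, o0), (o215, o254), (o14, o439), (o1965, o1965), (o154, o785), (o12, o53), (o256, o428), (o243, o701)], 78, .conjw 1 [4, 3, 5, 4, 3, 6, 5, 4, 3, 7, 3, 2, 8, 4, 3, 7, 3, 4, 5, 2, 3, 4, 1, 2, 3, 7, 8, 6, 5, 4, 3, 7, 3, 0, 1, 2]⟩,
  ⟨[(o10, o10), (o0, o0), (o215, o254), (o14, o439), (o1965, o1965), (o154, o785), (o12, o2927)], 78, .node 6 78 [⟨o428, [(428, [])], 2964⟩]⟩,
  ⟨[(o10, o10), (o0, o0), (o215, o254), (o14, o439), (o1965, o1965), (o154, o785), (o12, o2927), (o256, o428)], 78, .node 7 78 []⟩,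
  ⟨[(o10, o10), (o0, o0), (o215, o254), (o14, o439), (o1965, o1965), (o154, o786)], 78, .node 2 78 [⟨o52, [(52, [])], 2966⟩,
      ⟨o2928, [(2928, [])], 2970⟩]⟩,
  ⟨[(o10, o10), (o0, o0), (o215, o254), (o14, o439), (o1965, o1965), (o154, o786), (o12, o52)], 78, .node 6 78 [⟨o428, [(428, [])], 2967⟩]⟩,
  ⟨[(o10, o10), (o0, o0), (o215, o254), (o14, o439), (o1965, o1965), (o154, o786), (o12, o52), (o256, o428)], 78, .node 7 78 [⟨o489, [(489, [])], 2968⟩,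
      ⟨o1045, [(1045, [])], 2969⟩]⟩,
  ⟨[(o10, o10), (o0, o0), (o215, o254), (o14, o439), (o1965, o1965), (o154, o786), (o12, o52), (o256, o428), (o243, o489)], 78, .conjw 1 [1, 0, 2, 5, 6, 5, 7, 3, 2, 1, 0, 4, 3, 7, 8, 7, 3, 4, 2, 3, 7, 8, 5, 1, 2, 3, 4, 0, 1, 2, 3, 7, 6, 5, 2, 3, 4, 1, 2, 0, 1, 0]⟩,
  ⟨[(o10, o10), (o0, o0), (o215, o254), (o14, o439), (o1965, o1965), (o154, o786), (o12, o52), (o256, o428), (o243, o1045)], 78, .conjw 2 [4, 5, 2, 3, 4, 1, 2, 3, 7, 8, 0, 1, 2, 3, 7, 5, 4, 0, 1, 2]⟩,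
  ⟨[(o10, o10), (o0, o0), (o215, o254), (o14, o439), (o1965, o1965), (o154, o786), (o12, o2928)], 78, .node 7 78 []⟩,
  ⟨[(o10, o10), (o0, o0), (o215, o254), (o14, o439), (o1965, o1965), (o154, o2631)], 78, .node 6 78 [⟨o210, [(210, [])], 2972⟩]⟩,
  ⟨[(o10, o10), (o0, o0), (o215, o254), (o14, o439), (o1965, o1965), (o154, o2631), (o256, o210)], 78, .node 7 78 []⟩,
  ⟨[(o10, o10), (o0, o0), (o215, o254), (o14, o439), (o1965, o1965), (o154, o2666)], 78, .node 6 78 [⟨o210, [(210, [])], 2974⟩]⟩,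
  ⟨[(o10, o10), (o0, o0), (o215, o254), (o14, o439), (o1965, o1965), (o154, o2666), (o256, o210)], 78, .node 7 78 []⟩,
  ⟨[(o10, o10), (o0, o1)], 1, .node 5 79 [⟨o8, [(8, []), (66, [o215]), (152, [o86]), (153, [o245, o289, o2152, o2641, o3018, o0]), (162, [o1585]), (221, [o1965]), (245, [o86, o0, o2162, o662, o1132, o315, o1204]), (251, [o218]), (256, [o8, o256, o162, o152]), (287, [o289, o256, o1763]), (289, [o86, o384]), (290, [o384]), (314, [o256, o1427, o1204]), (315, [o152, o221, o287]), (363, [o8, o256, o1763, o315]), (440, [o0, o535, o1499, o1406, o987, o1427]), (485, [o2270, o210, o1161, o0, o485, o8]), (486, [o528]), (552, [o440, o251, o2179]), (689, [o218, o8, o89, o1499, o2460, o3341, o8]), (901, [o1737]), (985, [o1464, o153, o1763]), (986, [o1204, o245, o2150]), (987, [o1567]), (1204, [o86, o153, o901, o1204, o152]), (1427, [o1981]),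 (1464, [o2179, o1464, o256, o8]), (1586, [o901, o0, o535, o1499, o1406, o221]), (1763, [o1427, o521, o1307, o2385, o0, o66]), (2149, [o86, o256, o315, o1204, o8]), (2150, [o86, o528]), (2179, [o152, o1204, o485, o251])], 2976⟩,
      ⟨o82, [(82, []), (86, [o2179, o1464, o256, o8]), (218, [o2270, o210, o1161, o0, o485, o8]), (384, [o1981]), (528, [o1965]), (562, [o1588]), (1567, [o1737]), (1585, [o256, o315, o1204, o8]), (1588, [o562]), (1737, [o1567]), (1965, [o528]), (1981, [o384])], 3071⟩,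
      ⟨o215, [(215, [])], 3130⟩]⟩,
  ⟨[(o10, o10), (o0, o1), (o215, o8)], 79, .node 1 80 [⟨o14, [(14, [])], 2977⟩,
      ⟨o63, [(63, []), (192, [o1965, o152, o1204, o485, o251, o215]), (370, [o1588]), (795, [o562]), (1120, [o8, o256, o162, o152, o1981, o1763, o256, o289]), (1553, [o440, o251, o2179, o215, o8, o256, o1464, o2179]), (1590, [o0, o535, o1499, o1406, o987, o1427, o528, o1737]), (1714, [o1464, o153, o1763, o1585, o1965]), (2590, [o1737, o901, o0, o535, o1499, o1406, o221, o215])], 3068⟩,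
      ⟨o283, [(283, []), (473, [o1464, o153, o1763, o1585, o1965]), (981, [o0, o535, o1499, o1406, o987, o1427, o528, o1737]), (2704, [o1588]), (2747, [o82]), (2757, [o562])], 3069⟩,
      ⟨o305, [(305, []), (324, [o1464, o153, o1763, o1585, o1965]), (637, [o0, o535, o1499, o1406, o987, o1427, o528, o1737]), (2703, [o82]), (2748, [o562]), (2758, [o1588])], 3070⟩]⟩,
  ⟨[(o10, o10), (o0, o1), (o215, o8), (o14, o14)], 80, .node 6 81 [⟨o86, [(86, [])], 2978⟩,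
      ⟨o218, [(218, [])], 2993⟩,
      ⟨o384, [(384, []), (1981, [o82])], 3020⟩,
      ⟨o528, [(528, []), (1965, [o82])], 3030⟩,
      ⟨o1567, [(1567, []), (1737, [o82])], 3044⟩,
      ⟨o1585, [(1585, [])], 3053⟩]⟩,
  ⟨[(o10, o10), (o0, o1), (o215, o8), (o14, o14), (o256, o86)], 81, .node 8 82 [⟨o1204, [(1204, [])], 2979⟩,
      ⟨o2179, [(2179, [])], 2986⟩]⟩,
  ⟨[(o10, o10), (o0, o1), (o215, o8), (o14, o14), (o256, o86), (o1965, o1204)], 82, .node 2 82 [⟨o64, [(64, [])], 2980⟩,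
      ⟨o144, [(144, [])], 2983⟩]⟩,
  ⟨[(o10, o10), (o0, o1), (o215, o8), (o14, o14), (o256, o86), (o1965, o1204), (o12, o64)], 82, .node 4 82 [⟨o160, [(160, [])], 2981⟩]⟩,
  ⟨[(o10, o10), (o0, o1), (o215, o8), (o14, o14), (o256, o86), (o1965, o1204), (o12, o64), (o154, o160)], 82, .node 7 82 [⟨o84, [(84, [])], 2982⟩]⟩,
  ⟨[(o10, o10), (o0, o1), (o215, o8), (o14, o14), (o256, o86), (o1965, o1204), (o12, o64), (o154, o160), (o243, o84)], 82, .conjw 2 [2, 1, 3, 2, 7, 8, 3, 7, 2, 3, 4, 1, 2, 3, 7, 8, 5, 4, 2, 3, 7, 2, 3, 4, 5, 3, 4, 0]⟩,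
  ⟨[(o10, o10), (o0, o1), (o215, o8), (o14, o14), (o256, o86), (o1965, o1204), (o12, o144)], 82, .node 4 82 [⟨o83, [(83, [])], 2984⟩]⟩,
  ⟨[(o10, o10), (o0, o1), (o215, o8), (o14, o14), (o256, o86), (o1965, o1204), (o12, o144), (o154, o83)], 82, .node 7 82 [⟨o161, [(161, [])], 2985⟩]⟩,
  ⟨[(o10, o10), (o0, o1), (o215, o8), (o14, o14), (o256, o86), (o1965, o1204), (o12, o144), (o154, o83), (o243, o161)], 82, .conjw 1 [7, 2, 3, 4, 5, 1, 2, 3, 4, 0, 1, 2, 3, 7, 3, 4, 5, 3, 2, 0]⟩,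
  ⟨[(o10, o10), (o0, o1), (o215, o8), (o14, o14), (o256, o86), (o1965, o2179)], 82, .node 2 82 [⟨o156, [(156, [])], 2987⟩,
      ⟨o157, [(157, [])], 2990⟩]⟩,
  ⟨[(o10, o10), (o0, o1), (o215, o8), (o14, o14), (o256, o86), (o1965, o2179), (o12, o156)], 82, .node 4 82 [⟨o67, [(67, [])], 2988⟩]⟩,
  ⟨[(o10, o10), (o0, o1), (o215, o8), (o14, o14), (o256, o86), (o1965, o2179), (o12, o156), (o154, o67)], 82, .node 7 82 [⟨o155, [(155, [])], 2989⟩]⟩,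
  ⟨[(o10, o10), (o0, o1), (o215, o8), (o14, o14), (o256, o86), (o1965, o2179), (o12, o156), (o154, o67), (o243, o155)], 82, .conjw 1 [6, 5, 4, 3, 7, 2, 3, 4, 5, 4, 0, 1, 2, 0]⟩,
  ⟨[(o10, o10), (o0, o1), (o215, o8), (o14, o14), (o256, o86), (o1965, o2179), (o12, o157)], 82, .node 4 82 [⟨o154, [(154, [])], 2991⟩]⟩,
  ⟨[(o10, o10), (o0, o1), (o215, o8), (o14, o14), (o256, o86), (o1965, o2179), (o12, o157), (o154, o154)], 82, .node 7 82 [⟨o149, [(149, [])], 2992⟩]⟩,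
  ⟨[(o10, o10), (o0, o1), (o215, o8), (o14, o14), (o256, o86), (o1965, o2179), (o12, o157), (o154, o154), (o243, o149)], 82, .conjw 2 [0, 2, 1, 0, 6, 8, 5, 4, 3, 7, 2, 3, 4, 1, 2, 3, 7, 8, 5, 4, 3, 7, 2, 3, 4, 5, 2, 0]⟩,
  ⟨[(o10, o10), (o0, o1), (o215, o8), (o14, o14), (o256, o218)], 81, .node 8 83 [⟨o245, [(245, [])], 2994⟩,
      ⟨o485, [(485, [])], 3007⟩]⟩,
  ⟨[(o10, o10), (o0, o1), (o215, o8), (o14, o14), (o256, o218), (o1965, o245)], 83, .node 2 83 [⟨o64, [(64, [])], 2995⟩,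
      ⟨o144, [(144, [])], 2998⟩,
      ⟨o631, [(631, [])], 3001⟩,
      ⟨o685, [(685, [])], 3004⟩]⟩,
  ⟨[(o10, o10), (o0, o1), (o215, o8), (o14, o14), (o256, o218), (o1965, o245), (o12, o64)], 83, .node 7 83 [⟨o149, [(149, [])], 2996⟩]⟩,
  ⟨[(o10, o10), (o0, o1), (o215, o8), (o14, o14), (o256, o218), (o1965, o245), (o12, o64), (o243, o149)], 83, .node 4 83 [⟨o154, [(154, [])], 2997⟩]⟩,
  ⟨[(o10, o10), (o0, o1), (o215, o8), (o14, o14), (o256, o218), (o1965, o245), (o12, o64), (o243, o149), (o154, o154)], 83, .inner [7, 5, 4, 0, 1, 2, 3, 0, 2, 3, 2, 1, 0, 4, 5, 7]⟩,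
  ⟨[(o10, o10), (o0, o1), (o215, o8), (o14, o14), (o256, o218), (o1965, o245), (o12, o144)], 83, .node 7 83 [⟨o155, [(155, [])], 2999⟩]⟩,
  ⟨[(o10, o10), (o0, o1), (o215, o8), (o14, o14), (o256, o218), (o1965, o245), (o12, o144), (o243, o155)], 83, .node 4 83 [⟨o67, [(67, [])], 3000⟩]⟩,
  ⟨[(o10, o10), (o0, o1), (o215, o8), (o14, o14), (o256, o218), (o1965, o245), (o12, o144), (o243, o155), (o154, o67)], 83, .inner [4, 3, 7, 0, 1, 2, 3, 4, 5, 2, 3, 0, 2, 4, 3, 2, 5, 4, 3, 2, 1, 0, 7, 3, 4]⟩,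
  ⟨[(o10, o10), (o0, o1), (o215, o8), (o14, o14), (o256, o218), (o1965, o245), (o12, o631)], 83, .node 7 83 [⟨o859, [(859, [])], 3002⟩]⟩,
  ⟨[(o10, o10), (o0, o1), (o215, o8), (o14, o14), (o256, o218), (o1965, o245), (o12, o631), (o243, o859)], 83, .node 4 83 [⟨o525, [(525, [])], 3003⟩]⟩,
  ⟨[(o10, o10), (o0, o1), (o215, o8), (o14, o14), (o256, o218), (o1965, o245), (o12, o631), (o243, o859), (o154, o525)], 83, .conjw 2 [0, 2, 1, 0, 8, 3, 7, 2, 3, 4, 1, 2, 3, 7, 8, 6, 5, 4, 3, 7, 1, 2, 3, 4, 5, 2, 0]⟩,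
  ⟨[(o10, o10), (o0, o1), (o215, o8), (o14, o14), (o256, o218), (o1965, o245), (o12, o685)], 83, .node 7 83 [⟨o524, [(524, [])], 3005⟩]⟩,
  ⟨[(o10, o10), (o0, o1), (o215, o8), (o14, o14), (o256, o218), (o1965, o245), (o12, o685), (o243, o524)], 83, .node 4 83 [⟨o1976, [(1976, [])], 3006⟩]⟩,
  ⟨[(o10, o10), (o0, o1), (o215, o8), (o14, o14), (o256, o218), (o1965, o245), (o12, o685), (o243, o524), (o154, o1976)], 83, .conjw 1 [2, 1, 0, 5, 4, 3, 2, 7, 3, 2, 1, 4, 3, 8, 7, 3, 4, 2, 3, 7, 8, 1, 2, 3, 7, 5, 6, 4, 5, 3, 4, 2, 3, 7, 3, 4, 0, 1, 2, 1]⟩,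
  ⟨[(o10, o10), (o0, o1), (o215, o8), (o14, o14), (o256, o218), (o1965, o485)], 83, .node 2 83 [⟨o156, [(156, [])], 3008⟩,
      ⟨o157, [(157, [])], 3011⟩,
      ⟨o1400, [(1400, [])], 3014⟩,
      ⟨o1401, [(1401, [])], 3017⟩]⟩,
  ⟨[(o10, o10), (o0, o1), (o215, o8), (o14, o14), (o256, o218), (o1965, o485), (o12, o156)], 83, .node 7 83 [⟨o161, [(161, [])], 3009⟩]⟩,
  ⟨[(o10, o10), (o0, o1), (o215, o8), (o14, o14), (o256, o218), (o1965, o485), (o12, o156), (o243, o161)], 83, .node 4 83 [⟨o83, [(83, [])], 3010⟩]⟩,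
  ⟨[(o10, o10), (o0, o1), (o215, o8), (o14, o14), (o256, o218), (o1965, o485), (o12, o156), (o243, o161), (o154, o83)], 83, .inner [7, 4, 5, 2, 3, 4, 1, 2, 3, 7, 6, 2, 3, 4, 5, 4, 3, 0, 1, 0, 2, 4, 1, 0, 3, 4, 5, 4, 3, 2, 6, 7, 3, 2, 1, 4, 3, 2, 5, 4, 7]⟩,
  ⟨[(o10, o10), (o0, o1), (o215, o8), (o14, o14), (o256, o218), (o1965, o485), (o12, o157)], 83, .node 4 83 [⟨o160, [(160, [])], 3012⟩]⟩,
  ⟨[(o10, o10), (o0, o1), (o215, o8), (o14, o14), (o256, o218), (o1965, o485), (o12, o157), (o154, o160)], 83, .node 7 83 [⟨o84, [(84, [])], 3013⟩]⟩,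
  ⟨[(o10, o10), (o0, o1), (o215, o8), (o14, o14), (o256, o218), (o1965, o485), (o12, o157), (o154, o160), (o243, o84)], 83, .inner [0, 2, 1, 0, 3, 2, 1, 5, 4, 8, 7, 3, 2, 1, 0, 4, 3, 2, 7, 8, 5, 4, 3, 7, 6, 4, 5, 2, 3, 4, 1, 2, 3, 7, 6, 1, 2, 3, 4, 5, 1, 2, 3, 0, 1, 0, 2, 4, 1, 0, 3, 2, 1, 5, 4, 3, 2, 1, 6, 7, 3, 2, 1, 4, 3, 2, 5, 4, 6, 7, 3, 4, 5, 8, 7, 2, 3, 4, 0, 1, 2, 3, 7, 8, 4, 5, 1, 2, 3, 0, 1, 2, 0]⟩,
  ⟨[(o10, o10), (o0, o1), (o215, o8), (o14, o14), (o256, o218), (o1965, o485), (o12, o1400)], 83, .node 4 83 [⟨o1564, [(1564, [])], 3015⟩]⟩,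
  ⟨[(o10, o10), (o0, o1), (o215, o8), (o14, o14), (o256, o218), (o1965, o485), (o12, o1400), (o154, o1564)], 83, .node 7 83 [⟨o1412, [(1412, [])], 3016⟩]⟩,
  ⟨[(o10, o10), (o0, o1), (o215, o8), (o14, o14), (o256, o218), (o1965, o485), (o12, o1400), (o154, o1564), (o243, o1412)], 83, .conjw 2 [0, 1, 4, 3, 2, 5, 4, 3, 6, 5, 4, 3, 7, 8, 3, 7, 2, 3, 4, 1, 2, 3, 7, 8, 0, 1, 2, 3, 7, 5, 4, 3, 2, 1, 0]⟩,
  ⟨[(o10, o10), (o0, o1), (o215, o8), (o14, o14), (o256, o218), (o1965, o485), (o12, o1401)], 83, .node 7 83 [⟨o1565, [(1565, [])], 3018⟩]⟩,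
  ⟨[(o10, o10), (o0, o1), (o215, o8), (o14, o14), (o256, o218), (o1965, o485), (o12, o1401), (o243, o1565)], 83, .node 4 83 [⟨o1413, [(1413, [])], 3019⟩]⟩,
  ⟨[(o10, o10), (o0, o1), (o215, o8), (o14, o14), (o256, o218), (o1965, o485), (o12, o1401), (o243, o1565), (o154, o1413)], 83, .conjw 1 [0, 1, 4, 3, 2, 6, 7, 3, 2, 4, 3, 5, 6, 8, 7, 3, 2, 4, 5, 3, 4, 1, 2, 3, 7, 8, 0, 1, 2, 3, 7, 6, 4, 5, 2, 3, 4, 1, 2, 0, 1, 0]⟩,
  ⟨[(o10, o10), (o0, o1), (o215, o8), (o14, o14), (o256, o384)], 81, .node 8 84 [⟨o1763, [(1763, [])], 3021⟩]⟩,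
  ⟨[(o10, o10), (o0, o1), (o215, o8), (o14, o14), (o256, o384), (o1965, o1763)], 84, .node 2 84 [⟨o29, [(29, [])], 3022⟩,
      ⟨o121, [(121, [])], 3026⟩]⟩,
  ⟨[(o10, o10), (o0, o1), (o215, o8), (o14, o14), (o256, o384), (o1965, o1763), (o12, o29)], 84, .node 4 84 [⟨o627, [(627, [])], 3023⟩]⟩,
  ⟨[(o10, o10), (o0, o1), (o215, o8), (o14, o14), (o256, o384), (o1965, o1763), (o12, o29), (o154, o627)], 84, .node 7 84 [⟨o984, [(984, [])], 3024⟩,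
      ⟨o1412, [(1412, [])], 3025⟩]⟩,
  ⟨[(o10, o10), (o0, o1), (o215, o8), (o14, o14), (o256, o384), (o1965, o1763), (o12, o29), (o154, o627), (o243, o984)], 84, .conjw 2 [7, 8, 2, 3, 4, 5, 1, 2, 3, 4, 0, 1, 2, 3, 7, 3, 4, 5, 3, 2, 0]⟩,
  ⟨[(o10, o10), (o0, o1), (o215, o8), (o14, o14), (o256, o384), (o1965, o1763), (o12, o29), (o154, o627), (o243, o1412)], 84, .bad [7, 4] 8 10⟩,
  ⟨[(o10, o10), (o0, o1), (o215, o8), (o14, o14), (o256, o384), (o1965, o1763), (o12, o121)], 84, .node 4 84 [⟨o626, [(626, [])], 3027⟩]⟩,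
  ⟨[(o10, o10), (o0, o1), (o215, o8), (o14, o14), (o256, o384), (o1965, o1763), (o12, o121), (o154, o626)], 84, .node 7 84 [⟨o591, [(591, [])], 3028⟩,
      ⟨o1565, [(1565, [])], 3029⟩]⟩,
  ⟨[(o10, o10), (o0, o1), (o215, o8), (o14, o14), (o256, o384), (o1965, o1763), (o12, o121), (o154, o626), (o243, o591)], 84, .conjw 1 [0, 1, 2, 7, 8, 3, 7, 4, 5, 2, 3, 4, 1, 2, 3, 7, 8, 0, 1, 2, 3, 7, 5, 3, 4, 2, 1]⟩,
  ⟨[(o10, o10), (o0, o1), (o215, o8), (o14, o14), (o256, o384), (o1965, o1763), (o12, o121), (o154, o626), (o243, o1565)], 84, .bad [7, 4] 8 10⟩,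
  ⟨[(o10, o10), (o0, o1), (o215, o8), (o14, o14), (o256, o528)], 81, .node 8 85 [⟨o245, [(245, [])], 3031⟩]⟩,
  ⟨[(o10, o10), (o0, o1), (o215, o8), (o14, o14), (o256, o528), (o1965, o245)], 85, .node 2 85 [⟨o1042, [(1042, [])], 3032⟩,
      ⟨o2096, [(2096, [])], 3035⟩,
      ⟨o2818, [(2818, [])], 3038⟩,
      ⟨o2885, [(2885, [])], 3041⟩]⟩,
  ⟨[(o10, o10), (o0, o1), (o215, o8), (o14, o14), (o256, o528), (o1965, o245), (o12, o1042)], 85, .node 7 85 [⟨o1294, [(1294, [])], 3033⟩]⟩,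
  ⟨[(o10, o10), (o0, o1), (o215, o8), (o14, o14), (o256, o528), (o1965, o245), (o12, o1042), (o243, o1294)], 85, .node 4 85 [⟨o561, [(561, [])], 3034⟩]⟩,
  ⟨[(o10, o10), (o0, o1), (o215, o8), (o14, o14), (o256, o528), (o1965, o245), (o12, o1042), (o243, o1294), (o154, o561)], 85, .inner [6, 5, 4, 3, 7, 8, 3, 7, 6, 5, 2, 3, 4, 1, 2, 3, 7, 6, 1, 2, 3, 4, 5, 4, 3, 0, 1, 0, 2, 4, 1, 0, 3, 4, 5, 4, 3, 2, 1, 6, 7, 3, 2, 1, 4, 3, 2, 5, 6, 7, 3, 8, 7, 3, 4, 5, 6]⟩,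
  ⟨[(o10, o10), (o0, o1), (o215, o8), (o14, o14), (o256, o528), (o1965, o245), (o12, o2096)], 85, .node 7 85 [⟨o1442, [(1442, [])], 3036⟩]⟩,
  ⟨[(o10, o10), (o0, o1), (o215, o8), (o14, o14), (o256, o528), (o1965, o245), (o12, o2096), (o243, o1442)], 85, .node 4 85 [⟨o560, [(560, [])], 3037⟩]⟩,
  ⟨[(o10, o10), (o0, o1), (o215, o8), (o14, o14), (o256, o528), (o1965, o245), (o12, o2096), (o243, o1442), (o154, o560)], 85, .inner [0, 1, 2, 3, 4, 3, 2, 1, 5, 4, 3, 2, 1, 0, 7, 8, 3, 7, 6, 3, 4, 5, 2, 3, 4, 1, 2, 3, 7, 5, 6, 0, 1, 2, 3, 4, 5, 2, 3, 0, 1, 0, 2, 4, 1, 0, 3, 2, 5, 4, 3, 2, 1, 0, 6, 5, 7, 3, 2, 1, 4, 3, 2, 5, 4, 3, 6, 7, 3, 8, 7, 0, 1, 2, 3, 4, 5, 1, 2, 3, 4, 3, 2, 1, 0]⟩,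
  ⟨[(o10, o10), (o0, o1), (o215, o8), (o14, o14), (o256, o528), (o1965, o245), (o12, o2818)], 85, .node 7 85 [⟨o362, [(362, [])], 3039⟩]⟩,
  ⟨[(o10, o10), (o0, o1), (o215, o8), (o14, o14), (o256, o528), (o1965, o245), (o12, o2818), (o243, o362)], 85, .node 4 85 [⟨o187, [(187, [])], 3040⟩]⟩,
  ⟨[(o10, o10), (o0, o1), (o215, o8), (o14, o14), (o256, o528), (o1965, o245), (o12, o2818), (o243, o362), (o154, o187)], 85, .conjw 1 [0, 4, 3, 2, 1, 0, 6, 5, 7, 3, 2, 1, 0, 4, 5, 3, 4, 2, 3, 7, 8, 6, 5, 4, 1, 2, 3, 7, 4, 5, 2, 3, 4, 1, 2, 0, 1, 0]⟩,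
  ⟨[(o10, o10), (o0, o1), (o215, o8), (o14, o14), (o256, o528), (o1965, o245), (o12, o2885)], 85, .node 7 85 [⟨o288, [(288, [])], 3042⟩]⟩,
  ⟨[(o10, o10), (o0, o1), (o215, o8), (o14, o14), (o256, o528), (o1965, o245), (o12, o2885), (o243, o288)], 85, .node 4 85 [⟨o188, [(188, [])], 3043⟩]⟩,
  ⟨[(o10, o10), (o0, o1), (o215, o8), (o14, o14), (o256, o528), (o1965, o245), (o12, o2885), (o243, o288), (o154, o188)], 85, .conjw 2 [0, 1, 2, 4, 3, 5, 4, 7, 3, 8, 7, 2, 3, 4, 1, 2, 3, 7, 8, 0, 1, 2, 3, 7, 5, 4, 3, 0, 1, 2, 0, 1, 0]⟩,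
  ⟨[(o10, o10), (o0, o1), (o215, o8), (o14, o14), (o256, o1567)], 81, .node 8 86 [⟨o153, [(153, [])], 3045⟩]⟩,
  ⟨[(o10, o10), (o0, o1), (o215, o8), (o14, o14), (o256, o1567), (o1965, o153)], 86, .node 2 86 [⟨o558, [(558, [])], 3046⟩,
      ⟨o598, [(598, [])], 3049⟩]⟩,
  ⟨[(o10, o10), (o0, o1), (o215, o8), (o14, o14), (o256, o1567), (o1965, o153), (o12, o558)], 86, .node 4 86 [⟨o67, [(67, [])], 3047⟩]⟩,
  ⟨[(o10, o10), (o0, o1), (o215, o8), (o14, o14), (o256, o1567), (o1965, o153), (o12, o558), (o154, o67)], 86, .node 7 86 [⟨o155, [(155, [])], 3048⟩]⟩,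
  ⟨[(o10, o10), (o0, o1), (o215, o8), (o14, o14), (o256, o1567), (o1965, o153), (o12, o558), (o154, o67), (o243, o155)], 86, .conjw 2 [6, 5, 4, 3, 7, 2, 3, 4, 5, 4, 0, 1, 2, 0]⟩,
  ⟨[(o10, o10), (o0, o1), (o215, o8), (o14, o14), (o256, o1567), (o1965, o153), (o12, o598)], 86, .node 4 86 [⟨o154, [(154, [])], 3050⟩]⟩,
  ⟨[(o10, o10), (o0, o1), (o215, o8), (o14, o14), (o256, o1567), (o1965, o153), (o12, o598), (o154, o154)], 86, .node 7 86 [⟨o149, [(149, [])], 3051⟩,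
      ⟨o1442, [(1442, [])], 3052⟩]⟩,
  ⟨[(o10, o10), (o0, o1), (o215, o8), (o14, o14), (o256, o1567), (o1965, o153), (o12, o598), (o154, o154), (o243, o149)], 86, .conjw 1 [2, 1, 0, 5, 4, 3, 2, 1, 6, 5, 4, 3, 7, 3, 2, 4, 3, 7, 8, 7, 5, 6, 3, 4, 5, 2, 3, 4, 1, 2, 3, 7, 3, 4, 3, 0, 1, 2, 1]⟩,
  ⟨[(o10, o10), (o0, o1), (o215, o8), (o14, o14), (o256, o1567), (o1965, o153), (o12, o598), (o154, o154), (o243, o1442)], 86, .bad [7, 4] 8 10⟩,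
  ⟨[(o10, o10), (o0, o1), (o215, o8), (o14, o14), (o256, o1585)], 81, .node 8 87 [⟨o440, [(440, [])], 3054⟩,
      ⟨o1763, [(1763, [])], 3061⟩]⟩,
  ⟨[(o10, o10), (o0, o1), (o215, o8), (o14, o14), (o256, o1585), (o1965, o440)], 87, .node 2 87 [⟨o1573, [(1573, [])], 3055⟩,
      ⟨o2235, [(2235, [])], 3058⟩]⟩,
  ⟨[(o10, o10), (o0, o1), (o215, o8), (o14, o14), (o256, o1585), (o1965, o440), (o12, o1573)], 87, .node 4 87 [⟨o430, [(430, [])], 3056⟩]⟩,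
  ⟨[(o10, o10), (o0, o1), (o215, o8), (o14, o14), (o256, o1585), (o1965, o440), (o12, o1573), (o154, o430)], 87, .node 7 87 [⟨o317, [(317, [])], 3057⟩]⟩,
  ⟨[(o10, o10), (o0, o1), (o215, o8), (o14, o14), (o256, o1585), (o1965, o440), (o12, o1573), (o154, o430), (o243, o317)], 87, .conjw 2 [0, 6, 5, 4, 7, 3, 4, 8, 7, 3, 4, 5, 6, 2, 3, 4, 5, 1, 2, 3, 4, 0, 1, 2, 3, 7, 3, 4, 2, 1]⟩,
  ⟨[(o10, o10), (o0, o1), (o215, o8), (o14, o14), (o256, o1585), (o1965, o440), (o12, o2235)], 87, .node 4 87 [⟨o429, [(429, [])], 3059⟩]⟩,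
  ⟨[(o10, o10), (o0, o1), (o215, o8), (o14, o14), (o256, o1585), (o1965, o440), (o12, o2235), (o154, o429)], 87, .node 7 87 [⟨o316, [(316, [])], 3060⟩]⟩,
  ⟨[(o10, o10), (o0, o1), (o215, o8), (o14, o14), (o256, o1585), (o1965, o440), (o12, o2235), (o154, o429), (o243, o316)], 87, .conjw 1 [0, 1, 6, 5, 7, 3, 4, 8, 7, 3, 4, 2, 3, 7, 5, 6, 4, 5, 3, 4, 1, 2, 3, 7, 8, 0, 1, 2, 3, 7, 3, 4, 2, 1]⟩,
  ⟨[(o10, o10), (o0, o1), (o215, o8), (o14, o14), (o256, o1585), (o1965, o1763)], 87, .node 2 87 [⟨o2290, [(2290, [])], 3062⟩,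
      ⟨o2448, [(2448, [])], 3065⟩]⟩,
  ⟨[(o10, o10), (o0, o1), (o215, o8), (o14, o14), (o256, o1585), (o1965, o1763), (o12, o2290)], 87, .node 4 87 [⟨o632, [(632, [])], 3063⟩]⟩,
  ⟨[(o10, o10), (o0, o1), (o215, o8), (o14, o14), (o256, o1585), (o1965, o1763), (o12, o2290), (o154, o632)], 87, .node 7 87 [⟨o783, [(783, [])], 3064⟩]⟩,
  ⟨[(o10, o10), (o0, o1), (o215, o8), (o14, o14), (o256, o1585), (o1965, o1763), (o12, o2290), (o154, o632), (o243, o783)], 87, .conjw 2 [0, 4, 3, 2, 1, 8, 7, 6, 3, 4, 5, 2, 3, 4, 0, 1, 2, 3, 7, 6, 3, 4, 5, 2, 3, 4, 1, 0]⟩,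
  ⟨[(o10, o10), (o0, o1), (o215, o8), (o14, o14), (o256, o1585), (o1965, o1763), (o12, o2448)], 87, .node 4 87 [⟨o858, [(858, [])], 3066⟩]⟩,
  ⟨[(o10, o10), (o0, o1), (o215, o8), (o14, o14), (o256, o1585), (o1965, o1763), (o12, o2448), (o154, o858)], 87, .node 7 87 [⟨o782, [(782, [])], 3067⟩]⟩,
  ⟨[(o10, o10), (o0, o1), (o215, o8), (o14, o14), (o256, o1585), (o1965, o1763), (o12, o2448), (o154, o858), (o243, o782)], 87, .conjw 1 [0, 7, 3, 2, 1, 0, 8, 7, 3, 2, 1, 0, 4, 5, 3, 4, 2, 3, 7, 8, 6, 5, 4, 1, 2, 3, 7, 4, 5, 2, 3, 4, 1, 2, 0, 1, 0]⟩,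
  ⟨[(o10, o10), (o0, o1), (o215, o8), (o14, o63)], 80, .node 2 80 []⟩,
  ⟨[(o10, o10), (o0, o1), (o215, o8), (o14, o283)], 80, .node 4 80 []⟩,
  ⟨[(o10, o10), (o0, o1), (o215, o8), (o14, o305)], 80, .node 4 80 []⟩,
  ⟨[(o10, o10), (o0, o1), (o215, o82)], 79, .node 6 88 [⟨o384, [(384, []), (562, [o1567, o256, o1427, o1204, o384, o86, o215]), (1567, [o215, o86, o384, o1204, o1427, o256, o1567]), (1588, [o1567, o256, o1427, o1204, o384, o1585, o218]), (1737, [o1585, o218, o384, o1204, o1427, o256, o1567]), (1981, [o82])], 3072⟩,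
      ⟨o528, [(528, []), (1965, [o82])], 3091⟩]⟩]

/-- Nodes. -/
def nd24 : List ONode := [
  ⟨[(o10, o10), (o0, o1), (o215, o82), (o256, o384)], 88, .node 1 89 [⟨o14, [(14, [])], 3073⟩]⟩,
  ⟨[(o10, o10), (o0, o1), (o215, o82), (o256, o384), (o14, o14)], 89, .node 8 90 [⟨o162, [(162, [])], 3074⟩]⟩,
  ⟨[(o10, o10), (o0, o1), (o215, o82), (o256, o384), (o14, o14), (o1965, o162)], 90, .node 2 90 [⟨o978, [(978, [])], 3075⟩,
      ⟨o1103, [(1103, [])], 3080⟩,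
      ⟨o1376, [(1376, [])], 3083⟩,
      ⟨o1422, [(1422, [])], 3088⟩]⟩,
  ⟨[(o10, o10), (o0, o1), (o215, o82), (o256, o384), (o14, o14), (o1965, o162), (o12, o978)], 90, .node 4 90 [⟨o67, [(67, [])], 3076⟩,
      ⟨o317, [(317, [])], 3077⟩]⟩,
  ⟨[(o10, o10), (o0, o1), (o215, o82), (o256, o384), (o14, o14), (o1965, o162), (o12, o978), (o154, o67)], 90, .node 7 90 []⟩,
  ⟨[(o10, o10), (o0, o1), (o215, o82), (o256, o384), (o14, o14), (o1965, o162), (o12, o978), (o154, o317)], 90, .node 7 90 [⟨o591, [(591, [])], 3078⟩,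
      ⟨o818, [(818, [])], 3079⟩]⟩,
  ⟨[(o10, o10), (o0, o1), (o215, o82), (o256, o384), (o14, o14), (o1965, o162), (o12, o978), (o154, o317), (o243, o591)], 90, .inner [2, 3, 4, 1, 2, 3, 7, 8, 7, 2, 3, 4, 0, 1, 2, 3, 7, 6, 0, 1, 2, 3, 4, 5, 3, 0, 1, 0, 2, 4, 1, 0, 3, 5, 4, 3, 2, 1, 0, 6, 7, 3, 2, 1, 0, 4, 3, 2, 7, 8, 7, 3, 2, 1, 4, 3, 2]⟩,
  ⟨[(o10, o10), (o0, o1), (o215, o82), (o256, o384), (o14, o14), (o1965, o162), (o12, o978), (o154, o317), (o243, o818)], 90, .bad [7, 5, 4] 82 162⟩,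
  ⟨[(o10, o10), (o0, o1), (o215, o82), (o256, o384), (o14, o14), (o1965, o162), (o12, o1103)], 90, .node 7 90 [⟨o984, [(984, [])], 3081⟩]⟩,
  ⟨[(o10, o10), (o0, o1), (o215, o82), (o256, o384), (o14, o14), (o1965, o162), (o12, o1103), (o243, o984)], 90, .node 4 90 [⟨o316, [(316, [])], 3082⟩]⟩,
  ⟨[(o10, o10), (o0, o1), (o215, o82), (o256, o384), (o14, o14), (o1965, o162), (o12, o1103), (o243, o984), (o154, o316)], 90, .inner [2, 1, 3, 4, 2, 3, 7, 8, 2, 3, 7, 6, 4, 5, 2, 3, 4, 1, 2, 3, 7, 3, 4, 5, 1, 2, 3, 0, 1, 0, 2, 4, 1, 0, 3, 2, 1, 5, 4, 3, 7, 3, 2, 1, 4, 3, 2, 5, 4, 6, 7, 3, 2, 8, 7, 3, 2, 4, 3, 1, 2]⟩,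
  ⟨[(o10, o10), (o0, o1), (o215, o82), (o256, o384), (o14, o14), (o1965, o162), (o12, o1376)], 90, .node 4 90 [⟨o154, [(154, [])], 3084⟩,
      ⟨o316, [(316, [])], 3087⟩]⟩,
  ⟨[(o10, o10), (o0, o1), (o215, o82), (o256, o384), (o14, o14), (o1965, o162), (o12, o1376), (o154, o154)], 90, .node 7 90 [⟨o591, [(591, [])], 3085⟩,
      ⟨o818, [(818, [])], 3086⟩]⟩,
  ⟨[(o10, o10), (o0, o1), (o215, o82), (o256, o384), (o14, o14), (o1965, o162), (o12, o1376), (o154, o154), (o243, o591)], 90, .bad [7, 5, 4] 82 162⟩,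
  ⟨[(o10, o10), (o0, o1), (o215, o82), (o256, o384), (o14, o14), (o1965, o162), (o12, o1376), (o154, o154), (o243, o818)], 90, .conjw 2 [0, 5, 6, 7, 3, 2, 1, 0, 4, 3, 7, 2, 3, 4, 1, 2, 3, 7, 8, 5, 4, 3, 7, 6, 3, 4, 5, 2, 3, 4, 1, 0]⟩,
  ⟨[(o10, o10), (o0, o1), (o215, o82), (o256, o384), (o14, o14), (o1965, o162), (o12, o1376), (o154, o316)], 90, .node 7 90 []⟩,
  ⟨[(o10, o10), (o0, o1), (o215, o82), (o256, o384), (o14, o14), (o1965, o162), (o12, o1422)], 90, .node 7 90 [⟨o1620, [(1620, [])], 3089⟩]⟩,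
  ⟨[(o10, o10), (o0, o1), (o215, o82), (o256, o384), (o14, o14), (o1965, o162), (o12, o1422), (o243, o1620)], 90, .node 4 90 [⟨o67, [(67, [])], 3090⟩]⟩,
  ⟨[(o10, o10), (o0, o1), (o215, o82), (o256, o384), (o14, o14), (o1965, o162), (o12, o1422), (o243, o1620), (o154, o67)], 90, .conjw 1 [0, 1, 4, 5, 4, 3, 6, 5, 4, 3, 8, 7, 3, 4, 2, 3, 7, 5, 6, 4, 5, 3, 4, 1, 2, 3, 7, 8, 0, 1, 2, 3, 7, 3, 4, 2, 1]⟩,
  ⟨[(o10, o10), (o0, o1), (o215, o82), (o256, o528)], 88, .node 1 91 [⟨o14, [(14, [])], 3092⟩]⟩,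
  ⟨[(o10, o10), (o0, o1), (o215, o82), (o256, o528), (o14, o14)], 91, .node 8 92 [⟨o251, [(251, [])], 3093⟩]⟩,
  ⟨[(o10, o10), (o0, o1), (o215, o82), (o256, o528), (o14, o14), (o1965, o251)], 92, .node 2 92 [⟨o331, [(331, [])], 3094⟩,
      ⟨o332, [(332, [])], 3100⟩,
      ⟨o1069, [(1069, [])], 3106⟩,
      ⟨o1680, [(1680, [])], 3112⟩,
      ⟨o1681, [(1681, [])], 3116⟩,
      ⟨o1768, [(1768, [])], 3124⟩]⟩,
  ⟨[(o10, o10), (o0, o1), (o215, o82), (o256, o528), (o14, o14), (o1965, o251), (o12, o331)], 92, .node 4 92 [⟨o84, [(84, [])], 3095⟩,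
      ⟨o858, [(858, [])], 3096⟩,
      ⟨o1412, [(1412, [])], 3099⟩]⟩,
  ⟨[(o10, o10), (o0, o1), (o215, o82), (o256, o528), (o14, o14), (o1965, o251), (o12, o331), (o154, o84)], 92, .node 7 92 []⟩,
  ⟨[(o10, o10), (o0, o1), (o215, o82), (o256, o528), (o14, o14), (o1965, o251), (o12, o331), (o154, o858)], 92, .node 7 92 [⟨o288, [(288, [])], 3097⟩,
      ⟨o902, [(902, [])], 3098⟩]⟩,
  ⟨[(o10, o10), (o0, o1), (o215, o82), (o256, o528), (o14, o14), (o1965, o251), (o12, o331), (o154, o858), (o243, o288)], 92, .bad [4, 7, 5, 3] 858 528⟩,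
  ⟨[(o10, o10), (o0, o1), (o215, o82), (o256, o528), (o14, o14), (o1965, o251), (o12, o331), (o154, o858), (o243, o902)], 92, .inner [4, 3, 6, 5, 7, 8, 7, 3, 4, 5, 2, 3, 4, 1, 2, 3, 7, 8, 3, 4, 0, 1, 2, 3, 7, 0, 1, 2, 3, 4, 5, 3, 0, 1, 0, 2, 4, 1, 0, 3, 5, 4, 3, 2, 1, 0, 7, 3, 2, 1, 0, 4, 3, 8, 7, 3, 2, 1, 4, 3, 2, 5, 4, 3, 7, 8, 7, 5, 6, 3, 4]⟩,
  ⟨[(o10, o10), (o0, o1), (o215, o82), (o256, o528), (o14, o14), (o1965, o251), (o12, o331), (o154, o1412)], 92, .node 7 92 []⟩,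
  ⟨[(o10, o10), (o0, o1), (o215, o82), (o256, o528), (o14, o14), (o1965, o251), (o12, o332)], 92, .node 4 92 [⟨o632, [(632, [])], 3101⟩,
      ⟨o1565, [(1565, [])], 3105⟩]⟩,
  ⟨[(o10, o10), (o0, o1), (o215, o82), (o256, o528), (o14, o14), (o1965, o251), (o12, o332), (o154, o632)], 92, .node 7 92 [⟨o484, [(484, [])], 3102⟩,
      ⟨o1294, [(1294, [])], 3103⟩,
      ⟨o1529, [(1529, [])], 3104⟩]⟩,
  ⟨[(o10, o10), (o0, o1), (o215, o82), (o256, o528), (o14, o14), (o1965, o251), (o12, o332), (o154, o632), (o243, o484)], 92, .bad [7, 5, 4] 528 632⟩,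
  ⟨[(o10, o10), (o0, o1), (o215, o82), (o256, o528), (o14, o14), (o1965, o251), (o12, o332), (o154, o632), (o243, o1294)], 92, .bad [7, 5, 4] 528 632⟩,
  ⟨[(o10, o10), (o0, o1), (o215, o82), (o256, o528), (o14, o14), (o1965, o251), (o12, o332), (o154, o632), (o243, o1529)], 92, .inner [2, 1, 4, 6, 7, 8, 3, 7, 4, 5, 3, 4, 2, 3, 7, 8, 4, 5, 3, 4, 2, 3, 7, 1, 2, 3, 4, 5, 2, 3, 0, 1, 0, 2, 4, 1, 0, 3, 2, 5, 4, 3, 2, 1, 7, 3, 2, 4, 3, 5, 4, 8, 7, 3, 2, 4, 3, 5, 4, 7, 3, 8, 7, 6, 4, 1, 2]⟩,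
  ⟨[(o10, o10), (o0, o1), (o215, o82), (o256, o528), (o14, o14), (o1965, o251), (o12, o332), (o154, o1565)], 92, .node 7 92 []⟩,
  ⟨[(o10, o10), (o0, o1), (o215, o82), (o256, o528), (o14, o14), (o1965, o251), (o12, o1069)], 92, .node 4 92 [⟨o632, [(632, [])], 3107⟩,
      ⟨o1565, [(1565, [])], 3108⟩]⟩,
  ⟨[(o10, o10), (o0, o1), (o215, o82), (o256, o528), (o14, o14), (o1965, o251), (o12, o1069), (o154, o632)], 92, .node 7 92 []⟩,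
  ⟨[(o10, o10), (o0, o1), (o215, o82), (o256, o528), (o14, o14), (o1965, o251), (o12, o1069), (o154, o1565)], 92, .node 7 92 [⟨o188, [(188, [])], 3109⟩,
      ⟨o288, [(288, [])], 3110⟩,
      ⟨o561, [(561, [])], 3111⟩]⟩,
  ⟨[(o10, o10), (o0, o1), (o215, o82), (o256, o528), (o14, o14), (o1965, o251), (o12, o1069), (o154, o1565), (o243, o188)], 92, .bad [3, 7, 3] 1565 1565⟩,
  ⟨[(o10, o10), (o0, o1), (o215, o82), (o256, o528), (o14, o14), (o1965, o251), (o12, o1069), (o154, o1565), (o243, o288)], 92, .inner [0, 4, 5, 4, 3, 7, 8, 2, 3, 7, 6, 4, 5, 3, 4, 1, 2, 3, 7, 1, 2, 3, 4, 5, 1, 2, 3, 1, 0, 2, 4, 1, 3, 2, 1, 5, 4, 3, 2, 1, 7, 3, 2, 1, 4, 3, 5, 4, 6, 7, 3, 2, 8, 7, 3, 4, 5, 4, 0]⟩,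
  ⟨[(o10, o10), (o0, o1), (o215, o82), (o256, o528), (o14, o14), (o1965, o251), (o12, o1069), (o154, o1565), (o243, o561)], 92, .bad [7, 8, 7] 1565 1565⟩,
  ⟨[(o10, o10), (o0, o1), (o215, o82), (o256, o528), (o14, o14), (o1965, o251), (o12, o1680)], 92, .node 4 92 [⟨o161, [(161, [])], 3113⟩]⟩,
  ⟨[(o10, o10), (o0, o1), (o215, o82), (o256, o528), (o14, o14), (o1965, o251), (o12, o1680), (o154, o161)], 92, .node 7 92 [⟨o560, [(560, [])], 3114⟩,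
      ⟨o1442, [(1442, [])], 3115⟩]⟩,
  ⟨[(o10, o10), (o0, o1), (o215, o82), (o256, o528), (o14, o14), (o1965, o251), (o12, o1680), (o154, o161), (o243, o560)], 92, .inner [0, 1, 2, 1, 0, 3, 2, 1, 7, 3, 2, 1, 0, 4, 3, 5, 8, 7, 3, 4, 5, 2, 3, 4, 1, 2, 3, 7, 8, 6, 5, 3, 4, 0, 1, 2, 3, 7, 4, 5, 4, 2, 3, 0, 1, 0, 2, 4, 1, 0, 3, 2, 4, 5, 4, 7, 3, 2, 1, 0, 4, 3, 5, 6, 8, 7, 3, 2, 1, 4, 3, 2, 5, 4, 3, 7, 8, 5, 3, 4, 0, 1, 2, 3, 7, 1, 2, 3, 0, 1, 2, 1, 0]⟩,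
  ⟨[(o10, o10), (o0, o1), (o215, o82), (o256, o528), (o14, o14), (o1965, o251), (o12, o1680), (o154, o161), (o243, o1442)], 92, .conjw 2 [0, 4, 5, 4, 6, 5, 7, 3, 2, 8, 7, 3, 4, 5, 1, 2, 3, 4, 0, 1, 2, 3, 7, 6, 3, 4, 5, 2, 3, 4, 1, 0]⟩,
  ⟨[(o10, o10), (o0, o1), (o215, o82), (o256, o528), (o14, o14), (o1965, o251), (o12, o1681)], 92, .node 4 92 [⟨o84, [(84, [])], 3117⟩,
      ⟨o858, [(858, [])], 3122⟩,
      ⟨o1412, [(1412, [])], 3123⟩]⟩,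
  ⟨[(o10, o10), (o0, o1), (o215, o82), (o256, o528), (o14, o14), (o1965, o251), (o12, o1681), (o154, o84)], 92, .node 7 92 [⟨o188, [(188, [])], 3118⟩,
      ⟨o561, [(561, [])], 3119⟩,
      ⟨o1294, [(1294, [])], 3120⟩,
      ⟨o1529, [(1529, [])], 3121⟩]⟩,
  ⟨[(o10, o10), (o0, o1), (o215, o82), (o256, o528), (o14, o14), (o1965, o251), (o12, o1681), (o154, o84), (o243, o188)], 92, .bad [3, 7, 3] 84 84⟩,
  ⟨[(o10, o10), (o0, o1), (o215, o82), (o256, o528), (o14, o14), (o1965, o251), (o12, o1681), (o154, o84), (o243, o561)], 92, .inner [2, 1, 0, 7, 3, 2, 1, 0, 4, 5, 3, 4, 2, 3, 7, 8, 3, 7, 4, 5, 3, 4, 1, 2, 3, 7, 5, 6, 4, 5, 1, 2, 3, 0, 1, 0, 2, 4, 1, 0, 3, 2, 1, 5, 4, 6, 5, 7, 3, 2, 1, 4, 3, 5, 4, 7, 3, 8, 7, 3, 2, 4, 3, 5, 4, 0, 1, 2, 3, 7, 0, 1, 2]⟩,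
  ⟨[(o10, o10), (o0, o1), (o215, o82), (o256, o528), (o14, o14), (o1965, o251), (o12, o1681), (o154, o84), (o243, o1294)], 92, .conjw 1 [0, 1, 2, 4, 3, 6, 5, 4, 7, 8, 3, 7, 4, 5, 3, 4, 2, 3, 7, 8, 6, 5, 4, 3, 7, 1, 2, 3, 0, 1, 2, 0, 1, 0]⟩,
  ⟨[(o10, o10), (o0, o1), (o215, o82), (o256, o528), (o14, o14), (o1965, o251), (o12, o1681), (o154, o84), (o243, o1529)], 92, .bad [3, 7, 3] 84 84⟩,
  ⟨[(o10, o10), (o0, o1), (o215, o82), (o256, o528), (o14, o14), (o1965, o251), (o12, o1681), (o154, o858)], 92, .node 7 92 []⟩,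
  ⟨[(o10, o10), (o0, o1), (o215, o82), (o256, o528), (o14, o14), (o1965, o251), (o12, o1681), (o154, o1412)], 92, .node 7 92 []⟩,
  ⟨[(o10, o10), (o0, o1), (o215, o82), (o256, o528), (o14, o14), (o1965, o251), (o12, o1768)], 92, .node 4 92 [⟨o84, [(84, [])], 3125⟩,
      ⟨o858, [(858, [])], 3126⟩,
      ⟨o1412, [(1412, [])], 3127⟩]⟩,
  ⟨[(o10, o10), (o0, o1), (o215, o82), (o256, o528), (o14, o14), (o1965, o251), (o12, o1768), (o154, o84)], 92, .node 7 92 []⟩,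
  ⟨[(o10, o10), (o0, o1), (o215, o82), (o256, o528), (o14, o14), (o1965, o251), (o12, o1768), (o154, o858)], 92, .node 7 92 []⟩,
  ⟨[(o10, o10), (o0, o1), (o215, o82), (o256, o528), (o14, o14), (o1965, o251), (o12, o1768), (o154, o1412)], 92, .node 7 92 [⟨o362, [(362, [])], 3128⟩,
      ⟨o560, [(560, [])], 3129⟩]⟩,
  ⟨[(o10, o10), (o0, o1), (o215, o82), (o256, o528), (o14, o14), (o1965, o251), (o12, o1768), (o154, o1412), (o243, o362)], 92, .inner [5, 4, 3, 7, 8, 2, 3, 7, 1, 2, 3, 4, 0, 1, 2, 3, 7, 5, 6, 0, 1, 2, 3, 4, 5, 1, 2, 3, 0, 1, 0, 2, 4, 1, 0, 3, 2, 1, 5, 4, 3, 2, 1, 0, 6, 5, 7, 3, 2, 1, 0, 4, 3, 2, 1, 7, 3, 2, 8, 7, 3, 4, 5]⟩,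
  ⟨[(o10, o10), (o0, o1), (o215, o82), (o256, o528), (o14, o14), (o1965, o251), (o12, o1768), (o154, o1412), (o243, o560)], 92, .bad [2, 3, 7, 3, 2] 82 82⟩,
  ⟨[(o10, o10), (o0, o1), (o215, o215)], 79, .node 8 93 [⟨o82, [(82, []), (86, [o2179, o1464, o162, o152]), (218, [o8, o256, o1763, o315, o1588, o384]), (384, [o1981]), (528, [o1965]), (1585, [o1585, o82, o315, o1763, o256, o8]), (1588, [o562]), (1737, [o1567])], 3131⟩,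
      ⟨o562, [(562, []), (1567, [o2179, o1464, o162, o152]), (1981, [o1585, o82, o315, o1763, o256, o8])], 3198⟩,
      ⟨o1965, [(1965, [])], 3243⟩]⟩,
  ⟨[(o10, o10), (o0, o1), (o215, o215), (o1965, o82)], 93, .node 6 94 [⟨o251, [(251, [])], 3132⟩,
      ⟨o256, [(256, [])], 3165⟩]⟩,
  ⟨[(o10, o10), (o0, o1), (o215, o215), (o1965, o82), (o256, o251)], 94, .node 1 95 [⟨o14, [(14, [])], 3133⟩]⟩,
  ⟨[(o10, o10), (o0, o1), (o215, o215), (o1965, o82), (o256, o251), (o14, o14)], 95, .node 2 95 [⟨o681, [(681, [])], 3134⟩,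
      ⟨o1073, [(1073, [])], 3138⟩,
      ⟨o1562, [(1562, [])], 3143⟩,
      ⟨o1635, [(1635, [])], 3149⟩,
      ⟨o1636, [(1636, [])], 3154⟩,
      ⟨o1716, [(1716, [])], 3157⟩]⟩,
  ⟨[(o10, o10), (o0, o1), (o215, o215), (o1965, o82), (o256, o251), (o14, o14), (o12, o681)], 95, .node 4 95 [⟨o1620, [(1620, [])], 3135⟩]⟩,
  ⟨[(o10, o10), (o0, o1), (o215, o215), (o1965, o82), (o256, o251), (o14, o14), (o12, o681), (o154, o1620)], 95, .node 7 95 [⟨o628, [(628, [])], 3136⟩,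
      ⟨o1297, [(1297, [])], 3137⟩]⟩,
  ⟨[(o10, o10), (o0, o1), (o215, o215), (o1965, o82), (o256, o251), (o14, o14), (o12, o681), (o154, o1620), (o243, o628)], 95, .conjw 2 [0, 2, 1, 0, 4, 3, 7, 5, 3, 4, 2, 3, 7, 8, 7, 2, 3, 4, 1, 2, 3, 7, 4, 2, 3, 1, 2, 1, 0]⟩,
  ⟨[(o10, o10), (o0, o1), (o215, o215), (o1965, o82), (o256, o251), (o14, o14), (o12, o681), (o154, o1620), (o243, o1297)], 95, .inner [2, 1, 0, 3, 2, 1, 4, 3, 7, 3, 4, 5, 6, 8, 7, 3, 4, 2, 3, 7, 8, 1, 2, 3, 7, 4, 5, 3, 4, 0, 1, 2, 3, 7, 4, 5, 1, 2, 3, 0, 1, 0, 2, 4, 1, 0, 3, 2, 1, 5, 4, 7, 3, 2, 1, 0, 4, 3, 5, 4, 7, 3, 2, 1, 8, 7, 3, 2, 4, 3, 7, 8, 6, 5, 4, 3, 7, 3, 4, 1, 2, 3, 0, 1, 2]⟩,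
  ⟨[(o10, o10), (o0, o1), (o215, o215), (o1965, o82), (o256, o251), (o14, o14), (o12, o1073)], 95, .node 7 95 [⟨o243, [(243, [])], 3139⟩,
      ⟨o1674, [(1674, [])], 3141⟩]⟩,
  ⟨[(o10, o10), (o0, o1), (o215, o215), (o1965, o82), (o256, o251), (o14, o14), (o12, o1073), (o243, o243)], 95, .node 4 95 [⟨o984, [(984, [])], 3140⟩]⟩,
  ⟨[(o10, o10), (o0, o1), (o215, o215), (o1965, o82), (o256, o251), (o14, o14), (o12, o1073), (o243, o243), (o154, o984)], 95, .bad [2, 3, 7, 3, 2] 82 82⟩,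
  ⟨[(o10, o10), (o0, o1), (o215, o215), (o1965, o82), (o256, o251), (o14, o14), (o12, o1073), (o243, o1674)], 95, .node 4 95 [⟨o984, [(984, [])], 3142⟩]⟩,
  ⟨[(o10, o10), (o0, o1), (o215, o215), (o1965, o82), (o256, o251), (o14, o14), (o12, o1073), (o243, o1674), (o154, o984)], 95, .conjw 1 [0, 1, 6, 7, 3, 2, 1, 8, 4, 3, 7, 5, 6, 4, 5, 3, 4, 2, 3, 7, 8, 0, 1, 2, 3, 7, 5, 3, 4, 2, 1]⟩,
  ⟨[(o10, o10), (o0, o1), (o215, o215), (o1965, o82), (o256, o251), (o14, o14), (o12, o1562)], 95, .node 4 95 [⟨o591, [(591, [])], 3144⟩,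
      ⟨o2214, [(2214, [])], 3148⟩]⟩,
  ⟨[(o10, o10), (o0, o1), (o215, o215), (o1965, o82), (o256, o251), (o14, o14), (o12, o1562), (o154, o591)], 95, .node 7 95 [⟨o9, [(9, [])], 3145⟩,
      ⟨o529, [(529, [])], 3146⟩,
      ⟨o629, [(629, [])], 3147⟩]⟩,
  ⟨[(o10, o10), (o0, o1), (o215, o215), (o1965, o82), (o256, o251), (o14, o14), (o12, o1562), (o154, o591), (o243, o9)], 95, .bad [7, 8, 7, 1, 2] 82 1562⟩,
  ⟨[(o10, o10), (o0, o1), (o215, o215), (o1965, o82), (o256, o251), (o14, o14), (o12, o1562), (o154, o591), (o243, o529)], 95, .bad [8, 2, 1] 1562 529⟩,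
  ⟨[(o10, o10), (o0, o1), (o215, o215), (o1965, o82), (o256, o251), (o14, o14), (o12, o1562), (o154, o591), (o243, o629)], 95, .conjw 2 [0, 6, 7, 8, 3, 4, 5, 6, 2, 3, 4, 5, 1, 2, 3, 4, 0, 1, 2, 3, 7, 3, 4, 2, 1]⟩,
  ⟨[(o10, o10), (o0, o1), (o215, o215), (o1965, o82), (o256, o251), (o14, o14), (o12, o1562), (o154, o2214)], 95, .node 7 95 []⟩,
  ⟨[(o10, o10), (o0, o1), (o215, o215), (o1965, o82), (o256, o251), (o14, o14), (o12, o1635)], 95, .node 7 95 [⟨o9, [(9, [])], 3150⟩,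
      ⟨o628, [(628, [])], 3152⟩]⟩,
  ⟨[(o10, o10), (o0, o1), (o215, o215), (o1965, o82), (o256, o251), (o14, o14), (o12, o1635), (o243, o9)], 95, .node 4 95 [⟨o563, [(563, [])], 3151⟩]⟩,
  ⟨[(o10, o10), (o0, o1), (o215, o215), (o1965, o82), (o256, o251), (o14, o14), (o12, o1635), (o243, o9), (o154, o563)], 95, .conjw 1 [0, 1, 2, 3, 4, 5, 6, 5, 7, 3, 2, 4, 5, 3, 4, 1, 2, 3, 7, 8, 0, 1, 2, 3, 7, 6, 4, 5, 2, 3, 4, 1, 2, 0, 1, 0]⟩,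
  ⟨[(o10, o10), (o0, o1), (o215, o215), (o1965, o82), (o256, o251), (o14, o14), (o12, o1635), (o243, o628)], 95, .node 4 95 [⟨o563, [(563, [])], 3153⟩]⟩,
  ⟨[(o10, o10), (o0, o1), (o215, o215), (o1965, o82), (o256, o251), (o14, o14), (o12, o1635), (o243, o628), (o154, o563)], 95, .bad [3, 7, 3] 1635 1635⟩,
  ⟨[(o10, o10), (o0, o1), (o215, o215), (o1965, o82), (o256, o251), (o14, o14), (o12, o1636)], 95, .node 7 95 [⟨o243, [(243, [])], 3155⟩]⟩,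
  ⟨[(o10, o10), (o0, o1), (o215, o215), (o1965, o82), (o256, o251), (o14, o14), (o12, o1636), (o243, o243)], 95, .node 4 95 [⟨o2214, [(2214, [])], 3156⟩]⟩,
  ⟨[(o10, o10), (o0, o1), (o215, o215), (o1965, o82), (o256, o251), (o14, o14), (o12, o1636), (o243, o243), (o154, o2214)], 95, .conjw 2 [0, 1, 4, 3, 2, 5, 4, 3, 6, 5, 4, 3, 7, 3, 8, 7, 2, 3, 4, 1, 2, 3, 7, 8, 0, 1, 2, 3, 7, 5, 4, 3, 0, 1, 2, 1, 0]⟩,
  ⟨[(o10, o10), (o0, o1), (o215, o215), (o1965, o82), (o256, o251), (o14, o14), (o12, o1716)], 95, .node 4 95 [⟨o563, [(563, [])], 3158⟩,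
      ⟨o818, [(818, [])], 3159⟩,
      ⟨o984, [(984, [])], 3164⟩]⟩,
  ⟨[(o10, o10), (o0, o1), (o215, o215), (o1965, o82), (o256, o251), (o14, o14), (o12, o1716), (o154, o563)], 95, .node 7 95 []⟩,
  ⟨[(o10, o10), (o0, o1), (o215, o215), (o1965, o82), (o256, o251), (o14, o14), (o12, o1716), (o154, o818)], 95, .node 7 95 [⟨o244, [(244, [])], 3160⟩,
      ⟨o529, [(529, [])], 3161⟩,
      ⟨o629, [(629, [])], 3162⟩,
      ⟨o1563, [(1563, [])], 3163⟩]⟩,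
  ⟨[(o10, o10), (o0, o1), (o215, o215), (o1965, o82), (o256, o251), (o14, o14), (o12, o1716), (o154, o818), (o243, o244)], 95, .bad [7, 3] 244 1965⟩,
  ⟨[(o10, o10), (o0, o1), (o215, o215), (o1965, o82), (o256, o251), (o14, o14), (o12, o1716), (o154, o818), (o243, o529)], 95, .inner [8, 7, 4, 5, 2, 3, 4, 1, 2, 3, 7, 6, 1, 2, 3, 4, 5, 4, 3, 0, 1, 0, 2, 4, 1, 0, 3, 4, 5, 4, 3, 2, 1, 6, 7, 3, 2, 1, 4, 3, 2, 5, 4, 7, 8]⟩,
  ⟨[(o10, o10), (o0, o1), (o215, o215), (o1965, o82), (o256, o251), (o14, o14), (o12, o1716), (o154, o818), (o243, o629)], 95, .bad [2, 3, 2] 629 629⟩,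
  ⟨[(o10, o10), (o0, o1), (o215, o215), (o1965, o82), (o256, o251), (o14, o14), (o12, o1716), (o154, o818), (o243, o1563)], 95, .conjw 1 [0, 8, 7, 3, 4, 2, 3, 7, 5, 6, 4, 5, 3, 4, 1, 2, 3, 7, 4, 2, 3, 0, 1, 2, 1]⟩,
  ⟨[(o10, o10), (o0, o1), (o215, o215), (o1965, o82), (o256, o251), (o14, o14), (o12, o1716), (o154, o984)], 95, .node 7 95 []⟩,
  ⟨[(o10, o10), (o0, o1), (o215, o215), (o1965, o82), (o256, o256)], 94, .node 1 96 [⟨o14, [(14, [])], 3166⟩]⟩,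
  ⟨[(o10, o10), (o0, o1), (o215, o215), (o1965, o82), (o256, o256), (o14, o14)], 96, .node 2 96 [⟨o681, [(681, [])], 3167⟩,
      ⟨o1073, [(1073, [])], 3171⟩,
      ⟨o1562, [(1562, [])], 3176⟩,
      ⟨o1635, [(1635, [])], 3182⟩,
      ⟨o1636, [(1636, [])], 3187⟩,
      ⟨o1716, [(1716, [])], 3190⟩]⟩,
  ⟨[(o10, o10), (o0, o1), (o215, o215), (o1965, o82), (o256, o256), (o14, o14), (o12, o681)], 96, .node 4 96 [⟨o526, [(526, [])], 3168⟩]⟩,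
  ⟨[(o10, o10), (o0, o1), (o215, o215), (o1965, o82), (o256, o256), (o14, o14), (o12, o681), (o154, o526)], 96, .node 7 96 [⟨o628, [(628, [])], 3169⟩,
      ⟨o1297, [(1297, [])], 3170⟩]⟩,
  ⟨[(o10, o10), (o0, o1), (o215, o215), (o1965, o82), (o256, o256), (o14, o14), (o12, o681), (o154, o526), (o243, o628)], 96, .conjw 1 [4, 3, 2, 7, 3, 2, 1, 0, 4, 3, 2, 1, 5, 4, 3, 2, 6, 5, 4, 3, 7, 3, 2, 8, 7, 3, 4, 1, 2, 3, 7, 5, 6, 4, 5, 3, 4, 1, 2, 3, 7, 4, 3, 0, 1, 2, 1]⟩,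
  ⟨[(o10, o10), (o0, o1), (o215, o215), (o1965, o82), (o256, o256), (o14, o14), (o12, o681), (o154, o526), (o243, o1297)], 96, .inner [2, 3, 7, 1, 2, 3, 4, 0, 1, 2, 3, 7, 8, 5, 4, 3, 7, 6, 3, 4, 5, 2, 3, 0, 2, 4, 3, 2, 5, 4, 3, 6, 7, 3, 4, 5, 8, 7, 3, 2, 1, 0, 4, 3, 2, 1, 7, 3, 2]⟩,
  ⟨[(o10, o10), (o0, o1), (o215, o215), (o1965, o82), (o256, o256), (o14, o14), (o12, o1073)], 96, .node 7 96 [⟨o243, [(243, [])], 3172⟩,
      ⟨o1674, [(1674, [])], 3174⟩]⟩,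
  ⟨[(o10, o10), (o0, o1), (o215, o215), (o1965, o82), (o256, o256), (o14, o14), (o12, o1073), (o243, o243)], 96, .node 4 96 [⟨o626, [(626, [])], 3173⟩]⟩,
  ⟨[(o10, o10), (o0, o1), (o215, o215), (o1965, o82), (o256, o256), (o14, o14), (o12, o1073), (o243, o243), (o154, o626)], 96, .bad [2, 3, 7, 3, 2] 82 82⟩,
  ⟨[(o10, o10), (o0, o1), (o215, o215), (o1965, o82), (o256, o256), (o14, o14), (o12, o1073), (o243, o1674)], 96, .node 4 96 [⟨o626, [(626, [])], 3175⟩]⟩,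
  ⟨[(o10, o10), (o0, o1), (o215, o215), (o1965, o82), (o256, o256), (o14, o14), (o12, o1073), (o243, o1674), (o154, o626)], 96, .conjw 2 [0, 7, 3, 2, 1, 0, 8, 4, 3, 7, 5, 2, 3, 4, 1, 2, 3, 7, 8, 6, 5, 4, 3, 7, 3, 4, 1, 2, 1]⟩,
  ⟨[(o10, o10), (o0, o1), (o215, o215), (o1965, o82), (o256, o256), (o14, o14), (o12, o1562)], 96, .node 4 96 [⟨o627, [(627, [])], 3177⟩,
      ⟨o1296, [(1296, [])], 3181⟩]⟩,
  ⟨[(o10, o10), (o0, o1), (o215, o215), (o1965, o82), (o256, o256), (o14, o14), (o12, o1562), (o154, o627)], 96, .node 7 96 [⟨o9, [(9, [])], 3178⟩,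
      ⟨o529, [(529, [])], 3179⟩,
      ⟨o629, [(629, [])], 3180⟩]⟩,
  ⟨[(o10, o10), (o0, o1), (o215, o215), (o1965, o82), (o256, o256), (o14, o14), (o12, o1562), (o154, o627), (o243, o9)], 96, .bad [7, 8, 7, 4] 627 82⟩,
  ⟨[(o10, o10), (o0, o1), (o215, o215), (o1965, o82), (o256, o256), (o14, o14), (o12, o1562), (o154, o627), (o243, o529)], 96, .bad [8, 4] 529 627⟩,
  ⟨[(o10, o10), (o0, o1), (o215, o215), (o1965, o82), (o256, o256), (o14, o14), (o12, o1562), (o154, o627), (o243, o629)], 96, .conjw 1 [0, 4, 3, 2, 1, 0, 5, 4, 3, 8, 7, 2, 3, 4, 1, 2, 3, 7, 8, 5, 4, 3, 7, 6, 3, 4, 5, 1, 2, 3, 4, 0, 1, 0]⟩,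
  ⟨[(o10, o10), (o0, o1), (o215, o215), (o1965, o82), (o256, o256), (o14, o14), (o12, o1562), (o154, o1296)], 96, .node 7 96 []⟩,
  ⟨[(o10, o10), (o0, o1), (o215, o215), (o1965, o82), (o256, o256), (o14, o14), (o12, o1635)], 96, .node 7 96 [⟨o9, [(9, [])], 3183⟩,
      ⟨o628, [(628, [])], 3185⟩]⟩,
  ⟨[(o10, o10), (o0, o1), (o215, o215), (o1965, o82), (o256, o256), (o14, o14), (o12, o1635), (o243, o9)], 96, .node 4 96 [⟨o487, [(487, [])], 3184⟩]⟩,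
  ⟨[(o10, o10), (o0, o1), (o215, o215), (o1965, o82), (o256, o256), (o14, o14), (o12, o1635), (o243, o9), (o154, o487)], 96, .conjw 2 [0, 4, 3, 2, 1, 0, 7, 3, 2, 1, 4, 5, 3, 4, 2, 3, 7, 8, 6, 5, 4, 3, 7, 4, 5, 2, 3, 4, 0, 1, 2, 0, 1, 0]⟩,
  ⟨[(o10, o10), (o0, o1), (o215, o215), (o1965, o82), (o256, o256), (o14, o14), (o12, o1635), (o243, o628)], 96, .node 4 96 [⟨o487, [(487, [])], 3186⟩]⟩,
  ⟨[(o10, o10), (o0, o1), (o215, o215), (o1965, o82), (o256, o256), (o14, o14), (o12, o1635), (o243, o628), (o154, o487)], 96, .bad [3, 7, 3] 1635 1635⟩,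
  ⟨[(o10, o10), (o0, o1), (o215, o215), (o1965, o82), (o256, o256), (o14, o14), (o12, o1636)], 96, .node 7 96 [⟨o243, [(243, [])], 3188⟩]⟩,
  ⟨[(o10, o10), (o0, o1), (o215, o215), (o1965, o82), (o256, o256), (o14, o14), (o12, o1636), (o243, o243)], 96, .node 4 96 [⟨o1296, [(1296, [])], 3189⟩]⟩,
  ⟨[(o10, o10), (o0, o1), (o215, o215), (o1965, o82), (o256, o256), (o14, o14), (o12, o1636), (o243, o243), (o154, o1296)], 96, .conjw 1 [0, 2, 1, 0, 4, 3, 2, 1, 7, 8, 7, 3, 4, 2, 3, 7, 8, 3, 4, 1, 2, 3, 7, 4, 5, 1, 2, 3, 4, 3, 2, 0, 1, 0]⟩,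
  ⟨[(o10, o10), (o0, o1), (o215, o215), (o1965, o82), (o256, o256), (o14, o14), (o12, o1716)], 96, .node 4 96 [⟨o487, [(487, [])], 3191⟩,
      ⟨o527, [(527, [])], 3192⟩,
      ⟨o626, [(626, [])], 3197⟩]⟩,
  ⟨[(o10, o10), (o0, o1), (o215, o215), (o1965, o82), (o256, o256), (o14, o14), (o12, o1716), (o154, o487)], 96, .node 7 96 []⟩,
  ⟨[(o10, o10), (o0, o1), (o215, o215), (o1965, o82), (o256, o256), (o14, o14), (o12, o1716), (o154, o527)], 96, .node 7 96 [⟨o244, [(244, [])], 3193⟩,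
      ⟨o529, [(529, [])], 3194⟩,
      ⟨o629, [(629, [])], 3195⟩,
      ⟨o1563, [(1563, [])], 3196⟩]⟩,
  ⟨[(o10, o10), (o0, o1), (o215, o215), (o1965, o82), (o256, o256), (o14, o14), (o12, o1716), (o154, o527), (o243, o244)], 96, .bad [7, 3] 244 1965⟩,
  ⟨[(o10, o10), (o0, o1), (o215, o215), (o1965, o82), (o256, o256), (o14, o14), (o12, o1716), (o154, o527), (o243, o529)], 96, .inner [8, 7, 4, 5, 2, 3, 4, 1, 2, 3, 7, 6, 3, 4, 5, 2, 3, 4, 1, 2, 3, 0, 1, 0, 2, 1, 0, 3, 2, 1, 4, 3, 2, 5, 4, 3, 6, 7, 3, 2, 1, 4, 3, 2, 5, 4, 7, 8]⟩,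
  ⟨[(o10, o10), (o0, o1), (o215, o215), (o1965, o82), (o256, o256), (o14, o14), (o12, o1716), (o154, o527), (o243, o629)], 96, .bad [2, 3, 2] 629 629⟩,
  ⟨[(o10, o10), (o0, o1), (o215, o215), (o1965, o82), (o256, o256), (o14, o14), (o12, o1716), (o154, o527), (o243, o1563)], 96, .conjw 2 [0, 4, 3, 2, 7, 3, 2, 8, 4, 3, 7, 1, 2, 3, 4, 0, 1, 2, 3, 7, 5, 1, 2, 3, 4, 3, 2, 0, 1, 0]⟩,
  ⟨[(o10, o10), (o0, o1), (o215, o215), (o1965, o82), (o256, o256), (o14, o14), (o12, o1716), (o154, o626)], 96, .node 7 96 []⟩,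
  ⟨[(o10, o10), (o0, o1), (o215, o215), (o1965, o562)], 93, .node 6 97 [⟨o8, [(8, []), (221, [o1965])], 3199⟩,
      ⟨o66, [(66, []), (245, [o1965])], 3213⟩,
      ⟨o987, [(987, []), (1763, [o1965])], 3227⟩,
      ⟨o1427, [(1427, []), (2179, [o1965])], 3235⟩]⟩,
  ⟨[(o10, o10), (o0, o1), (o215, o215), (o1965, o562), (o256, o8)], 97, .node 1 98 [⟨o14, [(14, [])], 3200⟩]⟩]

/-- Nodes. -/
def nd25 : List ONode := [
  ⟨[(o10, o10), (o0, o1), (o215, o215), (o1965, o562), (o256, o8), (o14, o14)], 98, .node 2 98 [⟨o103, [(103, [])], 3201⟩,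
      ⟨o142, [(142, [])], 3204⟩,
      ⟨o1373, [(1373, [])], 3207⟩,
      ⟨o1374, [(1374, [])], 3210⟩]⟩,
  ⟨[(o10, o10), (o0, o1), (o215, o215), (o1965, o562), (o256, o8), (o14, o14), (o12, o103)], 98, .node 7 98 [⟨o151, [(151, [])], 3202⟩]⟩,
  ⟨[(o10, o10), (o0, o1), (o215, o215), (o1965, o562), (o256, o8), (o14, o14), (o12, o103), (o243, o151)], 98, .node 4 98 [⟨o84, [(84, [])], 3203⟩]⟩,
  ⟨[(o10, o10), (o0, o1), (o215, o215), (o1965, o562), (o256, o8), (o14, o14), (o12, o103), (o243, o151), (o154, o84)], 98, .inner [4, 2, 3, 7, 5, 6, 4, 5, 2, 3, 4, 0, 1, 2, 3, 7, 1, 2, 3, 4, 5, 2, 3, 1, 0, 2, 4, 1, 3, 2, 5, 4, 3, 2, 1, 7, 3, 2, 1, 0, 4, 3, 2, 5, 4, 6, 5, 7, 3, 2, 4]⟩,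
  ⟨[(o10, o10), (o0, o1), (o215, o215), (o1965, o562), (o256, o8), (o14, o14), (o12, o142)], 98, .node 4 98 [⟨o161, [(161, [])], 3205⟩]⟩,
  ⟨[(o10, o10), (o0, o1), (o215, o215), (o1965, o562), (o256, o8), (o14, o14), (o12, o142), (o154, o161)], 98, .node 7 98 [⟨o85, [(85, [])], 3206⟩]⟩,
  ⟨[(o10, o10), (o0, o1), (o215, o215), (o1965, o562), (o256, o8), (o14, o14), (o12, o142), (o154, o161), (o243, o85)], 98, .inner [4, 2, 3, 7, 1, 2, 3, 4, 0, 1, 2, 3, 7, 5, 6, 1, 2, 3, 4, 5, 0, 1, 2, 3, 0, 1, 0, 2, 4, 1, 0, 3, 2, 1, 0, 5, 4, 3, 2, 1, 6, 5, 7, 3, 2, 1, 0, 4, 3, 2, 1, 7, 3, 2, 4]⟩,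
  ⟨[(o10, o10), (o0, o1), (o215, o215), (o1965, o562), (o256, o8), (o14, o14), (o12, o1373)], 98, .node 4 98 [⟨o1565, [(1565, [])], 3208⟩]⟩,
  ⟨[(o10, o10), (o0, o1), (o215, o215), (o1965, o562), (o256, o8), (o14, o14), (o12, o1373), (o154, o1565)], 98, .node 7 98 [⟨o1483, [(1483, [])], 3209⟩]⟩,
  ⟨[(o10, o10), (o0, o1), (o215, o215), (o1965, o562), (o256, o8), (o14, o14), (o12, o1373), (o154, o1565), (o243, o1483)], 98, .conjw 1 [0, 1, 2, 4, 3, 5, 4, 6, 7, 5, 3, 4, 2, 3, 7, 8, 7, 5, 3, 4, 2, 3, 7, 5, 4, 1, 2, 3, 0, 1, 2, 1, 0]⟩,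
  ⟨[(o10, o10), (o0, o1), (o215, o215), (o1965, o562), (o256, o8), (o14, o14), (o12, o1374)], 98, .node 7 98 [⟨o1566, [(1566, [])], 3211⟩]⟩,
  ⟨[(o10, o10), (o0, o1), (o215, o215), (o1965, o562), (o256, o8), (o14, o14), (o12, o1374), (o243, o1566)], 98, .node 4 98 [⟨o1412, [(1412, [])], 3212⟩]⟩,
  ⟨[(o10, o10), (o0, o1), (o215, o215), (o1965, o562), (o256, o8), (o14, o14), (o12, o1374), (o243, o1566), (o154, o1412)], 98, .conjw 2 [0, 2, 1, 0, 4, 7, 8, 5, 6, 3, 4, 5, 2, 3, 4, 1, 2, 3, 7, 6, 3, 4, 5, 2, 3, 4, 1, 0]⟩,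
  ⟨[(o10, o10), (o0, o1), (o215, o215), (o1965, o562), (o256, o66)], 97, .node 1 99 [⟨o14, [(14, [])], 3214⟩]⟩,
  ⟨[(o10, o10), (o0, o1), (o215, o215), (o1965, o562), (o256, o66), (o14, o14)], 99, .node 2 99 [⟨o103, [(103, [])], 3215⟩,
      ⟨o142, [(142, [])], 3218⟩,
      ⟨o1373, [(1373, [])], 3221⟩,
      ⟨o1374, [(1374, [])], 3224⟩]⟩,
  ⟨[(o10, o10), (o0, o1), (o215, o215), (o1965, o562), (o256, o66), (o14, o14), (o12, o103)], 99, .node 7 99 [⟨o151, [(151, [])], 3216⟩]⟩,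
  ⟨[(o10, o10), (o0, o1), (o215, o215), (o1965, o562), (o256, o66), (o14, o14), (o12, o103), (o243, o151)], 99, .node 4 99 [⟨o83, [(83, [])], 3217⟩]⟩,
  ⟨[(o10, o10), (o0, o1), (o215, o215), (o1965, o562), (o256, o66), (o14, o14), (o12, o103), (o243, o151), (o154, o83)], 99, .inner [7, 6, 4, 5, 2, 3, 4, 1, 2, 3, 7, 6, 2, 3, 4, 5, 4, 3, 0, 1, 0, 2, 4, 1, 0, 3, 4, 5, 4, 3, 2, 6, 7, 3, 2, 1, 4, 3, 2, 5, 4, 6, 7]⟩,
  ⟨[(o10, o10), (o0, o1), (o215, o215), (o1965, o562), (o256, o66), (o14, o14), (o12, o142)], 99, .node 4 99 [⟨o160, [(160, [])], 3219⟩]⟩,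
  ⟨[(o10, o10), (o0, o1), (o215, o215), (o1965, o562), (o256, o66), (o14, o14), (o12, o142), (o154, o160)], 99, .node 7 99 [⟨o85, [(85, [])], 3220⟩]⟩,
  ⟨[(o10, o10), (o0, o1), (o215, o215), (o1965, o562), (o256, o66), (o14, o14), (o12, o142), (o154, o160), (o243, o85)], 99, .inner [2, 8, 7, 3, 2, 1, 0, 4, 3, 2, 1, 5, 4, 3, 2, 7, 3, 4, 5, 2, 3, 4, 1, 2, 3, 7, 8, 7, 6, 5, 3, 4, 0, 1, 2, 3, 7, 4, 5, 4, 2, 3, 0, 1, 0, 2, 4, 1, 0, 3, 2, 4, 5, 4, 7, 3, 2, 1, 0, 4, 3, 5, 6, 7, 8, 7, 3, 2, 1, 4, 3, 2, 5, 4, 3, 7, 2, 3, 4, 5, 1, 2, 3, 4, 0, 1, 2, 3, 7, 8, 2]⟩,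
  ⟨[(o10, o10), (o0, o1), (o215, o215), (o1965, o562), (o256, o66), (o14, o14), (o12, o1373)], 99, .node 4 99 [⟨o1564, [(1564, [])], 3222⟩]⟩,
  ⟨[(o10, o10), (o0, o1), (o215, o215), (o1965, o562), (o256, o66), (o14, o14), (o12, o1373), (o154, o1564)], 99, .node 7 99 [⟨o1483, [(1483, [])], 3223⟩]⟩,
  ⟨[(o10, o10), (o0, o1), (o215, o215), (o1965, o562), (o256, o66), (o14, o14), (o12, o1373), (o154, o1564), (o243, o1483)], 99, .conjw 2 [0, 1, 4, 3, 2, 5, 4, 3, 6, 5, 4, 7, 8, 3, 7, 2, 3, 4, 1, 2, 3, 7, 8, 0, 1, 2, 3, 7, 5, 4, 3, 2, 1, 0]⟩,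
  ⟨[(o10, o10), (o0, o1), (o215, o215), (o1965, o562), (o256, o66), (o14, o14), (o12, o1374)], 99, .node 7 99 [⟨o1566, [(1566, [])], 3225⟩]⟩,
  ⟨[(o10, o10), (o0, o1), (o215, o215), (o1965, o562), (o256, o66), (o14, o14), (o12, o1374), (o243, o1566)], 99, .node 4 99 [⟨o1413, [(1413, [])], 3226⟩]⟩,
  ⟨[(o10, o10), (o0, o1), (o215, o215), (o1965, o562), (o256, o66), (o14, o14), (o12, o1374), (o243, o1566), (o154, o1413)], 99, .conjw 1 [0, 1, 4, 3, 2, 7, 3, 2, 4, 3, 5, 6, 8, 7, 3, 2, 4, 5, 3, 4, 1, 2, 3, 7, 8, 0, 1, 2, 3, 7, 6, 4, 5, 2, 3, 4, 1, 2, 0, 1, 0]⟩,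
  ⟨[(o10, o10), (o0, o1), (o215, o215), (o1965, o562), (o256, o987)], 97, .node 1 100 [⟨o14, [(14, [])], 3228⟩]⟩,
  ⟨[(o10, o10), (o0, o1), (o215, o215), (o1965, o562), (o256, o987), (o14, o14)], 100, .node 4 100 [⟨o1412, [(1412, [])], 3229⟩,
      ⟨o1565, [(1565, [])], 3232⟩]⟩,
  ⟨[(o10, o10), (o0, o1), (o215, o215), (o1965, o562), (o256, o987), (o14, o14), (o154, o1412)], 100, .node 7 100 [⟨o243, [(243, [])], 3230⟩]⟩,
  ⟨[(o10, o10), (o0, o1), (o215, o215), (o1965, o562), (o256, o987), (o14, o14), (o154, o1412), (o243, o243)], 100, .node 2 100 [⟨o2155, [(2155, [])], 3231⟩]⟩,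
  ⟨[(o10, o10), (o0, o1), (o215, o215), (o1965, o562), (o256, o987), (o14, o14), (o154, o1412), (o243, o243), (o12, o2155)], 100, .conjw 1 [0, 2, 1, 0, 6, 5, 4, 3, 8, 7, 2, 3, 4, 1, 2, 3, 7, 8, 7, 3, 4, 1, 2, 3, 7, 5, 4, 3, 0, 1, 2, 1, 0]⟩,
  ⟨[(o10, o10), (o0, o1), (o215, o215), (o1965, o562), (o256, o987), (o14, o14), (o154, o1565)], 100, .node 7 100 [⟨o9, [(9, [])], 3233⟩]⟩,
  ⟨[(o10, o10), (o0, o1), (o215, o215), (o1965, o562), (o256, o987), (o14, o14), (o154, o1565), (o243, o9)], 100, .node 2 100 [⟨o2178, [(2178, [])], 3234⟩]⟩,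
  ⟨[(o10, o10), (o0, o1), (o215, o215), (o1965, o562), (o256, o987), (o14, o14), (o154, o1565), (o243, o9), (o12, o2178)], 100, .conjw 2 [0, 2, 1, 3, 7, 2, 3, 4, 0, 1, 2, 3, 7, 8, 5, 4, 3, 7, 1, 2, 3, 4, 5, 1, 2, 0]⟩,
  ⟨[(o10, o10), (o0, o1), (o215, o215), (o1965, o562), (o256, o1427)], 97, .node 1 101 [⟨o14, [(14, [])], 3236⟩]⟩,
  ⟨[(o10, o10), (o0, o1), (o215, o215), (o1965, o562), (o256, o1427), (o14, o14)], 101, .node 4 101 [⟨o487, [(487, [])], 3237⟩,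
      ⟨o1296, [(1296, [])], 3240⟩]⟩,
  ⟨[(o10, o10), (o0, o1), (o215, o215), (o1965, o562), (o256, o1427), (o14, o14), (o154, o487)], 101, .node 7 101 [⟨o1483, [(1483, [])], 3238⟩]⟩,
  ⟨[(o10, o10), (o0, o1), (o215, o215), (o1965, o562), (o256, o1427), (o14, o14), (o154, o487), (o243, o1483)], 101, .node 2 101 [⟨o358, [(358, [])], 3239⟩]⟩,
  ⟨[(o10, o10), (o0, o1), (o215, o215), (o1965, o562), (o256, o1427), (o14, o14), (o154, o487), (o243, o1483), (o12, o358)], 101, .conjw 2 [0, 4, 3, 2, 1, 0, 5, 4, 7, 8, 3, 7, 2, 3, 4, 1, 2, 3, 7, 8, 5, 4, 3, 7, 3, 4, 5, 0, 1, 2, 0]⟩,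
  ⟨[(o10, o10), (o0, o1), (o215, o215), (o1965, o562), (o256, o1427), (o14, o14), (o154, o1296)], 101, .node 7 101 [⟨o1566, [(1566, [])], 3241⟩]⟩,
  ⟨[(o10, o10), (o0, o1), (o215, o215), (o1965, o562), (o256, o1427), (o14, o14), (o154, o1296), (o243, o1566)], 101, .node 2 101 [⟨o357, [(357, [])], 3242⟩]⟩,
  ⟨[(o10, o10), (o0, o1), (o215, o215), (o1965, o562), (o256, o1427), (o14, o14), (o154, o1296), (o243, o1566), (o12, o357)], 101, .conjw 1 [0, 2, 1, 8, 3, 7, 2, 3, 4, 0, 1, 2, 3, 7, 8, 5, 4, 3, 7, 1, 2, 3, 4, 5, 1, 2, 0]⟩,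
  ⟨[(o10, o10), (o0, o1), (o215, o215), (o1965, o1965)], 93, .node 6 102 [⟨o251, [(251, [])], 3244⟩,
      ⟨o256, [(256, [])], 3289⟩,
      ⟨o287, [(287, []), (485, [o215, o1567, o8, o256, o1763, o315, o82, o1585]), (2150, [o562, o1567, o152, o162, o1464, o2179])], 3334⟩,
      ⟨o363, [(363, []), (486, [o215, o1567, o8, o256, o1763, o315, o82, o1585]), (2149, [o562, o1567, o152, o162, o1464, o2179])], 3359⟩]⟩,
  ⟨[(o10, o10), (o0, o1), (o215, o215), (o1965, o1965), (o256, o251)], 102, .node 1 103 [⟨o14, [(14, [])], 3245⟩,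
      ⟨o1099, [(1099, []), (1168, [o215, o1567, o8, o256, o1763, o315, o82, o1585]), (2769, [o562, o1567, o152, o162, o1464, o2179])], 3288⟩]⟩,
  ⟨[(o10, o10), (o0, o1), (o215, o215), (o1965, o1965), (o256, o251), (o14, o14)], 103, .node 2 103 [⟨o13, [(13, [])], 3246⟩,
      ⟨o91, [(91, [])], 3254⟩,
      ⟨o679, [(679, [])], 3262⟩,
      ⟨o680, [(680, [])], 3267⟩,
      ⟨o2632, [(2632, [])], 3275⟩,
      ⟨o2658, [(2658, [])], 3280⟩]⟩,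
  ⟨[(o10, o10), (o0, o1), (o215, o215), (o1965, o1965), (o256, o251), (o14, o14), (o12, o13)], 103, .node 4 103 [⟨o155, [(155, [])], 3247⟩,
      ⟨o430, [(430, [])], 3252⟩,
      ⟨o524, [(524, [])], 3253⟩]⟩,
  ⟨[(o10, o10), (o0, o1), (o215, o215), (o1965, o1965), (o256, o251), (o14, o14), (o12, o13), (o154, o155)], 103, .node 7 103 [⟨o243, [(243, [])], 3248⟩,
      ⟨o253, [(253, [])], 3249⟩,
      ⟨o1674, [(1674, [])], 3250⟩,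
      ⟨o1766, [(1766, [])], 3251⟩]⟩,
  ⟨[(o10, o10), (o0, o1), (o215, o215), (o1965, o1965), (o256, o251), (o14, o14), (o12, o13), (o154, o155), (o243, o243)], 103, .inner [4, 5, 3, 4, 0, 1, 2, 3, 0, 2, 3, 2, 1, 0, 4, 3, 5, 4]⟩,
  ⟨[(o10, o10), (o0, o1), (o215, o215), (o1965, o1965), (o256, o251), (o14, o14), (o12, o13), (o154, o155), (o243, o253)], 103, .inner [7, 8, 3, 7, 0, 1, 2, 3, 4, 5, 0, 2, 4, 5, 4, 3, 2, 1, 0, 7, 3, 8, 7]⟩,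
  ⟨[(o10, o10), (o0, o1), (o215, o215), (o1965, o1965), (o256, o251), (o14, o14), (o12, o13), (o154, o155), (o243, o1674)], 103, .conjw 1 [2, 1, 3, 4, 3, 2, 7, 3, 2, 4, 3, 5, 4, 6, 5, 7, 3, 4, 2, 3, 7, 8, 7, 3, 4, 5, 1, 2, 3, 4, 0, 1, 2, 3, 7, 6, 5, 3, 4, 2, 1]⟩,
  ⟨[(o10, o10), (o0, o1), (o215, o215), (o1965, o1965), (o256, o251), (o14, o14), (o12, o13), (o154, o155), (o243, o1766)], 103, .conjw 2 [0, 2, 3, 4, 3, 7, 8, 3, 7, 5, 6, 4, 5, 3, 4, 2, 3, 7, 8, 1, 2, 3, 7, 4, 3, 1, 2, 1]⟩,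
  ⟨[(o10, o10), (o0, o1), (o215, o215), (o1965, o1965), (o256, o251), (o14, o14), (o12, o13), (o154, o430)], 103, .node 7 103 []⟩,
  ⟨[(o10, o10), (o0, o1), (o215, o215), (o1965, o1965), (o256, o251), (o14, o14), (o12, o13), (o154, o524)], 103, .node 7 103 []⟩,
  ⟨[(o10, o10), (o0, o1), (o215, o215), (o1965, o1965), (o256, o251), (o14, o14), (o12, o91)], 103, .node 4 103 [⟨o149, [(149, [])], 3255⟩,
      ⟨o429, [(429, [])], 3260⟩,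
      ⟨o859, [(859, [])], 3261⟩]⟩,
  ⟨[(o10, o10), (o0, o1), (o215, o215), (o1965, o1965), (o256, o251), (o14, o14), (o12, o91), (o154, o149)], 103, .node 7 103 [⟨o9, [(9, [])], 3256⟩,
      ⟨o244, [(244, [])], 3257⟩,
      ⟨o629, [(629, [])], 3258⟩,
      ⟨o1765, [(1765, [])], 3259⟩]⟩,
  ⟨[(o10, o10), (o0, o1), (o215, o215), (o1965, o1965), (o256, o251), (o14, o14), (o12, o91), (o154, o149), (o243, o9)], 103, .inner [0, 1, 2, 3, 4, 5, 0, 2, 4, 5, 4, 3, 2, 1, 0]⟩,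
  ⟨[(o10, o10), (o0, o1), (o215, o215), (o1965, o1965), (o256, o251), (o14, o14), (o12, o91), (o154, o149), (o243, o244)], 103, .inner [0, 1, 2, 1, 0, 3, 4, 7, 8, 3, 4, 2, 3, 7, 3, 4, 5, 1, 2, 3, 4, 0, 1, 2, 3, 7, 3, 4, 5, 4, 2, 3, 0, 1, 0, 2, 4, 1, 0, 3, 2, 4, 5, 4, 3, 7, 3, 2, 1, 0, 4, 3, 2, 1, 5, 4, 3, 7, 3, 2, 4, 3, 8, 7, 4, 3, 0, 1, 2, 1, 0]⟩,
  ⟨[(o10, o10), (o0, o1), (o215, o215), (o1965, o1965), (o256, o251), (o14, o14), (o12, o91), (o154, o149), (o243, o629)], 103, .conjw 2 [6, 4, 5, 2, 3, 4, 0, 1, 2, 0, 1, 0]⟩,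
  ⟨[(o10, o10), (o0, o1), (o215, o215), (o1965, o1965), (o256, o251), (o14, o14), (o12, o91), (o154, o149), (o243, o1765)], 103, .conjw 1 [6, 4, 5, 2, 3, 4, 0, 1, 2, 0, 1, 0]⟩,
  ⟨[(o10, o10), (o0, o1), (o215, o215), (o1965, o1965), (o256, o251), (o14, o14), (o12, o91), (o154, o429)], 103, .node 7 103 []⟩,
  ⟨[(o10, o10), (o0, o1), (o215, o215), (o1965, o1965), (o256, o251), (o14, o14), (o12, o91), (o154, o859)], 103, .node 7 103 []⟩,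
  ⟨[(o10, o10), (o0, o1), (o215, o215), (o1965, o1965), (o256, o251), (o14, o14), (o12, o679)], 103, .node 7 103 [⟨o529, [(529, [])], 3263⟩,
      ⟨o628, [(628, [])], 3265⟩]⟩,
  ⟨[(o10, o10), (o0, o1), (o215, o215), (o1965, o1965), (o256, o251), (o14, o14), (o12, o679), (o243, o529)], 103, .node 4 103 [⟨o859, [(859, [])], 3264⟩]⟩,
  ⟨[(o10, o10), (o0, o1), (o215, o215), (o1965, o1965), (o256, o251), (o14, o14), (o12, o679), (o243, o529), (o154, o859)], 103, .conjw 1 [2, 1, 7, 3, 2, 1, 4, 3, 2, 5, 4, 6, 5, 7, 3, 2, 8, 7, 3, 4, 2, 3, 7, 8, 1, 2, 3, 7, 5, 6, 4, 5, 3, 4, 2, 3, 7, 3, 4, 0, 1, 2, 1]⟩,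
  ⟨[(o10, o10), (o0, o1), (o215, o215), (o1965, o1965), (o256, o251), (o14, o14), (o12, o679), (o243, o628)], 103, .node 4 103 [⟨o859, [(859, [])], 3266⟩]⟩,
  ⟨[(o10, o10), (o0, o1), (o215, o215), (o1965, o1965), (o256, o251), (o14, o14), (o12, o679), (o243, o628), (o154, o859)], 103, .conjw 2 [7, 8, 3, 7, 6, 4, 5, 2, 3, 4, 0, 1, 2, 0, 1, 0]⟩,
  ⟨[(o10, o10), (o0, o1), (o215, o215), (o1965, o1965), (o256, o251), (o14, o14), (o12, o680)], 103, .node 4 103 [⟨o155, [(155, [])], 3268⟩,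
      ⟨o430, [(430, [])], 3269⟩,
      ⟨o524, [(524, [])], 3270⟩]⟩,
  ⟨[(o10, o10), (o0, o1), (o215, o215), (o1965, o1965), (o256, o251), (o14, o14), (o12, o680), (o154, o155)], 103, .node 7 103 []⟩,
  ⟨[(o10, o10), (o0, o1), (o215, o215), (o1965, o1965), (o256, o251), (o14, o14), (o12, o680), (o154, o430)], 103, .node 7 103 []⟩,
  ⟨[(o10, o10), (o0, o1), (o215, o215), (o1965, o1965), (o256, o251), (o14, o14), (o12, o680), (o154, o524)], 103, .node 7 103 [⟨o629, [(629, [])], 3271⟩,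
      ⟨o1297, [(1297, [])], 3272⟩,
      ⟨o1563, [(1563, [])], 3273⟩,
      ⟨o1765, [(1765, [])], 3274⟩]⟩,
  ⟨[(o10, o10), (o0, o1), (o215, o215), (o1965, o1965), (o256, o251), (o14, o14), (o12, o680), (o154, o524), (o243, o629)], 103, .bad [2, 3, 2] 629 629⟩,
  ⟨[(o10, o10), (o0, o1), (o215, o215), (o1965, o1965), (o256, o251), (o14, o14), (o12, o680), (o154, o524), (o243, o1297)], 103, .conjw 2 [0, 2, 3, 6, 7, 3, 2, 4, 3, 8, 7, 5, 6, 4, 5, 3, 4, 2, 3, 7, 8, 1, 2, 3, 7, 5, 3, 4, 3, 2, 1, 0]⟩,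
  ⟨[(o10, o10), (o0, o1), (o215, o215), (o1965, o1965), (o256, o251), (o14, o14), (o12, o680), (o154, o524), (o243, o1563)], 103, .conjw 1 [7, 8, 3, 7, 6, 4, 5, 2, 3, 4, 0, 1, 2, 0, 1, 0]⟩,
  ⟨[(o10, o10), (o0, o1), (o215, o215), (o1965, o1965), (o256, o251), (o14, o14), (o12, o680), (o154, o524), (o243, o1765)], 103, .bad [2, 3, 2] 1765 1765⟩,
  ⟨[(o10, o10), (o0, o1), (o215, o215), (o1965, o1965), (o256, o251), (o14, o14), (o12, o2632)], 103, .node 7 103 [⟨o243, [(243, [])], 3276⟩,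
      ⟨o253, [(253, [])], 3278⟩]⟩,
  ⟨[(o10, o10), (o0, o1), (o215, o215), (o1965, o1965), (o256, o251), (o14, o14), (o12, o2632), (o243, o243)], 103, .node 4 103 [⟨o429, [(429, [])], 3277⟩]⟩,
  ⟨[(o10, o10), (o0, o1), (o215, o215), (o1965, o1965), (o256, o251), (o14, o14), (o12, o2632), (o243, o243), (o154, o429)], 103, .conjw 2 [0, 2, 1, 0, 3, 2, 1, 4, 3, 2, 1, 0, 5, 4, 6, 5, 3, 4, 2, 3, 7, 8, 1, 2, 3, 7, 4, 5, 1, 2, 3, 4, 1, 2, 0, 1, 0]⟩,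
  ⟨[(o10, o10), (o0, o1), (o215, o215), (o1965, o1965), (o256, o251), (o14, o14), (o12, o2632), (o243, o253)], 103, .node 4 103 [⟨o429, [(429, [])], 3279⟩]⟩,
  ⟨[(o10, o10), (o0, o1), (o215, o215), (o1965, o1965), (o256, o251), (o14, o14), (o12, o2632), (o243, o253), (o154, o429)], 103, .conjw 1 [0, 6, 7, 3, 2, 1, 0, 4, 5, 6, 8, 7, 3, 2, 1, 0, 4, 5, 3, 4, 2, 3, 7, 8, 6, 5, 4, 1, 2, 3, 7, 4, 5, 2, 3, 4, 1, 2, 0, 1, 0]⟩,
  ⟨[(o10, o10), (o0, o1), (o215, o215), (o1965, o1965), (o256, o251), (o14, o14), (o12, o2658)], 103, .node 4 103 [⟨o155, [(155, [])], 3281⟩,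
      ⟨o430, [(430, [])], 3282⟩,
      ⟨o524, [(524, [])], 3287⟩]⟩,
  ⟨[(o10, o10), (o0, o1), (o215, o215), (o1965, o1965), (o256, o251), (o14, o14), (o12, o2658), (o154, o155)], 103, .node 7 103 []⟩,
  ⟨[(o10, o10), (o0, o1), (o215, o215), (o1965, o1965), (o256, o251), (o14, o14), (o12, o2658), (o154, o430)], 103, .node 7 103 [⟨o9, [(9, [])], 3283⟩,
      ⟨o244, [(244, [])], 3284⟩,
      ⟨o529, [(529, [])], 3285⟩,
      ⟨o628, [(628, [])], 3286⟩]⟩,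
  ⟨[(o10, o10), (o0, o1), (o215, o215), (o1965, o1965), (o256, o251), (o14, o14), (o12, o2658), (o154, o430), (o243, o9)], 103, .conjw 1 [0, 2, 1, 0, 3, 2, 1, 4, 3, 2, 1, 0, 5, 6, 4, 5, 3, 4, 2, 3, 7, 8, 1, 2, 3, 7, 4, 5, 1, 2, 3, 4, 1, 2, 0, 1, 0]⟩,
  ⟨[(o10, o10), (o0, o1), (o215, o215), (o1965, o1965), (o256, o251), (o14, o14), (o12, o2658), (o154, o430), (o243, o244)], 103, .conjw 2 [0, 2, 1, 3, 2, 6, 7, 3, 2, 4, 8, 7, 5, 6, 3, 4, 5, 2, 3, 4, 1, 2, 3, 7, 3, 4, 2, 3, 0, 1, 2, 0, 1, 0]⟩,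
  ⟨[(o10, o10), (o0, o1), (o215, o215), (o1965, o1965), (o256, o251), (o14, o14), (o12, o2658), (o154, o430), (o243, o529)], 103, .bad [3, 7, 3] 2658 2658⟩,
  ⟨[(o10, o10), (o0, o1), (o215, o215), (o1965, o1965), (o256, o251), (o14, o14), (o12, o2658), (o154, o430), (o243, o628)], 103, .bad [3, 7, 3] 2658 2658⟩,
  ⟨[(o10, o10), (o0, o1), (o215, o215), (o1965, o1965), (o256, o251), (o14, o14), (o12, o2658), (o154, o524)], 103, .node 7 103 []⟩,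
  ⟨[(o10, o10), (o0, o1), (o215, o215), (o1965, o1965), (o256, o251), (o14, o1099)], 103, .node 4 103 []⟩,
  ⟨[(o10, o10), (o0, o1), (o215, o215), (o1965, o1965), (o256, o256)], 102, .node 1 104 [⟨o14, [(14, [])], 3290⟩,
      ⟨o1099, [(1099, []), (1168, [o8, o256, o1763, o315, o1588, o384, o1981, o1567]), (2769, [o562, o1567, o152, o162, o1464, o2179])], 3333⟩]⟩,
  ⟨[(o10, o10), (o0, o1), (o215, o215), (o1965, o1965), (o256, o256), (o14, o14)], 104, .node 2 104 [⟨o13, [(13, [])], 3291⟩,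
      ⟨o91, [(91, [])], 3299⟩,
      ⟨o679, [(679, [])], 3307⟩,
      ⟨o680, [(680, [])], 3312⟩,
      ⟨o2632, [(2632, [])], 3320⟩,
      ⟨o2658, [(2658, [])], 3325⟩]⟩,
  ⟨[(o10, o10), (o0, o1), (o215, o215), (o1965, o1965), (o256, o256), (o14, o14), (o12, o13)], 104, .node 4 104 [⟨o154, [(154, [])], 3292⟩,
      ⟨o316, [(316, [])], 3297⟩,
      ⟨o525, [(525, [])], 3298⟩]⟩,
  ⟨[(o10, o10), (o0, o1), (o215, o215), (o1965, o1965), (o256, o256), (o14, o14), (o12, o13), (o154, o154)], 104, .node 7 104 [⟨o243, [(243, [])], 3293⟩,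
      ⟨o253, [(253, [])], 3294⟩,
      ⟨o1674, [(1674, [])], 3295⟩,
      ⟨o1766, [(1766, [])], 3296⟩]⟩,
  ⟨[(o10, o10), (o0, o1), (o215, o215), (o1965, o1965), (o256, o256), (o14, o14), (o12, o13), (o154, o154), (o243, o243)], 104, .inner [0, 1, 0, 1, 0]⟩,
  ⟨[(o10, o10), (o0, o1), (o215, o215), (o1965, o1965), (o256, o256), (o14, o14), (o12, o13), (o154, o154), (o243, o253)], 104, .inner [7, 8, 3, 7, 0, 1, 2, 3, 0, 2, 3, 2, 1, 0, 7, 3, 8, 7]⟩,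
  ⟨[(o10, o10), (o0, o1), (o215, o215), (o1965, o1965), (o256, o256), (o14, o14), (o12, o13), (o154, o154), (o243, o1674)], 104, .conjw 2 [0, 2, 7, 3, 2, 1, 0, 4, 3, 2, 1, 8, 7, 3, 2, 4, 3, 7, 8, 5, 6, 4, 5, 3, 4, 2, 3, 7, 3, 4, 5, 1, 2, 3, 4, 0, 1, 0]⟩,
  ⟨[(o10, o10), (o0, o1), (o215, o215), (o1965, o1965), (o256, o256), (o14, o14), (o12, o13), (o154, o154), (o243, o1766)], 104, .conjw 1 [0, 1, 7, 3, 2, 4, 3, 8, 7, 3, 2, 1, 0, 4, 3, 2, 1, 5, 4, 6, 5, 3, 4, 2, 3, 7, 8, 3, 4, 2, 3, 7, 5, 1, 2, 3, 4, 2, 3, 1, 2, 0, 1, 0]⟩,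
  ⟨[(o10, o10), (o0, o1), (o215, o215), (o1965, o1965), (o256, o256), (o14, o14), (o12, o13), (o154, o316)], 104, .node 7 104 []⟩,
  ⟨[(o10, o10), (o0, o1), (o215, o215), (o1965, o1965), (o256, o256), (o14, o14), (o12, o13), (o154, o525)], 104, .node 7 104 []⟩,
  ⟨[(o10, o10), (o0, o1), (o215, o215), (o1965, o1965), (o256, o256), (o14, o14), (o12, o91)], 104, .node 4 104 [⟨o67, [(67, [])], 3300⟩,
      ⟨o317, [(317, [])], 3305⟩,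
      ⟨o1976, [(1976, [])], 3306⟩]⟩,
  ⟨[(o10, o10), (o0, o1), (o215, o215), (o1965, o1965), (o256, o256), (o14, o14), (o12, o91), (o154, o67)], 104, .node 7 104 [⟨o9, [(9, [])], 3301⟩,
      ⟨o244, [(244, [])], 3302⟩,
      ⟨o629, [(629, [])], 3303⟩,
      ⟨o1765, [(1765, [])], 3304⟩]⟩,
  ⟨[(o10, o10), (o0, o1), (o215, o215), (o1965, o1965), (o256, o256), (o14, o14), (o12, o91), (o154, o67), (o243, o9)], 104, .inner [0, 1, 2, 3, 0, 2, 3, 2, 1, 0]⟩,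
  ⟨[(o10, o10), (o0, o1), (o215, o215), (o1965, o1965), (o256, o256), (o14, o14), (o12, o91), (o154, o67), (o243, o244)], 104, .inner [4, 3, 7, 8, 5, 4, 3, 7, 0, 1, 2, 3, 4, 5, 0, 2, 4, 5, 4, 3, 2, 1, 0, 7, 3, 4, 5, 8, 7, 3, 4]⟩,
  ⟨[(o10, o10), (o0, o1), (o215, o215), (o1965, o1965), (o256, o256), (o14, o14), (o12, o91), (o154, o67), (o243, o629)], 104, .conjw 1 [2, 1, 4, 3, 7, 3, 2, 1, 0, 4, 3, 2, 1, 7, 3, 4, 2, 3, 7, 8, 7, 5, 6, 3, 4, 5, 2, 3, 4, 1, 2, 3, 7, 3, 4, 0, 1, 2, 1]⟩,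
  ⟨[(o10, o10), (o0, o1), (o215, o215), (o1965, o1965), (o256, o256), (o14, o14), (o12, o91), (o154, o67), (o243, o1765)], 104, .conjw 2 [0, 2, 1, 0, 4, 7, 8, 3, 7, 5, 2, 3, 4, 1, 2, 3, 7, 8, 6, 5, 4, 3, 7, 2, 3, 4, 2, 1]⟩,
  ⟨[(o10, o10), (o0, o1), (o215, o215), (o1965, o1965), (o256, o256), (o14, o14), (o12, o91), (o154, o317)], 104, .node 7 104 []⟩,
  ⟨[(o10, o10), (o0, o1), (o215, o215), (o1965, o1965), (o256, o256), (o14, o14), (o12, o91), (o154, o1976)], 104, .node 7 104 []⟩,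
  ⟨[(o10, o10), (o0, o1), (o215, o215), (o1965, o1965), (o256, o256), (o14, o14), (o12, o679)], 104, .node 7 104 [⟨o529, [(529, [])], 3308⟩,
      ⟨o628, [(628, [])], 3310⟩]⟩,
  ⟨[(o10, o10), (o0, o1), (o215, o215), (o1965, o1965), (o256, o256), (o14, o14), (o12, o679), (o243, o529)], 104, .node 4 104 [⟨o1976, [(1976, [])], 3309⟩]⟩,
  ⟨[(o10, o10), (o0, o1), (o215, o215), (o1965, o1965), (o256, o256), (o14, o14), (o12, o679), (o243, o529), (o154, o1976)], 104, .conjw 2 [0, 2, 1, 0, 4, 3, 2, 1, 7, 3, 2, 1, 4, 3, 7, 8, 5, 6, 4, 5, 3, 4, 2, 3, 7, 3, 4, 5, 1, 2, 3, 4, 2, 0, 1, 0]⟩,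
  ⟨[(o10, o10), (o0, o1), (o215, o215), (o1965, o1965), (o256, o256), (o14, o14), (o12, o679), (o243, o628)], 104, .node 4 104 [⟨o1976, [(1976, [])], 3311⟩]⟩,
  ⟨[(o10, o10), (o0, o1), (o215, o215), (o1965, o1965), (o256, o256), (o14, o14), (o12, o679), (o243, o628), (o154, o1976)], 104, .conjw 1 [0, 2, 1, 0, 3, 2, 1, 4, 3, 2, 7, 3, 2, 8, 7, 4, 5, 3, 4, 2, 3, 7, 8, 6, 5, 4, 3, 7, 1, 2, 3, 4, 3, 1, 2, 0, 1, 0]⟩,
  ⟨[(o10, o10), (o0, o1), (o215, o215), (o1965, o1965), (o256, o256), (o14, o14), (o12, o680)], 104, .node 4 104 [⟨o154, [(154, [])], 3313⟩,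
      ⟨o316, [(316, [])], 3314⟩,
      ⟨o525, [(525, [])], 3315⟩]⟩,
  ⟨[(o10, o10), (o0, o1), (o215, o215), (o1965, o1965), (o256, o256), (o14, o14), (o12, o680), (o154, o154)], 104, .node 7 104 []⟩,
  ⟨[(o10, o10), (o0, o1), (o215, o215), (o1965, o1965), (o256, o256), (o14, o14), (o12, o680), (o154, o316)], 104, .node 7 104 []⟩,
  ⟨[(o10, o10), (o0, o1), (o215, o215), (o1965, o1965), (o256, o256), (o14, o14), (o12, o680), (o154, o525)], 104, .node 7 104 [⟨o629, [(629, [])], 3316⟩,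
      ⟨o1297, [(1297, [])], 3317⟩,
      ⟨o1563, [(1563, [])], 3318⟩,
      ⟨o1765, [(1765, [])], 3319⟩]⟩,
  ⟨[(o10, o10), (o0, o1), (o215, o215), (o1965, o1965), (o256, o256), (o14, o14), (o12, o680), (o154, o525), (o243, o629)], 104, .bad [2, 3, 2] 629 629⟩,
  ⟨[(o10, o10), (o0, o1), (o215, o215), (o1965, o1965), (o256, o256), (o14, o14), (o12, o680), (o154, o525), (o243, o1297)], 104, .conjw 1 [0, 1, 2, 3, 4, 3, 2, 1, 0, 5, 6, 7, 3, 2, 1, 4, 5, 3, 4, 2, 3, 7, 8, 3, 4, 2, 3, 7, 5, 1, 2, 3, 4, 2, 3, 1, 2, 0, 1, 0]⟩,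
  ⟨[(o10, o10), (o0, o1), (o215, o215), (o1965, o1965), (o256, o256), (o14, o14), (o12, o680), (o154, o525), (o243, o1563)], 104, .conjw 2 [0, 7, 3, 2, 1, 4, 3, 7, 5, 2, 3, 4, 0, 1, 2, 3, 7, 8, 6, 5, 4, 3, 7, 2, 3, 4, 2, 1]⟩,
  ⟨[(o10, o10), (o0, o1), (o215, o215), (o1965, o1965), (o256, o256), (o14, o14), (o12, o680), (o154, o525), (o243, o1765)], 104, .bad [2, 3, 2] 1765 1765⟩,
  ⟨[(o10, o10), (o0, o1), (o215, o215), (o1965, o1965), (o256, o256), (o14, o14), (o12, o2632)], 104, .node 7 104 [⟨o243, [(243, [])], 3321⟩,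
      ⟨o253, [(253, [])], 3323⟩]⟩,
  ⟨[(o10, o10), (o0, o1), (o215, o215), (o1965, o1965), (o256, o256), (o14, o14), (o12, o2632), (o243, o243)], 104, .node 4 104 [⟨o317, [(317, [])], 3322⟩]⟩,
  ⟨[(o10, o10), (o0, o1), (o215, o215), (o1965, o1965), (o256, o256), (o14, o14), (o12, o2632), (o243, o243), (o154, o317)], 104, .conjw 1 [0, 4, 3, 2, 1, 0, 5, 4, 6, 5, 7, 3, 2, 1, 4, 8, 7, 3, 4, 2, 3, 7, 8, 3, 4, 1, 2, 3, 7, 5, 3, 4, 2, 3, 0, 1, 2, 0, 1, 0]⟩,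
  ⟨[(o10, o10), (o0, o1), (o215, o215), (o1965, o1965), (o256, o256), (o14, o14), (o12, o2632), (o243, o253)], 104, .node 4 104 [⟨o317, [(317, [])], 3324⟩]⟩,
  ⟨[(o10, o10), (o0, o1), (o215, o215), (o1965, o1965), (o256, o256), (o14, o14), (o12, o2632), (o243, o253), (o154, o317)], 104, .conjw 2 [0, 1, 2, 3, 4, 3, 2, 7, 3, 2, 1, 8, 7, 3, 4, 2, 3, 7, 8, 0, 1, 2, 3, 7, 5, 1, 2, 3, 4, 3, 2, 0, 1, 0]⟩,
  ⟨[(o10, o10), (o0, o1), (o215, o215), (o1965, o1965), (o256, o256), (o14, o14), (o12, o2658)], 104, .node 4 104 [⟨o154, [(154, [])], 3326⟩,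
      ⟨o316, [(316, [])], 3327⟩,
      ⟨o525, [(525, [])], 3332⟩]⟩,
  ⟨[(o10, o10), (o0, o1), (o215, o215), (o1965, o1965), (o256, o256), (o14, o14), (o12, o2658), (o154, o154)], 104, .node 7 104 []⟩,
  ⟨[(o10, o10), (o0, o1), (o215, o215), (o1965, o1965), (o256, o256), (o14, o14), (o12, o2658), (o154, o316)], 104, .node 7 104 [⟨o9, [(9, [])], 3328⟩,
      ⟨o244, [(244, [])], 3329⟩,
      ⟨o529, [(529, [])], 3330⟩,
      ⟨o628, [(628, [])], 3331⟩]⟩]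

/-- Nodes. -/
def nd26 : List ONode := [
  ⟨[(o10, o10), (o0, o1), (o215, o215), (o1965, o1965), (o256, o256), (o14, o14), (o12, o2658), (o154, o316), (o243, o9)], 104, .conjw 2 [0, 1, 2, 3, 4, 3, 7, 3, 2, 1, 8, 7, 3, 4, 2, 3, 7, 8, 0, 1, 2, 3, 7, 5, 4, 1, 2, 3, 0, 1, 2, 0, 1, 0]⟩,
  ⟨[(o10, o10), (o0, o1), (o215, o215), (o1965, o1965), (o256, o256), (o14, o14), (o12, o2658), (o154, o316), (o243, o244)], 104, .conjw 1 [0, 1, 2, 3, 4, 3, 2, 7, 3, 8, 7, 4, 5, 3, 4, 2, 3, 7, 8, 6, 5, 4, 3, 7, 5, 4, 1, 2, 3, 0, 1, 2, 1, 0]⟩,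
  ⟨[(o10, o10), (o0, o1), (o215, o215), (o1965, o1965), (o256, o256), (o14, o14), (o12, o2658), (o154, o316), (o243, o529)], 104, .bad [3, 7, 3] 2658 2658⟩,
  ⟨[(o10, o10), (o0, o1), (o215, o215), (o1965, o1965), (o256, o256), (o14, o14), (o12, o2658), (o154, o316), (o243, o628)], 104, .bad [3, 7, 3] 2658 2658⟩,
  ⟨[(o10, o10), (o0, o1), (o215, o215), (o1965, o1965), (o256, o256), (o14, o14), (o12, o2658), (o154, o525)], 104, .node 7 104 []⟩,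
  ⟨[(o10, o10), (o0, o1), (o215, o215), (o1965, o1965), (o256, o256), (o14, o1099)], 104, .node 4 104 []⟩,
  ⟨[(o10, o10), (o0, o1), (o215, o215), (o1965, o1965), (o256, o287)], 102, .node 1 105 [⟨o14, [(14, [])], 3335⟩,
      ⟨o1099, [(1099, [])], 3356⟩,
      ⟨o1168, [(1168, [])], 3357⟩,
      ⟨o2769, [(2769, [])], 3358⟩]⟩,
  ⟨[(o10, o10), (o0, o1), (o215, o215), (o1965, o1965), (o256, o287), (o14, o14)], 105, .node 4 105 [⟨o902, [(902, [])], 3336⟩,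
      ⟨o1294, [(1294, [])], 3341⟩,
      ⟨o1442, [(1442, [])], 3346⟩,
      ⟨o1529, [(1529, [])], 3351⟩]⟩,
  ⟨[(o10, o10), (o0, o1), (o215, o215), (o1965, o1965), (o256, o287), (o14, o14), (o154, o902)], 105, .node 7 105 [⟨o9, [(9, [])], 3337⟩,
      ⟨o244, [(244, [])], 3339⟩]⟩,
  ⟨[(o10, o10), (o0, o1), (o215, o215), (o1965, o1965), (o256, o287), (o14, o14), (o154, o902), (o243, o9)], 105, .node 2 105 [⟨o3467, [(3467, [])], 3338⟩]⟩,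
  ⟨[(o10, o10), (o0, o1), (o215, o215), (o1965, o1965), (o256, o287), (o14, o14), (o154, o902), (o243, o9), (o12, o3467)], 105, .conjw 1 [4, 3, 7, 3, 2, 1, 0, 4, 3, 2, 1, 5, 4, 7, 3, 4, 8, 7, 3, 4, 2, 3, 7, 8, 1, 2, 3, 7, 5, 6, 4, 5, 3, 4, 2, 3, 7, 3, 4, 0, 1, 2, 1]⟩,
  ⟨[(o10, o10), (o0, o1), (o215, o215), (o1965, o1965), (o256, o287), (o14, o14), (o154, o902), (o243, o244)], 105, .node 2 105 [⟨o3467, [(3467, [])], 3340⟩]⟩,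
  ⟨[(o10, o10), (o0, o1), (o215, o215), (o1965, o1965), (o256, o287), (o14, o14), (o154, o902), (o243, o244), (o12, o3467)], 105, .conjw 2 [4, 3, 7, 8, 5, 4, 3, 7, 6, 4, 5, 2, 3, 4, 0, 1, 2, 0, 1, 0]⟩,
  ⟨[(o10, o10), (o0, o1), (o215, o215), (o1965, o1965), (o256, o287), (o14, o14), (o154, o1294)], 105, .node 7 105 [⟨o243, [(243, [])], 3342⟩,
      ⟨o253, [(253, [])], 3344⟩]⟩,
  ⟨[(o10, o10), (o0, o1), (o215, o215), (o1965, o1965), (o256, o287), (o14, o14), (o154, o1294), (o243, o243)], 105, .node 2 105 [⟨o478, [(478, [])], 3343⟩]⟩,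
  ⟨[(o10, o10), (o0, o1), (o215, o215), (o1965, o1965), (o256, o287), (o14, o14), (o154, o1294), (o243, o243), (o12, o478)], 105, .inner [6, 5, 2, 3, 4, 1, 2, 3, 7, 8, 3, 4, 2, 3, 7, 1, 2, 3, 0, 1, 0, 2, 1, 0, 3, 2, 1, 7, 3, 2, 4, 3, 8, 7, 3, 2, 1, 4, 3, 2, 5, 6]⟩,
  ⟨[(o10, o10), (o0, o1), (o215, o215), (o1965, o1965), (o256, o287), (o14, o14), (o154, o1294), (o243, o253)], 105, .node 2 105 [⟨o478, [(478, [])], 3345⟩]⟩,
  ⟨[(o10, o10), (o0, o1), (o215, o215), (o1965, o1965), (o256, o287), (o14, o14), (o154, o1294), (o243, o253), (o12, o478)], 105, .inner [6, 5, 4, 3, 7, 8, 5, 4, 3, 7, 2, 3, 4, 1, 2, 3, 7, 3, 4, 5, 4, 3, 0, 1, 0, 2, 4, 1, 0, 3, 4, 5, 4, 3, 7, 3, 2, 1, 4, 3, 2, 7, 3, 4, 5, 8, 7, 3, 4, 5, 6]⟩,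
  ⟨[(o10, o10), (o0, o1), (o215, o215), (o1965, o1965), (o256, o287), (o14, o14), (o154, o1442)], 105, .node 7 105 [⟨o9, [(9, [])], 3347⟩,
      ⟨o244, [(244, [])], 3349⟩]⟩,
  ⟨[(o10, o10), (o0, o1), (o215, o215), (o1965, o1965), (o256, o287), (o14, o14), (o154, o1442), (o243, o9)], 105, .node 2 105 [⟨o427, [(427, [])], 3348⟩]⟩,
  ⟨[(o10, o10), (o0, o1), (o215, o215), (o1965, o1965), (o256, o287), (o14, o14), (o154, o1442), (o243, o9), (o12, o427)], 105, .inner [0, 1, 2, 3, 7, 8, 1, 2, 3, 4, 0, 1, 2, 3, 7, 6, 2, 3, 4, 5, 2, 3, 0, 2, 4, 3, 2, 5, 4, 3, 2, 6, 7, 3, 2, 1, 0, 4, 3, 2, 1, 8, 7, 3, 2, 1, 0]⟩,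
  ⟨[(o10, o10), (o0, o1), (o215, o215), (o1965, o1965), (o256, o287), (o14, o14), (o154, o1442), (o243, o244)], 105, .node 2 105 [⟨o427, [(427, [])], 3350⟩]⟩,
  ⟨[(o10, o10), (o0, o1), (o215, o215), (o1965, o1965), (o256, o287), (o14, o14), (o154, o1442), (o243, o244), (o12, o427)], 105, .inner [0, 1, 2, 3, 7, 8, 4, 3, 7, 6, 4, 5, 2, 3, 4, 1, 2, 3, 7, 5, 0, 1, 2, 3, 0, 1, 0, 2, 4, 1, 0, 3, 2, 1, 0, 5, 7, 3, 2, 1, 4, 3, 2, 5, 4, 6, 7, 3, 4, 8, 7, 3, 2, 1, 0]⟩,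
  ⟨[(o10, o10), (o0, o1), (o215, o215), (o1965, o1965), (o256, o287), (o14, o14), (o154, o1529)], 105, .node 7 105 [⟨o243, [(243, [])], 3352⟩,
      ⟨o253, [(253, [])], 3354⟩]⟩,
  ⟨[(o10, o10), (o0, o1), (o215, o215), (o1965, o1965), (o256, o287), (o14, o14), (o154, o1529), (o243, o243)], 105, .node 2 105 [⟨o3363, [(3363, [])], 3353⟩]⟩,
  ⟨[(o10, o10), (o0, o1), (o215, o215), (o1965, o1965), (o256, o287), (o14, o14), (o154, o1529), (o243, o243), (o12, o3363)], 105, .conjw 2 [0, 2, 1, 0, 4, 3, 2, 1, 0, 5, 7, 3, 2, 1, 4, 3, 7, 8, 5, 6, 4, 5, 3, 4, 2, 3, 7, 3, 4, 5, 1, 2, 3, 4, 2, 0, 1, 0]⟩,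
  ⟨[(o10, o10), (o0, o1), (o215, o215), (o1965, o1965), (o256, o287), (o14, o14), (o154, o1529), (o243, o253)], 105, .node 2 105 [⟨o3363, [(3363, [])], 3355⟩]⟩,
  ⟨[(o10, o10), (o0, o1), (o215, o215), (o1965, o1965), (o256, o287), (o14, o14), (o154, o1529), (o243, o253), (o12, o3363)], 105, .conjw 1 [0, 2, 1, 0, 4, 3, 2, 1, 0, 5, 4, 3, 2, 1, 7, 3, 2, 8, 7, 4, 5, 3, 4, 2, 3, 7, 8, 6, 5, 4, 3, 7, 1, 2, 3, 4, 3, 1, 2, 0, 1, 0]⟩,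
  ⟨[(o10, o10), (o0, o1), (o215, o215), (o1965, o1965), (o256, o287), (o14, o1099)], 105, .node 4 105 []⟩,
  ⟨[(o10, o10), (o0, o1), (o215, o215), (o1965, o1965), (o256, o287), (o14, o1168)], 105, .node 4 105 []⟩,
  ⟨[(o10, o10), (o0, o1), (o215, o215), (o1965, o1965), (o256, o287), (o14, o2769)], 105, .node 2 105 []⟩,
  ⟨[(o10, o10), (o0, o1), (o215, o215), (o1965, o1965), (o256, o363)], 102, .node 1 106 [⟨o14, [(14, [])], 3360⟩,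
      ⟨o1099, [(1099, [])], 3381⟩,
      ⟨o1168, [(1168, [])], 3382⟩,
      ⟨o2769, [(2769, [])], 3383⟩]⟩,
  ⟨[(o10, o10), (o0, o1), (o215, o215), (o1965, o1965), (o256, o363), (o14, o14)], 106, .node 7 106 [⟨o9, [(9, [])], 3361⟩,
      ⟨o243, [(243, [])], 3366⟩,
      ⟨o244, [(244, [])], 3371⟩,
      ⟨o253, [(253, [])], 3376⟩]⟩,
  ⟨[(o10, o10), (o0, o1), (o215, o215), (o1965, o1965), (o256, o363), (o14, o14), (o243, o9)], 106, .node 2 106 [⟨o427, [(427, [])], 3362⟩,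
      ⟨o3467, [(3467, [])], 3364⟩]⟩,
  ⟨[(o10, o10), (o0, o1), (o215, o215), (o1965, o1965), (o256, o363), (o14, o14), (o243, o9), (o12, o427)], 106, .node 4 106 [⟨o561, [(561, [])], 3363⟩]⟩,
  ⟨[(o10, o10), (o0, o1), (o215, o215), (o1965, o1965), (o256, o363), (o14, o14), (o243, o9), (o12, o427), (o154, o561)], 106, .inner [0, 1, 2, 1, 3, 7, 3, 2, 1, 0, 4, 8, 3, 7, 5, 6, 3, 4, 5, 2, 3, 4, 1, 2, 3, 7, 5, 6, 0, 1, 2, 3, 4, 5, 2, 3, 0, 1, 0, 2, 4, 1, 0, 3, 2, 5, 4, 3, 2, 1, 0, 6, 5, 7, 3, 2, 1, 4, 3, 2, 5, 4, 3, 6, 5, 7, 3, 8, 4, 0, 1, 2, 3, 7, 3, 1, 2, 1, 0]⟩,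
  ⟨[(o10, o10), (o0, o1), (o215, o215), (o1965, o1965), (o256, o363), (o14, o14), (o243, o9), (o12, o3467)], 106, .node 4 106 [⟨o484, [(484, [])], 3365⟩]⟩,
  ⟨[(o10, o10), (o0, o1), (o215, o215), (o1965, o1965), (o256, o363), (o14, o14), (o243, o9), (o12, o3467), (o154, o484)], 106, .conjw 2 [0, 2, 1, 3, 2, 7, 3, 2, 4, 8, 7, 5, 6, 3, 4, 5, 2, 3, 4, 1, 2, 3, 7, 6, 3, 4, 5, 2, 3, 4, 1, 0]⟩,
  ⟨[(o10, o10), (o0, o1), (o215, o215), (o1965, o1965), (o256, o363), (o14, o14), (o243, o243)], 106, .node 2 106 [⟨o478, [(478, [])], 3367⟩,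
      ⟨o3363, [(3363, [])], 3369⟩]⟩,
  ⟨[(o10, o10), (o0, o1), (o215, o215), (o1965, o1965), (o256, o363), (o14, o14), (o243, o243), (o12, o478)], 106, .node 4 106 [⟨o560, [(560, [])], 3368⟩]⟩,
  ⟨[(o10, o10), (o0, o1), (o215, o215), (o1965, o1965), (o256, o363), (o14, o14), (o243, o243), (o12, o478), (o154, o560)], 106, .inner [6, 5, 2, 3, 4, 1, 2, 3, 7, 8, 3, 4, 2, 3, 7, 5, 6, 1, 2, 3, 4, 5, 0, 1, 0, 2, 4, 1, 0, 5, 4, 3, 2, 1, 6, 5, 7, 3, 2, 4, 3, 8, 7, 3, 2, 1, 4, 3, 2, 5, 6]⟩,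
  ⟨[(o10, o10), (o0, o1), (o215, o215), (o1965, o1965), (o256, o363), (o14, o14), (o243, o243), (o12, o3363)], 106, .node 4 106 [⟨o483, [(483, [])], 3370⟩]⟩,
  ⟨[(o10, o10), (o0, o1), (o215, o215), (o1965, o1965), (o256, o363), (o14, o14), (o243, o243), (o12, o3363), (o154, o483)], 106, .conjw 1 [0, 1, 2, 1, 0, 3, 4, 3, 5, 4, 6, 7, 3, 2, 1, 4, 5, 3, 4, 2, 3, 7, 8, 3, 4, 2, 3, 7, 5, 1, 2, 3, 4, 2, 3, 1, 2, 0, 1, 0]⟩,
  ⟨[(o10, o10), (o0, o1), (o215, o215), (o1965, o1965), (o256, o363), (o14, o14), (o243, o244)], 106, .node 2 106 [⟨o427, [(427, [])], 3372⟩,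
      ⟨o3467, [(3467, [])], 3374⟩]⟩,
  ⟨[(o10, o10), (o0, o1), (o215, o215), (o1965, o1965), (o256, o363), (o14, o14), (o243, o244), (o12, o427)], 106, .node 4 106 [⟨o561, [(561, [])], 3373⟩]⟩,
  ⟨[(o10, o10), (o0, o1), (o215, o215), (o1965, o1965), (o256, o363), (o14, o14), (o243, o244), (o12, o427), (o154, o561)], 106, .inner [4, 3, 5, 6, 5, 4, 3, 7, 3, 8, 4, 2, 3, 7, 5, 1, 2, 3, 4, 0, 1, 2, 3, 7, 5, 6, 1, 2, 3, 4, 5, 1, 2, 3, 0, 1, 0, 2, 4, 1, 0, 3, 2, 1, 5, 4, 3, 2, 1, 6, 5, 7, 3, 2, 1, 0, 4, 3, 2, 1, 5, 7, 3, 2, 4, 8, 3, 7, 3, 4, 5, 6, 5, 3, 4]⟩,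
  ⟨[(o10, o10), (o0, o1), (o215, o215), (o1965, o1965), (o256, o363), (o14, o14), (o243, o244), (o12, o3467)], 106, .node 4 106 [⟨o484, [(484, [])], 3375⟩]⟩,
  ⟨[(o10, o10), (o0, o1), (o215, o215), (o1965, o1965), (o256, o363), (o14, o14), (o243, o244), (o12, o3467), (o154, o484)], 106, .conjw 1 [4, 3, 7, 8, 5, 4, 3, 7, 6, 4, 5, 2, 3, 4, 0, 1, 2, 0, 1, 0]⟩,
  ⟨[(o10, o10), (o0, o1), (o215, o215), (o1965, o1965), (o256, o363), (o14, o14), (o243, o253)], 106, .node 2 106 [⟨o478, [(478, [])], 3377⟩,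
      ⟨o3363, [(3363, [])], 3379⟩]⟩,
  ⟨[(o10, o10), (o0, o1), (o215, o215), (o1965, o1965), (o256, o363), (o14, o14), (o243, o253), (o12, o478)], 106, .node 4 106 [⟨o560, [(560, [])], 3378⟩]⟩,
  ⟨[(o10, o10), (o0, o1), (o215, o215), (o1965, o1965), (o256, o363), (o14, o14), (o243, o253), (o12, o478), (o154, o560)], 106, .inner [0, 1, 2, 1, 0, 3, 4, 5, 7, 8, 3, 4, 2, 3, 7, 5, 6, 4, 5, 3, 4, 1, 2, 3, 7, 5, 6, 0, 1, 2, 3, 4, 5, 3, 0, 1, 0, 2, 4, 1, 0, 3, 5, 4, 3, 2, 1, 0, 6, 5, 7, 3, 2, 1, 4, 3, 5, 4, 6, 5, 7, 3, 2, 4, 3, 8, 7, 5, 4, 3, 0, 1, 2, 1, 0]⟩,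
  ⟨[(o10, o10), (o0, o1), (o215, o215), (o1965, o1965), (o256, o363), (o14, o14), (o243, o253), (o12, o3363)], 106, .node 4 106 [⟨o483, [(483, [])], 3380⟩]⟩,
  ⟨[(o10, o10), (o0, o1), (o215, o215), (o1965, o1965), (o256, o363), (o14, o14), (o243, o253), (o12, o3363), (o154, o483)], 106, .conjw 2 [0, 2, 1, 3, 2, 7, 3, 2, 1, 8, 7, 4, 5, 6, 3, 4, 5, 2, 3, 4, 1, 2, 3, 7, 3, 4, 5, 2, 3, 4, 1, 0]⟩,
  ⟨[(o10, o10), (o0, o1), (o215, o215), (o1965, o1965), (o256, o363), (o14, o1099)], 106, .node 4 106 []⟩,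
  ⟨[(o10, o10), (o0, o1), (o215, o215), (o1965, o1965), (o256, o363), (o14, o1168)], 106, .node 4 106 []⟩,
  ⟨[(o10, o10), (o0, o1), (o215, o215), (o1965, o1965), (o256, o363), (o14, o2769)], 106, .node 2 106 []⟩,
  ⟨[(o10, o10), (o0, o8)], 1, .node 1 107 [⟨o20, [(20, []), (89, [o68, o257, o20, o3433, o2213, o2427, o133, o1132, o3116, o2184, o210]), (96, [o133, o1132, o3116, o2184, o210, o385, o1424, o1963, o0]), (113, [o8, o3266, o1132, o2148, o90, o133, o1132, o3116, o2184, o210]), (134, [o0, o213, o114, o257]), (137, [o8]), (143, [o485, o133, o1132, o3116, o2184, o210]), (148, [o3433, o946, o257, o68, o133, o1132, o3116, o2184, o210]), (165, [o69, o2427, o159, o1525, o133, o1132, o3116, o2184, o210]), (199, [o69, o643, o213, o1424, o133, o1132, o3116, o2184, o210]), (210, [o69, o643, o213, o1424, o210, o2184, o3116, o196, o3433]), (222, [o69,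 o2427, o159, o1525, o210, o2184, o3116, o196, o3433]), (254, [o82, o133, o1132, o3116, o2184, o210]), (275, [o68, o643, o337, o213, o0, o133, o1132, o3116, o2184, o210]), (286, [o0, o2269, o3137, o90, o210, o2184, o3116, o196, o3433]), (312, [o82, o210, o2184, o3116, o196, o3433]), (318, [o256, o210, o2184, o3116, o196, o3433]), (367, [o256]), (421, [o8, o153]), (428, [o3266, o1132, o2148, o90, o133, o1132, o3116, o2184, o210]), (459, [o440, o133, o1132, o3116, o2184, o210]), (460, [o3433, o946, o257, o68]), (493, [o3433, o946, o257, o68, o210, o2184, o3116, o196, o3433]), (509, [o82]), (517, [o440]), (521, [o133, o1132, o3116, o2184, o210, o133, o708, o1963, o69]), (535, [o68, o2343, o3433, o2641, o133, o1132, o3116, o2184, o210]), (548, [o274, o385, o2343, o0, o210, o2184, o3116, o196, o3433]), (555, [o68, o643, o337, o213, o0, o210, o2184, o3116,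 o196, o3433]), (595, [o153]), (602, [o8, o69, o133, o3012, o708]), (603, [o274, o385, o2343, o0, o133, o1132, o3116, o2184, o210]), (612, [o133, o708, o1963, o69, o133, o1132, o3116, o2184, o210]), (630, [o8, o133, o1132, o3116, o2184, o210]), (635, [o69, o133, o3012, o708, o210, o2184, o3116, o196, o3433]), (647, [o0, o2269, o3137, o90, o133, o1132, o3116, o2184, o210]), (648, [o2104, o2641, o646, o0, o133, o1132, o3116, o2184, o210]), (662, [o133, o708, o1963, o69, o210, o2184, o3116, o196, o3433]), (684, [o1588]), (687, [o210, o2184, o3116, o196, o3433, o3433, o946, o257, o68]), (711, [o0, o213, o114, o257, o133, o1132, o3116, o2184, o210]), (740, [o133, o1132, o3116, o2184, o210, o3433, o946, o257, o68]), (872, [o1588, o133, o1132, o3116, o2184, o210]), (949, [o133, o1132, o3116, o2184, o210]), (1046, [o1763, o210, o2184, o3116, o196, o3433]),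 (1084, [o385, o1424, o1963, o0, o210, o2184, o3116, o196, o3433]), (1344, [o69, o133, o3012, o708]), (1362, [o69, o643, o213, o1424]), (1377, [o133, o1132, o3116, o2184, o210, o257, o2104, o708, o0]), (1379, [o562, o210, o2184, o3116, o196, o3433]), (1406, [o68, o643, o337, o213, o0]), (1445, [o69, o133, o3012, o708, o133, o1132, o3116, o2184, o210]), (1482, [o0, o2269, o3137, o90]), (1499, [o210, o2184, o3116, o196, o3433, o133, o708, o1963, o69]), (1547, [o256, o133, o1132, o3116, o2184, o210]), (1570, [o68, o2343, o3433, o2641, o210, o2184, o3116, o196, o3433]), (1571, [o68, o257, o20, o3433, o2213, o2427]), (1677, [o68, o2343, o3433, o2641]), (1845, [o1763, o133, o1132, o3116, o2184, o210]), (2026, [o68, o2549, o708, o337, o133, o1132, o3116, o2184, o210]), (2032, [o8, o133, o708, o1963, o69, o210, o2184, o3116, o196, o3433]), (2152, [o68,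 o2549, o708, o337, o210, o2184, o3116, o196, o3433]), (2156, [o2179, o210, o2184, o3116, o196, o3433]), (2162, [o1963, o2269, o133, o0, o210, o2184, o3116, o196, o3433]), (2184, [o210, o2184, o3116, o196, o3433, o3266, o1132, o2148, o90]), (2185, [o210, o2184, o3116, o196, o3433, o1963, o2269, o133, o0]), (2193, [o2104, o2641, o646, o0]), (2195, [o562]), (2205, [o153, o210, o2184, o3116, o196, o3433]), (2213, [o3266, o1132, o2148, o90, o210, o2184, o3116, o196, o3433]), (2270, [o485, o210, o2184, o3116, o196, o3433]), (2385, [o1963, o2269, o133, o0, o133, o1132, o3116, o2184, o210]), (2408, [o385, o1424, o1963, o0, o133, o1132, o3116, o2184, o210]), (2460, [o69, o2427, o159, o1525]), (2551, [o2179, o133, o1132, o3116, o2184, o210]), (2630, [o1763]), (2667, [o274, o385, o2343, o0]), (2762, [o68, o2549, o708, o337]), (2796, [o153, o133, o1132, o3116,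 o2184, o210]), (2873, [o133, o708, o1963, o69]), (3018, [o0, o213, o114, o257, o210, o2184, o3116, o196, o3433]), (3060, [o8, o485]), (3111, [o385, o1424, o1963, o0]), (3116, [o8, o210, o2184, o3116, o196, o3433]), (3123, [o210, o2184, o3116, o196, o3433]), (3180, [o1588, o210, o2184, o3116, o196, o3433]), (3244, [o485]), (3331, [o562, o133, o1132, o3116, o2184, o210]), (3341, [o1963, o2269, o133, o0]), (3351, [o3266, o1132, o2148, o90]), (3385, [o8, o485, o210, o2184, o3116, o196, o3433]), (3412, [o2179]), (3466, [o8, o133, o708, o1963, o69]), (3472, [o8, o3266, o1132, o2148, o90]), (3501, [o440, o210, o2184, o3116, o196, o3433]), (3504, [o2104, o2641, o646, o0, o210, o2184, o3116, o196, o3433])], 3385⟩,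
      ⟨o66, [(66, []), (86, [o153]), (152, [o90, o646, o0, o643, o69]), (162, [o69, o1963, o1161, o3433, o0]), (215, [o8]), (218, [o256]), (221, [o210, o2184, o3116, o196, o3433]), (251, [o8, o256]), (287, [o3266, o1132, o2148, o90]), (289, [o68, o2549, o708, o337]), (290, [o0, o213, o114, o257]), (314, [o68, o2343, o3433, o2641]), (315, [o69, o2427, o159, o1525]), (363, [o69, o643, o213, o1424]), (384, [o440]), (486, [o68, o643, o337, o213, o0]), (528, [o485]), (552, [o8, o133, o708, o1963, o69]), (689, [o0, o337, o213, o2641, o69]), (901, [o257, o2104, o708, o0]), (985, [o133, o708, o1963, o69]), (986, [o3433, o946, o257, o68]), (987, [o8, o2179]), (1427, [o0, o2269, o2148, o1132]), (1464, [o8, o69, o133, o3012, o708]), (1567, [o2179]), (1585, [o1586]), (1737, [o1204]), (1965, [o245]), (1981, [o1763]), (2149, [o69, o133, o3012, o708]), (2150,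 [o68, o257, o20, o3433, o2213, o2427])], 3544⟩]⟩,
  ⟨[(o10, o10), (o0, o8), (o14, o20)], 107, .node 6 108 [⟨o90, [(90, [])], 3386⟩,
      ⟨o114, [(114, []), (2427, [o1586])], 3393⟩,
      ⟨o646, [(646, []), (2343, [o1586])], 3396⟩,
      ⟨o1525, [(1525, []), (1963, [o1586])], 3405⟩,
      ⟨o3012, [(3012, [])], 3432⟩,
      ⟨o3366, [(3366, [])], 3477⟩]⟩,
  ⟨[(o10, o10), (o0, o8), (o14, o20), (o256, o90)], 108, .node 2 109 [⟨o223, [(223, [])], 3387⟩,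
      ⟨o224, [(224, [])], 3388⟩,
      ⟨o348, [(348, [])], 3389⟩,
      ⟨o1141, [(1141, [])], 3391⟩]⟩,
  ⟨[(o10, o10), (o0, o8), (o14, o20), (o256, o90), (o12, o223)], 109, .node 4 109 []⟩,
  ⟨[(o10, o10), (o0, o8), (o14, o20), (o256, o90), (o12, o224)], 109, .node 8 109 []⟩,
  ⟨[(o10, o10), (o0, o8), (o14, o20), (o256, o90), (o12, o348)], 109, .node 8 110 [⟨o1081, [(1081, [])], 3390⟩]⟩,
  ⟨[(o10, o10), (o0, o8), (o14, o20), (o256, o90), (o12, o348), (o1965, o1081)], 110, .node 5 110 []⟩,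
  ⟨[(o10, o10), (o0, o8), (o14, o20), (o256, o90), (o12, o1141)], 109, .node 4 111 [⟨o771, [(771, [])], 3392⟩]⟩,
  ⟨[(o10, o10), (o0, o8), (o14, o20), (o256, o90), (o12, o1141), (o154, o771)], 111, .node 5 111 []⟩,
  ⟨[(o10, o10), (o0, o8), (o14, o20), (o256, o114)], 108, .node 4 112 [⟨o166, [(166, [])], 3394⟩,
      ⟨o201, [(201, [])], 3395⟩]⟩,
  ⟨[(o10, o10), (o0, o8), (o14, o20), (o256, o114), (o154, o166)], 112, .node 2 112 []⟩,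
  ⟨[(o10, o10), (o0, o8), (o14, o20), (o256, o114), (o154, o201)], 112, .node 7 112 []⟩,
  ⟨[(o10, o10), (o0, o8), (o14, o20), (o256, o646)], 108, .node 2 113 [⟨o848, [(848, [])], 3397⟩,
      ⟨o933, [(933, [])], 3399⟩,
      ⟨o2735, [(2735, [])], 3403⟩,
      ⟨o3096, [(3096, [])], 3404⟩]⟩,
  ⟨[(o10, o10), (o0, o8), (o14, o20), (o256, o646), (o12, o848)], 113, .node 4 114 [⟨o2627, [(2627, [])], 3398⟩]⟩,
  ⟨[(o10, o10), (o0, o8), (o14, o20), (o256, o646), (o12, o848), (o154, o2627)], 114, .node 8 114 []⟩,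
  ⟨[(o10, o10), (o0, o8), (o14, o20), (o256, o646), (o12, o933)], 113, .node 8 115 [⟨o926, [(926, [])], 3400⟩]⟩,
  ⟨[(o10, o10), (o0, o8), (o14, o20), (o256, o646), (o12, o933), (o1965, o926)], 115, .node 5 115 [⟨o2167, [(2167, [])], 3401⟩]⟩,
  ⟨[(o10, o10), (o0, o8), (o14, o20), (o256, o646), (o12, o933), (o1965, o926), (o215, o2167)], 115, .node 4 115 [⟨o1624, [(1624, [])], 3402⟩]⟩,
  ⟨[(o10, o10), (o0, o8), (o14, o20), (o256, o646), (o12, o933), (o1965, o926), (o215, o2167), (o154, o1624)], 115, .node 7 115 []⟩,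
  ⟨[(o10, o10), (o0, o8), (o14, o20), (o256, o646), (o12, o2735)], 113, .node 8 113 []⟩,
  ⟨[(o10, o10), (o0, o8), (o14, o20), (o256, o646), (o12, o3096)], 113, .node 8 113 []⟩,
  ⟨[(o10, o10), (o0, o8), (o14, o20), (o256, o1525)], 108, .node 8 116 [⟨o324, [(324, [])], 3406⟩,
      ⟨o473, [(473, [])], 3418⟩,
      ⟨o1123, [(1123, [])], 3420⟩,
      ⟨o2147, [(2147, [])], 3430⟩,
      ⟨o2398, [(2398, [])], 3431⟩]⟩,
  ⟨[(o10, o10), (o0, o8), (o14, o20), (o256, o1525), (o1965, o324)], 116, .node 5 117 [⟨o175, [(175, [])], 3407⟩,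
      ⟨o212, [(212, [])], 3417⟩]⟩,
  ⟨[(o10, o10), (o0, o8), (o14, o20), (o256, o1525), (o1965, o324), (o215, o175)], 117, .node 2 117 [⟨o374, [(374, [])], 3408⟩,
      ⟨o375, [(375, [])], 3412⟩]⟩,
  ⟨[(o10, o10), (o0, o8), (o14, o20), (o256, o1525), (o1965, o324), (o215, o175), (o12, o374)], 117, .node 4 117 [⟨o42, [(42, [])], 3409⟩,
      ⟨o2333, [(2333, [])], 3411⟩]⟩,
  ⟨[(o10, o10), (o0, o8), (o14, o20), (o256, o1525), (o1965, o324), (o215, o175), (o12, o374), (o154, o42)], 117, .node 7 117 [⟨o46, [(46, [])], 3410⟩]⟩,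
  ⟨[(o10, o10), (o0, o8), (o14, o20), (o256, o1525), (o1965, o324), (o215, o175), (o12, o374), (o154, o42), (o243, o46)], 117, .inner [1, 0, 5, 6, 5, 4, 3, 7, 8, 2, 3, 7, 4, 5, 3, 4, 2, 3, 7, 8, 6, 5, 4, 1, 2, 3, 7, 6, 4, 5, 2, 3, 1, 0, 2, 4, 1, 3, 2, 5, 4, 6, 7, 3, 2, 1, 4, 5, 6, 8, 7, 3, 2, 4, 3, 5, 4, 7, 3, 2, 8, 7, 3, 4, 5, 6, 5, 0, 1]⟩,
  ⟨[(o10, o10), (o0, o8), (o14, o20), (o256, o1525), (o1965, o324), (o215, o175), (o12, o374), (o154, o2333)], 117, .node 7 117 []⟩,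
  ⟨[(o10, o10), (o0, o8), (o14, o20), (o256, o1525), (o1965, o324), (o215, o175), (o12, o375)], 117, .node 4 117 [⟨o43, [(43, [])], 3413⟩,
      ⟨o2334, [(2334, [])], 3416⟩]⟩,
  ⟨[(o10, o10), (o0, o8), (o14, o20), (o256, o1525), (o1965, o324), (o215, o175), (o12, o375), (o154, o43)], 117, .node 7 117 [⟨o35, [(35, [])], 3414⟩,
      ⟨o3311, [(3311, [])], 3415⟩]⟩,
  ⟨[(o10, o10), (o0, o8), (o14, o20), (o256, o1525), (o1965, o324), (o215, o175), (o12, o375), (o154, o43), (o243, o35)], 117, .inner [8, 7, 5, 2, 3, 4, 1, 2, 3, 7, 8, 3, 4, 1, 2, 3, 7, 3, 4, 5, 4, 3, 1, 0, 2, 4, 1, 3, 4, 5, 4, 3, 7, 3, 2, 1, 4, 3, 8, 7, 3, 2, 1, 4, 3, 2, 5, 7, 8]⟩,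
  ⟨[(o10, o10), (o0, o8), (o14, o20), (o256, o1525), (o1965, o324), (o215, o175), (o12, o375), (o154, o43), (o243, o3311)], 117, .bad [7, 4] 8 10⟩,
  ⟨[(o10, o10), (o0, o8), (o14, o20), (o256, o1525), (o1965, o324), (o215, o175), (o12, o375), (o154, o2334)], 117, .node 7 117 []⟩,
  ⟨[(o10, o10), (o0, o8), (o14, o20), (o256, o1525), (o1965, o324), (o215, o212)], 117, .node 2 117 []⟩,
  ⟨[(o10, o10), (o0, o8), (o14, o20), (o256, o1525), (o1965, o473)], 116, .node 5 118 [⟨o372, [(372, [])], 3419⟩]⟩,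
  ⟨[(o10, o10), (o0, o8), (o14, o20), (o256, o1525), (o1965, o473), (o215, o372)], 118, .node 2 118 []⟩,
  ⟨[(o10, o10), (o0, o8), (o14, o20), (o256, o1525), (o1965, o1123)], 116, .node 2 119 [⟨o2652, [(2652, [])], 3421⟩,
      ⟨o2661, [(2661, [])], 3426⟩]⟩,
  ⟨[(o10, o10), (o0, o8), (o14, o20), (o256, o1525), (o1965, o1123), (o12, o2652)], 119, .node 4 119 [⟨o2627, [(2627, [])], 3422⟩]⟩,
  ⟨[(o10, o10), (o0, o8), (o14, o20), (o256, o1525), (o1965, o1123), (o12, o2652), (o154, o2627)], 119, .node 5 119 [⟨o2690, [(2690, [])], 3423⟩]⟩,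
  ⟨[(o10, o10), (o0, o8), (o14, o20), (o256, o1525), (o1965, o1123), (o12, o2652), (o154, o2627), (o215, o2690)], 119, .node 7 119 [⟨o2446, [(2446, [])], 3424⟩,
      ⟨o3167, [(3167, [])], 3425⟩]⟩,
  ⟨[(o10, o10), (o0, o8), (o14, o20), (o256, o1525), (o1965, o1123), (o12, o2652), (o154, o2627), (o215, o2690), (o243, o2446)], 119, .conjw 1 [1, 0, 4, 3, 2, 1, 0, 5, 4, 3, 2, 1, 0, 6, 5, 7, 3, 8, 7, 4, 5, 2, 3, 4, 1, 2, 3, 7, 8, 6, 5, 4, 3, 7, 4, 5, 3, 4, 2, 0, 1, 0]⟩,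
  ⟨[(o10, o10), (o0, o8), (o14, o20), (o256, o1525), (o1965, o1123), (o12, o2652), (o154, o2627), (o215, o2690), (o243, o3167)], 119, .bad [7, 4] 8 10⟩,
  ⟨[(o10, o10), (o0, o8), (o14, o20), (o256, o1525), (o1965, o1123), (o12, o2661)], 119, .node 5 119 [⟨o2690, [(2690, [])], 3427⟩]⟩,
  ⟨[(o10, o10), (o0, o8), (o14, o20), (o256, o1525), (o1965, o1123), (o12, o2661), (o215, o2690)], 119, .node 7 119 [⟨o1350, [(1350, [])], 3428⟩]⟩,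
  ⟨[(o10, o10), (o0, o8), (o14, o20), (o256, o1525), (o1965, o1123), (o12, o2661), (o215, o2690), (o243, o1350)], 119, .node 4 119 [⟨o2626, [(2626, [])], 3429⟩]⟩,
  ⟨[(o10, o10), (o0, o8), (o14, o20), (o256, o1525), (o1965, o1123), (o12, o2661), (o215, o2690), (o243, o1350), (o154, o2626)], 119, .conjw 2 [4, 3, 6, 5, 4, 2, 3, 7, 8, 2, 3, 7, 4, 5, 3, 4, 2, 3, 7, 5, 6, 4, 5, 3, 4]⟩,
  ⟨[(o10, o10), (o0, o8), (o14, o20), (o256, o1525), (o1965, o2147)], 116, .node 2 116 []⟩,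
  ⟨[(o10, o10), (o0, o8), (o14, o20), (o256, o1525), (o1965, o2398)], 116, .node 2 116 []⟩,
  ⟨[(o10, o10), (o0, o8), (o14, o20), (o256, o3012)], 108, .node 8 120 [⟨o212, [(212, [])], 3433⟩,
      ⟨o324, [(324, [])], 3453⟩,
      ⟨o336, [(336, [])], 3455⟩,
      ⟨o473, [(473, [])], 3466⟩,
      ⟨o831, [(831, [])], 3468⟩,
      ⟨o2167, [(2167, [])], 3474⟩]⟩,
  ⟨[(o10, o10), (o0, o8), (o14, o20), (o256, o3012), (o1965, o212)], 120, .node 2 121 [⟨o2609, [(2609, [])], 3434⟩,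
      ⟨o2610, [(2610, [])], 3435⟩,
      ⟨o2993, [(2993, [])], 3436⟩,
      ⟨o2994, [(2994, [])], 3445⟩]⟩,
  ⟨[(o10, o10), (o0, o8), (o14, o20), (o256, o3012), (o1965, o212), (o12, o2609)], 121, .node 4 121 []⟩,
  ⟨[(o10, o10), (o0, o8), (o14, o20), (o256, o3012), (o1965, o212), (o12, o2610)], 121, .node 5 121 []⟩,
  ⟨[(o10, o10), (o0, o8), (o14, o20), (o256, o3012), (o1965, o212), (o12, o2993)], 121, .node 4 121 [⟨o2626, [(2626, [])], 3437⟩,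
      ⟨o3107, [(3107, [])], 3438⟩]⟩,
  ⟨[(o10, o10), (o0, o8), (o14, o20), (o256, o3012), (o1965, o212), (o12, o2993), (o154, o2626)], 121, .node 5 121 []⟩,
  ⟨[(o10, o10), (o0, o8), (o14, o20), (o256, o3012), (o1965, o212), (o12, o2993), (o154, o3107)], 121, .node 5 121 [⟨o214, [(214, [])], 3439⟩,
      ⟨o2418, [(2418, [])], 3442⟩]⟩,
  ⟨[(o10, o10), (o0, o8), (o14, o20), (o256, o3012), (o1965, o212), (o12, o2993), (o154, o3107), (o215, o214)], 121, .node 7 121 [⟨o1625, [(1625, [])], 3440⟩,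
      ⟨o3311, [(3311, [])], 3441⟩]⟩,
  ⟨[(o10, o10), (o0, o8), (o14, o20), (o256, o3012), (o1965, o212), (o12, o2993), (o154, o3107), (o215, o214), (o243, o1625)], 121, .bad [7, 4] 8 10⟩,
  ⟨[(o10, o10), (o0, o8), (o14, o20), (o256, o3012), (o1965, o212), (o12, o2993), (o154, o3107), (o215, o214), (o243, o3311)], 121, .bad [7, 4] 214 212⟩,
  ⟨[(o10, o10), (o0, o8), (o14, o20), (o256, o3012), (o1965, o212), (o12, o2993), (o154, o3107), (o215, o2418)], 121, .node 7 121 [⟨o1625, [(1625, [])], 3443⟩,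
      ⟨o3311, [(3311, [])], 3444⟩]⟩,
  ⟨[(o10, o10), (o0, o8), (o14, o20), (o256, o3012), (o1965, o212), (o12, o2993), (o154, o3107), (o215, o2418), (o243, o1625)], 121, .bad [7, 4] 8 10⟩,
  ⟨[(o10, o10), (o0, o8), (o14, o20), (o256, o3012), (o1965, o212), (o12, o2993), (o154, o3107), (o215, o2418), (o243, o3311)], 121, .bad [4, 5, 4] 20 20⟩,
  ⟨[(o10, o10), (o0, o8), (o14, o20), (o256, o3012), (o1965, o212), (o12, o2994)], 121, .node 4 121 [⟨o3477, [(3477, [])], 3446⟩]⟩,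
  ⟨[(o10, o10), (o0, o8), (o14, o20), (o256, o3012), (o1965, o212), (o12, o2994), (o154, o3477)], 121, .node 5 121 [⟨o214, [(214, [])], 3447⟩,
      ⟨o2418, [(2418, [])], 3450⟩]⟩,
  ⟨[(o10, o10), (o0, o8), (o14, o20), (o256, o3012), (o1965, o212), (o12, o2994), (o154, o3477), (o215, o214)], 121, .node 7 121 [⟨o1624, [(1624, [])], 3448⟩,
      ⟨o3418, [(3418, [])], 3449⟩]⟩,
  ⟨[(o10, o10), (o0, o8), (o14, o20), (o256, o3012), (o1965, o212), (o12, o2994), (o154, o3477), (o215, o214), (o243, o1624)], 121, .bad [7, 4] 8 10⟩,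
  ⟨[(o10, o10), (o0, o8), (o14, o20), (o256, o3012), (o1965, o212), (o12, o2994), (o154, o3477), (o215, o214), (o243, o3418)], 121, .bad [7, 4] 214 212⟩,
  ⟨[(o10, o10), (o0, o8), (o14, o20), (o256, o3012), (o1965, o212), (o12, o2994), (o154, o3477), (o215, o2418)], 121, .node 7 121 [⟨o1624, [(1624, [])], 3451⟩,
      ⟨o3418, [(3418, [])], 3452⟩]⟩,
  ⟨[(o10, o10), (o0, o8), (o14, o20), (o256, o3012), (o1965, o212), (o12, o2994), (o154, o3477), (o215, o2418), (o243, o1624)], 121, .bad [7, 4] 8 10⟩,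
  ⟨[(o10, o10), (o0, o8), (o14, o20), (o256, o3012), (o1965, o212), (o12, o2994), (o154, o3477), (o215, o2418), (o243, o3418)], 121, .bad [4, 5, 4] 20 20⟩,
  ⟨[(o10, o10), (o0, o8), (o14, o20), (o256, o3012), (o1965, o324)], 120, .node 5 122 [⟨o175, [(175, [])], 3454⟩]⟩,
  ⟨[(o10, o10), (o0, o8), (o14, o20), (o256, o3012), (o1965, o324), (o215, o175)], 122, .node 2 122 []⟩,
  ⟨[(o10, o10), (o0, o8), (o14, o20), (o256, o3012), (o1965, o336)], 120, .node 5 123 [⟨o1541, [(1541, [])], 3456⟩,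
      ⟨o2147, [(2147, [])], 3457⟩]⟩]

/-- Nodes. -/
def nd27 : List ONode := [
  ⟨[(o10, o10), (o0, o8), (o14, o20), (o256, o3012), (o1965, o336), (o215, o1541)], 123, .node 2 123 []⟩,
  ⟨[(o10, o10), (o0, o8), (o14, o20), (o256, o3012), (o1965, o336), (o215, o2147)], 123, .node 2 123 [⟨o2993, [(2993, [])], 3458⟩,
      ⟨o2994, [(2994, [])], 3462⟩]⟩,
  ⟨[(o10, o10), (o0, o8), (o14, o20), (o256, o3012), (o1965, o336), (o215, o2147), (o12, o2993)], 123, .node 4 123 [⟨o3107, [(3107, [])], 3459⟩]⟩,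
  ⟨[(o10, o10), (o0, o8), (o14, o20), (o256, o3012), (o1965, o336), (o215, o2147), (o12, o2993), (o154, o3107)], 123, .node 7 123 [⟨o1625, [(1625, [])], 3460⟩,
      ⟨o3311, [(3311, [])], 3461⟩]⟩,
  ⟨[(o10, o10), (o0, o8), (o14, o20), (o256, o3012), (o1965, o336), (o215, o2147), (o12, o2993), (o154, o3107), (o243, o1625)], 123, .bad [7, 4] 8 10⟩,
  ⟨[(o10, o10), (o0, o8), (o14, o20), (o256, o3012), (o1965, o336), (o215, o2147), (o12, o2993), (o154, o3107), (o243, o3311)], 123, .bad [4, 5, 4] 20 20⟩,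
  ⟨[(o10, o10), (o0, o8), (o14, o20), (o256, o3012), (o1965, o336), (o215, o2147), (o12, o2994)], 123, .node 4 123 [⟨o3477, [(3477, [])], 3463⟩]⟩,
  ⟨[(o10, o10), (o0, o8), (o14, o20), (o256, o3012), (o1965, o336), (o215, o2147), (o12, o2994), (o154, o3477)], 123, .node 7 123 [⟨o1624, [(1624, [])], 3464⟩,
      ⟨o3418, [(3418, [])], 3465⟩]⟩,
  ⟨[(o10, o10), (o0, o8), (o14, o20), (o256, o3012), (o1965, o336), (o215, o2147), (o12, o2994), (o154, o3477), (o243, o1624)], 123, .bad [7, 4] 8 10⟩,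
  ⟨[(o10, o10), (o0, o8), (o14, o20), (o256, o3012), (o1965, o336), (o215, o2147), (o12, o2994), (o154, o3477), (o243, o3418)], 123, .bad [4, 5, 4] 20 20⟩,
  ⟨[(o10, o10), (o0, o8), (o14, o20), (o256, o3012), (o1965, o473)], 120, .node 5 124 [⟨o372, [(372, [])], 3467⟩]⟩,
  ⟨[(o10, o10), (o0, o8), (o14, o20), (o256, o3012), (o1965, o473), (o215, o372)], 124, .node 2 124 []⟩,
  ⟨[(o10, o10), (o0, o8), (o14, o20), (o256, o3012), (o1965, o831)], 120, .node 5 125 [⟨o1541, [(1541, [])], 3469⟩,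
      ⟨o2690, [(2690, [])], 3473⟩]⟩,
  ⟨[(o10, o10), (o0, o8), (o14, o20), (o256, o3012), (o1965, o831), (o215, o1541)], 125, .node 2 125 [⟨o880, [(880, [])], 3470⟩,
      ⟨o881, [(881, [])], 3472⟩]⟩,
  ⟨[(o10, o10), (o0, o8), (o14, o20), (o256, o3012), (o1965, o831), (o215, o1541), (o12, o880)], 125, .node 4 125 [⟨o1624, [(1624, [])], 3471⟩]⟩,
  ⟨[(o10, o10), (o0, o8), (o14, o20), (o256, o3012), (o1965, o831), (o215, o1541), (o12, o880), (o154, o1624)], 125, .node 7 125 []⟩,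
  ⟨[(o10, o10), (o0, o8), (o14, o20), (o256, o3012), (o1965, o831), (o215, o1541), (o12, o881)], 125, .node 4 125 []⟩,
  ⟨[(o10, o10), (o0, o8), (o14, o20), (o256, o3012), (o1965, o831), (o215, o2690)], 125, .node 2 125 []⟩,
  ⟨[(o10, o10), (o0, o8), (o14, o20), (o256, o3012), (o1965, o2167)], 120, .node 2 126 [⟨o2609, [(2609, [])], 3475⟩,
      ⟨o2610, [(2610, [])], 3476⟩]⟩,
  ⟨[(o10, o10), (o0, o8), (o14, o20), (o256, o3012), (o1965, o2167), (o12, o2609)], 126, .node 4 126 []⟩,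
  ⟨[(o10, o10), (o0, o8), (o14, o20), (o256, o3012), (o1965, o2167), (o12, o2610)], 126, .node 4 126 []⟩,
  ⟨[(o10, o10), (o0, o8), (o14, o20), (o256, o3366)], 108, .node 8 127 [⟨o175, [(175, [])], 3478⟩,
      ⟨o214, [(214, [])], 3488⟩,
      ⟨o372, [(372, [])], 3497⟩,
      ⟨o2147, [(2147, [])], 3508⟩,
      ⟨o2418, [(2418, [])], 3526⟩,
      ⟨o2690, [(2690, [])], 3535⟩]⟩,
  ⟨[(o10, o10), (o0, o8), (o14, o20), (o256, o3366), (o1965, o175)], 127, .node 5 128 [⟨o324, [(324, [])], 3479⟩,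
      ⟨o336, [(336, [])], 3480⟩,
      ⟨o1541, [(1541, [])], 3481⟩]⟩,
  ⟨[(o10, o10), (o0, o8), (o14, o20), (o256, o3366), (o1965, o175), (o215, o324)], 128, .node 2 128 []⟩,
  ⟨[(o10, o10), (o0, o8), (o14, o20), (o256, o3366), (o1965, o175), (o215, o336)], 128, .node 2 128 []⟩,
  ⟨[(o10, o10), (o0, o8), (o14, o20), (o256, o3366), (o1965, o175), (o215, o1541)], 128, .node 2 128 [⟨o880, [(880, [])], 3482⟩,
      ⟨o881, [(881, [])], 3485⟩]⟩,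
  ⟨[(o10, o10), (o0, o8), (o14, o20), (o256, o3366), (o1965, o175), (o215, o1541), (o12, o880)], 128, .node 7 128 [⟨o2422, [(2422, [])], 3483⟩]⟩,
  ⟨[(o10, o10), (o0, o8), (o14, o20), (o256, o3366), (o1965, o175), (o215, o1541), (o12, o880), (o243, o2422)], 128, .node 4 128 [⟨o922, [(922, [])], 3484⟩]⟩,
  ⟨[(o10, o10), (o0, o8), (o14, o20), (o256, o3366), (o1965, o175), (o215, o1541), (o12, o880), (o243, o2422), (o154, o922)], 128, .conjw 1 [1, 2, 1, 0, 3, 2, 1, 4, 8, 7, 3, 4, 2, 3, 7, 8, 7, 5, 3, 4, 2, 3, 7, 5, 1, 2, 3, 4, 3, 2, 0, 1, 0]⟩,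
  ⟨[(o10, o10), (o0, o8), (o14, o20), (o256, o3366), (o1965, o175), (o215, o1541), (o12, o881)], 128, .node 4 128 [⟨o921, [(921, [])], 3486⟩]⟩,
  ⟨[(o10, o10), (o0, o8), (o14, o20), (o256, o3366), (o1965, o175), (o215, o1541), (o12, o881), (o154, o921)], 128, .node 7 128 [⟨o2441, [(2441, [])], 3487⟩]⟩,
  ⟨[(o10, o10), (o0, o8), (o14, o20), (o256, o3366), (o1965, o175), (o215, o1541), (o12, o881), (o154, o921), (o243, o2441)], 128, .conjw 2 [1, 0, 5, 4, 6, 5, 4, 3, 7, 8, 3, 4, 5, 2, 3, 4, 1, 2, 3, 7, 3, 4, 2, 3, 0, 1, 2, 0, 1, 0]⟩,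
  ⟨[(o10, o10), (o0, o8), (o14, o20), (o256, o3366), (o1965, o214)], 127, .node 5 129 [⟨o212, [(212, [])], 3489⟩]⟩,
  ⟨[(o10, o10), (o0, o8), (o14, o20), (o256, o3366), (o1965, o214), (o215, o212)], 129, .node 2 129 [⟨o300, [(300, [])], 3490⟩,
      ⟨o301, [(301, [])], 3494⟩]⟩,
  ⟨[(o10, o10), (o0, o8), (o14, o20), (o256, o3366), (o1965, o214), (o215, o212), (o12, o300)], 129, .node 4 129 [⟨o43, [(43, [])], 3491⟩]⟩,
  ⟨[(o10, o10), (o0, o8), (o14, o20), (o256, o3366), (o1965, o214), (o215, o212), (o12, o300), (o154, o43)], 129, .node 7 129 [⟨o35, [(35, [])], 3492⟩,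
      ⟨o2334, [(2334, [])], 3493⟩]⟩,
  ⟨[(o10, o10), (o0, o8), (o14, o20), (o256, o3366), (o1965, o214), (o215, o212), (o12, o300), (o154, o43), (o243, o35)], 129, .bad [4, 5, 4] 20 20⟩,
  ⟨[(o10, o10), (o0, o8), (o14, o20), (o256, o3366), (o1965, o214), (o215, o212), (o12, o300), (o154, o43), (o243, o2334)], 129, .bad [7, 4] 8 10⟩,
  ⟨[(o10, o10), (o0, o8), (o14, o20), (o256, o3366), (o1965, o214), (o215, o212), (o12, o301)], 129, .node 4 129 [⟨o42, [(42, [])], 3495⟩]⟩,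
  ⟨[(o10, o10), (o0, o8), (o14, o20), (o256, o3366), (o1965, o214), (o215, o212), (o12, o301), (o154, o42)], 129, .node 7 129 [⟨o46, [(46, [])], 3496⟩]⟩,
  ⟨[(o10, o10), (o0, o8), (o14, o20), (o256, o3366), (o1965, o214), (o215, o212), (o12, o301), (o154, o42), (o243, o46)], 129, .bad [4, 5, 4] 20 20⟩,
  ⟨[(o10, o10), (o0, o8), (o14, o20), (o256, o3366), (o1965, o372)], 127, .node 5 130 [⟨o473, [(473, [])], 3498⟩,
      ⟨o926, [(926, [])], 3506⟩,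
      ⟨o1081, [(1081, [])], 3507⟩]⟩,
  ⟨[(o10, o10), (o0, o8), (o14, o20), (o256, o3366), (o1965, o372), (o215, o473)], 130, .node 2 130 [⟨o300, [(300, [])], 3499⟩,
      ⟨o301, [(301, [])], 3502⟩]⟩,
  ⟨[(o10, o10), (o0, o8), (o14, o20), (o256, o3366), (o1965, o372), (o215, o473), (o12, o300)], 130, .node 7 130 [⟨o35, [(35, [])], 3500⟩]⟩,
  ⟨[(o10, o10), (o0, o8), (o14, o20), (o256, o3366), (o1965, o372), (o215, o473), (o12, o300), (o243, o35)], 130, .node 4 130 [⟨o43, [(43, [])], 3501⟩]⟩,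
  ⟨[(o10, o10), (o0, o8), (o14, o20), (o256, o3366), (o1965, o372), (o215, o473), (o12, o300), (o243, o35), (o154, o43)], 130, .inner [5, 2, 3, 4, 1, 2, 3, 7, 8, 7, 3, 4, 2, 3, 7, 5, 4, 3, 1, 0, 2, 1, 3, 4, 5, 7, 3, 2, 4, 3, 7, 8, 7, 3, 2, 1, 4, 3, 2, 5]⟩,
  ⟨[(o10, o10), (o0, o8), (o14, o20), (o256, o3366), (o1965, o372), (o215, o473), (o12, o301)], 130, .node 4 130 [⟨o42, [(42, [])], 3503⟩,
      ⟨o2333, [(2333, [])], 3505⟩]⟩,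
  ⟨[(o10, o10), (o0, o8), (o14, o20), (o256, o3366), (o1965, o372), (o215, o473), (o12, o301), (o154, o42)], 130, .node 7 130 [⟨o46, [(46, [])], 3504⟩]⟩,
  ⟨[(o10, o10), (o0, o8), (o14, o20), (o256, o3366), (o1965, o372), (o215, o473), (o12, o301), (o154, o42), (o243, o46)], 130, .inner [5, 2, 3, 4, 1, 2, 3, 7, 8, 7, 2, 3, 4, 1, 2, 3, 7, 3, 4, 5, 4, 3, 1, 0, 2, 4, 1, 3, 4, 5, 4, 3, 7, 3, 2, 1, 4, 3, 2, 7, 8, 7, 3, 2, 1, 4, 3, 2, 5]⟩,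
  ⟨[(o10, o10), (o0, o8), (o14, o20), (o256, o3366), (o1965, o372), (o215, o473), (o12, o301), (o154, o2333)], 130, .node 7 130 []⟩,
  ⟨[(o10, o10), (o0, o8), (o14, o20), (o256, o3366), (o1965, o372), (o215, o926)], 130, .node 2 130 []⟩,
  ⟨[(o10, o10), (o0, o8), (o14, o20), (o256, o3366), (o1965, o372), (o215, o1081)], 130, .node 2 130 []⟩,
  ⟨[(o10, o10), (o0, o8), (o14, o20), (o256, o3366), (o1965, o2147)], 127, .node 5 131 [⟨o324, [(324, [])], 3509⟩,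
      ⟨o336, [(336, [])], 3517⟩,
      ⟨o1123, [(1123, [])], 3525⟩]⟩,
  ⟨[(o10, o10), (o0, o8), (o14, o20), (o256, o3366), (o1965, o2147), (o215, o324)], 131, .node 2 131 [⟨o2299, [(2299, [])], 3510⟩,
      ⟨o2300, [(2300, [])], 3514⟩]⟩,
  ⟨[(o10, o10), (o0, o8), (o14, o20), (o256, o3366), (o1965, o2147), (o215, o324), (o12, o2299)], 131, .node 4 131 [⟨o2003, [(2003, [])], 3511⟩]⟩,
  ⟨[(o10, o10), (o0, o8), (o14, o20), (o256, o3366), (o1965, o2147), (o215, o324), (o12, o2299), (o154, o2003)], 131, .node 7 131 [⟨o1488, [(1488, [])], 3512⟩,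
      ⟨o2333, [(2333, [])], 3513⟩]⟩,
  ⟨[(o10, o10), (o0, o8), (o14, o20), (o256, o3366), (o1965, o2147), (o215, o324), (o12, o2299), (o154, o2003), (o243, o1488)], 131, .bad [4, 5, 4] 20 20⟩,
  ⟨[(o10, o10), (o0, o8), (o14, o20), (o256, o3366), (o1965, o2147), (o215, o324), (o12, o2299), (o154, o2003), (o243, o2333)], 131, .bad [7, 4] 8 10⟩,
  ⟨[(o10, o10), (o0, o8), (o14, o20), (o256, o3366), (o1965, o2147), (o215, o324), (o12, o2300)], 131, .node 4 131 [⟨o2110, [(2110, [])], 3515⟩]⟩,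
  ⟨[(o10, o10), (o0, o8), (o14, o20), (o256, o3366), (o1965, o2147), (o215, o324), (o12, o2300), (o154, o2110)], 131, .node 7 131 [⟨o755, [(755, [])], 3516⟩]⟩,
  ⟨[(o10, o10), (o0, o8), (o14, o20), (o256, o3366), (o1965, o2147), (o215, o324), (o12, o2300), (o154, o2110), (o243, o755)], 131, .bad [4, 5, 4] 20 20⟩,
  ⟨[(o10, o10), (o0, o8), (o14, o20), (o256, o3366), (o1965, o2147), (o215, o336)], 131, .node 2 131 [⟨o2299, [(2299, [])], 3518⟩,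
      ⟨o2300, [(2300, [])], 3522⟩]⟩,
  ⟨[(o10, o10), (o0, o8), (o14, o20), (o256, o3366), (o1965, o2147), (o215, o336), (o12, o2299)], 131, .node 4 131 [⟨o2003, [(2003, [])], 3519⟩]⟩,
  ⟨[(o10, o10), (o0, o8), (o14, o20), (o256, o3366), (o1965, o2147), (o215, o336), (o12, o2299), (o154, o2003)], 131, .node 7 131 [⟨o1488, [(1488, [])], 3520⟩,
      ⟨o2333, [(2333, [])], 3521⟩]⟩,
  ⟨[(o10, o10), (o0, o8), (o14, o20), (o256, o3366), (o1965, o2147), (o215, o336), (o12, o2299), (o154, o2003), (o243, o1488)], 131, .bad [4, 5, 4] 20 20⟩,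
  ⟨[(o10, o10), (o0, o8), (o14, o20), (o256, o3366), (o1965, o2147), (o215, o336), (o12, o2299), (o154, o2003), (o243, o2333)], 131, .bad [7, 4] 8 10⟩,
  ⟨[(o10, o10), (o0, o8), (o14, o20), (o256, o3366), (o1965, o2147), (o215, o336), (o12, o2300)], 131, .node 4 131 [⟨o2110, [(2110, [])], 3523⟩]⟩,
  ⟨[(o10, o10), (o0, o8), (o14, o20), (o256, o3366), (o1965, o2147), (o215, o336), (o12, o2300), (o154, o2110)], 131, .node 7 131 [⟨o755, [(755, [])], 3524⟩]⟩,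
  ⟨[(o10, o10), (o0, o8), (o14, o20), (o256, o3366), (o1965, o2147), (o215, o336), (o12, o2300), (o154, o2110), (o243, o755)], 131, .bad [4, 5, 4] 20 20⟩,
  ⟨[(o10, o10), (o0, o8), (o14, o20), (o256, o3366), (o1965, o2147), (o215, o1123)], 131, .node 2 131 []⟩,
  ⟨[(o10, o10), (o0, o8), (o14, o20), (o256, o3366), (o1965, o2418)], 127, .node 5 132 [⟨o2167, [(2167, [])], 3527⟩,
      ⟨o2398, [(2398, [])], 3528⟩]⟩,
  ⟨[(o10, o10), (o0, o8), (o14, o20), (o256, o3366), (o1965, o2418), (o215, o2167)], 132, .node 2 132 []⟩,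
  ⟨[(o10, o10), (o0, o8), (o14, o20), (o256, o3366), (o1965, o2418), (o215, o2398)], 132, .node 2 132 [⟨o2394, [(2394, [])], 3529⟩,
      ⟨o2395, [(2395, [])], 3532⟩]⟩,
  ⟨[(o10, o10), (o0, o8), (o14, o20), (o256, o3366), (o1965, o2418), (o215, o2398), (o12, o2394)], 132, .node 4 132 [⟨o2627, [(2627, [])], 3530⟩]⟩,
  ⟨[(o10, o10), (o0, o8), (o14, o20), (o256, o3366), (o1965, o2418), (o215, o2398), (o12, o2394), (o154, o2627)], 132, .node 7 132 [⟨o2446, [(2446, [])], 3531⟩]⟩,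
  ⟨[(o10, o10), (o0, o8), (o14, o20), (o256, o3366), (o1965, o2418), (o215, o2398), (o12, o2394), (o154, o2627), (o243, o2446)], 132, .conjw 2 [1, 2, 1, 0, 3, 2, 1, 4, 5, 4, 3, 7, 3, 2, 4, 3, 5, 4, 8, 7, 3, 4, 2, 3, 7, 8, 6, 5, 4, 3, 7, 3, 4, 5, 1, 2, 3, 4, 0, 1, 0]⟩,
  ⟨[(o10, o10), (o0, o8), (o14, o20), (o256, o3366), (o1965, o2418), (o215, o2398), (o12, o2395)], 132, .node 7 132 [⟨o1350, [(1350, [])], 3533⟩]⟩,
  ⟨[(o10, o10), (o0, o8), (o14, o20), (o256, o3366), (o1965, o2418), (o215, o2398), (o12, o2395), (o243, o1350)], 132, .node 4 132 [⟨o2626, [(2626, [])], 3534⟩]⟩,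
  ⟨[(o10, o10), (o0, o8), (o14, o20), (o256, o3366), (o1965, o2418), (o215, o2398), (o12, o2395), (o243, o1350), (o154, o2626)], 132, .conjw 1 [1, 0, 2, 1, 0, 3, 2, 1, 4, 7, 3, 4, 8, 7, 3, 2, 4, 3, 7, 8, 5, 6, 4, 5, 1, 2, 3, 4, 0, 1, 2, 3, 7, 3, 4, 5, 4, 1, 2, 0]⟩,
  ⟨[(o10, o10), (o0, o8), (o14, o20), (o256, o3366), (o1965, o2690)], 127, .node 5 133 [⟨o831, [(831, [])], 3536⟩,
      ⟨o1123, [(1123, [])], 3543⟩]⟩,
  ⟨[(o10, o10), (o0, o8), (o14, o20), (o256, o3366), (o1965, o2690), (o215, o831)], 133, .node 2 133 [⟨o2299, [(2299, [])], 3537⟩,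
      ⟨o2300, [(2300, [])], 3540⟩]⟩,
  ⟨[(o10, o10), (o0, o8), (o14, o20), (o256, o3366), (o1965, o2690), (o215, o831), (o12, o2299)], 133, .node 4 133 [⟨o2003, [(2003, [])], 3538⟩]⟩,
  ⟨[(o10, o10), (o0, o8), (o14, o20), (o256, o3366), (o1965, o2690), (o215, o831), (o12, o2299), (o154, o2003)], 133, .node 7 133 [⟨o1488, [(1488, [])], 3539⟩]⟩,
  ⟨[(o10, o10), (o0, o8), (o14, o20), (o256, o3366), (o1965, o2690), (o215, o831), (o12, o2299), (o154, o2003), (o243, o1488)], 133, .inner [2, 3, 5, 4, 3, 6, 5, 4, 3, 2, 1, 7, 3, 2, 1, 0, 4, 3, 7, 8, 5, 4, 3, 7, 6, 5, 2, 3, 4, 1, 2, 3, 7, 1, 2, 3, 4, 5, 1, 2, 3, 0, 1, 0, 2, 4, 1, 0, 3, 2, 1, 5, 4, 3, 2, 1, 7, 3, 2, 1, 4, 3, 2, 5, 6, 7, 3, 4, 5, 8, 7, 3, 4, 0, 1, 2, 3, 7, 1, 2, 3, 4, 5, 6, 3, 4, 5, 3, 2]⟩,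
  ⟨[(o10, o10), (o0, o8), (o14, o20), (o256, o3366), (o1965, o2690), (o215, o831), (o12, o2300)], 133, .node 7 133 [⟨o755, [(755, [])], 3541⟩]⟩,
  ⟨[(o10, o10), (o0, o8), (o14, o20), (o256, o3366), (o1965, o2690), (o215, o831), (o12, o2300), (o243, o755)], 133, .node 4 133 [⟨o2110, [(2110, [])], 3542⟩]⟩,
  ⟨[(o10, o10), (o0, o8), (o14, o20), (o256, o3366), (o1965, o2690), (o215, o831), (o12, o2300), (o243, o755), (o154, o2110)], 133, .inner [2, 1, 0, 4, 6, 5, 7, 3, 2, 4, 3, 7, 8, 1, 2, 3, 7, 4, 5, 3, 4, 2, 3, 7, 8, 6, 5, 4, 3, 7, 6, 5, 2, 3, 1, 0, 2, 4, 1, 3, 2, 5, 6, 7, 3, 4, 5, 6, 8, 7, 3, 2, 4, 3, 5, 4, 7, 3, 2, 1, 8, 7, 3, 4, 2, 3, 7, 5, 6, 4, 0, 1, 2]⟩,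
  ⟨[(o10, o10), (o0, o8), (o14, o20), (o256, o3366), (o1965, o2690), (o215, o1123)], 133, .node 2 133 []⟩,
  ⟨[(o10, o10), (o0, o8), (o14, o66)], 107, .node 5 134 [⟨o1, [(1, [])], 3545⟩,
      ⟨o70, [(70, []), (79, [o68, o257, o20, o3433, o2213, o2427, o1204, o3433, o196, o3116, o2184, o210]), (214, [o1588, o68, o257, o20, o3433, o2213, o2427, o1204, o3433, o196, o3116, o2184, o210]), (1119, [o562, o210, o2184, o3116, o196, o3433, o0, o337, o213, o2641, o69, o68, o257, o946, o3433]), (1160, [o562]), (1477, [o210, o2184, o3116, o196, o3433, o0, o337, o213, o2641, o69, o68, o257, o946, o3433]), (1713, [o1588, o210, o2184, o3116, o196, o3433, o0, o337, o213, o2641, o69, o68, o257, o946, o3433]), (1966, [o562, o68, o257, o20, o3433, o2213, o2427, o1204, o3433, o196, o3116, o2184, o210]), (1975, [o1588])], 3658⟩,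
      ⟨o283, [(283, []), (473, [o68, o257, o20, o3433, o2213, o2427, o440, o256]), (981, [o153, o485, o69, o1963, o708, o133]), (2704, [o1588]), (2747, [o82]), (2757, [o562])], 3659⟩,
      ⟨o305, [(305, []), (324, [o68, o257, o20, o3433, o2213, o2427, o440, o256]), (637, [o153, o485, o69, o1963, o708, o133]), (2703, [o82]), (2748, [o562]), (2758, [o1588])], 3660⟩]⟩,
  ⟨[(o10, o10), (o0, o8), (o14, o66), (o215, o1)], 134, .node 6 135 [⟨o69, [(69, [])], 3546⟩,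
      ⟨o196, [(196, [])], 3586⟩,
      ⟨o213, [(213, []), (1132, [o82])], 3605⟩,
      ⟨o708, [(708, []), (1307, [o82])], 3613⟩,
      ⟨o1161, [(1161, []), (2549, [o82])], 3621⟩,
      ⟨o1911, [(1911, [])], 3643⟩]⟩,
  ⟨[(o10, o10), (o0, o8), (o14, o66), (o215, o1), (o256, o69)], 135, .node 8 136 [⟨o1160, [(1160, [])], 3547⟩,
      ⟨o1975, [(1975, [])], 3566⟩]⟩,
  ⟨[(o10, o10), (o0, o8), (o14, o66), (o215, o1), (o256, o69), (o1965, o1160)], 136, .node 2 136 [⟨o156, [(156, [])], 3548⟩,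
      ⟨o157, [(157, [])], 3553⟩,
      ⟨o1400, [(1400, [])], 3557⟩,
      ⟨o1401, [(1401, [])], 3561⟩]⟩,
  ⟨[(o10, o10), (o0, o8), (o14, o66), (o215, o1), (o256, o69), (o1965, o1160), (o12, o156)], 136, .node 4 136 [⟨o150, [(150, [])], 3549⟩,
      ⟨o2790, [(2790, [])], 3552⟩]⟩,
  ⟨[(o10, o10), (o0, o8), (o14, o66), (o215, o1), (o256, o69), (o1965, o1160), (o12, o156), (o154, o150)], 136, .node 7 136 [⟨o142, [(142, [])], 3550⟩,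
      ⟨o203, [(203, [])], 3551⟩]⟩,
  ⟨[(o10, o10), (o0, o8), (o14, o66), (o215, o1), (o256, o69), (o1965, o1160), (o12, o156), (o154, o150), (o243, o142)], 136, .conjw 1 [7, 5, 6, 4, 5, 2, 3, 4, 1, 2, 3, 7, 6, 5, 4, 0, 1, 2, 0, 1, 0]⟩,
  ⟨[(o10, o10), (o0, o8), (o14, o66), (o215, o1), (o256, o69), (o1965, o1160), (o12, o156), (o154, o150), (o243, o203)], 136, .bad [7, 4] 8 10⟩,
  ⟨[(o10, o10), (o0, o8), (o14, o66), (o215, o1), (o256, o69), (o1965, o1160), (o12, o156), (o154, o2790)], 136, .node 7 136 []⟩,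
  ⟨[(o10, o10), (o0, o8), (o14, o66), (o215, o1), (o256, o69), (o1965, o1160), (o12, o157)], 136, .node 4 136 [⟨o147, [(147, [])], 3554⟩]⟩,
  ⟨[(o10, o10), (o0, o8), (o14, o66), (o215, o1), (o256, o69), (o1965, o1160), (o12, o157), (o154, o147)], 136, .node 7 136 [⟨o103, [(103, [])], 3555⟩,
      ⟨o219, [(219, [])], 3556⟩]⟩,
  ⟨[(o10, o10), (o0, o8), (o14, o66), (o215, o1), (o256, o69), (o1965, o1160), (o12, o157), (o154, o147), (o243, o103)], 136, .conjw 2 [1, 2, 1, 0, 3, 2, 1, 7, 8, 7, 3, 4, 2, 3, 7, 5, 6, 4, 5, 3, 4, 2, 3, 7, 1, 2, 3, 0, 1, 2, 0, 1, 0]⟩,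
  ⟨[(o10, o10), (o0, o8), (o14, o66), (o215, o1), (o256, o69), (o1965, o1160), (o12, o157), (o154, o147), (o243, o219)], 136, .bad [7, 4] 8 10⟩,
  ⟨[(o10, o10), (o0, o8), (o14, o66), (o215, o1), (o256, o69), (o1965, o1160), (o12, o1400)], 136, .node 4 136 [⟨o2791, [(2791, [])], 3558⟩]⟩,
  ⟨[(o10, o10), (o0, o8), (o14, o66), (o215, o1), (o256, o69), (o1965, o1160), (o12, o1400), (o154, o2791)], 136, .node 7 136 [⟨o170, [(170, [])], 3559⟩,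
      ⟨o1374, [(1374, [])], 3560⟩]⟩,
  ⟨[(o10, o10), (o0, o8), (o14, o66), (o215, o1), (o256, o69), (o1965, o1160), (o12, o1400), (o154, o2791), (o243, o170)], 136, .bad [7, 4] 8 10⟩,
  ⟨[(o10, o10), (o0, o8), (o14, o66), (o215, o1), (o256, o69), (o1965, o1160), (o12, o1400), (o154, o2791), (o243, o1374)], 136, .inner [0, 1, 2, 1, 3, 2, 4, 3, 7, 3, 8, 7, 3, 2, 1, 0, 4, 3, 7, 5, 6, 4, 5, 2, 3, 4, 1, 2, 3, 7, 8, 5, 3, 4, 2, 3, 7, 3, 4, 5, 2, 3, 0, 1, 0, 2, 4, 1, 0, 3, 2, 5, 4, 3, 7, 3, 2, 4, 3, 5, 8, 7, 3, 2, 1, 4, 3, 2, 5, 4, 6, 5, 7, 3, 4, 0, 1, 2, 3, 7, 8, 3, 7, 3, 4, 2, 3, 1, 2, 1, 0]⟩,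
  ⟨[(o10, o10), (o0, o8), (o14, o66), (o215, o1), (o256, o69), (o1965, o1160), (o12, o1401)], 136, .node 4 136 [⟨o150, [(150, [])], 3562⟩,
      ⟨o2790, [(2790, [])], 3563⟩]⟩,
  ⟨[(o10, o10), (o0, o8), (o14, o66), (o215, o1), (o256, o69), (o1965, o1160), (o12, o1401), (o154, o150)], 136, .node 7 136 []⟩,
  ⟨[(o10, o10), (o0, o8), (o14, o66), (o215, o1), (o256, o69), (o1965, o1160), (o12, o1401), (o154, o2790)], 136, .node 7 136 [⟨o219, [(219, [])], 3564⟩,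
      ⟨o1373, [(1373, [])], 3565⟩]⟩,
  ⟨[(o10, o10), (o0, o8), (o14, o66), (o215, o1), (o256, o69), (o1965, o1160), (o12, o1401), (o154, o2790), (o243, o219)], 136, .bad [7, 4] 8 10⟩,
  ⟨[(o10, o10), (o0, o8), (o14, o66), (o215, o1), (o256, o69), (o1965, o1160), (o12, o1401), (o154, o2790), (o243, o1373)], 136, .inner [0, 2, 1, 0, 3, 2, 1, 4, 3, 5, 4, 6, 5, 8, 7, 3, 4, 2, 3, 7, 5, 6, 4, 5, 3, 4, 1, 2, 3, 7, 8, 0, 1, 2, 3, 7, 3, 4, 5, 2, 3, 1, 0, 2, 4, 1, 3, 2, 5, 4, 3, 7, 3, 2, 1, 0, 8, 7, 3, 2, 1, 4, 3, 5, 4, 6, 5, 7, 3, 2, 4, 3, 7, 8, 5, 6, 4, 5, 3, 4, 1, 2, 3, 0, 1, 2, 0]⟩,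
  ⟨[(o10, o10), (o0, o8), (o14, o66), (o215, o1), (o256, o69), (o1965, o1975)], 136, .node 2 136 [⟨o64, [(64, [])], 3567⟩,
      ⟨o144, [(144, [])], 3573⟩,
      ⟨o631, [(631, [])], 3578⟩,
      ⟨o685, [(685, [])], 3583⟩]⟩,
  ⟨[(o10, o10), (o0, o8), (o14, o66), (o215, o1), (o256, o69), (o1965, o1975), (o12, o64)], 136, .node 4 136 [⟨o73, [(73, [])], 3568⟩,
      ⟨o239, [(239, [])], 3572⟩]⟩,
  ⟨[(o10, o10), (o0, o8), (o14, o66), (o215, o1), (o256, o69), (o1965, o1975), (o12, o64), (o154, o73)], 136, .node 7 136 [⟨o103, [(103, [])], 3569⟩,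
      ⟨o219, [(219, [])], 3570⟩,
      ⟨o1373, [(1373, [])], 3571⟩]⟩,
  ⟨[(o10, o10), (o0, o8), (o14, o66), (o215, o1), (o256, o69), (o1965, o1975), (o12, o64), (o154, o73), (o243, o103)], 136, .bad [7, 4] 8 10⟩,
  ⟨[(o10, o10), (o0, o8), (o14, o66), (o215, o1), (o256, o69), (o1965, o1975), (o12, o64), (o154, o73), (o243, o219)], 136, .conjw 0 [7, 3, 1, 2, 0, 1, 0]⟩,
  ⟨[(o10, o10), (o0, o8), (o14, o66), (o215, o1), (o256, o69), (o1965, o1975), (o12, o64), (o154, o73), (o243, o1373)], 136, .bad [7, 4] 8 10⟩,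
  ⟨[(o10, o10), (o0, o8), (o14, o66), (o215, o1), (o256, o69), (o1965, o1975), (o12, o64), (o154, o239)], 136, .node 7 136 []⟩,
  ⟨[(o10, o10), (o0, o8), (o14, o66), (o215, o1), (o256, o69), (o1965, o1975), (o12, o144)], 136, .node 4 136 [⟨o74, [(74, [])], 3574⟩,
      ⟨o238, [(238, [])], 3577⟩]⟩,
  ⟨[(o10, o10), (o0, o8), (o14, o66), (o215, o1), (o256, o69), (o1965, o1975), (o12, o144), (o154, o74)], 136, .node 7 136 [⟨o142, [(142, [])], 3575⟩,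
      ⟨o203, [(203, [])], 3576⟩]⟩,
  ⟨[(o10, o10), (o0, o8), (o14, o66), (o215, o1), (o256, o69), (o1965, o1975), (o12, o144), (o154, o74), (o243, o142)], 136, .bad [7, 4] 8 10⟩,
  ⟨[(o10, o10), (o0, o8), (o14, o66), (o215, o1), (o256, o69), (o1965, o1975), (o12, o144), (o154, o74), (o243, o203)], 136, .conjw 1 [1, 2, 3, 7, 3, 2, 0, 1, 0]⟩,
  ⟨[(o10, o10), (o0, o8), (o14, o66), (o215, o1), (o256, o69), (o1965, o1975), (o12, o144), (o154, o238)], 136, .node 7 136 []⟩,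
  ⟨[(o10, o10), (o0, o8), (o14, o66), (o215, o1), (o256, o69), (o1965, o1975), (o12, o631)], 136, .node 4 136 [⟨o73, [(73, [])], 3579⟩,
      ⟨o239, [(239, [])], 3580⟩]⟩,
  ⟨[(o10, o10), (o0, o8), (o14, o66), (o215, o1), (o256, o69), (o1965, o1975), (o12, o631), (o154, o73)], 136, .node 7 136 []⟩,
  ⟨[(o10, o10), (o0, o8), (o14, o66), (o215, o1), (o256, o69), (o1965, o1975), (o12, o631), (o154, o239)], 136, .node 7 136 [⟨o170, [(170, [])], 3581⟩,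
      ⟨o1374, [(1374, [])], 3582⟩]⟩,
  ⟨[(o10, o10), (o0, o8), (o14, o66), (o215, o1), (o256, o69), (o1965, o1975), (o12, o631), (o154, o239), (o243, o170)], 136, .inner [0, 1, 2, 1, 3, 2, 8, 7, 6, 3, 4, 5, 2, 3, 4, 1, 2, 3, 7, 8, 1, 2, 3, 7, 6, 4, 5, 3, 4, 0, 1, 2, 3, 7, 4, 5, 3, 4, 2, 3, 1, 0, 2, 1, 3, 2, 4, 3, 5, 4, 7, 3, 2, 1, 0, 4, 3, 5, 4, 6, 7, 3, 2, 1, 8, 7, 3, 2, 1, 4, 3, 2, 5, 4, 3, 6, 7, 8, 2, 3, 1, 2, 1, 0]⟩,
  ⟨[(o10, o10), (o0, o8), (o14, o66), (o215, o1), (o256, o69), (o1965, o1975), (o12, o631), (o154, o239), (o243, o1374)], 136, .bad [7, 4] 8 10⟩,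
  ⟨[(o10, o10), (o0, o8), (o14, o66), (o215, o1), (o256, o69), (o1965, o1975), (o12, o685)], 136, .node 7 136 [⟨o169, [(169, [])], 3584⟩]⟩]

/-- Nodes. -/
def nd28 : List ONode := [
  ⟨[(o10, o10), (o0, o8), (o14, o66), (o215, o1), (o256, o69), (o1965, o1975), (o12, o685), (o243, o169)], 136, .node 4 136 [⟨o238, [(238, [])], 3585⟩]⟩,
  ⟨[(o10, o10), (o0, o8), (o14, o66), (o215, o1), (o256, o69), (o1965, o1975), (o12, o685), (o243, o169), (o154, o238)], 136, .inner [0, 1, 2, 1, 3, 2, 4, 6, 5, 8, 7, 3, 2, 1, 0, 4, 5, 3, 4, 2, 3, 7, 8, 3, 7, 6, 4, 5, 3, 4, 1, 2, 3, 7, 2, 3, 4, 5, 1, 2, 3, 0, 1, 0, 2, 4, 1, 0, 3, 2, 1, 5, 4, 3, 2, 7, 3, 2, 1, 4, 3, 5, 4, 6, 7, 3, 8, 7, 3, 2, 4, 3, 5, 4, 0, 1, 2, 3, 7, 8, 5, 6, 4, 2, 3, 1, 2, 1, 0]⟩,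
  ⟨[(o10, o10), (o0, o8), (o14, o66), (o215, o1), (o256, o196)], 135, .node 8 137 [⟨o214, [(214, [])], 3587⟩,
      ⟨o1966, [(1966, [])], 3596⟩]⟩,
  ⟨[(o10, o10), (o0, o8), (o14, o66), (o215, o1), (o256, o196), (o1965, o214)], 137, .node 2 137 [⟨o64, [(64, [])], 3588⟩,
      ⟨o144, [(144, [])], 3592⟩]⟩,
  ⟨[(o10, o10), (o0, o8), (o14, o66), (o215, o1), (o256, o196), (o1965, o214), (o12, o64)], 137, .node 4 137 [⟨o147, [(147, [])], 3589⟩]⟩,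
  ⟨[(o10, o10), (o0, o8), (o14, o66), (o215, o1), (o256, o196), (o1965, o214), (o12, o64), (o154, o147)], 137, .node 7 137 [⟨o103, [(103, [])], 3590⟩,
      ⟨o219, [(219, [])], 3591⟩]⟩,
  ⟨[(o10, o10), (o0, o8), (o14, o66), (o215, o1), (o256, o196), (o1965, o214), (o12, o64), (o154, o147), (o243, o103)], 137, .inner [8, 5, 4, 3, 7, 5, 2, 3, 4, 1, 2, 3, 7, 8, 5, 4, 2, 3, 7, 2, 3, 4, 5, 2, 3, 0, 2, 4, 3, 2, 5, 4, 3, 2, 7, 3, 2, 4, 5, 8, 7, 3, 2, 1, 4, 3, 2, 5, 7, 3, 4, 5, 8]⟩,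
  ⟨[(o10, o10), (o0, o8), (o14, o66), (o215, o1), (o256, o196), (o1965, o214), (o12, o64), (o154, o147), (o243, o219)], 137, .bad [7, 4] 8 10⟩,
  ⟨[(o10, o10), (o0, o8), (o14, o66), (o215, o1), (o256, o196), (o1965, o214), (o12, o144)], 137, .node 4 137 [⟨o150, [(150, [])], 3593⟩]⟩,
  ⟨[(o10, o10), (o0, o8), (o14, o66), (o215, o1), (o256, o196), (o1965, o214), (o12, o144), (o154, o150)], 137, .node 7 137 [⟨o142, [(142, [])], 3594⟩,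
      ⟨o203, [(203, [])], 3595⟩]⟩,
  ⟨[(o10, o10), (o0, o8), (o14, o66), (o215, o1), (o256, o196), (o1965, o214), (o12, o144), (o154, o150), (o243, o142)], 137, .inner [7, 2, 3, 4, 5, 1, 2, 3, 4, 0, 1, 2, 3, 7, 1, 2, 3, 4, 5, 2, 3, 0, 1, 0, 2, 4, 1, 0, 3, 2, 5, 4, 3, 2, 1, 7, 3, 2, 1, 0, 4, 3, 2, 1, 5, 4, 3, 2, 7]⟩,
  ⟨[(o10, o10), (o0, o8), (o14, o66), (o215, o1), (o256, o196), (o1965, o214), (o12, o144), (o154, o150), (o243, o203)], 137, .bad [7, 4] 8 10⟩,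
  ⟨[(o10, o10), (o0, o8), (o14, o66), (o215, o1), (o256, o196), (o1965, o1966)], 137, .node 2 137 [⟨o156, [(156, [])], 3597⟩,
      ⟨o157, [(157, [])], 3601⟩]⟩,
  ⟨[(o10, o10), (o0, o8), (o14, o66), (o215, o1), (o256, o196), (o1965, o1966), (o12, o156)], 137, .node 4 137 [⟨o74, [(74, [])], 3598⟩]⟩,
  ⟨[(o10, o10), (o0, o8), (o14, o66), (o215, o1), (o256, o196), (o1965, o1966), (o12, o156), (o154, o74)], 137, .node 7 137 [⟨o142, [(142, [])], 3599⟩,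
      ⟨o203, [(203, [])], 3600⟩]⟩,
  ⟨[(o10, o10), (o0, o8), (o14, o66), (o215, o1), (o256, o196), (o1965, o1966), (o12, o156), (o154, o74), (o243, o142)], 137, .bad [7, 4] 8 10⟩,
  ⟨[(o10, o10), (o0, o8), (o14, o66), (o215, o1), (o256, o196), (o1965, o1966), (o12, o156), (o154, o74), (o243, o203)], 137, .inner [6, 5, 4, 3, 7, 5, 6, 4, 5, 2, 3, 0, 1, 0, 2, 4, 1, 0, 3, 2, 5, 4, 6, 5, 7, 3, 4, 5, 6]⟩,
  ⟨[(o10, o10), (o0, o8), (o14, o66), (o215, o1), (o256, o196), (o1965, o1966), (o12, o157)], 137, .node 4 137 [⟨o73, [(73, [])], 3602⟩]⟩,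
  ⟨[(o10, o10), (o0, o8), (o14, o66), (o215, o1), (o256, o196), (o1965, o1966), (o12, o157), (o154, o73)], 137, .node 7 137 [⟨o103, [(103, [])], 3603⟩,
      ⟨o219, [(219, [])], 3604⟩]⟩,
  ⟨[(o10, o10), (o0, o8), (o14, o66), (o215, o1), (o256, o196), (o1965, o1966), (o12, o157), (o154, o73), (o243, o103)], 137, .bad [7, 4] 8 10⟩,
  ⟨[(o10, o10), (o0, o8), (o14, o66), (o215, o1), (o256, o196), (o1965, o1966), (o12, o157), (o154, o73), (o243, o219)], 137, .inner [1, 2, 1, 0, 8, 3, 7, 4, 5, 2, 3, 4, 1, 2, 3, 7, 8, 5, 6, 4, 5, 1, 2, 3, 4, 0, 1, 2, 3, 7, 5, 6, 4, 5, 3, 4, 2, 3, 1, 0, 2, 1, 3, 2, 4, 3, 5, 4, 6, 5, 7, 3, 2, 1, 0, 4, 3, 2, 1, 5, 4, 6, 5, 8, 7, 3, 2, 1, 4, 3, 2, 5, 4, 7, 3, 8, 0, 1, 2, 1]⟩,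
  ⟨[(o10, o10), (o0, o8), (o14, o66), (o215, o1), (o256, o213)], 135, .node 8 138 [⟨o1966, [(1966, [])], 3606⟩]⟩,
  ⟨[(o10, o10), (o0, o8), (o14, o66), (o215, o1), (o256, o213), (o1965, o1966)], 138, .node 2 138 [⟨o659, [(659, [])], 3607⟩,
      ⟨o1295, [(1295, [])], 3610⟩]⟩,
  ⟨[(o10, o10), (o0, o8), (o14, o66), (o215, o1), (o256, o213), (o1965, o1966), (o12, o659)], 138, .node 4 138 [⟨o2395, [(2395, [])], 3608⟩]⟩,
  ⟨[(o10, o10), (o0, o8), (o14, o66), (o215, o1), (o256, o213), (o1965, o1966), (o12, o659), (o154, o2395)], 138, .node 7 138 [⟨o2181, [(2181, [])], 3609⟩]⟩,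
  ⟨[(o10, o10), (o0, o8), (o14, o66), (o215, o1), (o256, o213), (o1965, o1966), (o12, o659), (o154, o2395), (o243, o2181)], 138, .inner [4, 5, 6, 5, 4, 3, 7, 8, 3, 7, 3, 4, 5, 6, 2, 3, 4, 5, 1, 2, 3, 4, 0, 1, 2, 3, 7, 3, 4, 5, 2, 3, 0, 1, 0, 2, 4, 1, 0, 3, 2, 5, 4, 3, 7, 3, 2, 1, 0, 4, 3, 2, 1, 5, 4, 3, 2, 6, 5, 4, 3, 7, 3, 8, 7, 3, 4, 5, 6, 5, 4]⟩,
  ⟨[(o10, o10), (o0, o8), (o14, o66), (o215, o1), (o256, o213), (o1965, o1966), (o12, o1295)], 138, .node 4 138 [⟨o2394, [(2394, [])], 3611⟩]⟩,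
  ⟨[(o10, o10), (o0, o8), (o14, o66), (o215, o1), (o256, o213), (o1965, o1966), (o12, o1295), (o154, o2394)], 138, .node 7 138 [⟨o822, [(822, [])], 3612⟩]⟩,
  ⟨[(o10, o10), (o0, o8), (o14, o66), (o215, o1), (o256, o213), (o1965, o1966), (o12, o1295), (o154, o2394), (o243, o822)], 138, .inner [1, 0, 4, 3, 8, 7, 5, 6, 4, 5, 2, 3, 4, 1, 2, 3, 7, 8, 5, 4, 1, 2, 3, 7, 1, 2, 3, 4, 5, 3, 0, 2, 4, 3, 5, 4, 3, 2, 1, 7, 3, 2, 1, 4, 5, 8, 7, 3, 2, 1, 4, 3, 2, 5, 4, 6, 5, 7, 8, 3, 4, 0, 1]⟩,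
  ⟨[(o10, o10), (o0, o8), (o14, o66), (o215, o1), (o256, o708)], 135, .node 8 139 [⟨o1119, [(1119, [])], 3614⟩]⟩,
  ⟨[(o10, o10), (o0, o8), (o14, o66), (o215, o1), (o256, o708), (o1965, o1119)], 139, .node 2 139 [⟨o29, [(29, [])], 3615⟩,
      ⟨o121, [(121, [])], 3618⟩]⟩,
  ⟨[(o10, o10), (o0, o8), (o14, o66), (o215, o1), (o256, o708), (o1965, o1119), (o12, o29)], 139, .node 4 139 [⟨o260, [(260, [])], 3616⟩]⟩,
  ⟨[(o10, o10), (o0, o8), (o14, o66), (o215, o1), (o256, o708), (o1965, o1119), (o12, o29), (o154, o260)], 139, .node 7 139 [⟨o327, [(327, [])], 3617⟩]⟩,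
  ⟨[(o10, o10), (o0, o8), (o14, o66), (o215, o1), (o256, o708), (o1965, o1119), (o12, o29), (o154, o260), (o243, o327)], 139, .inner [1, 0, 2, 1, 0, 3, 8, 7, 3, 4, 5, 2, 3, 4, 1, 2, 3, 7, 8, 5, 4, 0, 1, 2, 3, 7, 3, 4, 5, 2, 3, 1, 0, 2, 4, 1, 3, 2, 5, 4, 3, 7, 3, 2, 1, 0, 4, 5, 8, 7, 3, 2, 1, 4, 3, 2, 5, 4, 3, 7, 8, 3, 0, 1, 2, 0, 1]⟩,
  ⟨[(o10, o10), (o0, o8), (o14, o66), (o215, o1), (o256, o708), (o1965, o1119), (o12, o121)], 139, .node 4 139 [⟨o261, [(261, [])], 3619⟩]⟩,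
  ⟨[(o10, o10), (o0, o8), (o14, o66), (o215, o1), (o256, o708), (o1965, o1119), (o12, o121), (o154, o261)], 139, .node 7 139 [⟨o328, [(328, [])], 3620⟩]⟩,
  ⟨[(o10, o10), (o0, o8), (o14, o66), (o215, o1), (o256, o708), (o1965, o1119), (o12, o121), (o154, o261), (o243, o328)], 139, .inner [0, 4, 5, 3, 4, 2, 3, 7, 1, 2, 3, 4, 0, 1, 2, 3, 7, 8, 5, 4, 3, 7, 3, 4, 5, 2, 3, 1, 0, 2, 4, 1, 3, 2, 5, 4, 3, 7, 3, 4, 5, 8, 7, 3, 2, 1, 0, 4, 3, 2, 1, 7, 3, 2, 4, 3, 5, 4, 0]⟩,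
  ⟨[(o10, o10), (o0, o8), (o14, o66), (o215, o1), (o256, o1161)], 135, .node 8 140 [⟨o1975, [(1975, [])], 3622⟩]⟩,
  ⟨[(o10, o10), (o0, o8), (o14, o66), (o215, o1), (o256, o1161), (o1965, o1975)], 140, .node 2 140 [⟨o1042, [(1042, [])], 3623⟩,
      ⟨o2096, [(2096, [])], 3627⟩,
      ⟨o2818, [(2818, [])], 3632⟩,
      ⟨o2885, [(2885, [])], 3637⟩]⟩,
  ⟨[(o10, o10), (o0, o8), (o14, o66), (o215, o1), (o256, o1161), (o1965, o1975), (o12, o1042)], 140, .node 4 140 [⟨o846, [(846, [])], 3624⟩,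
      ⟨o2395, [(2395, [])], 3625⟩]⟩,
  ⟨[(o10, o10), (o0, o8), (o14, o66), (o215, o1), (o256, o1161), (o1965, o1975), (o12, o1042), (o154, o846)], 140, .node 7 140 []⟩,
  ⟨[(o10, o10), (o0, o8), (o14, o66), (o215, o1), (o256, o1161), (o1965, o1975), (o12, o1042), (o154, o2395)], 140, .node 7 140 [⟨o2181, [(2181, [])], 3626⟩]⟩,
  ⟨[(o10, o10), (o0, o8), (o14, o66), (o215, o1), (o256, o1161), (o1965, o1975), (o12, o1042), (o154, o2395), (o243, o2181)], 140, .conjw 1 [6, 5, 4, 3, 7, 8, 3, 7, 6, 5, 2, 3, 4, 1, 2, 3, 7, 6, 5, 4, 0, 1, 2, 1]⟩,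
  ⟨[(o10, o10), (o0, o8), (o14, o66), (o215, o1), (o256, o1161), (o1965, o1975), (o12, o2096)], 140, .node 4 140 [⟨o845, [(845, [])], 3628⟩,
      ⟨o2394, [(2394, [])], 3629⟩]⟩,
  ⟨[(o10, o10), (o0, o8), (o14, o66), (o215, o1), (o256, o1161), (o1965, o1975), (o12, o2096), (o154, o845)], 140, .node 7 140 []⟩,
  ⟨[(o10, o10), (o0, o8), (o14, o66), (o215, o1), (o256, o1161), (o1965, o1975), (o12, o2096), (o154, o2394)], 140, .node 7 140 [⟨o822, [(822, [])], 3630⟩,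
      ⟨o1374, [(1374, [])], 3631⟩]⟩,
  ⟨[(o10, o10), (o0, o8), (o14, o66), (o215, o1), (o256, o1161), (o1965, o1975), (o12, o2096), (o154, o2394), (o243, o822)], 140, .conjw 2 [1, 0, 4, 5, 3, 4, 2, 3, 7, 6, 5, 1, 2, 3, 4, 0, 1, 2, 3, 7, 5, 6, 4, 5, 3, 4]⟩,
  ⟨[(o10, o10), (o0, o8), (o14, o66), (o215, o1), (o256, o1161), (o1965, o1975), (o12, o2096), (o154, o2394), (o243, o1374)], 140, .bad [7, 4] 8 10⟩,
  ⟨[(o10, o10), (o0, o8), (o14, o66), (o215, o1), (o256, o1161), (o1965, o1975), (o12, o2818)], 140, .node 4 140 [⟨o846, [(846, [])], 3633⟩,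
      ⟨o2395, [(2395, [])], 3636⟩]⟩,
  ⟨[(o10, o10), (o0, o8), (o14, o66), (o215, o1), (o256, o1161), (o1965, o1975), (o12, o2818), (o154, o846)], 140, .node 7 140 [⟨o1340, [(1340, [])], 3634⟩,
      ⟨o1374, [(1374, [])], 3635⟩]⟩,
  ⟨[(o10, o10), (o0, o8), (o14, o66), (o215, o1), (o256, o1161), (o1965, o1975), (o12, o2818), (o154, o846), (o243, o1340)], 140, .inner [2, 1, 0, 4, 5, 6, 7, 3, 2, 1, 4, 3, 2, 5, 4, 3, 7, 8, 3, 4, 5, 6, 2, 3, 4, 5, 1, 2, 3, 4, 0, 1, 2, 3, 7, 3, 4, 5, 2, 3, 0, 1, 0, 2, 4, 1, 0, 3, 2, 5, 4, 3, 7, 3, 2, 1, 0, 4, 3, 2, 1, 5, 4, 3, 2, 6, 5, 4, 3, 8, 7, 3, 4, 5, 2, 3, 4, 1, 2, 3, 7, 6, 5, 4, 0, 1, 2]⟩,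
  ⟨[(o10, o10), (o0, o8), (o14, o66), (o215, o1), (o256, o1161), (o1965, o1975), (o12, o2818), (o154, o846), (o243, o1374)], 140, .bad [7, 4] 8 10⟩,
  ⟨[(o10, o10), (o0, o8), (o14, o66), (o215, o1), (o256, o1161), (o1965, o1975), (o12, o2818), (o154, o2395)], 140, .node 7 140 []⟩,
  ⟨[(o10, o10), (o0, o8), (o14, o66), (o215, o1), (o256, o1161), (o1965, o1975), (o12, o2885)], 140, .node 4 140 [⟨o845, [(845, [])], 3638⟩,
      ⟨o2394, [(2394, [])], 3642⟩]⟩,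
  ⟨[(o10, o10), (o0, o8), (o14, o66), (o215, o1), (o256, o1161), (o1965, o1975), (o12, o2885), (o154, o845)], 140, .node 7 140 [⟨o103, [(103, [])], 3639⟩,
      ⟨o1373, [(1373, [])], 3640⟩,
      ⟨o2203, [(2203, [])], 3641⟩]⟩,
  ⟨[(o10, o10), (o0, o8), (o14, o66), (o215, o1), (o256, o1161), (o1965, o1975), (o12, o2885), (o154, o845), (o243, o103)], 140, .bad [7, 4] 8 10⟩,
  ⟨[(o10, o10), (o0, o8), (o14, o66), (o215, o1), (o256, o1161), (o1965, o1975), (o12, o2885), (o154, o845), (o243, o1373)], 140, .bad [7, 4] 8 10⟩,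
  ⟨[(o10, o10), (o0, o8), (o14, o66), (o215, o1), (o256, o1161), (o1965, o1975), (o12, o2885), (o154, o845), (o243, o2203)], 140, .inner [0, 2, 3, 4, 3, 2, 1, 0, 5, 4, 3, 2, 1, 6, 7, 8, 3, 7, 3, 4, 5, 2, 3, 4, 1, 2, 3, 7, 8, 3, 4, 1, 2, 3, 7, 6, 4, 5, 4, 3, 1, 0, 2, 4, 1, 3, 4, 5, 4, 6, 7, 3, 2, 1, 4, 3, 8, 7, 3, 2, 1, 4, 3, 2, 5, 4, 3, 7, 3, 8, 7, 6, 1, 2, 3, 4, 5, 0, 1, 2, 3, 4, 3, 2, 0]⟩,
  ⟨[(o10, o10), (o0, o8), (o14, o66), (o215, o1), (o256, o1161), (o1965, o1975), (o12, o2885), (o154, o2394)], 140, .node 7 140 []⟩,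
  ⟨[(o10, o10), (o0, o8), (o14, o66), (o215, o1), (o256, o1911)], 135, .node 8 141 [⟨o1119, [(1119, [])], 3644⟩,
      ⟨o1477, [(1477, [])], 3651⟩]⟩,
  ⟨[(o10, o10), (o0, o8), (o14, o66), (o215, o1), (o256, o1911), (o1965, o1119)], 141, .node 2 141 [⟨o2290, [(2290, [])], 3645⟩,
      ⟨o2448, [(2448, [])], 3648⟩]⟩,
  ⟨[(o10, o10), (o0, o8), (o14, o66), (o215, o1), (o256, o1911), (o1965, o1119), (o12, o2290)], 141, .node 4 141 [⟨o2412, [(2412, [])], 3646⟩]⟩,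
  ⟨[(o10, o10), (o0, o8), (o14, o66), (o215, o1), (o256, o1911), (o1965, o1119), (o12, o2290), (o154, o2412)], 141, .node 7 141 [⟨o2632, [(2632, [])], 3647⟩]⟩,
  ⟨[(o10, o10), (o0, o8), (o14, o66), (o215, o1), (o256, o1911), (o1965, o1119), (o12, o2290), (o154, o2412), (o243, o2632)], 141, .inner [0, 2, 3, 4, 3, 7, 8, 2, 3, 7, 3, 4, 5, 1, 2, 3, 4, 0, 1, 2, 3, 7, 8, 6, 5, 4, 0, 1, 2, 3, 7, 4, 5, 3, 4, 2, 3, 1, 0, 2, 1, 3, 2, 4, 3, 5, 4, 7, 3, 2, 1, 0, 4, 5, 6, 8, 7, 3, 2, 1, 0, 4, 3, 2, 1, 5, 4, 3, 7, 3, 2, 8, 7, 3, 4, 3, 2, 0]⟩,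
  ⟨[(o10, o10), (o0, o8), (o14, o66), (o215, o1), (o256, o1911), (o1965, o1119), (o12, o2448)], 141, .node 4 141 [⟨o2119, [(2119, [])], 3649⟩]⟩,
  ⟨[(o10, o10), (o0, o8), (o14, o66), (o215, o1), (o256, o1911), (o1965, o1119), (o12, o2448), (o154, o2119)], 141, .node 7 141 [⟨o2658, [(2658, [])], 3650⟩]⟩,
  ⟨[(o10, o10), (o0, o8), (o14, o66), (o215, o1), (o256, o1911), (o1965, o1119), (o12, o2448), (o154, o2119), (o243, o2658)], 141, .inner [7, 3, 2, 1, 0, 8, 7, 3, 2, 4, 5, 3, 4, 1, 2, 3, 7, 8, 6, 5, 4, 0, 1, 2, 3, 7, 4, 5, 6, 3, 4, 5, 2, 3, 0, 1, 0, 2, 4, 1, 0, 3, 2, 5, 4, 3, 6, 5, 4, 7, 3, 2, 1, 0, 4, 5, 6, 8, 7, 3, 2, 1, 4, 3, 5, 4, 2, 3, 7, 8, 0, 1, 2, 3, 7]⟩,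
  ⟨[(o10, o10), (o0, o8), (o14, o66), (o215, o1), (o256, o1911), (o1965, o1477)], 141, .node 2 141 [⟨o1573, [(1573, [])], 3652⟩,
      ⟨o2235, [(2235, [])], 3655⟩]⟩,
  ⟨[(o10, o10), (o0, o8), (o14, o66), (o215, o1), (o256, o1911), (o1965, o1477), (o12, o1573)], 141, .node 4 141 [⟨o2657, [(2657, [])], 3653⟩]⟩,
  ⟨[(o10, o10), (o0, o8), (o14, o66), (o215, o1), (o256, o1911), (o1965, o1477), (o12, o1573), (o154, o2657)], 141, .node 7 141 [⟨o1884, [(1884, [])], 3654⟩]⟩,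
  ⟨[(o10, o10), (o0, o8), (o14, o66), (o215, o1), (o256, o1911), (o1965, o1477), (o12, o1573), (o154, o2657), (o243, o1884)], 141, .inner [1, 0, 6, 5, 8, 7, 3, 2, 1, 0, 4, 3, 7, 5, 6, 4, 5, 2, 3, 4, 1, 2, 3, 7, 8, 5, 4, 1, 2, 3, 7, 3, 4, 5, 2, 3, 1, 0, 2, 4, 1, 3, 2, 5, 4, 3, 7, 3, 2, 1, 4, 5, 8, 7, 3, 2, 1, 4, 3, 2, 5, 4, 6, 5, 7, 3, 4, 0, 1, 2, 3, 7, 8, 5, 6, 0, 1]⟩,
  ⟨[(o10, o10), (o0, o8), (o14, o66), (o215, o1), (o256, o1911), (o1965, o1477), (o12, o2235)], 141, .node 4 141 [⟨o2581, [(2581, [])], 3656⟩]⟩,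
  ⟨[(o10, o10), (o0, o8), (o14, o66), (o215, o1), (o256, o1911), (o1965, o1477), (o12, o2235), (o154, o2581)], 141, .node 7 141 [⟨o1806, [(1806, [])], 3657⟩]⟩,
  ⟨[(o10, o10), (o0, o8), (o14, o66), (o215, o1), (o256, o1911), (o1965, o1477), (o12, o2235), (o154, o2581), (o243, o1806)], 141, .inner [0, 4, 3, 5, 4, 6, 5, 4, 3, 7, 8, 7, 3, 4, 2, 3, 7, 5, 1, 2, 3, 4, 0, 1, 2, 3, 7, 8, 6, 5, 4, 3, 7, 3, 4, 5, 2, 3, 1, 0, 2, 4, 1, 3, 2, 5, 4, 3, 7, 3, 4, 5, 6, 8, 7, 3, 2, 1, 0, 4, 3, 2, 1, 5, 7, 3, 2, 4, 3, 7, 8, 7, 3, 4, 5, 6, 4, 5, 3, 4, 0]⟩,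
  ⟨[(o10, o10), (o0, o8), (o14, o66), (o215, o70)], 134, .node 2 134 []⟩,
  ⟨[(o10, o10), (o0, o8), (o14, o66), (o215, o283)], 134, .node 4 134 []⟩,
  ⟨[(o10, o10), (o0, o8), (o14, o66), (o215, o305)], 134, .node 4 134 []⟩]

end Cfsg.Agent.Spor.Cos.Fi22Outer.Tree
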