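import Cfsg.Agent.Lib.Spor.Cos.Fi22Outer.OuterRootScan

/-! The check of the root of the tree, by blocks. -/

set_option autoImplicit false
set_option maxRecDepth 100000
set_option maxHeartbeats 4000000

namespace Cfsg.Agent.Spor.Cos.Fi22Outer.Tree

open Cfsg.Agent.Fus.Transp Cfsg.Agent.Fus.Fi22Out Cfsg.Agent.Spor.Cos.Fi22Aut

theorem root_l : ∀ k < 9, k = 0 ∨ k = 3 ∨ ∀ x < 3510, chkRootL k x = true := by
  intro k hk
  interval_cases k
  exacts [Or.inl rfl, Or.inr (Or.inr root_l1), Or.inr (Or.inr root_l2), Or.inr (Or.inl rfl), Or.inr (Or.inr root_l4),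
    Or.inr (Or.inr root_l5), Or.inr (Or.inr root_l6), Or.inr (Or.inr root_l7), Or.inr (Or.inr root_l8)]

theorem root_small : ((getN 0).pairs.all fun e => e.1.ok && e.2.ok) = true ∧
    ((getN 0).pairs.any fun e => Nat.beq e.1.p (qs.getD 0 0)) = false ∧
    rootKids.all (chkKid getN 0 (getN 0).pairs 0 1) = true ∧
    ((getN 0).pairs.any fun e => Nat.beq e.1.p (qs.getD 3 0)) = true ∧ childLt 0 = true := by
  refine ⟨?_, ?_, ?_, ?_, ?_⟩ <;> decide +kernel

theorem node_zero : chkNode getN LT 0 = true ∧ childLt 0 = true := by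
  obtain ⟨h1, h2, h3, h4, h5⟩ := root_small
  refine ⟨?_, h5⟩
  rw [chkNode, root_kind]
  dsimp only
  rw [root_li, h1, h2, h3]
  simp only [Bool.and_eq_true, Bool.or_eq_true, List.all_eq_true, List.mem_range, Bool.true_and, Bool.not_false]
  refine ⟨⟨⟨by decide, trivial⟩, fun x hx => ?_⟩, Or.inr fun k hk => ?_⟩
  · have := root_j x (List.mem_range.1 hx)
    rwa [chkRootJ, Bool.or_eq_true, ← candP_root (q_lt' (by norm_num)) (List.mem_range.1 hx)] at this
  · rcases root_l k hk with rfl | rfl | h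
    · exact Or.inl (Or.inr rfl)
    · exact Or.inl (Or.inl h4)
    · refine Or.inr fun x hx => ?_
      have := h x (List.mem_range.1 hx)
      rwa [chkRootL, Bool.or_eq_true, ← candP_root (q_lt' hk) (List.mem_range.1 hx)] at this

end Cfsg.Agent.Spor.Cos.Fi22Outer.Tree
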