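import Cfsg.Agent.Lib.Spor.Cos.Fi22Outer.OuterCheck

/-! The check of the root of the tree, by blocks. -/

set_option autoImplicit false
set_option maxRecDepth 100000
set_option maxHeartbeats 4000000

namespace Cfsg.Agent.Spor.Cos.Fi22Outer.Tree

open Cfsg.Agent.Spor.Cos.Fi22 (g g_gen g_sq actB)
open Cfsg.Agent.Fus.Transp Cfsg.Agent.Fus.Fi22Out Cfsg.Agent.Spor.Cos.Fi22Aut

/-- The children of the root. -/
noncomputable def rootKids : List OKid :=
  match (getN 0).kind with
  | .node _ _ kids => kids
  | _ => []

theorem root_kind : (getN 0).kind = .node 0 1 rootKids := rfl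

theorem root_li : (getN 0).li = 0 := rfl

/-- A possible image at the root: the tenth point is fixed and its transposition is the third generator. -/
noncomputable def rootCand (b x : ℕ) : Bool :=
  (Nat.beq x 10 == Nat.beq b 10) && (Nat.beq (actX.im x 3) x == Nat.beq (actX.im b 3) b)

theorem o10_ok : o10.ok = true := by decide +kernel

theorem o10_go {r : ℕ} (hr : r < 3510) : actX.go o10.tw r = actX.im r 3 := by
  obtain ⟨h1, -, h3⟩ := OPt.spec o10_ok
  have e : TX (pf o10.p) = g 3 := by
    have e' : pf o10.p = ⟨qs.getD 3 0, setup.q_lt (s := 3) (by decide)⟩ := Fin.ext (h1.trans (by decide +kernel))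
    rw [e']
    exact setup.T_q (s := 3) (by decide)
  have h := h3 (pf r)
  rw [pf_val hr, e] at h
  rw [← h]
  show (pX (MulAut.conj (g 3)) (pf r) : ℕ) = _
  rw [show MulAut.conj (g 3) = ev gX [3] by rw [show ev gX [3] = gX 3 * 1 from rfl, mul_one, gX_lo (by norm_num)],
    pX_ev (by decide), pf_val hr, actX.go_cons, actX.go_nil]

theorem root_pairs0 : (getN 0).pairs = [(o10, o10)] := rfl

theorem candP_root {b x : ℕ} (hb : b < 3510) (hx : x < 3510) : candP (getN 0).pairs b x = rootCand b x := by
  rw [root_pairs0]
  simp only [candP, List.all_cons, List.all_nil, Bool.and_true, Bool.and_self, candOne, rootCand, o10_go hb,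
    o10_go hx]
  rfl

/-- An image of the first generator's point is covered. -/
noncomputable def chkRootJ (x : ℕ) : Bool :=
  !(rootCand (qs.getD 0 0) x) || rootKids.any fun k => k.mem.any fun m => Nat.beq m.1 x

/-- An image of another generator's point is listed. -/
noncomputable def chkRootL (k x : ℕ) : Bool :=
  !(rootCand (qs.getD k 0) x) || (getL LT 1 k).any (Nat.beq x)

/-- Every wanted number in a range is the next one of an increasing list. -/
noncomputable def cover (c : ℕ → Bool) : ℕ → ℕ → List ℕ → Bool
  | 0, _, _ => true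
  | f + 1, x, [] => force x fun x => !(c x) && cover c f (x + 1) []
  | f + 1, x, y :: ys => force x fun x =>
    if Nat.beq x y then cover c f (x + 1) ys else !(c x) && cover c f (x + 1) (y :: ys)

theorem cover_spec (c : ℕ → Bool) : ∀ (f x : ℕ) (l : List ℕ), cover c f x l = true →
    ∀ i, x ≤ i → i < x + f → c i = true → i ∈ l
  | 0, x, l, _, i, h1, h2, _ => absurd h2 (by omega)
  | f + 1, x, [], h, i, h1, h2, hc => by
    simp only [cover, force_eq, Bool.and_eq_true, Bool.not_eq_true'] at h
    rcases Nat.lt_or_eq_of_le h1 with hlt | rfl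
    · exact cover_spec c f (x + 1) [] h.2 i hlt (by omega) hc
    · rw [hc] at h; exact absurd h.1 (by simp)
  | f + 1, x, y :: ys, h, i, h1, h2, hc => by
    simp only [cover, force_eq] at h
    split at h
    · rename_i hxy
      rcases Nat.lt_or_eq_of_le h1 with hlt | rfl
      · exact List.mem_cons_of_mem _ (cover_spec c f (x + 1) ys h i hlt (by omega) hc)
      · exact (Nat.eq_of_beq_eq_true hxy) ▸ List.mem_cons_self
    · simp only [Bool.and_eq_true, Bool.not_eq_true'] at h
      rcases Nat.lt_or_eq_of_le h1 with hlt | rfl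
      · exact cover_spec c f (x + 1) (y :: ys) h.2 i hlt (by omega) hc
      · rw [hc] at h; exact absurd h.1 (by simp)

/-- The check of a block of the root's lists. -/
noncomputable def chkRootBlock (k j : ℕ) : Bool :=
  cover (rootCand (qs.getD k 0)) (min 512 (3510 - j * 512)) (j * 512) ((getL LT 1 k).dropWhile fun y => Nat.blt y (j * 512))

theorem rootL_of_blocks {k : ℕ} (h : ∀ j < 7, chkRootBlock k j = true) : ∀ x < 3510, chkRootL k x = true := by
  intro x hx
  rw [chkRootL]
  cases hc : rootCand (qs.getD k 0) x
  · rfl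
  · have hm := cover_spec _ _ _ _ (h (x / 512) (by omega)) x (by omega) (by omega) hc
    exact List.any_eq_true.2 ⟨x, (List.dropWhile_suffix _).subset hm, Nat.beq_refl x⟩

end Cfsg.Agent.Spor.Cos.Fi22Outer.Tree
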