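import Cfsg.Agent.Lib.Spor.Cos.Fi22Outer.OuterRootDef

/-! The check of the root of the tree, by blocks. -/

set_option autoImplicit false
set_option maxRecDepth 100000
set_option maxHeartbeats 4000000

namespace Cfsg.Agent.Spor.Cos.Fi22Outer.Tree

open Cfsg.Agent.Fus.Transp Cfsg.Agent.Fus.Fi22Out Cfsg.Agent.Spor.Cos.Fi22Aut

theorem root_j : ∀ x < 3510, chkRootJ x = true := by
  refine of_blocks (size := 512) (b := 7) (by decide) (by decide) fun j hj => ?_
  interval_cases j <;> decide +kernel

theorem root_l1 : ∀ x < 3510, chkRootL 1 x = true := by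
  refine rootL_of_blocks fun j hj => ?_
  interval_cases j <;> decide +kernel

theorem root_l2 : ∀ x < 3510, chkRootL 2 x = true := by
  refine rootL_of_blocks fun j hj => ?_
  interval_cases j <;> decide +kernel

theorem root_l4 : ∀ x < 3510, chkRootL 4 x = true := by
  refine rootL_of_blocks fun j hj => ?_
  interval_cases j <;> decide +kernel

theorem root_l5 : ∀ x < 3510, chkRootL 5 x = true := by
  refine rootL_of_blocks fun j hj => ?_
  interval_cases j <;> decide +kernel

theorem root_l6 : ∀ x < 3510, chkRootL 6 x = true := by
  refine rootL_of_blocks fun j hj => ?_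
  interval_cases j <;> decide +kernel

theorem root_l7 : ∀ x < 3510, chkRootL 7 x = true := by
  refine rootL_of_blocks fun j hj => ?_
  interval_cases j <;> decide +kernel

theorem root_l8 : ∀ x < 3510, chkRootL 8 x = true := by
  refine rootL_of_blocks fun j hj => ?_
  interval_cases j <;> decide +kernel

end Cfsg.Agent.Spor.Cos.Fi22Outer.Tree
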