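import Cfsg.Agent.Lib.Spor.Cos.Fi22Outer.OuterNodes0
import Cfsg.Agent.Lib.Spor.Cos.Fi22Outer.OuterNodes1
import Cfsg.Agent.Lib.Spor.Cos.Fi22Outer.OuterNodes2

/-! The table of nodes. -/

set_option autoImplicit false
set_option maxRecDepth 100000
set_option maxHeartbeats 4000000

namespace Cfsg.Agent.Spor.Cos.Fi22Outer.Tree

/-- The chunks. -/
noncomputable def chunks : List (List ONode) := [nd0, nd1, nd2, nd3, nd4, nd5, nd6, nd7, nd8, nd9, nd10, nd11, nd12, nd13, nd14, nd15, nd16, nd17, nd18, nd19, nd20, nd21, nd22, nd23, nd24, nd25, nd26, nd27, nd28]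

/-- The node of a number. -/
noncomputable def getN (i : ℕ) : ONode :=
  (chunks.getD (i / 128) []).getD (i % 128) ⟨[], 0, .inner []⟩

/-- The number of nodes. -/
def size : ℕ := 3661

end Cfsg.Agent.Spor.Cos.Fi22Outer.Tree
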