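import Cfsg.Agent.Lib.Spor.Cos.Fi22Outer.Chain

/-!
A checked tree of the automorphisms of order two fixing the tenth point.
-/

set_option autoImplicit false
set_option maxRecDepth 100000
set_option maxHeartbeats 1000000

namespace Cfsg.Agent.Spor.Cos.Fi22Outer

open Cfsg.Agent.Spor.Cos.Fi22 (actB homB piB baseB g g_gen g_sq)
open Cfsg.Agent.Fus.Transp Cfsg.Agent.Fus.Fi22Out Cfsg.Agent.Spor.Cos.Fi22Aut

/-- A point with a word from the base. -/
structure OPt where
  /-- the point -/
  p : ℕ
  /-- the word -/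
  u : List ℕ

/-- A child: an image, the images taken to it by products of transpositions, and its node. -/
structure OKid where
  /-- the image -/
  pt : OPt
  /-- the images with products -/
  mem : List (ℕ × List OPt)
  /-- the node -/
  child : ℕ

/-- The kinds of nodes. -/
inductive OKind
  /-- a branching at a generator, with lists valid below -/
  | node (j nli : ℕ) (kids : List OKid)
  /-- images breaking a relation -/
  | bad (w : List ℕ) (c d : ℕ)
  /-- an inner automorphism -/
  | inner (v : List ℕ)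
  /-- a conjugate of a representative -/
  | conjw (k : ℕ) (u : List ℕ)

/-- A node. -/
structure ONode where
  /-- the known images -/
  pairs : List (OPt × OPt)
  /-- the index of its lists -/
  li : ℕ
  /-- the kind -/
  kind : OKind

/-- The word of the transposition of a point. -/
noncomputable def OPt.tw (e : OPt) : List ℕ := e.u ++ [0] ++ e.u.reverse

/-- The check of a point. -/
noncomputable def OPt.ok (e : OPt) : Bool := okX e.u && Nat.blt e.p 3510 && Nat.beq (actX.go e.u 0) e.p

/-- A possible image against one known pair. -/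
noncomputable def candOne (b x : ℕ) (c v : OPt) : Bool :=
  (Nat.beq x v.p == Nat.beq b c.p) && (Nat.beq (actX.go v.tw x) x == Nat.beq (actX.go c.tw b) b)

/-- A possible image against the known pairs. -/
noncomputable def candP (pairs : List (OPt × OPt)) (b x : ℕ) : Bool :=
  pairs.all fun e => candOne b x e.1 e.2 && candOne b x e.2 e.1

/-- The lists of an index, the first being everything. -/
noncomputable def getL (LT : List (List (List ℕ))) (li k : ℕ) : List ℕ :=
  match li with
  | 0 => List.range 3510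
  | n + 1 => (LT.getD n []).getD k []

/-- The pairs as numbers. -/
noncomputable def pVals (pairs : List (OPt × OPt)) : List (ℕ × ℕ) :=
  (pairs.map fun e => (e.1.p, e.2.p)) ++ pairs.map fun e => (e.2.p, e.1.p)

/-- The word of a product. -/
noncomputable def twProd (w : List OPt) : List ℕ := w.flatMap OPt.tw

/-- The equality of lists of pairs. -/
noncomputable def samePairs : List (ℕ × ℕ) → List (ℕ × ℕ) → Bool
  | [], [] => true
  | a :: l, b :: m => Nat.beq a.1 b.1 && Nat.beq a.2 b.2 && samePairs l m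
  | _, _ => false

/-- The representatives. -/
def tauL : List (List ℕ) := [[9], [9, 3], [9, 3, 8]]

/-- The check of a child. -/
noncomputable def chkKid (getN : ℕ → ONode) (i : ℕ) (pairs : List (OPt × OPt)) (j nli : ℕ) (k : OKid) : Bool :=
  Nat.blt i k.child && k.pt.ok && Nat.beq (getN k.child).li nli &&
    samePairs ((getN k.child).pairs.map fun e => (e.1.p, e.2.p))
      ((pairs.map fun e => (e.1.p, e.2.p)) ++ [(qs.getD j 0, k.pt.p)]) &&
    k.mem.all fun m => m.2.all OPt.ok && Nat.beq (actX.go (twProd m.2) m.1) k.pt.p &&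
      (List.isEmpty m.2 || (Nat.beq (actX.go (twProd m.2) (qs.getD j 0)) (qs.getD j 0) &&
        pairs.all fun e => Nat.beq (actX.go (twProd m.2) e.1.p) e.1.p && Nat.beq (actX.go (twProd m.2) e.2.p) e.2.p))

/-- The check of a node. -/
noncomputable def chkNode (getN : ℕ → ONode) (LT : List (List (List ℕ))) (i : ℕ) : Bool :=
  ((getN i).pairs.all fun e => e.1.ok && e.2.ok) &&
  match (getN i).kind with
  | .node j nli kids =>
    Nat.blt j 9 && !((getN i).pairs.any fun e => Nat.beq e.1.p (qs.getD j 0)) &&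
    kids.all (chkKid getN i (getN i).pairs j nli) &&
    ((getL LT (getN i).li j).all fun y => !(candP (getN i).pairs (qs.getD j 0) y) ||
      kids.any fun k => k.mem.any fun m => Nat.beq m.1 y) &&
    (Nat.beq nli (getN i).li || (List.range 9).all fun k =>
      ((getN i).pairs.any fun e => Nat.beq e.1.p (qs.getD k 0)) || Nat.beq k j ||
        (getL LT (getN i).li k).all fun y => !(candP (getN i).pairs (qs.getD k 0) y) ||
          (getL LT nli k).any (Nat.beq y))
  | .bad w c d =>
    (qs.all fun q => (getN i).pairs.any fun e => Nat.beq e.1.p q) && (w.all fun s => Nat.blt s 9) &&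
    ((pVals (getN i).pairs).any fun e => Nat.beq e.1 c) && ((pVals (getN i).pairs).any fun e => Nat.beq e.1 d) &&
    Nat.beq (actX.go w c) d &&
    !(Nat.beq (actX.go (w.flatMap fun s =>
      match (getN i).pairs.find? fun e => Nat.beq e.1.p (qs.getD s 0) with
      | some e => e.2.tw
      | none => []) (getI (pVals (getN i).pairs) c)) (getI (pVals (getN i).pairs) d))
  | .inner v =>
    (qs.all fun q => (getN i).pairs.any fun e => Nat.beq e.1.p q) && (v.all fun s => Nat.blt s 9) &&
    qs.all fun q => Nat.beq (getI (pVals (getN i).pairs) q) (actX.go v q)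
  | .conjw k u =>
    (qs.all fun q => (getN i).pairs.any fun e => Nat.beq e.1.p q) && Nat.blt k 3 && (u.all fun s => Nat.blt s 9) &&
    qs.all fun q => Nat.beq (getI (pVals (getN i).pairs) q) (actX.go (u ++ tauL.getD k [] ++ u.reverse) q)

/-- The conclusion. -/
def Concl (φ : MulAut Cfsg.Spor.Fi22) : Prop :=
  (∃ c, φ = MulAut.conj c) ∨ ∃ y : Cfsg.Spor.Fi22, ∃ k < 3,
    φ = MulAut.conj y * ev gX (tauL.getD k []) * (MulAut.conj y)⁻¹

/-- The automorphism has the known images. -/
def Match (φ : MulAut Cfsg.Spor.Fi22) (pairs : List (OPt × OPt)) : Prop :=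
  ∀ e ∈ pairs, pX φ (pf e.1.p) = pf e.2.p

/-- The lists hold the images. -/
def Valid (LT : List (List (List ℕ))) (n : ONode) : Prop :=
  ∀ φ : MulAut Cfsg.Spor.Fi22, φ * φ = 1 → Match φ n.pairs → ∀ k < 9,
    (n.pairs.any fun e => Nat.beq e.1.p (qs.getD k 0)) = false → (pX φ (pf (qs.getD k 0)) : ℕ) ∈ getL LT n.li k

theorem OPt.spec {e : OPt} (h : e.ok = true) :
    (pf e.p : ℕ) = e.p ∧ okX e.tw = true ∧ ∀ r, (piX (TX (pf e.p)) r : ℕ) = actX.go e.tw r := by
  simp only [OPt.ok, Bool.and_eq_true] at h
  obtain ⟨⟨hu, hlt⟩, hgo⟩ := h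
  have hlt' : e.p < 3510 := Nat.le_of_ble_eq_true hlt
  have hok : okX e.tw = true := okX_conjW hu (by norm_num)
  refine ⟨pf_val hlt', hok, fun r => ?_⟩
  have e' : MulAut.conj (TX (pf e.p)) = ev gX e.tw :=
    conj_TX_word p0 TX_p0 (by norm_num) hu ((Nat.eq_of_beq_eq_true hgo).trans (pf_val hlt').symm)
  show (pX (MulAut.conj (TX (pf e.p))) r : ℕ) = _
  rw [e', pX_ev hok]

theorem pX_hom (φ : MulAut Cfsg.Spor.Fi22) (p r : Fin actX.N) :
    pX φ (piX (TX p) r) = piX (TX (pX φ p)) (pX φ r) :=
  TX_inj (by rw [TX_pX, TX_piX, TX_piX, TX_pX, TX_pX, map_mul, map_mul, map_inv])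

theorem beq_congr' {a b a' b' : ℕ} (h : a = b ↔ a' = b') : (Nat.beq a b == Nat.beq a' b') = true := by
  by_cases hx : a = b
  · rw [hx, h.1 hx, Nat.beq_refl, Nat.beq_refl]; rfl
  · have hx' : a' ≠ b' := fun e => hx (h.2 e)
    rw [show Nat.beq a b = false from Bool.eq_false_iff.2 fun e => hx (Nat.eq_of_beq_eq_true e),
      show Nat.beq a' b' = false from Bool.eq_false_iff.2 fun e => hx' (Nat.eq_of_beq_eq_true e)]
    rfl

theorem candP_image {φ : MulAut Cfsg.Spor.Fi22} (hφ : φ * φ = 1) {pairs : List (OPt × OPt)}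
    (hok : ∀ e ∈ pairs, e.1.ok = true ∧ e.2.ok = true) (hM : Match φ pairs) {b : ℕ} (hb : b < 3510) :
    candP pairs b (pX φ (pf b)) = true := by
  have one : ∀ c v : OPt, c.ok = true → v.ok = true → pX φ (pf c.p) = pf v.p →
      candOne b (pX φ (pf b)) c v = true := by
    intro c v hc hv h
    obtain ⟨c1, -, c2⟩ := OPt.spec hc
    obtain ⟨v1, -, v2⟩ := OPt.spec hv
    rw [candOne, Bool.and_eq_true]
    refine ⟨beq_congr' ?_, beq_congr' ?_⟩
    · conv_lhs => rw [← v1]
      conv_rhs => rw [← pf_val hb, ← c1]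
      rw [← Fin.ext_iff, ← Fin.ext_iff, ← h]
      exact (pX φ).injective.eq_iff
    · conv_rhs => rw [← pf_val hb]
      rw [← c2, ← v2, ← Fin.ext_iff, ← Fin.ext_iff, ← h, ← pX_hom]
      exact (pX φ).injective.eq_iff
  refine List.all_eq_true.2 fun e he => ?_
  rw [Bool.and_eq_true]
  refine ⟨one e.1 e.2 (hok e he).1 (hok e he).2 (hM e he), one e.2 e.1 (hok e he).2 (hok e he).1 ?_⟩
  rw [← hM e he, ← Equiv.Perm.mul_apply, ← map_mul, hφ, map_one, Equiv.Perm.one_apply]

theorem samePairs_eq : ∀ {l m : List (ℕ × ℕ)}, samePairs l m = true → l = m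
  | [], [], _ => rfl
  | a :: l, b :: m, h => by
    simp only [samePairs, Bool.and_eq_true] at h
    rw [Prod.ext (Nat.eq_of_beq_eq_true h.1.1) (Nat.eq_of_beq_eq_true h.1.2), samePairs_eq h.2]
  | [], _ :: _, h => by simp [samePairs] at h
  | _ :: _, [], h => by simp [samePairs] at h

theorem match_of_vals {φ : MulAut Cfsg.Spor.Fi22} {P Q : List (OPt × OPt)}
    (h : (P.map fun e => (e.1.p, e.2.p)) = Q.map fun e => (e.1.p, e.2.p)) (hM : Match φ Q) : Match φ P := by
  intro e he
  have hm : (e.1.p, e.2.p) ∈ Q.map fun e => (e.1.p, e.2.p) := h ▸ List.mem_map_of_mem he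
  obtain ⟨f, hf, ef⟩ := List.mem_map.1 hm
  simp only [Prod.mk.injEq] at ef
  rw [← ef.1, ← ef.2]
  exact hM f hf

theorem any_of_vals {P Q : List (OPt × OPt)} (h : (P.map fun e => (e.1.p, e.2.p)) = Q.map fun e => (e.1.p, e.2.p))
    (q : ℕ) : (P.any fun e => Nat.beq e.1.p q) = Q.any fun e => Nat.beq e.1.p q := by
  have := congrArg (fun l => List.any l fun e : ℕ × ℕ => Nat.beq e.1 q) h
  simpa only [List.any_map, Function.comp_def] using this

theorem q_lt' {k : ℕ} (hk : k < 9) : qs.getD k 0 < 3510 := setup.q_lt (s := k) hk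

theorem agree_word {φ : MulAut Cfsg.Spor.Fi22} {w : List ℕ} (hw : okX w = true)
    (h : ∀ q ∈ qs, (pX φ (pf q) : ℕ) = actX.go w q) : φ = ev gX w := by
  refine ext_gen g_gen fun s hs => ?_
  have hs' : s < actB.n := hs
  have hlen : s < qs.length := setup.qlen.symm ▸ hs'
  have hmem : qs.getD s 0 ∈ qs := by
    rw [List.getD_eq_getElem _ _ hlen]
    exact List.getElem_mem hlen
  have e : pf (qs.getD s 0) = ⟨qs.getD s 0, setup.q_lt hs'⟩ := Fin.ext (pf_val (q_lt' hs))
  have h1 : pX φ (pf (qs.getD s 0)) = pX (ev gX w) (pf (qs.getD s 0)) :=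
    Fin.ext (by rw [h _ hmem, pX_ev hw, pf_val (q_lt' hs)])
  have := congrArg TX h1
  rw [TX_pX, TX_pX, e] at this
  rw [← setup.T_q hs']
  exact this

theorem okX_of_lt {w : List ℕ} (h : (w.all fun s => Nat.blt s 9) = true) : okX w = true :=
  List.all_eq_true.2 fun s hs =>
    Nat.ble_eq_true_of_le (Nat.le_succ_of_le (Nat.le_of_ble_eq_true (List.all_eq_true.1 h s hs)))

theorem getI_spec {φ : MulAut Cfsg.Spor.Fi22} (hφ : φ * φ = 1) {pairs : List (OPt × OPt)}
    (hok : ∀ e ∈ pairs, e.1.ok = true ∧ e.2.ok = true) (hM : Match φ pairs) {c : ℕ}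
    (hc : ((pVals pairs).any fun e => Nat.beq e.1 c) = true) :
    (pX φ (pf c) : ℕ) = getI (pVals pairs) c ∧ c < 3510 := by
  rw [getI]
  cases hf : (pVals pairs).find? fun e => Nat.beq e.1 c with
  | none =>
    obtain ⟨e, he, h⟩ := List.any_eq_true.1 hc
    exact absurd h (by simpa using List.find?_eq_none.1 hf e he)
  | some f =>
    have hfc : f.1 = c := Nat.eq_of_beq_eq_true (by simpa using List.find?_some hf)
    subst hfc
    rcases List.mem_append.1 (List.mem_of_find?_eq_some hf) with h | h <;> obtain ⟨e, he, rfl⟩ := List.mem_map.1 h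
    · exact ⟨(congrArg Fin.val (hM e he)).trans (OPt.spec (hok e he).2).1,
        (OPt.spec (hok e he).1).1 ▸ (pf e.1.p).2⟩
    · refine ⟨?_, (OPt.spec (hok e he).2).1 ▸ (pf e.2.p).2⟩
      rw [← hM e he, ← Equiv.Perm.mul_apply, ← map_mul, hφ, map_one, Equiv.Perm.one_apply]
      exact (OPt.spec (hok e he).1).1

theorem all_q {φ : MulAut Cfsg.Spor.Fi22} (hφ : φ * φ = 1) {pairs : List (OPt × OPt)}
    (hok : ∀ e ∈ pairs, e.1.ok = true ∧ e.2.ok = true) (hM : Match φ pairs)
    (h : (qs.all fun q => pairs.any fun e => Nat.beq e.1.p q) = true) {q : ℕ} (hq : q ∈ qs) :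
    (pX φ (pf q) : ℕ) = getI (pVals pairs) q := by
  obtain ⟨e, he, hqe⟩ := List.any_eq_true.1 (List.all_eq_true.1 h q hq)
  exact (getI_spec hφ hok hM (List.any_eq_true.2
    ⟨(e.1.p, e.2.p), List.mem_append_left _ (List.mem_map_of_mem he), hqe⟩)).1

variable {getN : ℕ → ONode} {LT : List (List (List ℕ))}

theorem child_valid {i : ℕ} {j nli : ℕ} {kids : List OKid} (hi : chkNode getN LT i = true)
    (hkind : (getN i).kind = .node j nli kids) (hV : Valid LT (getN i)) {k : OKid} (hk : k ∈ kids) :
    Valid LT (getN k.child) := by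
  simp only [chkNode, hkind, Bool.and_eq_true, List.all_eq_true] at hi
  obtain ⟨hok, ⟨⟨-, hkids⟩, -⟩, hlists⟩ := hi
  have hkc := hkids k hk
  simp only [chkKid, Bool.and_eq_true] at hkc
  obtain ⟨⟨⟨-, hli⟩, hsame⟩, -⟩ := hkc
  have hsame' := samePairs_eq hsame
  intro φ hφ hM m hm hno
  have hMp : Match φ (getN i).pairs := by
    intro e he
    have hmem : (e.1.p, e.2.p) ∈ (getN k.child).pairs.map fun e => (e.1.p, e.2.p) :=
      hsame' ▸ List.mem_append_left _ (List.mem_map_of_mem he)
    obtain ⟨f, hf, ef⟩ := List.mem_map.1 hmem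
    simp only [Prod.mk.injEq] at ef
    rw [← ef.1, ← ef.2]
    exact hM f hf
  have hnone : ((getN i).pairs.any fun e => Nat.beq e.1.p (qs.getD m 0)) = false ∧
      Nat.beq (qs.getD j 0) (qs.getD m 0) = false := by
    have h2 := congrArg (fun l => List.any l fun e : ℕ × ℕ => Nat.beq e.1 (qs.getD m 0)) hsame'
    simp only [List.any_map, Function.comp_def, List.any_append, List.any_cons, List.any_nil, Bool.or_false] at h2
    rw [hno] at h2
    exact ⟨(Bool.or_eq_false_iff.1 h2.symm).1, (Bool.or_eq_false_iff.1 h2.symm).2⟩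
  rw [Nat.eq_of_beq_eq_true hli]
  have hin := hV φ hφ hMp m hm hnone.1
  simp only [Bool.or_eq_true, List.all_eq_true] at hlists
  rcases hlists with h | h
  · rw [Nat.eq_of_beq_eq_true h]; exact hin
  rcases h m (List.mem_range.2 hm) with (h | h) | h
  · rw [hnone.1] at h; exact Bool.noConfusion h
  · rw [Nat.eq_of_beq_eq_true h, Nat.beq_refl] at hnone; exact Bool.noConfusion hnone.2
  · rcases h _ hin with h | h
    · rw [candP_image hφ hok hMp (q_lt' hm)] at h
      exact Bool.noConfusion h
    · obtain ⟨x, hx, hxe⟩ := List.any_eq_true.1 h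
      exact (Nat.eq_of_beq_eq_true hxe).symm ▸ hx

theorem node_closed (N : ℕ) (hall : ∀ i < N, chkNode getN LT i = true)
    (hchild : ∀ i < N, ∀ j nli kids, (getN i).kind = .node j nli kids → ∀ k ∈ kids, k.child < N) :
    ∀ d i, i < N → N ≤ i + d → Valid LT (getN i) →
      ∀ φ : MulAut Cfsg.Spor.Fi22, φ * φ = 1 → Match φ (getN i).pairs → Concl φ := by
  intro d
  induction d with
  | zero => intro i h1 h2; omega
  | succ d ih =>
    intro i hi hd hV φ hφ hM
    have h := hall i hi
    cases hkind : (getN i).kind with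
    | node j nli kids =>
      have hcv := fun k (hk : k ∈ kids) => child_valid h hkind hV hk
      simp only [chkNode, hkind, Bool.and_eq_true, List.all_eq_true] at h
      obtain ⟨hok, ⟨⟨⟨hj, hno⟩, hkids⟩, hscan⟩, -⟩ := h
      have hj' : j < 9 := Nat.le_of_ble_eq_true hj
      have hb := q_lt' hj'
      simp only [Bool.not_eq_true'] at hno
      have hin := hV φ hφ hM j hj' hno
      have hsc := hscan _ hin
      simp only [Bool.or_eq_true, Bool.not_eq_true', List.any_eq_true] at hsc
      rcases hsc with hsc | ⟨k, hk, m, hm, hme⟩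
      · rw [candP_image hφ hok hM hb] at hsc
        exact Bool.noConfusion hsc
      have hkc := hkids k hk
      simp only [chkKid, Bool.and_eq_true, List.all_eq_true, Bool.or_eq_true] at hkc
      obtain ⟨⟨⟨⟨hlt, hptok⟩, -⟩, hsame⟩, hmem⟩ := hkc
      obtain ⟨⟨hpts, hgo⟩, hfix⟩ := hmem m hm
      have hsame' := samePairs_eq hsame
      set h0 : Cfsg.Spor.Fi22 := (m.2.map fun e => TX (pf e.p)).prod with hh0
      have hval : ∀ r : Fin actX.N, (piX h0 r : ℕ) = actX.go (twProd m.2) r := by
        have : ∀ l : List OPt, (∀ e ∈ l, e.ok = true) → ∀ r : Fin actX.N,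
            (piX (l.map fun e => TX (pf e.p)).prod r : ℕ) = actX.go (twProd l) r := by
          intro l
          induction l with
          | nil => intro _ r; simp [twProd, actX.go_nil]
          | cons e l ih =>
            intro hl r
            rw [List.map_cons, List.prod_cons, map_mul, Equiv.Perm.mul_apply,
              (OPt.spec (hl e List.mem_cons_self)).2.2, ih fun t ht => hl t (List.mem_cons_of_mem _ ht),
              twProd, twProd, List.flatMap_cons, InvSearch.go_append]
        exact this m.2 hpts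
      have hfixall : piX h0 (pf (qs.getD j 0)) = pf (qs.getD j 0) ∧ ∀ e ∈ (getN i).pairs,
          piX h0 (pf e.1.p) = pf e.1.p ∧ piX h0 (pf e.2.p) = pf e.2.p := by
        rcases hfix with hemp | ⟨hq, hps⟩
        · have hnil : m.2 = [] := List.isEmpty_iff.1 hemp
          have h1 : h0 = 1 := by rw [hh0, hnil]; rfl
          simp [h1]
        · refine ⟨Fin.ext ?_, fun e he => ⟨Fin.ext ?_, Fin.ext ?_⟩⟩
          · rw [hval, pf_val hb]; exact Nat.eq_of_beq_eq_true hq
          · rw [hval, (OPt.spec (hok e he).1).1]; exact Nat.eq_of_beq_eq_true (hps e he).1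
          · rw [hval, (OPt.spec (hok e he).2).1]; exact Nat.eq_of_beq_eq_true (hps e he).2
      set a := MulAut.conj h0 with ha
      set φ' := a * φ * a⁻¹ with hφ'
      have hsq : φ' * φ' = 1 := by
        rw [hφ', show a * φ * a⁻¹ * (a * φ * a⁻¹) = a * (φ * φ) * a⁻¹ by group, hφ, mul_one, mul_inv_cancel]
      have mv : ∀ r, piX h0 r = r → pX φ' r = piX h0 (pX φ r) := fun r hr => by
        have hr' : (piX h0)⁻¹ r = r := Equiv.Perm.inv_eq_iff_eq.2 hr.symm
        rw [hφ', map_mul, map_mul, map_inv, Equiv.Perm.mul_apply, Equiv.Perm.mul_apply]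
        show piX h0 (pX φ ((piX h0)⁻¹ r)) = _
        rw [hr']
      have hM' : Match φ' (getN k.child).pairs := by
        intro e he
        have hmem' : (e.1.p, e.2.p) ∈ ((getN i).pairs.map fun e => (e.1.p, e.2.p)) ++ [(qs.getD j 0, k.pt.p)] :=
          hsame' ▸ List.mem_map_of_mem he
        rcases List.mem_append.1 hmem' with hm' | hm'
        · obtain ⟨f, hf, ef⟩ := List.mem_map.1 hm'
          simp only [Prod.mk.injEq] at ef
          rw [← ef.1, ← ef.2, mv _ (hfixall.2 f hf).1, hM f hf, (hfixall.2 f hf).2]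
        · simp only [List.mem_singleton, Prod.mk.injEq] at hm'
          rw [hm'.1, hm'.2, mv _ hfixall.1]
          refine Fin.ext ?_
          rw [hval, ← Nat.eq_of_beq_eq_true hme, (OPt.spec hptok).1]
          exact Nat.eq_of_beq_eq_true hgo
      have hc := ih k.child (hchild i hi j nli kids hkind k hk)
        (by have := Nat.le_of_ble_eq_true hlt; omega) (hcv k hk) φ' hsq hM'
      have hback : φ = a⁻¹ * φ' * a := by rw [hφ']; group
      rcases hc with ⟨c, hc⟩ | ⟨y, t, ht, hc⟩
      · exact Or.inl ⟨h0⁻¹ * c * h0, by rw [hback, hc, ha, map_mul, map_mul, map_inv]⟩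
      · refine Or.inr ⟨h0⁻¹ * y, t, ht, ?_⟩
        rw [hback, hc, ha, map_mul, map_inv]
        group
    | bad w c d' =>
      simp only [chkNode, hkind, Bool.and_eq_true, Bool.not_eq_true', List.all_eq_true] at h
      obtain ⟨hok, ⟨⟨⟨⟨hq, hw⟩, hc⟩, hd'⟩, hgo⟩, hne⟩ := h
      exfalso
      have hw' : ∀ s ∈ w, s < 9 := fun s hs => Nat.le_of_ble_eq_true (hw s hs)
      have hstep : ∀ v : List ℕ, (∀ s ∈ v, s < 9) → ∀ z : Fin actX.N, (pX φ (piX (ev g v) z) : ℕ) =
          actX.go (v.flatMap fun s =>
            match (getN i).pairs.find? fun e => Nat.beq e.1.p (qs.getD s 0) with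
            | some e => e.2.tw
            | none => []) (pX φ z) := by
        intro v
        induction v with
        | nil => intro _ z; simp [ev, actX.go_nil]
        | cons s v ih =>
          intro hl z
          have hs : s < 9 := hl s List.mem_cons_self
          have hlen : s < qs.length := setup.qlen.symm ▸ hs
          have hmem : qs.getD s 0 ∈ qs := by
            rw [List.getD_eq_getElem _ _ hlen]
            exact List.getElem_mem hlen
          have eT : g s = TX (pf (qs.getD s 0)) := by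
            rw [show pf (qs.getD s 0) = ⟨qs.getD s 0, setup.q_lt (show s < actB.n from hs)⟩ from
              Fin.ext (pf_val (q_lt' hs))]
            exact (setup.T_q hs).symm
          rw [show ev g (s :: v) = g s * ev g v from rfl, map_mul, Equiv.Perm.mul_apply, eT, pX_hom]
          cases hf : (getN i).pairs.find? fun e => Nat.beq e.1.p (qs.getD s 0) with
          | none =>
            obtain ⟨e, he, hqe⟩ := List.any_eq_true.1 (hq _ hmem)
            exact absurd hqe (by simpa using List.find?_eq_none.1 hf e he)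
          | some e =>
            have he := List.mem_of_find?_eq_some hf
            have heq : e.1.p = qs.getD s 0 := Nat.eq_of_beq_eq_true (by simpa using List.find?_some hf)
            rw [← heq, hM e he, (OPt.spec (hok e he).2).2.2, ih fun t ht => hl t (List.mem_cons_of_mem _ ht),
              List.flatMap_cons, InvSearch.go_append, hf]
      obtain ⟨hci, hc3⟩ := getI_spec hφ hok hM hc
      obtain ⟨hdi, hd3⟩ := getI_spec hφ hok hM hd'
      have e : piX (ev g w) (pf c) = pf d' := Fin.ext (by
        have hokw : okX w = true := okX_of_lt (List.all_eq_true.2 hw)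
        show (pX (MulAut.conj (ev g w)) _ : ℕ) = _
        rw [← ev_gX hw', pX_ev hokw, pf_val hc3, pf_val hd3]
        exact Nat.eq_of_beq_eq_true hgo)
      have h := hstep w hw' (pf c)
      rw [e, hci, hdi] at h
      rw [← h, Nat.beq_refl] at hne
      exact Bool.noConfusion hne
    | inner v =>
      simp only [chkNode, hkind, Bool.and_eq_true, List.all_eq_true] at h
      obtain ⟨hok, ⟨hq, hv⟩, hag⟩ := h
      refine Or.inl ⟨ev g v, ?_⟩
      rw [← ev_gX fun s hs => Nat.le_of_ble_eq_true (hv s hs)]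
      refine agree_word (okX_of_lt (List.all_eq_true.2 hv)) fun q hqm => ?_
      rw [all_q hφ hok hM (List.all_eq_true.2 hq) hqm]
      exact Nat.eq_of_beq_eq_true (hag q hqm)
    | conjw t u =>
      simp only [chkNode, hkind, Bool.and_eq_true, List.all_eq_true] at h
      obtain ⟨hok, ⟨⟨hq, ht⟩, hu⟩, hag⟩ := h
      have ht' : t < 3 := Nat.le_of_ble_eq_true ht
      have hu' : okX u = true := okX_of_lt (List.all_eq_true.2 hu)
      have htau : okX (tauL.getD t []) = true := by interval_cases t <;> rfl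
      refine Or.inr ⟨ev g u, t, ht', ?_⟩
      rw [← ev_gX fun s hs => Nat.le_of_ble_eq_true (hu s hs), ← ev_rev hu', ← ev_append, ← ev_append]
      refine agree_word (okX_append (okX_append hu' htau) (okX_reverse hu')) fun q hqm => ?_
      rw [all_q hφ hok hM (List.all_eq_true.2 hq) hqm]
      exact Nat.eq_of_beq_eq_true (hag q hqm)

end Cfsg.Agent.Spor.Cos.Fi22Outer
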