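import Cfsg.Agent.Lib.Spor.Cos.Fi22Outer.Chain
import Cfsg.Agent.Lib.Spor.Cos.Fi22Outer.IsoData
import Cfsg.Agent.Lib.Spor.Cos.Fi22Outer.Graph

/-!
Fixed points of the outer automorphisms, by lists.
-/

set_option autoImplicit false
set_option maxRecDepth 100000
set_option maxHeartbeats 1000000

namespace Cfsg.Agent.Spor.Cos.Fi22Outer

open Cfsg.Agent.Spor.Cos.Fi22 (actB homB piB baseB g g_gen g_sq)
open Cfsg.Agent.Fus.Transp Cfsg.Agent.Fus.Fi22Out Cfsg.Agent.Spor.Cos.Fi22Aut

/-- All the fixed points of the graph automorphism. -/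
def fixL0 : List ℕ := clL.flatten

theorem ptW_ok : (ptW.all fun e => chkP ptW e.1) = true := by decide +kernel

theorem chkP_of_mem {e : ℕ × List ℕ} (he : e ∈ ptW) : chkP ptW e.1 = true := List.all_eq_true.1 ptW_ok e he

/-- A point is listed with a word. -/
noncomputable def okPt (p : ℕ) : Bool := chkP ptW p

theorem listed_ok : ((fixL0.all okPt) && (embL.all okPt) && (sixL.all okPt) && (baseW.all fun e => okPt e.1) &&
    blkL.all fun e => okPt e.1 && okPt e.2) = true := by decide +kernel

theorem fixL0_ok {p : ℕ} (h : p ∈ fixL0) : okPt p = true := by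
  have := listed_ok
  simp only [Bool.and_eq_true, List.all_eq_true] at this
  exact this.1.1.1.1 p h

theorem fixL0_fixed : (fixL0.all fun p => Nat.beq (actX.im p 9) p) = true := by decide +kernel

theorem fixL0_scan : ∀ x < 3510, (!(Nat.beq (actX.im x 9) x) || fixL0.any (Nat.beq x)) = true := by
  refine of_blocks (size := 512) (b := 7) (by decide) (by decide) fun j hj => ?_
  interval_cases j <;> decide +kernel

theorem psi_aut : ev gX [9] = psi := mul_one _

theorem psi_fix_iff (p : Fin actX.N) : pX psi p = p ↔ actX.im p 9 = (p : ℕ) := by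
  have e : (pX psi p : ℕ) = actX.im p 9 := by
    rw [← psi_aut, pX_ev (by decide) p, actX.go_cons, actX.go_nil]
  rw [Fin.ext_iff, e]

theorem psi_fixed_mem (p : Fin actX.N) : pX psi p = p ↔ (p : ℕ) ∈ fixL0 := by
  rw [psi_fix_iff]
  constructor
  · intro h
    have hs := fixL0_scan p p.2
    simp only [Bool.or_eq_true, Bool.not_eq_true', List.any_eq_true] at hs
    rcases hs with hs | ⟨x, hx, hxe⟩
    · rw [h, Nat.beq_refl] at hs; exact Bool.noConfusion hs
    · exact (Nat.eq_of_beq_eq_true hxe).symm ▸ hx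
  · intro h
    exact Nat.eq_of_beq_eq_true (List.all_eq_true.1 fixL0_fixed p h)

theorem comm_pts {p q : Fin actX.N} : piX (TX p) q = q ↔ piX (TX q) p = p := by
  rw [← comm_TX, ← comm_TX]
  exact eq_comm

theorem go_TX {p : Fin actX.N} (h : okPt p = true) (r : Fin actX.N) :
    (piX (TX p) r : ℕ) = actX.go (tWord ptW p) r := by
  have := piX_pf h r
  rwa [pf_self] at this

theorem go_pair {p q : Fin actX.N} (hp : okPt p = true) (hq : okPt q = true) (r : Fin actX.N) :
    (piX (TX p * TX q) r : ℕ) = actX.go (tWord ptW p) (actX.go (tWord ptW q) r) := by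
  rw [map_mul, Equiv.Perm.mul_apply, go_TX hp, go_TX hq]

end Cfsg.Agent.Spor.Cos.Fi22Outer
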